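import Cfsg.Agent.Lib.FusionExt.FixQ
import Cfsg.Agent.Lib.FusionExt.Hyperfocal

/-!
# Components centralize normal subgroups: the inductive step (helper92)
-/

set_option autoImplicit false

namespace Cfsg.Agent.Lib.FusionExt.Comp1

open Cfsg Cfsg.FusionSystem Cfsg.Agent.Lib.Fusion.Basic Cfsg.Agent.Lib.Fusion.GroupSystem
open Cfsg.Agent.Lib.FusionExt.MapApi Cfsg.Agent.Lib.FusionExt.Basic Cfsg.Agent.Lib.FusionExt.Normal
open Cfsg.Agent.Lib.FusionExt.Normal2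
open Cfsg.Agent.Lib.FusionExt.SatCrit1 Cfsg.Agent.Lib.FusionExt.PowerSys Cfsg.Agent.Lib.FusionExt.PowerGen
open Cfsg.Agent.Lib.FusionExt.PrimeRes1 Cfsg.Agent.Lib.Fusion.Saturation Cfsg.Agent.Lib.Fusion.Saturation2
open Cfsg.Agent.Lib.Fusion.KSystem Cfsg.Agent.Lib.FusionExt.Invariant Cfsg.Agent.Lib.FusionExt.PowerE
open Cfsg.Agent.Lib.FusionExt.LowPi Cfsg.Agent.Lib.FusionExt.CentSys Cfsg.Agent.Lib.FusionExt.FixQ

variable {Ω : Type*} [Group Ω] {S T U : Subgroup Ω} {F : FusionSystem S} {K : FusionSystem T} {C : FusionSystem U} {p : ℕ}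
variable {X Y Q R P : Subgroup Ω} {f f' g h k G : Ω → Ω}

theorem sc_inf {A B : Subgroup Ω} (h₁ : F.StronglyClosed A) (h₂ : F.StronglyClosed B) : F.StronglyClosed (A ⊓ B) :=
  ⟨inf_le_left.trans h₁.1, fun P hP φ hφ x =>
    ⟨h₁.2 P (hP.trans inf_le_left) φ hφ x, h₂.2 P (hP.trans inf_le_right) φ hφ x⟩⟩

section main

variable [Finite S] [Fact p.Prime]

theorem inf_isNormal (hS : IsPGroup p S) (hF : F.IsSaturated p) (hQ : F.IsNormal Q) (hT : F.StronglyClosed T) :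
    F.IsNormal (Q ⊓ T) :=
  (isNormal_iff F hS hF).2 ⟨sc_inf (isNormal_stronglyClosed F hQ) hT,
    fun _ hc hr => inf_le_left.trans (isNormal_le_of_isCentric_isRadical F hS hQ hc hr)⟩

/-- The intersection of a normal subgroup with the group of an invariant subsystem is normal in the subsystem. -/
theorem inf_isNormal_sub (hS : IsPGroup p S) {D : FusionSystem T} (hD : D.IsSaturated p) (hsub : D.IsSubsystemOf F)
    (hT : F.StronglyClosed T) (hQ : F.IsNormal Q) : D.IsNormal (Q ⊓ T) := by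
  have hTS : T ≤ S := hT.1
  have hTp : IsPGroup p T := hS.to_le hTS
  haveI : Finite T := finite_of_le hTS
  have hQsc := isNormal_stronglyClosed F hQ
  have hsc : D.StronglyClosed (Q ⊓ T) :=
    ⟨inf_le_right, fun P hP φ hφ x => ⟨hQsc.2 P (hP.trans inf_le_left) φ (hsub P hφ) x, (D.le_of_mem hφ).2 x⟩⟩
  refine (isNormal_iff D hTp hD).2 ⟨hsc, fun Y hc hr => ?_⟩
  have hYT : Y ≤ T := hc.1
  have hC : centralizerIn T Y ≤ Y := hc.2 Y (isConj_refl D hYT)
  refine le_of_forall_normalizer_le hTp hsc.1 hYT (hYT.trans (sc_le_normalizer D hsc)) ?_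
  intro x hxQ hxN
  apply mem_of_normAct_mem_inn hYT hC (hsc.1 hxQ) hxN
  have hU : Y ⊔ (Q ⊓ T) ≤ T := sup_le hYT inf_le_right
  have hX : autInducedBy (Y ⊔ (Q ⊓ T)) Y ≤ Inn Y := by
    refine radical_le_inn D hr _ ((autInducedBy_mono Y hU).trans (autInducedBy_le_autGroup D hYT)) ?_
      (isPGroup_autInducedBy Y (hTp.to_le hU))
    intro γ hγ α hα
    obtain ⟨g, hg, hgα⟩ := (mem_autInducedBy_iff _ Y α).1 hα
    have hγF : Mp F Y (autFun γ) := mp_sub hsub (mp_autFun hYT hγ)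
    obtain ⟨G, hG, hGe, hGQ⟩ := mp_normal_ext hQ hγF
    have hle : Y ⊔ (Q ⊓ T) ≤ Y ⊔ Q := sup_le_sup_left inf_le_left Y
    have hG' := hG.restrict hle
    have hval : ∀ y ∈ Y ⊔ (Q ⊓ T), G y ∈ Y ⊔ (Q ⊓ T) := by
      refine maps_sup hG' (fun a ha => ?_) (fun c hc => ?_)
      · rw [hGe a ha]
        exact Subgroup.mem_sup_left (autFun_mem γ ha)
      · refine Subgroup.mem_sup_right ⟨hGQ.1 c hc.1, ?_⟩
        have h1 : Mp F ((Y ⊔ Q) ⊓ T) G := hG.restrict inf_le_left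
        exact sc_mp hT h1 inf_le_right (Subgroup.mem_inf.2 ⟨Subgroup.mem_sup_right hc.1, hc.2⟩)
    refine (mem_autInducedBy_iff _ Y _).2 ⟨G g, hval g hg, fun a => ?_⟩
    show ((γ (α (γ⁻¹ a)) : Y) : Ω) = _
    set b : Y := γ⁻¹ a with hb
    have hγb : γ b = a := by simp [hb]
    have h1 : G (b : Ω) = a := by
      rw [hGe _ b.2, autFun_of_mem γ b.2]
      simp [hγb]
    have h2 : G ((α b : Y) : Ω) = ((γ (α b) : Y) : Ω) := by
      rw [hGe _ (α b).2, autFun_of_mem γ (α b).2]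
    rw [← h2, hgα b]
    have hgU : g ∈ Y ⊔ (Q ⊓ T) := hg
    have hbU : (b : Ω) ∈ Y ⊔ (Q ⊓ T) := Subgroup.mem_sup_left b.2
    rw [hG'.map_conj hgU hbU, h1]
  exact hX (normAct_mem_autInducedBy _ Y hxN (Subgroup.mem_sup_right hxQ))

/-- A system is normal in itself. -/
theorem isNormalIn_self (hS : IsPGroup p S) (hF : F.IsSaturated p) : F.IsNormalIn F p := by
  have hsc : F.StronglyClosed S := ⟨le_rfl, fun P _ φ hφ x => val_mem F hφ x⟩
  have hinv : F.IsInvariantIn F := by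
    refine (isInvariantIn_iff hS hF (fun _ _ h => h) hsc).2 (strongInv_of_mp ?_)
    intro P Q' X f g hPQ hQ'S hf hfQ hg hi
    obtain ⟨k, hk, a1, a2, a3⟩ := (hg.restrict hPQ).inverse hi
    refine ⟨fun y => g (f (k y)), ((hk.comp (fun y hy => a3.1 y hy) hf).comp ?_ hg), fun x hx => ?_⟩
    · intro y hy
      exact hfQ _ (a3.1 y hy)
    · show g (f (k (g x))) = g (f x)
      rw [a1 x hx]
  refine ⟨⟨hF, hF, hinv⟩, fun α hα => ?_⟩
  have hCS : centralizerIn S S ≤ S := inf_le_left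
  have e : S ⊔ centralizerIn S S = S := sup_eq_left.2 hCS
  have hm : Mp F (S ⊔ centralizerIn S S) (autFun α) := by
    rw [e]
    exact mp_autFun le_rfl hα
  have hi : Img (S ⊔ centralizerIn S S) (autFun α) (S ⊔ centralizerIn S S) := by
    rw [e]
    exact img_autFun α
  obtain ⟨β, hβ, hβe⟩ := hm.toAut hi
  refine ⟨β, hβ, fun x => ?_, fun c hc => ?_⟩
  · have := hβe (Subgroup.inclusion le_sup_left x)
    refine this.trans ?_
    show autFun α x = _
    rw [autFun_of_mem α x.2]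
  · rw [hβe c]
    have hcS : (c : Ω) ∈ S := hCS hc
    rw [autFun_of_mem α hcS]
    have hcen : ∀ y ∈ S, ∀ a : S, y = (a : Ω) → ((α a : S) : Ω) * ((α ⟨c, hcS⟩ : S) : Ω) = ((α ⟨c, hcS⟩ : S) : Ω) * ((α a : S) : Ω) := by
      intro y _ a _
      have h1 : a * ⟨c, hcS⟩ = ⟨c, hcS⟩ * a := Subtype.ext ((mem_cent.1 hc).2 a a.2)
      have h2 := congrArg α h1
      rw [map_mul, map_mul] at h2
      exact congrArg Subtype.val h2
    have hv : ((α ⟨c, hcS⟩ : S) : Ω) ∈ Subgroup.centralizer (S : Set Ω) := by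
      rw [Subgroup.mem_centralizer_iff]
      intro y hy
      have hs : y = ((α (α⁻¹ ⟨y, hy⟩) : S) : Ω) := by simp
      rw [hs]
      exact hcen _ (α⁻¹ ⟨y, hy⟩).2 _ rfl
    have hc' : (c : Ω) ∈ Subgroup.centralizer (S : Set Ω) := (mem_cent.1 hc).2
    refine ⟨S.mul_mem (S.inv_mem hcS) (α ⟨c, hcS⟩).2, Subgroup.mul_mem _ (Subgroup.inv_mem _ hc') hv⟩

/-- Generators of the hyperfocal subgroup. -/
theorem hyperfocal_le_of_gen {Z : Subgroup Ω} (h : ∀ P, P ≤ S → ∀ f, Pp F p P f → ∀ x ∈ P, x⁻¹ * f x ∈ Z) :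
    F.hyperfocalSubgroup p ≤ Z := by
  apply (Subgroup.closure_le _).2
  rintro _ ⟨P, α, x, hPS, hα, rfl⟩
  show _ ∈ Z
  induction hα using Subgroup.closure_induction generalizing x with
  | mem a ha =>
    have hc : (orderOf (a : MulAut P)).Coprime p := by
      rw [Subgroup.orderOf_coe]
      exact ha
    have := h P hPS (autFun (a : MulAut P)) (Pp.of_aut hPS a.2 hc) x x.2
    rwa [autFun_of_mem _ x.2] at this
  | one => simp
  | mul a b _ _ iha ihb =>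
    have e : (x : Ω)⁻¹ * (((a * b : F.autGroup P) : MulAut P) x : P) =
        ((x : Ω)⁻¹ * ((b : MulAut P) x : P)) * (((b : MulAut P) x : P) : Ω)⁻¹ * ((a : MulAut P) ((b : MulAut P) x) : P) := by
      show (x : Ω)⁻¹ * (((a : MulAut P) ((b : MulAut P) x) : P) : Ω) = _
      group
    rw [e, mul_assoc]
    exact Z.mul_mem (ihb x) (iha _)
  | inv a _ iha =>
    have e : (x : Ω)⁻¹ * (((a⁻¹ : F.autGroup P) : MulAut P) x : P) =
        ((((a : MulAut P)⁻¹ x : P) : Ω)⁻¹ * ((a : MulAut P) ((a : MulAut P)⁻¹ x) : P))⁻¹ := by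
      have : (((a : MulAut P) ((a : MulAut P)⁻¹ x) : P) : Ω) = x := by simp
      rw [this]
      show (x : Ω)⁻¹ * (((a : MulAut P)⁻¹ x : P) : Ω) = _
      group
    rw [e]
    exact Z.inv_mem (iha _)

/-- The system `C` centralizes `Q` in `F`. -/
def Cen (F : FusionSystem S) (C : FusionSystem U) (Q : Subgroup Ω) : Prop :=
  U ≤ Subgroup.centralizer (Q : Set Ω) ∧
    ∀ (X : Subgroup Ω) (f : Ω → Ω), Mp C X f → ∃ g, Mp F (X ⊔ Q) g ∧ (∀ x ∈ X, g x = f x) ∧ ∀ q ∈ Q, g q = q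

/-- The maps of `C` extending to maps fixing `Q`. -/
def GenCen (F : FusionSystem S) (C : FusionSystem U) (Q X : Subgroup Ω) (f : Ω → Ω) : Prop :=
  X ≤ U ∧ Mp C X f ∧ (∀ x ∈ X, f x ∈ U) ∧ ∃ g, Mp F (X ⊔ Q) g ∧ (∀ x ∈ X, g x = f x) ∧ ∀ q ∈ Q, g q = q

theorem genAx (hUS : U ≤ S) (hQS : Q ≤ S) (hUc : U ≤ Subgroup.centralizer (Q : Set Ω)) : SysAx U (GenCen F C Q) := by
  refine ⟨?_, ?_, ?_, ?_, ?_, ?_, ?_, ?_⟩
  · rintro X f g ⟨h1, h2, h3, g₁, hg₁, e1, q1⟩ e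
    exact ⟨h1, h2.congr e, fun x hx => e x hx ▸ h3 x hx, g₁, hg₁, fun x hx => (e1 x hx).trans (e x hx), q1⟩
  · rintro X f ⟨h1, -⟩
    exact h1
  · rintro X f x ⟨-, -, h3, -⟩ hx
    exact h3 x hx
  · rintro X f x y ⟨-, h2, -⟩ hx hy
    exact h2.map_mul hx hy
  · rintro X f x y ⟨-, h2, -⟩ hx hy e
    exact h2.inj hx hy e
  · intro X a hX ha
    refine ⟨hX, Mp.conj hX ha, fun x hx => U.mul_mem (U.mul_mem ha (hX hx)) (U.inv_mem ha),
      fun x => a * x * a⁻¹, Mp.conj (sup_le (hX.trans hUS) hQS) (hUS ha), fun _ _ => rfl, fun q hq => ?_⟩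
    show a * q * a⁻¹ = q
    rw [← (Subgroup.mem_centralizer_iff.1 (hUc ha)) q hq]
    group
  · rintro X Y f g ⟨h1, h2, h3, g₁, hg₁, e1, q1⟩ hm ⟨-, a2, a3, g₂, hg₂, e2, q2⟩
    have hm' : ∀ x ∈ X ⊔ Q, g₁ x ∈ Y ⊔ Q := by
      refine maps_sup hg₁ (fun a ha => ?_) (fun c hc => ?_)
      · rw [e1 a ha]
        exact Subgroup.mem_sup_left (hm a ha)
      · rw [q1 c hc]
        exact Subgroup.mem_sup_right hc
    refine ⟨h1, h2.comp hm a2, fun x hx => a3 _ (hm x hx), fun x => g₂ (g₁ x), hg₁.comp hm' hg₂, fun x hx => ?_, fun q hq => ?_⟩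
    · show g₂ (g₁ x) = g (f x)
      rw [e1 x hx, e2 _ (hm x hx)]
    · show g₂ (g₁ q) = q
      rw [q1 q hq, q2 q hq]
  · rintro X Y f ⟨h1, h2, h3, g₁, hg₁, e1, q1⟩ hi
    obtain ⟨k, hk, a1, -, a3⟩ := h2.inverse hi
    obtain ⟨W, hW⟩ := hg₁.exists_img
    have himg : Img (X ⊔ Q) g₁ (Y ⊔ Q) := by
      refine ⟨?_, fun y hy => ?_⟩
      · refine maps_sup hg₁ (fun a ha => ?_) (fun c hc => ?_)
        · rw [e1 a ha]
          exact Subgroup.mem_sup_left (hi.1 a ha)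
        · rw [q1 c hc]
          exact Subgroup.mem_sup_right hc
      · have hle : Y ⊔ Q ≤ W := by
          refine sup_le (fun y hy => ?_) (fun q hq => ?_)
          · obtain ⟨x, hx, rfl⟩ := hi.2 y hy
            rw [← e1 x hx]
            exact hW.1 x (Subgroup.mem_sup_left hx)
          · rw [← q1 q hq]
            exact hW.1 q (Subgroup.mem_sup_right hq)
        exact hW.2 y (hle hy)
    obtain ⟨k', hk', b1, -, -⟩ := hg₁.inverse himg
    refine ⟨k, ⟨fun y hy => ?_, hk, fun y hy => h1 (a3.1 y hy), k', hk', fun y hy => ?_, fun q hq => ?_⟩, a1⟩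
    · obtain ⟨x, hx, rfl⟩ := hi.2 y hy
      exact h3 x hx
    · obtain ⟨x, hx, rfl⟩ := hi.2 y hy
      rw [a1 x hx, ← e1 x hx, b1 x (Subgroup.mem_sup_left hx)]
    · have := b1 q (Subgroup.mem_sup_right hq)
      rwa [q1 q hq] at this

/-- **The key step**: a saturated subsystem of `K ⊴ F` equal to its hyperfocal subgroup centralizes `Q`. -/
theorem claim_step (hS : IsPGroup p S) (hK : K.IsNormalIn F p) (hQ : F.IsNormal Q)
    (hRc : ∀ r ∈ Q ⊓ T, ∀ t ∈ T, r * t = t * r) (hfix : ∀ (X : Subgroup Ω) (f : Ω → Ω), Mp K X f → ∀ x ∈ X, x ∈ Q → f x = x)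
    (hC : C.IsSaturated p) (hU : C.hyperfocalSubgroup p = U) (hCK : C.IsSubsystemOf K) : Cen F C Q := by
  obtain ⟨⟨hKs, hF, hsub, hT, hInv, hFr⟩, hext⟩ := id hK
  have hTS : T ≤ S := hT.1
  have hUT : U ≤ T := (K.le_of_mem (hCK U (subtype_mem C le_rfl))).1
  have hUS : U ≤ S := hUT.trans hTS
  have hUp : IsPGroup p U := hS.to_le hUS
  haveI : Finite U := finite_of_le hUS
  have hQS : Q ≤ S := hQ.1
  have hQsc := isNormal_stronglyClosed F hQ
  have hA : ∀ P, P ≤ U → ∀ f, Pp C p P f → ∃ g, Mp F (P ⊔ Q) g ∧ (∀ x ∈ P, g x = f x) ∧ ∀ q ∈ Q, g q = q := by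
    intro P hPU f hf
    exact fix_any hS hK hQ hRc hfix (hPU.trans hUT) ⟨mp_sub hCK hf.1, hf.2.1, hf.2.2⟩
  have hcen : U ≤ Subgroup.centralizer (Q : Set Ω) := by
    have hle := hyperfocal_le_of_gen (F := C) (p := p) (Z := Subgroup.centralizer (Q : Set Ω)) ?_
    · rwa [hU] at hle
    intro P hPU f hf x hx
    obtain ⟨g, hg, hgf, hgq⟩ := hA P hPU f hf
    rw [Subgroup.mem_centralizer_iff]
    intro q hq
    have hxS : x ∈ S := hUS (hPU hx)
    have hq' : x * q * x⁻¹ ∈ Q := sc_conj_mem F hQsc hxS hq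
    have hxU : x ∈ P ⊔ Q := Subgroup.mem_sup_left hx
    have hqU : q ∈ P ⊔ Q := Subgroup.mem_sup_right hq
    have h1 := hg.map_conj hxU hqU
    rw [hgq _ hq', hgq q hq, hgf x hx] at h1
    have h2 : f x * q = x * q * x⁻¹ * f x := by rw [h1]; group
    calc q * (x⁻¹ * f x) = x⁻¹ * (x * q * x⁻¹ * f x) := by group
      _ = x⁻¹ * (f x * q) := by rw [h2]
      _ = x⁻¹ * f x * q := by group
  refine ⟨hcen, fun X f hf => ?_⟩
  have hsc : C.StronglyClosed U := ⟨le_rfl, fun P _ φ hφ x => val_mem C hφ x⟩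
  have hXU : X ≤ U := hf.le
  obtain ⟨s, hs, g, hg, hge⟩ := frat' (hTS := le_rfl) (fun g hg x hx => U.mul_mem (U.mul_mem hg hx) (U.inv_mem hg)) hUp hC hsc hXU hf
  let D : FusionSystem U := mkSys (genAx (F := F) (C := C) hUS hQS hcen)
  have hD : InFam C p D := by
    refine ⟨fun P φ hφ => ?_, fun Q' hQ' f' hf' => ?_⟩
    · exact hom_of_mp (mp_mkSys _ |>.1 (mp_of_hom hφ)).2.1
    · refine (mp_mkSys _).2 ⟨hQ', hf'.1, fun x hx => hQ' (hf'.2.1.1 x hx), hA Q' hQ' f' hf'⟩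
  have hgD := eS_min hD hg
  have hfD : Mp D X (fun x => s * g x * s⁻¹) := hgD.comp (fun x hx => hgD.mem_S hx) (Mp.conj le_rfl hs)
  have hfD' : Mp D X f := hfD.congr (fun x hx => (hge x hx).symm)
  exact ((mp_mkSys _).1 hfD').2.2.2

end main

/-- A subnormal subsystem of a system. -/
theorem subnormal_sub {U S : Subgroup Ω} {C : FusionSystem U} {F : FusionSystem S} {p : ℕ} (h : C.IsSubnormalIn F p) :
    C.IsSubsystemOf F := by
  induction h with
  | refl F p => exact fun _ _ h => h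
  | step _ hDF ih =>
    obtain ⟨⟨-, -, hsub, -⟩, -⟩ := hDF
    exact fun P _ h => hsub P (ih P h)

/-- The induction along a subnormal chain. -/
theorem comp_cen_of_base {U S : Subgroup Ω} {C : FusionSystem U} {F : FusionSystem S} {p : ℕ}
    (hsub : C.IsSubnormalIn F p) : ∀ [Fact p.Prime] [Finite S], C.Quasisimple p → (∀ Q, C.IsNormal Q → Cen C C Q) →
    IsPGroup p S → F.IsSaturated p → ∀ Q, F.IsNormal Q → Cen F C Q := by
  induction hsub with
  | refl F p => exact fun _ hbase _ _ Q hQ => hbase Q hQ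
  | @step T' S C D F p hsub' hDF ih =>
    intro _ _ hC hbase hS hF Q hQ
    obtain ⟨⟨hDs, -, hDsub, hTsc, hInv, hFr⟩, hext⟩ := id hDF
    have hTS : T' ≤ S := hTsc.1
    haveI : Finite T' := finite_of_le hTS
    have hQD : D.IsNormal (Q ⊓ T') := inf_isNormal_sub hS hDs hDsub hTsc hQ
    have hQF : F.IsNormal (Q ⊓ T') := inf_isNormal hS hF hQ hTsc
    obtain ⟨hc1, hc2⟩ := ih hC hbase (hS.to_le hTS) hDs (Q ⊓ T') hQD
    have hCD := subnormal_sub hsub'
    have hUT : U ≤ T' := (D.le_of_mem (hCD U (subtype_mem C le_rfl))).1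
    have hK := centSys_isNormal hS hDF hQF (inf_le_right : Q ⊓ T' ≤ T')
    have hCK : C.IsSubsystemOf (centralizerSystem D (Q ⊓ T') inf_le_right) := by
      intro P φ hφ
      apply hom_of_mp
      have hm := mp_of_hom hφ
      have hPU : P ≤ U := hm.le
      refine mp_centSys.2 ⟨le_inf (hPU.trans hUT) (hPU.trans hc1), fun x hx => ?_, hc2 P _ hm⟩
      have hv : extOf φ x ∈ U := hm.mem_S hx
      exact ⟨hUT hv, hc1 hv⟩
    refine claim_step hS hK hQ ?_ ?_ hC.1 hC.2.1 hCK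
    · rintro r ⟨hrQ, hrT⟩ t ht
      have hrD : r ∈ Q ⊓ T' := ⟨hrQ, (mem_cent.1 hrT).1⟩
      exact (mem_cent.1 ht).2 r hrD
    · intro X f hf x hx hxQ
      obtain ⟨h1, -, g, hg, hge, hgq⟩ := mp_centSys.1 hf
      rw [← hge x hx]
      exact hgq x ⟨hxQ, (mem_cent.1 (h1 hx)).1⟩

end Cfsg.Agent.Lib.FusionExt.Comp1
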