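import Cfsg.Agent.Lib.FusionExt.PowerSat

/-!
# Subsystems of `p`-power index: existence and uniqueness (helper92)
-/

set_option autoImplicit false

namespace Cfsg.Agent.Lib.FusionExt.PowerMain

open Cfsg Cfsg.FusionSystem Cfsg.Agent.Lib.Fusion.Basic
open Cfsg.Agent.Lib.FusionExt.Hyperfocal Cfsg.Agent.Lib.FusionExt.PIndex

open scoped commutatorElement

universe u

variable {Ω : Type u} [Group Ω] {S T : Subgroup Ω} {F : FusionSystem S} {p : ℕ} [Fact p.Prime]

/-- A normal subgroup of index `p` above a proper subgroup. -/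
theorem exists_max [Finite S] (hS : IsPGroup p S) (hTS : T ≤ S) (hne : T ≠ S) :
    ∃ T₁ : Subgroup Ω, T ≤ T₁ ∧ T₁ ≤ S ∧ T₁ ≠ S ∧ (∀ g ∈ S, ∀ x ∈ T₁, g * x * g⁻¹ ∈ T₁) ∧
      Nat.card (↥S ⧸ T₁.subgroupOf S) = p := by
  have hp : p.Prime := Fact.out
  obtain ⟨n, hn⟩ := IsPGroup.iff_card.1 hS
  have hT' : IsPGroup p (T.subgroupOf S) := hS.to_subgroup _
  obtain ⟨m, hm⟩ := IsPGroup.iff_card.1 hT'
  have hlt : Nat.card (T.subgroupOf S) < Nat.card S := by
    have h1 : T.subgroupOf S ≠ ⊤ := by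
      intro h
      exact hne (le_antisymm hTS (Subgroup.subgroupOf_eq_top.1 h))
    have h2 := Subgroup.card_le_card_group (T.subgroupOf S)
    refine lt_of_le_of_ne h2 (fun e => h1 ?_)
    exact Subgroup.eq_top_of_card_eq _ e
  rw [hm, hn] at hlt
  have hmn : m < n := (Nat.pow_lt_pow_iff_right hp.one_lt).1 hlt
  obtain ⟨k, rfl⟩ : ∃ k, n = k + 1 := ⟨n - 1, by omega⟩
  have hdvd : p ^ k ∣ Nat.card S := by
    rw [hn]
    exact pow_dvd_pow p (Nat.le_succ k)
  obtain ⟨K, hK, hTK⟩ := Sylow.exists_subgroup_card_pow_prime_le p hdvd (T.subgroupOf S) hm (by omega)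
  have hindex : K.index = p := by
    have h1 := K.card_mul_index
    rw [hK, hn, pow_succ] at h1
    exact Nat.eq_of_mul_eq_mul_left (pow_pos hp.pos k) h1
  have hmin : (Nat.card S).minFac = p := by
    rw [hn]
    exact (Nat.Prime.pow_minFac hp (by omega))
  have hnorm : K.Normal := Subgroup.normal_of_index_eq_minFac_card (by rw [hindex, hmin])
  refine ⟨K.map S.subtype, ?_, ?_, ?_, ?_, ?_⟩
  · intro x hx
    exact ⟨⟨x, hTS hx⟩, hTK hx, rfl⟩
  · rintro _ ⟨x, -, rfl⟩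
    exact x.2
  · intro h
    have h1 : K = ⊤ := by
      rw [eq_top_iff]
      intro x _
      have hx : (x : Ω) ∈ K.map S.subtype := by rw [h]; exact x.2
      obtain ⟨y, hy, e⟩ := hx
      have : y = x := Subtype.ext e
      rwa [← this]
    rw [h1, Subgroup.index_top] at hindex
    exact hp.ne_one hindex.symm
  · rintro g hg _ ⟨x, hx, rfl⟩
    exact ⟨⟨g, hg⟩ * x * ⟨g, hg⟩⁻¹, hnorm.conj_mem x hx ⟨g, hg⟩, rfl⟩
  · have e : (K.map S.subtype).subgroupOf S = K := by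
      ext x
      constructor
      · rintro ⟨y, hy, e⟩
        have : y = x := Subtype.ext e
        rwa [← this]
      · intro hx
        exact ⟨x, hx, rfl⟩
    rw [e]
    exact hindex

/-- Part A with the quotient as target. -/
theorem exists_index_p [Finite S] (hS : IsPGroup p S) (hF : F.IsSaturated p) (hTS : T ≤ S)
    (hTn : ∀ g ∈ S, ∀ x ∈ T, g * x * g⁻¹ ∈ T) (hT : F.hyperfocalSubgroup p ≤ T)
    (hcard : Nat.card (↥S ⧸ T.subgroupOf S) = p) :
    ∃ E : FusionSystem T, E.IsSaturated p ∧ E.HasPPowerIndexIn F p := by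
  have hp : p.Prime := Fact.out
  haveI hN : (T.subgroupOf S).Normal := ⟨fun x hx g => hTn g g.2 x hx⟩
  haveI : Fact (Nat.card (↥S ⧸ T.subgroupOf S)).Prime := ⟨hcard ▸ hp⟩
  haveI hcyc : IsCyclic (↥S ⧸ T.subgroupOf S) := isCyclic_of_prime_card rfl
  letI cg : CommGroup (↥S ⧸ T.subgroupOf S) := IsCyclic.commGroup
  let ρ : S →* (↥S ⧸ T.subgroupOf S) := QuotientGroup.mk' (T.subgroupOf S)
  have hρT : ∀ x : S, ρ x = 1 ↔ (x : Ω) ∈ T := fun x => QuotientGroup.eq_one_iff x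
  have hfoc : F.focalSubgroup ≤ T := by
    rw [focal_eq F hS hF]
    refine sup_le hT ?_
    rw [Subgroup.commutator_le]
    intro a ha b hb
    have h1 : ρ (⁅(⟨a, ha⟩ : S), (⟨b, hb⟩ : S)⁆) = 1 := by
      rw [map_commutatorElement, commutatorElement_eq_one_iff_commute]
      exact mul_comm _ _
    exact (hρT _).1 h1
  refine Cfsg.Agent.Lib.FusionExt.PowerSat.partA hS hF hTS hTn hT ρ hρT ?_ ?_ ?_
  · intro a
    have := pow_card_eq_one' (x := a)
    rwa [hcard] at this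
  · intro s y hy
    have h1 : Subgroup.zpowers (ρ y) = ⊤ := zpowers_eq_top_of_prime_card hcard hy
    have h2 : ρ s ∈ Subgroup.zpowers (ρ y) := by rw [h1]; trivial
    rw [← mem_powers_iff_mem_zpowers] at h2
    obtain ⟨k, hk⟩ := h2
    exact ⟨k, hk.symm⟩
  · intro P φ hφ x
    have h1 := hfoc (focal_gen F hφ x)
    have h2 : ((⟨x, le_of_mem F hφ x.2⟩ : S)⁻¹ * ⟨φ x, val_mem F hφ x⟩ : S) = ⟨(x : Ω)⁻¹ * φ x, S.mul_mem (S.inv_mem (le_of_mem F hφ x.2)) (val_mem F hφ x)⟩ := rfl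
    have h3 := (hρT ⟨(x : Ω)⁻¹ * φ x, S.mul_mem (S.inv_mem (le_of_mem F hφ x.2)) (val_mem F hφ x)⟩).2 h1
    rw [← h2, map_mul, map_inv, inv_mul_eq_one] at h3
    exact h3.symm

/-- **Existence.** -/
theorem exists_power : ∀ (n : ℕ) (S : Subgroup Ω) [Finite S] (hS : IsPGroup p S) (F : FusionSystem S)
    (_ : F.IsSaturated p) (_ : T ≤ S) (_ : F.hyperfocalSubgroup p ≤ T) (_ : Nat.card S = n),
    ∃ E : FusionSystem T, E.IsSaturated p ∧ E.HasPPowerIndexIn F p := by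
  intro n
  induction n using Nat.strong_induction_on with
  | _ n ih =>
  intro S _ hS F hF hTS hT hn
  by_cases hne : T = S
  · subst hne
    refine ⟨F, hF, fun _ _ h => h, hT, fun P _ => ?_⟩
    rintro _ ⟨β, -, rfl⟩
    exact β.2
  obtain ⟨T₁, h1, h2, h3, h4, h5⟩ := exists_max hS hTS hne
  haveI : Finite T₁ := finite_of_le h2
  obtain ⟨E₁, hE₁, i₁⟩ := exists_index_p hS hF h2 h4 (hT.trans h1) h5
  have hlt : Nat.card T₁ < n := by
    rw [← hn]
    exact Cfsg.Agent.Lib.FusionExt.SatCrit1.card_lt_of_lt h2 h3 le_rfl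
  have hT₁p : IsPGroup p T₁ := hS.to_le h2
  have hhyp : E₁.hyperfocalSubgroup p ≤ F.hyperfocalSubgroup p := by
    apply (Subgroup.closure_le _).2
    rintro _ ⟨P, α, x, hPT, hα, rfl⟩
    obtain ⟨β, hβ, e⟩ := residual_le_of_subsystem (p := p) i₁.1 hPT ⟨α, hα, rfl⟩
    have h6 := hyperfocal_gen F (hPT.trans h2) β hβ x
    have e' : ((β : MulAut P) x : P) = (α : MulAut P) x := by
      have : (β : MulAut P) = α := e
      rw [this]
    rwa [e'] at h6
  obtain ⟨E, hE, i⟩ := ih _ hlt T₁ hT₁p E₁ hE₁ h1 (hhyp.trans hT) rfl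
  refine ⟨E, hE, fun P => (i.1 P).trans (i₁.1 P), hT, fun P hP => ?_⟩
  rw [Subgroup.map_le_iff_le_comap]
  apply (Subgroup.closure_le _).2
  intro β hβ
  have h6 : (β : MulAut P) ∈ E₁.autGroup P :=
    i₁.2.2 P (hP.trans h1) ⟨β, Subgroup.subset_closure hβ, rfl⟩
  let β' : E₁.autGroup P := ⟨β, h6⟩
  have h7 : β' ∈ pResidual p (E₁.autGroup P) := by
    apply Subgroup.subset_closure
    show Nat.Coprime (orderOf β') p
    have e1 : orderOf β' = orderOf (β : MulAut P) := Subgroup.orderOf_mk _ _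
    have e2 : orderOf (β : MulAut P) = orderOf β := Subgroup.orderOf_coe β
    rw [e1, e2]
    exact hβ
  exact i.2.2 P hP ⟨β', h7, rfl⟩

/-- **Existence and uniqueness of the subsystem of `p`-power index.** -/
theorem main [Finite S] (hS : IsPGroup p S) (F : FusionSystem S) (hF : F.IsSaturated p) (T : Subgroup Ω) (hTS : T ≤ S)
    (hT : F.hyperfocalSubgroup p ≤ T) :
    ∃ E : FusionSystem T, (E.IsSaturated p ∧ E.HasPPowerIndexIn F p) ∧
      ∀ E' : FusionSystem T, E'.IsSaturated p → E'.HasPPowerIndexIn F p → E' = E := by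
  obtain ⟨E, hE, i⟩ := exists_power _ S hS F hF hTS hT rfl
  haveI : Finite T := finite_of_le hTS
  have hTp : IsPGroup p T := hS.to_le hTS
  refine ⟨E, ⟨hE, i⟩, fun E' hE' i' => ?_⟩
  exact Cfsg.Agent.Lib.Fusion.Alperin.fusionSystem_ext (fun P => hom_eq_of_hasPPowerIndex hTp rfl hE' hE i' i P)

end Cfsg.Agent.Lib.FusionExt.PowerMain
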