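import Cfsg.Agent.Lib.FusionExt.CentE2
import Cfsg.Agent.Lib.FusionExt.Comp1

/-!
# The focal subgroup of `C_F(T)` lies in `C_S(E)` (helper92)
-/

set_option autoImplicit false

namespace Cfsg.Agent.Lib.FusionExt.CentE3

open Cfsg Cfsg.FusionSystem Cfsg.Agent.Lib.Fusion.Basic Cfsg.Agent.Lib.Fusion.GroupSystem
open Cfsg.Agent.Lib.FusionExt.MapApi Cfsg.Agent.Lib.FusionExt.PowerSys Cfsg.Agent.Lib.FusionExt.PowerGen
open Cfsg.Agent.Lib.FusionExt.PrimeRes1 Cfsg.Agent.Lib.FusionExt.PrimeRes2 Cfsg.Agent.Lib.Fusion.Saturation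
open Cfsg.Agent.Lib.Fusion.Saturation2 Cfsg.Agent.Lib.FusionExt.SatCrit1 Cfsg.Agent.Lib.FusionExt.Invariant
open Cfsg.Agent.Lib.FusionExt.PowerE Cfsg.Agent.Lib.FusionExt.LowPi Cfsg.Agent.Lib.FusionExt.CentSys
open Cfsg.Agent.Lib.FusionExt.FixQ Cfsg.Agent.Lib.FusionExt.PPrimeMin Cfsg.Agent.Lib.Fusion.KSystem
open Cfsg.Agent.Lib.FusionExt.Basic Cfsg.Agent.Lib.FusionExt.Normal Cfsg.Agent.Lib.FusionExt.CentE
open Cfsg.Agent.Lib.FusionExt.CentE2 Cfsg.Agent.Lib.FusionExt.Comp1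

universe u

variable {Ω : Type u} [Group Ω] {S T : Subgroup Ω} {F : FusionSystem S} {E : FusionSystem T} {p : ℕ}
variable {X Y Q R P B : Subgroup Ω} {f g h k b : Ω → Ω}

/-- `x` and `x₂` are conjugate by a map fixing `T`. -/
def Rel (F : FusionSystem S) (T : Subgroup Ω) (x x₂ : Ω) : Prop :=
  x ∈ centralizerIn S T ∧ x₂ ∈ centralizerIn S T ∧
    ∃ g, Mp F (T ⊔ Subgroup.zpowers x) g ∧ (∀ t ∈ T, g t = t) ∧ g x = x₂

/-- The focal subgroup of `C_F(T)`. -/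
def Foc (F : FusionSystem S) (T : Subgroup Ω) : Subgroup Ω :=
  Subgroup.closure {z | ∃ x x₂, Rel F T x x₂ ∧ z = x⁻¹ * x₂}

theorem Foc_le : Foc F T ≤ centralizerIn S T := by
  apply (Subgroup.closure_le _).2
  rintro _ ⟨x, x₂, ⟨h1, h2, -⟩, rfl⟩
  exact Subgroup.mul_mem _ (Subgroup.inv_mem _ h1) h2

section main

variable [Finite S] [Fact p.Prime]

theorem Foc_map (hT : F.StronglyClosed T) {H : Ω → Ω} (hH : Mp F (T ⊔ centralizerIn S T) H) :
    ∀ c ∈ Foc F T, H c ∈ Foc F T := by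
  have hTR : T ≤ T ⊔ centralizerIn S T := le_sup_left
  have hCR : centralizerIn S T ≤ T ⊔ centralizerIn S T := le_sup_right
  have hiT : Img T H T := LowPi.img_self (hH.restrict hTR) (fun t ht => sc_mp hT (hH.restrict hTR) le_rfl ht)
  obtain ⟨W, hW⟩ := hH.exists_img
  obtain ⟨Hi, hHi, i1, i2, i3⟩ := hH.inverse hW
  have hTW : T ≤ W := fun t ht => by
    obtain ⟨t₀, h0, rfl⟩ := hiT.2 t ht
    exact hW.1 _ (hTR h0)
  have hHiT : ∀ t ∈ T, Hi t ∈ T := fun t ht => by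
    obtain ⟨t₀, h0, rfl⟩ := hiT.2 t ht
    rw [i1 _ (hTR h0)]
    exact h0
  intro c hc
  induction hc using Subgroup.closure_induction with
  | mem z hz =>
    obtain ⟨x, x₂, ⟨h1, h2, g, hg, hgT, hgx⟩, rfl⟩ := hz
    have hxC : H x ∈ centralizerIn S T := map_cent hH hiT.2 h1
    have hx₂C : H x₂ ∈ centralizerIn S T := map_cent hH hiT.2 h2
    apply Subgroup.subset_closure
    refine ⟨H x, H x₂, ⟨hxC, hx₂C, ?_⟩, ?_⟩
    · have hd : T ⊔ Subgroup.zpowers (H x) ≤ W := sup_le hTW ((Subgroup.zpowers_le).2 (hW.1 x (hCR h1)))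
      have m1 : ∀ y ∈ T ⊔ Subgroup.zpowers (H x), Hi y ∈ T ⊔ Subgroup.zpowers x :=
        maps_sup_z (hHi.restrict hd) (fun t ht => Subgroup.mem_sup_left (hHiT t ht))
          (by rw [i1 x (hCR h1)]; exact Subgroup.mem_sup_right (Subgroup.mem_zpowers x))
      have m2 : ∀ y ∈ T ⊔ Subgroup.zpowers x, g y ∈ T ⊔ centralizerIn S T :=
        maps_sup_z hg (fun t ht => by rw [hgT t ht]; exact hTR ht) (by rw [hgx]; exact hCR h2)
      refine ⟨fun y => H (g (Hi y)), ((hHi.restrict hd).comp m1 hg).comp (fun y hy => m2 _ (m1 y hy)) hH, fun t ht => ?_, ?_⟩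
      · show H (g (Hi t)) = t
        rw [hgT _ (hHiT t ht), i2 t (hTW ht)]
      · show H (g (Hi (H x))) = H x₂
        rw [i1 x (hCR h1), hgx]
    · rw [hH.map_mul (Subgroup.inv_mem _ (hCR h1)) (hCR h2), hH.map_inv (hCR h1)]
  | one =>
    rw [hH.map_one]
    exact Subgroup.one_mem _
  | mul x y hx hy ihx ihy =>
    rw [hH.map_mul (hCR (Foc_le hx)) (hCR (Foc_le hy))]
    exact Subgroup.mul_mem _ ihx ihy
  | inv x hx ih =>
    rw [hH.map_inv (hCR (Foc_le hx))]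
    exact Subgroup.inv_mem _ ih

/-- The focal subgroup of `C_F(T)` is good. -/
theorem Foc_good (hS : IsPGroup p S) (hN : E.IsNormalIn F p) : KGood F E p (Foc F T) := by
  obtain ⟨⟨hEs, hF, hsub, hT, hInv, hFr⟩, hext⟩ := id hN
  refine ⟨Foc_le, fun H hH => Foc_map hT hH, ?_⟩
  intro R hfn hRT hc a ha q hq hqe Γ hΓm hΓe hΓc m hm hper
  have hcz : zz T R ≤ R := hc R (isConj_refl F hfn.1)
  have hpp : Mp E R (autFun a) := mp_autFun hRT ha
  have hCC : Foc F T ≤ centralizerIn S R := Foc_le.trans (cent_anti hRT)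
  have hgen : ∀ x x₂, Rel F T x x₂ → Γ (x⁻¹ * x₂) = x⁻¹ * x₂ := by
    rintro x x₂ ⟨hx, hx₂, e, he, heT, hex⟩
    have hxC : x ∈ centralizerIn S R := cent_anti hRT hx
    have hx₂C : x₂ ∈ centralizerIn S R := cent_anti hRT hx₂
    have hxA : x ∈ R ⊔ centralizerIn S R := Subgroup.mem_sup_right hxC
    have hx₂A : x₂ ∈ R ⊔ centralizerIn S R := Subgroup.mem_sup_right hx₂C
    have ht₁ : x⁻¹ * Γ x ∈ zz T R := hΓc x hxC
    have ht₁R := hcz ht₁
    have ht₁T : x⁻¹ * Γ x ∈ T := (mem_zz.1 ht₁).1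
    have hA₀ : R ⊔ Subgroup.zpowers x ≤ T ⊔ Subgroup.zpowers x := sup_le_sup_right hRT _
    have hA₀A : R ⊔ Subgroup.zpowers x ≤ R ⊔ centralizerIn S R :=
      sup_le le_sup_left ((Subgroup.zpowers_le).2 hxA)
    have he₀ : Mp F (R ⊔ Subgroup.zpowers x) e := he.restrict hA₀
    have hxm : x ∈ R ⊔ Subgroup.zpowers x := Subgroup.mem_sup_right (Subgroup.mem_zpowers x)
    have hx₂m : x₂ ∈ R ⊔ Subgroup.zpowers x₂ := Subgroup.mem_sup_right (Subgroup.mem_zpowers x₂)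
    have hRm : R ≤ R ⊔ Subgroup.zpowers x := le_sup_left
    have hRm₂ : R ≤ R ⊔ Subgroup.zpowers x₂ := le_sup_left
    have hem : ∀ y ∈ R ⊔ Subgroup.zpowers x, e y ∈ R ⊔ Subgroup.zpowers x₂ :=
      maps_sup_z he₀ (fun r hr => by rw [heT r (hRT hr)]; exact hRm₂ hr) (by rw [hex]; exact hx₂m)
    obtain ⟨A₂, hA₂⟩ := he₀.exists_img
    have hle₂ : R ⊔ Subgroup.zpowers x₂ ≤ A₂ := sup_le
      (fun r hr => by
        have := hA₂.1 r (hRm hr)
        rwa [heT r (hRT hr)] at this)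
      ((Subgroup.zpowers_le).2 (by
        have := hA₂.1 x hxm
        rwa [hex] at this))
    have hei : Img (R ⊔ Subgroup.zpowers x) e (R ⊔ Subgroup.zpowers x₂) := ⟨hem, fun z hz => hA₂.2 z (hle₂ hz)⟩
    obtain ⟨ei, hei', j1, j2, j3⟩ := he₀.inverse hei
    have hΓ₀ : Mp F (R ⊔ Subgroup.zpowers x) Γ := hΓm.restrict hA₀A
    have hΓx : Γ x = x * (x⁻¹ * Γ x) := by group
    have hΓA₀ : ∀ y ∈ R ⊔ Subgroup.zpowers x, Γ y ∈ R ⊔ Subgroup.zpowers x :=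
      maps_sup_z hΓ₀ (fun r hr => by rw [hΓe r hr]; exact hRm ((img_autFun a).1 r hr))
        (by rw [hΓx]; exact Subgroup.mul_mem _ hxm (hRm ht₁R))
    have hg' : Mp F (R ⊔ Subgroup.zpowers x₂) (fun u => e (Γ (ei u))) := hei'.comp j3.1 (hΓ₀.comp hΓA₀ he₀)
    have hg'R : ∀ r ∈ R, e (Γ (ei r)) = autFun a r := by
      intro r hr
      have h1 := j1 r (hRm hr)
      rw [heT r (hRT hr)] at h1
      rw [h1, hΓe r hr, heT _ (hRT ((img_autFun a).1 r hr))]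
    have heix : ei x₂ = x := by
      have := j1 x hxm
      rwa [hex] at this
    have hg'x : e (Γ (ei x₂)) = x₂ * (x⁻¹ * Γ x) := by
      rw [heix]
      conv_lhs => rw [hΓx]
      rw [he₀.map_mul hxm (hRm ht₁R), hex, heT _ ht₁T]
    have hit : ∀ (n : ℕ), ∀ y ∈ R ⊔ Subgroup.zpowers x, (fun u => e (Γ (ei u)))^[n] (e y) = e (Γ^[n] y) := by
      intro n
      induction n with
      | zero => intro y _; rfl
      | succ n ih =>
        intro y hy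
        rw [Function.iterate_succ_apply', ih y hy, Function.iterate_succ_apply']
        show e (Γ (ei (e (Γ^[n] y)))) = _
        rw [j1 _ (iterate_mem hΓA₀ n hy)]
    have hm₁ : (fun u => e (Γ (ei u)))^[m] x₂ = x₂ := by
      have := hit m x hxm
      rw [hex, hper x hxA, hex] at this
      exact this
    have huniq := fix_unique' hS hN hfn hRT hc hx₂ hpp (img_autFun a) hg' hg'R
      (by
        show x₂⁻¹ * e (Γ (ei x₂)) ∈ _
        rw [hg'x, inv_mul_cancel_left]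
        exact ht₁) hΓm hΓe hΓc hm₁ (hper x₂ hx₂A) hm
    have hΓx₂ : Γ x₂ = x₂ * (x⁻¹ * Γ x) := huniq.trans hg'x
    rw [hΓm.map_mul (Subgroup.inv_mem _ hxA) hx₂A, hΓm.map_inv hxA, hΓx₂]
    have c1 : (x⁻¹ * Γ x) * x = x * (x⁻¹ * Γ x) := (mem_cent.1 hx).2 _ ht₁T
    have c2 : (x⁻¹ * Γ x) * x₂ = x₂ * (x⁻¹ * Γ x) := (mem_cent.1 hx₂).2 _ ht₁T
    generalize x⁻¹ * Γ x = t₁ at c1 c2 hΓx
    rw [hΓx]
    calc (x * t₁)⁻¹ * (x₂ * t₁) = t₁⁻¹ * x⁻¹ * (x₂ * t₁) := by group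
      _ = t₁⁻¹ * x⁻¹ * (t₁ * x₂) := by rw [c2]
      _ = x⁻¹ * x₂ := by
        have c3 : x⁻¹ * t₁ = t₁ * x⁻¹ := by
          calc x⁻¹ * t₁ = x⁻¹ * (t₁ * x) * x⁻¹ := by group
            _ = x⁻¹ * (x * t₁) * x⁻¹ := by rw [c1]
            _ = t₁ * x⁻¹ := by group
        calc t₁⁻¹ * x⁻¹ * (t₁ * x₂) = t₁⁻¹ * (x⁻¹ * t₁) * x₂ := by group
          _ = t₁⁻¹ * (t₁ * x⁻¹) * x₂ := by rw [c3]
          _ = x⁻¹ * x₂ := by group
  intro c hc'
  induction hc' using Subgroup.closure_induction with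
  | mem z hz =>
    obtain ⟨x, x₂, h, rfl⟩ := hz
    exact hgen x x₂ h
  | one => exact hΓm.map_one
  | mul x y hx hy ihx ihy =>
    rw [hΓm.map_mul (Subgroup.mem_sup_right (hCC hx)) (Subgroup.mem_sup_right (hCC hy)), ihx, ihy]
  | inv x hx ih =>
    rw [hΓm.map_inv (Subgroup.mem_sup_right (hCC hx)), ih]

/-- The focal subgroup of `C_F(T)` lies in `C_S(E)`. -/
theorem Foc_le_CC (hS : IsPGroup p S) (hN : E.IsNormalIn F p) : Foc F T ≤ CC F E := fun _ hc =>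
  Subgroup.subset_closure (fx_of_good (Foc_good hS hN) hS hN hc)

theorem rel_of_mp {hTS : T ≤ S} (hf : Mp (centralizerSystem F T hTS) X f) {x : Ω} (hx : x ∈ X) : Rel F T x (f x) := by
  obtain ⟨h1, h2, g, hg, h3, h4⟩ := mp_centSys.1 hf
  refine ⟨h1 hx, h2 x hx, g, hg.restrict ?_, h4, h3 x hx⟩
  rw [sup_comm]
  exact sup_le_sup_right ((Subgroup.zpowers_le).2 hx) _

/-- Maps of `C_F(T)` move elements by elements of `C_S(E)`. -/
theorem mp_diff_mem (hS : IsPGroup p S) (hN : E.IsNormalIn F p) {hTS : T ≤ S} (hf : Mp (centralizerSystem F T hTS) X f)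
    {x : Ω} (hx : x ∈ X) : x⁻¹ * f x ∈ CC F E :=
  Foc_le_CC hS hN (Subgroup.subset_closure ⟨x, f x, rel_of_mp hf hx, rfl⟩)

/-- The hyperfocal subgroup of `C_F(T)` lies in `C_S(E)`. -/
theorem hyperfocal_le_CC (hS : IsPGroup p S) (hN : E.IsNormalIn F p) {hTS : T ≤ S} :
    (centralizerSystem F T hTS).hyperfocalSubgroup p ≤ CC F E := by
  haveI : Finite (centralizerIn S T) := finite_of_le inf_le_left
  exact hyperfocal_le_of_gen (fun P _ f hf x hx => mp_diff_mem hS hN hf.1 hx)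

end main

end Cfsg.Agent.Lib.FusionExt.CentE3
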