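import Cfsg.Agent.Lib.FusionExt.CentE3
import Cfsg.Agent.Lib.FusionExt.PowerMain
import Cfsg.Agent.Lib.FusionExt.PIndex

/-!
# A normal subsystem on `C_S(E)` inside `C_F(T)` (helper92)
-/

set_option autoImplicit false

namespace Cfsg.Agent.Lib.FusionExt.CentE4

open Cfsg Cfsg.FusionSystem Cfsg.Agent.Lib.Fusion.Basic Cfsg.Agent.Lib.Fusion.GroupSystem
open Cfsg.Agent.Lib.FusionExt.MapApi Cfsg.Agent.Lib.FusionExt.PowerSys Cfsg.Agent.Lib.FusionExt.PowerGen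
open Cfsg.Agent.Lib.FusionExt.PrimeRes1 Cfsg.Agent.Lib.FusionExt.PrimeRes2 Cfsg.Agent.Lib.Fusion.Saturation
open Cfsg.Agent.Lib.Fusion.Saturation2 Cfsg.Agent.Lib.FusionExt.SatCrit1 Cfsg.Agent.Lib.FusionExt.Invariant
open Cfsg.Agent.Lib.FusionExt.PowerE Cfsg.Agent.Lib.FusionExt.LowPi Cfsg.Agent.Lib.FusionExt.CentSys
open Cfsg.Agent.Lib.FusionExt.FixQ Cfsg.Agent.Lib.FusionExt.PPrimeMin Cfsg.Agent.Lib.Fusion.KSystem
open Cfsg.Agent.Lib.FusionExt.Basic Cfsg.Agent.Lib.FusionExt.Normal Cfsg.Agent.Lib.FusionExt.CentE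
open Cfsg.Agent.Lib.FusionExt.CentE2 Cfsg.Agent.Lib.FusionExt.CentE3 Cfsg.Agent.Lib.FusionExt.Comp1

universe u

variable {Ω : Type u} [Group Ω] {S T Y : Subgroup Ω} {F : FusionSystem S} {E : FusionSystem T} {p : ℕ}
variable {X Q R P B : Subgroup Ω} {f g h k b : Ω → Ω}

/-- Two maps agreeing on generators agree. -/
theorem eq_on_sup {A C : Subgroup Ω} {g g' : Ω → Ω} (hg : Mp F (A ⊔ C) g) (hg' : Mp F (A ⊔ C) g') (hA : ∀ a ∈ A, g a = g' a)
    (hC : ∀ c ∈ C, g c = g' c) : ∀ x ∈ A ⊔ C, g x = g' x := by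
  let L₀ : Subgroup Ω :=
    { carrier := {x | x ∈ A ⊔ C ∧ g x = g' x}
      mul_mem' := by
        rintro x y ⟨h1, h2⟩ ⟨h3, h4⟩
        refine ⟨Subgroup.mul_mem _ h1 h3, ?_⟩
        rw [hg.map_mul h1 h3, hg'.map_mul h1 h3, h2, h4]
      one_mem' := ⟨Subgroup.one_mem _, by rw [hg.map_one, hg'.map_one]⟩
      inv_mem' := by
        rintro x ⟨h1, h2⟩
        refine ⟨Subgroup.inv_mem _ h1, ?_⟩
        rw [hg.map_inv h1, hg'.map_inv h1, h2] }
  have hle : A ⊔ C ≤ L₀ := sup_le (fun a ha => ⟨Subgroup.mem_sup_left ha, hA a ha⟩) (fun c hc => ⟨Subgroup.mem_sup_right hc, hC c hc⟩)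
  exact fun x hx => (hle hx).2

section main

variable [Finite S] [Fact p.Prime]

theorem recT (hS : IsPGroup p S) (hF : F.IsSaturated p) (hT : F.StronglyClosed T) : F.IsReceptive T :=
  isReceptive_of_isFullyNormalized F hS hF (Cfsg.Agent.Lib.FusionExt.PPowerNormal.isFullyNormalized_of_stronglyClosed hT)

theorem T_le_cent (hTS : T ≤ S) (hYC : Y ≤ centralizerIn S T) : T ≤ centralizerIn S Y := fun t ht =>
  mem_cent.2 ⟨hTS ht, fun y hy => ((mem_cent.1 (hYC hy)).2 t ht).symm⟩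

/-- Conjugating a map of `C_F(T)` between subgroups of a strongly closed subgroup of `C_S(T)`. -/
theorem L_tw (hS : IsPGroup p S) (hF : F.IsSaturated p) (hT : F.StronglyClosed T) (hY : F.StronglyClosed Y)
    (hYC : Y ≤ centralizerIn S T) {hTS : T ≤ S} {a : MulAut Y} (ha : a ∈ F.autGroup Y) (hX : X ≤ Y)
    (hf : Mp (centralizerSystem F T hTS) X f) (hfY : ∀ x ∈ X, f x ∈ Y) :
    Mp (centralizerSystem F T hTS) (cjB a X) (twB a f) := by
  have hYS : Y ≤ S := hY.1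
  have hrY := recT hS hF hY
  obtain ⟨H, hH, hHe⟩ := ext_cent hrY (mp_autFun hYS ha) (img_autFun a)
  have hTc : T ≤ centralizerIn S Y := T_le_cent hTS hYC
  have hTR : T ≤ Y ⊔ centralizerIn S Y := hTc.trans le_sup_right
  have hYR : Y ≤ Y ⊔ centralizerIn S Y := le_sup_left
  have hiT : Img T H T := LowPi.img_self (hH.restrict hTR) (fun t ht => sc_mp hT (hH.restrict hTR) le_rfl ht)
  obtain ⟨W, hW⟩ := hH.exists_img
  obtain ⟨Hi, hHi, i1, i2, i3⟩ := hH.inverse hW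
  obtain ⟨h1, h2, g, hg, h3, h4⟩ := mp_centSys.1 hf
  have d1 : cjB a X ⊔ T ≤ Y ⊔ centralizerIn S Y := sup_le (fun y hy => hYR hy.1) hTR
  have m1 : ∀ y ∈ cjB a X ⊔ T, H y ∈ X ⊔ T := maps_sup (hH.restrict d1)
    (fun y hy => by rw [hHe y hy.1]; exact Subgroup.mem_sup_left hy.2)
    (fun t ht => Subgroup.mem_sup_right (hiT.1 t ht))
  have m2 : ∀ y ∈ X ⊔ T, g y ∈ Y ⊔ T := maps_sup hg
    (fun x hx => by rw [h3 x hx]; exact Subgroup.mem_sup_left (hfY x hx))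
    (fun t ht => by rw [h4 t ht]; exact Subgroup.mem_sup_right ht)
  have hYW : Y ≤ W := fun u hu => by
    have := hW.1 (autFun a⁻¹ u) (hYR (autFun_mem _ hu))
    rwa [hHe _ (autFun_mem _ hu), autFun_apply_inv] at this
  have hTW : T ≤ W := fun t ht => by
    obtain ⟨t₀, h0, rfl⟩ := hiT.2 t ht
    exact hW.1 _ (hTR h0)
  have d2 : Y ⊔ T ≤ W := sup_le hYW hTW
  have hHiY : ∀ u ∈ Y, Hi u = autFun a⁻¹ u := by
    intro u hu
    have h5 := i1 (autFun a⁻¹ u) (hYR (autFun_mem _ hu))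
    rwa [hHe _ (autFun_mem _ hu), autFun_apply_inv] at h5
  refine mp_centSys.2 ⟨fun y hy => hYC hy.1, fun y hy => hYC ?_, fun y => Hi (g (H y)),
    ((hH.restrict d1).comp m1 hg).comp (fun y hy => m2 _ (m1 y hy)) (hHi.restrict d2), fun y hy => ?_, fun t ht => ?_⟩
  · exact autFun_mem _ (hfY _ hy.2)
  · show Hi (g (H y)) = autFun a⁻¹ (f (autFun a y))
    rw [hHe y hy.1, h3 _ hy.2, hHiY _ (hfY _ hy.2)]
  · show Hi (g (H t)) = t
    rw [h4 _ (hiT.1 t ht)]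
    exact i1 t (hTR ht)

/-- The subsystem `eS` of `C_F(T)` on `Y` is invariant under `Aut_F(Y)`. -/
theorem D_tw (hS : IsPGroup p S) (hF : F.IsSaturated p) (hT : F.StronglyClosed T) (hY : F.StronglyClosed Y)
    (hYC : Y ≤ centralizerIn S T) {hTS : T ≤ S} {a : MulAut Y} (ha : a ∈ F.autGroup Y)
    (h : Mp (eS hYC (centralizerSystem F T hTS) p) X f) : Mp (eS hYC (centralizerSystem F T hTS) p) (cjB a X) (twB a f) := by
  have hInF : InFam (centralizerSystem F T hTS) p (conjSysB (eS hYC (centralizerSystem F T hTS) p) a) := by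
    refine ⟨fun P φ hφ => ?_, fun Q hQ f hf => ?_⟩
    · obtain ⟨h0, h1⟩ := mp_conjSysB.1 (mp_of_hom hφ)
      have hL := mp_sub eS_sub h1
      have hv : ∀ y ∈ cjB a P, twB a (extOf φ) y ∈ Y := fun y hy => h1.mem_S hy
      have h2 := L_tw (X := cjB a P) hS hF hT hY hYC (Subgroup.inv_mem _ ha) (fun y hy => hy.1) hL hv
      have hle : P ≤ cjB a⁻¹ (cjB a P) := by
        intro y hy
        have hy' : y ∈ Y := h0 hy
        refine mem_cjB.2 ⟨hy', mem_cjB.2 ⟨autFun_mem _ hy', ?_⟩⟩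
        rw [autFun_apply_inv]
        exact hy
      refine hom_of_mp ((h2.restrict hle).congr (fun y hy => ?_))
      · show autFun (a⁻¹)⁻¹ (twB a (extOf φ) (autFun a⁻¹ y)) = extOf φ y
        rw [twB_inv, inv_inv, autFun_apply_inv]
    · refine mp_conjSysB.2 ⟨hQ, eS_inFam.2 (cjB a Q) (fun y hy => hy.1) _ ?_⟩
      obtain ⟨h1, h2, m, hm, h3⟩ := hf
      refine ⟨L_tw hS hF hT hY hYC ha hQ h1 (fun x hx => hQ (h2.1 x hx)), ⟨fun y hy => ⟨autFun_mem _ (hQ (h2.1 _ hy.2)), ?_⟩, fun z hz => ?_⟩, m, hm, fun y hy => ?_⟩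
      · rw [apply_twB]
        exact h2.1 _ hy.2
      · obtain ⟨x, hx, e⟩ := h2.2 _ hz.2
        refine ⟨_, mem_cjB_of a hQ hx, ?_⟩
        rw [twB_inv, e, autFun_inv_apply]
      · rw [iterate_twB, h3 _ hy.2, autFun_inv_apply]
  exact (mp_conjSysB.1 (eS_min hInF h)).2

/-- The invariance clause from invariance under twisting. -/
theorem invClause_of_tw {D : FusionSystem Y} (h : ∀ (a : MulAut Y), a ∈ F.autGroup Y → ∀ X f, Mp D X f → Mp D (cjB a X) (twB a f)) :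
    InvClause F D := by
  intro P hPT φ hφ α hα
  have hm := h α⁻¹ (Subgroup.inv_mem _ hα) P _ (mp_of_hom hφ)
  have e : (P.subgroupOf Y).map (Y.subtype.comp α.toMonoidHom) = cjB α⁻¹ P := by
    ext y
    constructor
    · rintro ⟨x, hx, rfl⟩
      refine ⟨(α x).2, ?_⟩
      have h1 : autFun α⁻¹ ((α x : Y) : Ω) = x := by
        rw [autFun_of_mem _ (α x).2]
        simp
      show autFun α⁻¹ ((α x : Y) : Ω) ∈ P
      rw [h1]
      exact hx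
    · rintro ⟨h1, h2⟩
      refine ⟨α⁻¹ ⟨y, h1⟩, ?_, ?_⟩
      · show ((α⁻¹ ⟨y, h1⟩ : Y) : Ω) ∈ P
        rw [← autFun_of_mem]
        exact h2
      · show ((α (α⁻¹ ⟨y, h1⟩) : Y) : Ω) = y
        simp
  rw [e]
  obtain ⟨χ, hχ, eχ⟩ := hm
  refine ⟨χ, hχ, fun x hφx hαx => ?_⟩
  rw [eχ]
  show autFun (α⁻¹)⁻¹ (extOf φ (autFun α⁻¹ ((α ⟨x, hPT x.2⟩ : Y) : Ω))) = _
  have h1 : autFun α⁻¹ ((α ⟨x, hPT x.2⟩ : Y) : Ω) = x := by
    rw [autFun_of_mem _ (α _).2]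
    simp
  rw [h1, extOf_coe, inv_inv, autFun_of_mem α hφx]

/-- Maps between subgroups of `C_S(T)` extend over `T`. -/
theorem ext_T (hS : IsPGroup p S) (hF : F.IsSaturated p) (hT : F.StronglyClosed T) {P' : Subgroup Ω} (hP : P ≤ centralizerIn S T)
    (hP' : P' ≤ centralizerIn S T) (hf : Mp F P f) (hi : Img P f P') :
    ∃ g, Mp F (P ⊔ T) g ∧ (∀ x ∈ P, g x = f x) ∧ Img T g T := by
  have hTS : T ≤ S := hT.1
  have hP'S : P' ≤ S := hP'.trans inf_le_left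
  obtain ⟨P₁, hP'P₁, hfn₁⟩ := exists_isFullyNormalized F hP'S
  obtain ⟨ρ, hρ, hρr⟩ := id hP'P₁
  have hrc := isReceptive_of_isFullyNormalized F hS hF hfn₁
  have hρm := mp_of_hom hρ
  have hρi : Img P' (extOf ρ) P₁ := img_of_range hρr
  obtain ⟨G₂, hG₂, hG₂e⟩ := ext_cent hrc hρm hρi
  have hf₁ : Mp F P (fun x => extOf ρ (f x)) := hf.comp hi.1 hρm
  obtain ⟨G₁, hG₁, hG₁e⟩ := ext_cent hrc hf₁ (hi.comp hρi)
  have hTc : ∀ {A : Subgroup Ω}, A ≤ centralizerIn S T → T ≤ centralizerIn S A := fun hA => T_le_cent hTS hA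
  have d₁ : P ⊔ T ≤ P ⊔ centralizerIn S P := sup_le_sup_left (hTc hP) _
  have d₂ : P' ⊔ T ≤ P' ⊔ centralizerIn S P' := sup_le_sup_left (hTc hP') _
  have hG₁' := hG₁.restrict d₁
  have hG₂' := hG₂.restrict d₂
  have hT₁ : T ≤ P ⊔ T := le_sup_right
  have hT₂ : T ≤ P' ⊔ T := le_sup_right
  have hiT₁ : Img T G₁ T := LowPi.img_self (hG₁'.restrict hT₁) (fun t ht => sc_mp hT (hG₁'.restrict hT₁) le_rfl ht)
  have hiT₂ : Img T G₂ T := LowPi.img_self (hG₂'.restrict hT₂) (fun t ht => sc_mp hT (hG₂'.restrict hT₂) le_rfl ht)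
  obtain ⟨W, hW⟩ := hG₂'.exists_img
  obtain ⟨Gi, hGi, i1, i2, i3⟩ := hG₂'.inverse hW
  have hd : P₁ ⊔ T ≤ W := sup_le
    (fun u hu => by
      obtain ⟨v, hv, rfl⟩ := hρi.2 u hu
      rw [← hG₂e v hv]
      exact hW.1 v (Subgroup.mem_sup_left hv))
    (fun t ht => by
      obtain ⟨t₀, h0, rfl⟩ := hiT₂.2 t ht
      exact hW.1 t₀ (hT₂ h0))
  have m : ∀ x ∈ P ⊔ T, G₁ x ∈ P₁ ⊔ T := maps_sup hG₁'
    (fun x hx => by
      rw [hG₁e x hx]
      exact Subgroup.mem_sup_left (hρi.1 _ (hi.1 x hx)))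
    (fun t ht => Subgroup.mem_sup_right (hiT₁.1 t ht))
  have hg : Mp F (P ⊔ T) (fun x => Gi (G₁ x)) := hG₁'.comp m (hGi.restrict hd)
  have hGiT : ∀ t ∈ T, Gi t ∈ T := fun t ht => by
    obtain ⟨t₀, h0, rfl⟩ := hiT₂.2 t ht
    rw [i1 t₀ (hT₂ h0)]
    exact h0
  refine ⟨fun x => Gi (G₁ x), hg, fun x hx => ?_, ?_⟩
  · show Gi (G₁ x) = f x
    rw [hG₁e x hx]
    show Gi (extOf ρ (f x)) = f x
    rw [← hG₂e _ (hi.1 x hx)]
    exact i1 _ (Subgroup.mem_sup_left (hi.1 x hx))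
  · exact LowPi.img_self (hg.restrict hT₁) (fun t ht => hGiT _ (hiT₁.1 t ht))

/-- **The Frattini condition** for `eS` of `C_F(T)` on `Y`. -/
theorem D_frat (hS : IsPGroup p S) (hF : F.IsSaturated p) (hT : F.StronglyClosed T) (hY : F.StronglyClosed Y)
    (hYC : Y ≤ centralizerIn S T) {hTS : T ≤ S} (hL : (centralizerSystem F T hTS).IsSaturated p)
    (P : Subgroup Ω) (hPY : P ≤ Y) (φ : P →* Ω) (hφ : φ ∈ F.Hom P) :
    ∃ α ∈ F.autGroup Y, ∃ φ₀ ∈ (eS hYC (centralizerSystem F T hTS) p).Hom P,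
      ∀ (x : P) (hx : φ₀ x ∈ Y), φ x = ((α ⟨φ₀ x, hx⟩ : Y) : Ω) := by
  have hYS : Y ≤ S := hY.1
  have hC₁S : centralizerIn S T ≤ S := inf_le_left
  haveI : Finite (centralizerIn S T) := finite_of_le hC₁S
  have hC₁p : IsPGroup p (centralizerIn S T) := hS.to_le hC₁S
  have hf : Mp F P (extOf φ) := mp_of_hom hφ
  obtain ⟨P', hP'⟩ := hf.exists_img
  have hP'Y : P' ≤ Y := fun u hu => by
    obtain ⟨x, hx, rfl⟩ := hP'.2 u hu
    exact sc_mp hY hf hPY hx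
  obtain ⟨g, hg, hge, hgT⟩ := ext_T hS hF hT (hPY.trans hYC) (hP'Y.trans hYC) hf hP'
  have hTP : T ≤ P ⊔ T := le_sup_right
  obtain ⟨a₀, ha₀, ea₀⟩ := (hg.restrict hTP).toAut hgT
  have hrT := recT hS hF hT
  have hai := Subgroup.inv_mem _ ha₀
  obtain ⟨H₂, hH₂, hH₂e⟩ := ext_cent hrT (mp_autFun hTS hai) (img_autFun a₀⁻¹)
  have hTR : T ≤ T ⊔ centralizerIn S T := le_sup_left
  have hCR : centralizerIn S T ≤ T ⊔ centralizerIn S T := le_sup_right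
  have hiT₂ : Img T H₂ T := (img_autFun a₀⁻¹).congr (fun t ht => (hH₂e t ht).symm)
  have hgm : ∀ x ∈ P ⊔ T, g x ∈ T ⊔ centralizerIn S T := maps_sup hg
    (fun x hx => by rw [hge x hx]; exact hCR (hYC (hP'Y (hP'.1 x hx))))
    (fun t ht => hTR (hgT.1 t ht))
  have hgt : ∀ t ∈ T, H₂ (g t) = t := by
    intro t ht
    have h1 : g t = autFun a₀ t := by
      rw [autFun_of_mem a₀ ht]
      exact (ea₀ ⟨t, ht⟩).symm
    rw [h1, hH₂e _ (autFun_mem _ ht), autFun_inv_apply]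
  have hYR : Y ≤ T ⊔ centralizerIn S T := hYC.trans hCR
  have hH₂Y : ∀ u ∈ Y, H₂ u ∈ Y := fun u hu => sc_mp hY (hH₂.restrict hYR) le_rfl hu
  have hYi : Img Y H₂ Y := LowPi.img_self (hH₂.restrict hYR) hH₂Y
  have hf₁ : Mp (centralizerSystem F T hTS) P (fun x => H₂ (extOf φ x)) := by
    refine mp_centSys.2 ⟨hPY.trans hYC, fun x hx => hYC (hH₂Y _ (hP'Y (hP'.1 x hx))), fun x => H₂ (g x), hg.comp hgm hH₂, fun x hx => ?_, hgt⟩
    show H₂ (g x) = H₂ (extOf φ x)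
    rw [hge x hx]
  have hLsc : (centralizerSystem F T hTS).StronglyClosed Y := ⟨hYC, fun R hR ρ hρ x => hY.2 R hR ρ hρ.1 x⟩
  have hTn : ∀ g ∈ centralizerIn S T, ∀ x ∈ Y, g * x * g⁻¹ ∈ Y := fun g hg x hx => sc_conj_mem F hY (hC₁S hg) hx
  obtain ⟨s, hs, g₂, hg₂, eg₂⟩ := frat' (hTS := hYC) hTn hC₁p hL hLsc hPY hf₁
  obtain ⟨W, hW⟩ := hH₂.exists_img
  obtain ⟨Hi, hHi, i1, i2, i3⟩ := hH₂.inverse hW
  have hYW : Y ≤ W := fun u hu => by
    obtain ⟨u₀, h0, rfl⟩ := hYi.2 u hu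
    exact hW.1 _ (hYR h0)
  have hHiY : ∀ u ∈ Y, Hi u ∈ Y := fun u hu => by
    obtain ⟨u₀, h0, rfl⟩ := hYi.2 u hu
    rw [i1 _ (hYR h0)]
    exact h0
  have hsS : s ∈ S := hC₁S hs
  have hα : Mp F Y (fun u => Hi (s * u * s⁻¹)) :=
    (Mp.conj hYS hsS).comp (Y := Y) (fun u hu => sc_conj_mem F hY hsS hu) (hHi.restrict hYW)
  have hαm : ∀ u ∈ Y, Hi (s * u * s⁻¹) ∈ Y := fun u hu => hHiY _ (sc_conj_mem F hY hsS hu)
  obtain ⟨α, hα', eα⟩ := hα.toAut (LowPi.img_self hα hαm)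
  obtain ⟨φ₀, hφ₀, eφ₀⟩ := hg₂
  refine ⟨α, hα', φ₀, hφ₀, fun x hx => ?_⟩
  rw [eα ⟨φ₀ x, hx⟩]
  show φ x = Hi (s * φ₀ x * s⁻¹)
  rw [eφ₀ x, ← eg₂ x x.2]
  show φ x = Hi (H₂ (extOf φ x))
  rw [i1 _ (hCR (hYC (hP'Y (hP'.1 x x.2)))), extOf_coe]

theorem aut_of_mp' {S' : Subgroup Ω} {D : FusionSystem S'} {a : MulAut P} (hP : P ≤ S') (h : Mp D P (autFun a)) : a ∈ D.autGroup P := by
  rw [mem_autGroup_iff D hP]
  refine hom_of_mp (h.congr (fun x hx => ?_))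
  rw [autFun_of_mem a hx, extOf_of_mem _ hx]
  rfl

theorem eS_ppower {C : Subgroup Ω} {L : FusionSystem C} (hYC : Y ≤ C) (hyp : L.hyperfocalSubgroup p ≤ Y) :
    (eS hYC L p).HasPPowerIndexIn L p := by
  refine ⟨eS_sub, hyp, fun P hP => ?_⟩
  rw [Subgroup.map_le_iff_le_comap]
  apply (Subgroup.closure_le _).2
  intro β hβ
  have hβ' : (orderOf (β : MulAut P)).Coprime p := by
    rw [Subgroup.orderOf_coe]
    exact hβ
  exact aut_of_mp' hP (eS_inFam.2 P hP _ (Pp.of_aut (hP.trans hYC) β.2 hβ'))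

theorem hasP_inFam {C : Subgroup Ω} {L : FusionSystem C} {D : FusionSystem Y} (hYC : Y ≤ C) (i : D.HasPPowerIndexIn L p) : InFam L p D := by
  refine ⟨i.1, fun Q hQ f hf => ?_⟩
  obtain ⟨h1, h2, m, hm, h3⟩ := hf
  obtain ⟨c, hc, ec⟩ := h1.toAut h2
  have he : ∀ x ∈ Q, autFun c x = f x := by
    intro x hx
    rw [autFun_of_mem c hx]
    exact ec ⟨x, hx⟩
  have hcm : c ^ m = 1 := by
    ext x
    have h4 := iterate_autFun (a := c) m x
    rw [iterate_congr (fun y hy => by rw [he y hy]; exact h2.1 y hy) he m x.2, h3 _ x.2] at h4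
    simpa using h4.symm
  have hco : (orderOf c).Coprime p := Nat.Coprime.coprime_dvd_left (orderOf_dvd_of_pow_eq_one hcm) hm
  have hm' : c ∈ D.autGroup Q := i.2.2 Q hQ ⟨⟨c, hc⟩, Subgroup.subset_closure (by
    show Nat.Coprime (orderOf (⟨c, hc⟩ : L.autGroup Q)) p
    rw [Subgroup.orderOf_mk]
    exact hco), rfl⟩
  exact (mp_autFun hQ hm').congr he

/-- A saturated subsystem of `p`-power index is the generated one. -/
theorem eS_eq [Finite Y] (hYp : IsPGroup p Y) {C : Subgroup Ω} {L : FusionSystem C} (hYC : Y ≤ C) {D : FusionSystem Y} (hD : D.IsSaturated p)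
    (i : D.HasPPowerIndexIn L p) : D = eS hYC L p := by
  refine Cfsg.Agent.Lib.Fusion.Alperin.fusionSystem_ext (fun P => Set.Subset.antisymm ?_ ?_)
  · exact Cfsg.Agent.Lib.FusionExt.PIndex.le_of_hasPPowerIndex hYp hD i.1 (eS_ppower hYC i.2.1) P
  · intro φ hφ
    exact hom_of_mp (eS_min (hasP_inFam hYC i) (mp_of_hom hφ))

theorem mem_cent_sup {A B' : Subgroup Ω} {c : Ω} (h1 : c ∈ centralizerIn S A) (h2 : c ∈ centralizerIn S B') : c ∈ centralizerIn S (A ⊔ B') := by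
  refine mem_cent.2 ⟨(mem_cent.1 h1).1, fun y hy => ?_⟩
  have hle : A ⊔ B' ≤ Subgroup.centralizer ({c} : Set Ω) :=
    sup_le (fun a ha => Subgroup.mem_centralizer_singleton_iff.2 ((mem_cent.1 h1).2 a ha))
      (fun a ha => Subgroup.mem_centralizer_singleton_iff.2 ((mem_cent.1 h2).2 a ha))
  exact Subgroup.mem_centralizer_singleton_iff.1 (hle hy)

/-- `p'`-automorphisms of `Y` in `C_F(T)` satisfy the extension condition. -/
theorem pi_pprime (hS : IsPGroup p S) (hF : F.IsSaturated p) (hT : F.StronglyClosed T) (hY : F.StronglyClosed Y)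
    (hYC : Y ≤ centralizerIn S T) {hTS : T ≤ S} (hFoc : Foc F T ≤ Y) {a : MulAut Y}
    (ha : Mp (centralizerSystem F T hTS) Y (autFun a)) {q : ℕ} (hq : q.Coprime p) (hqe : a ^ q = 1) :
    PiA F Y Y (autFun a) := by
  have hp : p.Prime := Fact.out
  have hYS : Y ≤ S := hY.1
  obtain ⟨-, -, g₀, hg₀, h3, h4⟩ := mp_centSys.1 ha
  have hWS : Y ⊔ T ≤ S := sup_le hYS hTS
  have hYW : Y ≤ Y ⊔ T := le_sup_left
  have hTW : T ≤ Y ⊔ T := le_sup_right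
  have hg₀W : ∀ w ∈ Y ⊔ T, g₀ w ∈ Y ⊔ T := maps_sup hg₀
    (fun y hy => by rw [h3 y hy]; exact hYW (autFun_mem _ hy)) (fun t ht => by rw [h4 t ht]; exact hTW ht)
  have hiW : Img (Y ⊔ T) g₀ (Y ⊔ T) := LowPi.img_self hg₀ hg₀W
  have hconj : ∀ s ∈ S, ∀ w ∈ Y ⊔ T, s * w * s⁻¹ ∈ Y ⊔ T := fun s hs =>
    maps_sup (F := F) (Mp.conj hWS hs) (fun y hy => hYW (sc_conj_mem F hY hs hy)) (fun t ht => hTW (sc_conj_mem F hT hs ht))
  haveI : Finite ↥(Y ⊔ T) := finite_of_le hWS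
  have hfn : F.IsFullyNormalized (Y ⊔ T) := by
    refine ⟨hWS, fun Q' hQ' => ?_⟩
    have e : normalizerIn S (Y ⊔ T) = S :=
      le_antisymm (normalizerIn_le_left _ _) (fun s hs => ⟨hs, mem_normalizer_of_conj_le' (hconj s hs)⟩)
    rw [e]
    exact Subgroup.card_le_of_le (normalizerIn_le_left _ Q')
  have hrW := isReceptive_of_isFullyNormalized F hS hF hfn
  have hTc : T ≤ centralizerIn S Y := T_le_cent hTS hYC
  have hWU : Y ⊔ T ≤ Y ⊔ centralizerIn S Y := sup_le_sup_left hTc _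
  have hUS : Y ⊔ centralizerIn S Y ≤ S := sup_le hYS inf_le_left
  have key : ∀ c ∈ centralizerIn S Y, ∀ w ∈ Y ⊔ T, g₀ (c * w * c⁻¹) = c * g₀ w * c⁻¹ := by
    intro c hc
    have hcS : c ∈ S := (mem_cent.1 hc).1
    refine eq_on_sup (g := fun w => g₀ (c * w * c⁻¹)) (g' := fun w => c * g₀ w * c⁻¹)
      ((Mp.conj hWS hcS).comp (hconj c hcS) hg₀) (hg₀.comp hg₀W (Mp.conj hWS hcS)) (fun y hy => ?_) (fun t ht => ?_)
    · have e1 : c * y * c⁻¹ = y := by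
        rw [← (mem_cent.1 hc).2 y hy]
        group
      show g₀ (c * y * c⁻¹) = c * g₀ y * c⁻¹
      rw [e1, h3 y hy]
      have e2 := (mem_cent.1 hc).2 _ (autFun_mem a hy)
      rw [← e2]
      group
    · show g₀ (c * t * c⁻¹) = c * g₀ t * c⁻¹
      rw [h4 _ (sc_conj_mem F hT hcS ht), h4 t ht]
  obtain ⟨Γ₀, hΓ₀, hΓ₀e⟩ := hg₀.ext_rec hrW hiW hWU (fun u hu => by
    obtain ⟨c, hc, r, hr, rfl⟩ := exists_mul_of_mem_rr hu
    have hcS : c ∈ S := (mem_cent.1 hc).1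
    have hrS : r ∈ S := hYS hr
    refine ⟨S.mul_mem hcS hrS, Subgroup.mul_mem _ (mem_normalizer_of_conj_le' (hconj c hcS)) (mem_normalizer_of_conj_le' (hconj r hrS)),
      c * g₀ r, S.mul_mem hcS (hg₀.mem_S (hYW hr)), fun w hw => ?_⟩
    have e : c * r * w * (c * r)⁻¹ = c * (r * w * r⁻¹) * c⁻¹ := by group
    rw [e, key c hc _ (hconj r hrS w hw), hg₀.map_conj (hYW hr) hw]
    group)
  have hCU : centralizerIn S Y ≤ Y ⊔ centralizerIn S Y := le_sup_right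
  have hYU : Y ≤ Y ⊔ centralizerIn S Y := le_sup_left
  have hΓ₀Y : ∀ y ∈ Y, Γ₀ y = autFun a y := fun y hy => by rw [hΓ₀e y (hYW hy), h3 y hy]
  have hYi : ∀ y ∈ Y, ∃ x ∈ Y, Γ₀ x = y := fun y hy =>
    ⟨autFun a⁻¹ y, autFun_mem _ hy, by rw [hΓ₀Y _ (autFun_mem _ hy), autFun_apply_inv]⟩
  have hΓ₀U : ∀ x ∈ Y ⊔ centralizerIn S Y, Γ₀ x ∈ Y ⊔ centralizerIn S Y := maps_sup hΓ₀
    (fun y hy => by rw [hΓ₀Y y hy]; exact hYU (autFun_mem _ hy)) (fun c hc => hCU (map_cent hΓ₀ hYi hc))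
  have hΓ₀i := LowPi.img_self hΓ₀ hΓ₀U
  have hPp : Pp F p (Y ⊔ T) g₀ := by
    refine ⟨hg₀, hiW, q, hq, ?_⟩
    refine eq_on_sup (Mp.iter hg₀ hg₀W q) (Mp.refl hWS) (fun y hy => ?_) (fun t ht => ?_)
    · have e1 : g₀^[q] y = (autFun a)^[q] y := by
        refine iterate_congr (Q := Y) (fun z hz => ?_) h3 q hy
        rw [h3 z hz]
        exact autFun_mem _ hz
      rw [e1]
      have := iterate_autFun (a := a) q ⟨y, hy⟩
      simp only at this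
      rw [this, hqe]
      rfl
    · exact Function.iterate_fixed (h4 t ht) q
  obtain ⟨Γ, m, ⟨hΓm, hΓi, m', hm', hper⟩, hΓe, -⟩ := pp_extend' hUS hΓ₀ hΓ₀i hWU hPp hΓ₀e
  have hBU : centralizerIn S (Y ⊔ T) ≤ Y ⊔ centralizerIn S Y := (cent_anti hYW).trans hCU
  have hΓY : ∀ y ∈ Y, Γ y = autFun a y := fun y hy => by rw [hΓe y (hYW hy), h3 y hy]
  have hZB : zz Y Y ≤ centralizerIn S (Y ⊔ T) := by
    intro z hz
    have hzY := (mem_zz.1 hz).1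
    refine mem_cent_sup (mem_cent.2 ⟨hYS hzY, (mem_zz.1 hz).2⟩) (mem_cent.2 ⟨hYS hzY, fun t ht => ?_⟩)
    exact (mem_cent.1 (hYC hzY)).2 t ht
  have hWi : ∀ w ∈ Y ⊔ T, ∃ w₀ ∈ Y ⊔ T, Γ w₀ = w := fun w hw => by
    obtain ⟨w₀, h0, e⟩ := hiW.2 w hw
    exact ⟨w₀, h0, by rw [hΓe w₀ h0, e]⟩
  have hΓB : ∀ v ∈ centralizerIn S (Y ⊔ T), Γ v ∈ centralizerIn S (Y ⊔ T) := by
    intro v hv
    refine mem_cent.2 ⟨hΓm.mem_S (hBU hv), fun w hw => ?_⟩
    obtain ⟨w₀, h0, rfl⟩ := hWi w hw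
    rw [← hΓm.map_mul (hWU h0) (hBU hv), ← hΓm.map_mul (hBU hv) (hWU h0), (mem_cent.1 hv).2 w₀ h0]
  have hVZ : ∀ v ∈ centralizerIn S (Y ⊔ T), v⁻¹ * Γ v ∈ zz Y Y := by
    intro v hv
    have hvB' := hΓB v hv
    have hd : T ⊔ Subgroup.zpowers v ≤ Y ⊔ centralizerIn S Y :=
      sup_le (hTW.trans hWU) ((Subgroup.zpowers_le).2 (hBU hv))
    have hrel : Rel F T v (Γ v) := ⟨cent_anti hTW hv, cent_anti hTW hvB', Γ, hΓm.restrict hd,
      fun t ht => by rw [hΓe t (hTW ht), h4 t ht], rfl⟩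
    have h5 : v⁻¹ * Γ v ∈ Y := hFoc (Subgroup.subset_closure ⟨v, Γ v, hrel, rfl⟩)
    refine mem_zz.2 ⟨h5, fun y hy => ?_⟩
    have c1 := (mem_cent.1 hv).2 y (hYW hy)
    have c2 := (mem_cent.1 hvB').2 y (hYW hy)
    have c3 : y * v⁻¹ = v⁻¹ * y := by
      calc y * v⁻¹ = v⁻¹ * (v * y) * v⁻¹ := by group
        _ = v⁻¹ * (y * v) * v⁻¹ := by rw [c1]
        _ = v⁻¹ * y := by group
    rw [← mul_assoc, c3, mul_assoc, c2, mul_assoc]
  have hCB : ∀ c ∈ centralizerIn S Y, c⁻¹ * Γ c ∈ centralizerIn S (Y ⊔ T) := by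
    intro c hc
    have hcU := hCU hc
    have hcS : c ∈ S := (mem_cent.1 hc).1
    refine mem_cent.2 ⟨S.mul_mem (S.inv_mem hcS) (hΓm.mem_S hcU), fun w hw => ?_⟩
    obtain ⟨w₀, h0, rfl⟩ := hWi w hw
    have e1 : Γ (c * w₀ * c⁻¹) = Γ c * Γ w₀ * (Γ c)⁻¹ := hΓm.map_conj hcU (hWU h0)
    have e2 : Γ (c * w₀ * c⁻¹) = c * Γ w₀ * c⁻¹ := by
      rw [hΓe _ (hconj c hcS w₀ h0), key c hc w₀ h0, hΓe w₀ h0]
    have e3 : Γ c * Γ w₀ * (Γ c)⁻¹ = c * Γ w₀ * c⁻¹ := e1.symm.trans e2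
    generalize Γ w₀ = w₁ at e3
    generalize Γ c = d at e3
    calc w₁ * (c⁻¹ * d) = c⁻¹ * (c * w₁ * c⁻¹) * d := by group
      _ = c⁻¹ * (d * w₁ * d⁻¹) * d := by rw [e3]
      _ = c⁻¹ * d * w₁ := by group
  refine ⟨Γ, hΓm, hΓY, fun c hc => ?_⟩
  have hcU := hCU hc
  refine coprime_step (W := Y ⊔ centralizerIn S Y) (V := centralizerIn S (Y ⊔ T)) (Z := zz Y Y) hΓm hcU hBU hZB (hCB c hc) hVZ ?_ ?_ (hper c hcU) ?_
  · intro u hu
    have hi : Img Y Γ Y := (img_autFun a).congr (fun y hy => (hΓY y hy).symm)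
    exact zz_img hΓm hYU hi le_rfl hu (mem_zz.1 hu).1
  · intro u hu v hv
    exact ((mem_cent.1 hv).2 u ((mem_zz.1 hu).1 |> hYW)).symm ▸ rfl
  · have hxS : c⁻¹ * Γ c ∈ S := S.mul_mem (S.inv_mem (mem_cent.1 hc).1) (hΓm.mem_S hcU)
    obtain ⟨k, hk⟩ := hS ⟨_, hxS⟩
    have h1 : (c⁻¹ * Γ c) ^ (p ^ k) = 1 := by
      have := congrArg Subtype.val hk
      simpa using this
    have h2 := orderOf_dvd_of_pow_eq_one h1
    exact Nat.Coprime.coprime_dvd_left h2 (Nat.Coprime.pow_left k (Nat.Coprime.symm hm'))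

/-- All automorphisms of `Y` in the subsystem satisfy the extension condition. -/
theorem pi_all (hS : IsPGroup p S) (hF : F.IsSaturated p) (hT : F.StronglyClosed T) (hY : F.StronglyClosed Y)
    (hYC : Y ≤ centralizerIn S T) {hTS : T ≤ S} (hFoc : Foc F T ≤ Y) {D : FusionSystem Y} (hDs : D.IsSaturated p)
    (hD : D.IsSubsystemOf (centralizerSystem F T hTS)) {α : MulAut Y} (hα : α ∈ D.autGroup Y) : PiA F Y Y (autFun α) := by
  have hYS : Y ≤ S := hY.1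
  have hYp : IsPGroup p Y := hS.to_le hYS
  haveI : Finite Y := finite_of_le hYS
  haveI : Finite (MulAut Y) := finite_mulAut_of_finite (A := Y)
  have hcz : zz Y Y ≤ Y := inf_le_left
  let s : Submonoid (MulAut Y) :=
    { carrier := {a | a ∈ D.autGroup Y ∧ PiA F Y Y (autFun a)}
      one_mem' := ⟨Subgroup.one_mem _, (pi_refl hYS).congr (fun x _ => (autFun_one_apply x).symm)⟩
      mul_mem' := by
        rintro a b ⟨h1, h2⟩ ⟨h3, h4⟩
        refine ⟨Subgroup.mul_mem _ h1 h3, (pi_comp le_rfl hcz h2 h4 (img_autFun a) (img_autFun b)).congr (fun x _ => ?_)⟩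
        exact (autFun_mul_apply a b x).symm }
  let K : Subgroup (MulAut Y) := finSub s
  have hfn : D.IsFullyNormalized Y := isFullyNormalized_top D hYp
  have hA : IsSylowIn p (autInducedBy Y Y) (D.autGroup Y) := (isFullyAutomized_of_isFullyNormalized D hYp hDs hfn).2
  have hKH : K ≤ D.autGroup Y := fun a ha => ha.1
  have hAK : autInducedBy Y Y ≤ K := by
    intro a ha
    obtain ⟨g, hg, e⟩ := (mem_autInducedBy_iff Y Y a).1 ha
    refine ⟨autInducedBy_le_autGroup D le_rfl ha, (pi_conj hY hYS (t := g) ?_).congr (fun x hx => ?_)⟩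
    · exact ⟨hg, mem_normalizer_of_conj_le' (fun x hx => Y.mul_mem (Y.mul_mem hg hx) (Y.inv_mem hg))⟩
    · rw [autFun_of_mem a hx]
      exact (e ⟨x, hx⟩).symm
  have hK : K = D.autGroup Y := eq_of_sylow_pprime hA hAK hKH (fun a ha ⟨q, hq, hqe⟩ =>
    ⟨ha, pi_pprime hS hF hT hY hYC hFoc (mp_sub hD (mp_autFun le_rfl ha)) hq hqe⟩)
  have : α ∈ K := by rw [hK]; exact hα
  exact this.2

/-- **A normal subsystem on `C_S(E)` inside `C_F(T)`.** -/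
theorem main (hS : IsPGroup p S) (hN : E.IsNormalIn F p) :
    ∃ D : FusionSystem (CC F E), D.IsNormalIn F p ∧ ∀ P : Subgroup Ω, D.Hom P ⊆ F.centralizerHom T P := by
  obtain ⟨⟨hEs, hF, hsub, hT, hInv, hFr⟩, hext⟩ := id hN
  have hTS : T ≤ S := hT.1
  have hY : F.StronglyClosed (CC F E) := (main' hS hN).2.2.2
  have hYC : CC F E ≤ centralizerIn S T := CC_le
  have hC₁S : centralizerIn S T ≤ S := inf_le_left
  haveI : Finite (centralizerIn S T) := finite_of_le hC₁S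
  have hC₁p : IsPGroup p (centralizerIn S T) := hS.to_le hC₁S
  have hfc : F.IsFullyCentralized T := isFullyCentralized_of_isReceptive F (recT hS hF hT)
  have hL : (centralizerSystem F T hTS).IsSaturated p := isSaturated_centralizerSystem hS F hF hfc _ (fun _ => rfl)
  obtain ⟨D₁, ⟨hD₁s, i⟩, -⟩ := Cfsg.Agent.Lib.FusionExt.PowerMain.main hC₁p (centralizerSystem F T hTS) hL (CC F E) hYC
    (hyperfocal_le_CC hS hN)
  have hYp : IsPGroup p (CC F E) := hS.to_le (hYC.trans hC₁S)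
  haveI : Finite (CC F E) := finite_of_le (hYC.trans hC₁S)
  obtain rfl : D₁ = eS hYC (centralizerSystem F T hTS) p := eS_eq hYp hYC hD₁s i
  refine ⟨_, ⟨⟨hD₁s, hF, fun P φ hφ => (eS_sub P hφ).1, hY, invClause_of_tw ?_, D_frat hS hF hT hY hYC hL⟩, ?_⟩, fun P φ hφ => eS_sub P hφ⟩
  · intro a ha X f hf
    exact D_tw hS hF hT hY hYC ha hf
  · intro α hα
    obtain ⟨g, hg, hgY, hgc⟩ := pi_all hS hF hT hY hYC (Foc_le_CC hS hN) hD₁s eS_sub hα
    have hPi := pi_maps (inf_le_left) hg (fun x hx => by rw [hgY x hx]; exact autFun_mem _ hx) hgc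
    obtain ⟨β, hβ, eβ⟩ := hg.toAut (LowPi.img_self hg hPi)
    refine ⟨β, hβ, fun x => ?_, fun c hc => ?_⟩
    · rw [eβ]
      exact (hgY x x.2).trans (autFun_of_mem α x.2)
    · rw [eβ]
      exact hgc c hc

end main

end Cfsg.Agent.Lib.FusionExt.CentE4
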