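import Cfsg.Agent.Lib.FusionExt.Comp1
import Cfsg.Agent.Lib.FusionExt.FactorExt
import Cfsg.Agent.Lib.FusionTheory.Abelian
import Cfsg.Agent.Lib.Fusion.Center

/-!
# Normal subgroups of quasisimple systems are central (helper92)
-/

set_option autoImplicit false

namespace Cfsg.Agent.Lib.FusionExt.Comp2

open Cfsg Cfsg.FusionSystem Cfsg.Agent.Lib.Fusion.Basic Cfsg.Agent.Lib.Fusion.GroupSystem
open Cfsg.Agent.Lib.FusionExt.MapApi Cfsg.Agent.Lib.FusionExt.Basic Cfsg.Agent.Lib.FusionExt.Normal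
open Cfsg.Agent.Lib.FusionExt.Normal2 Cfsg.Agent.Lib.FusionExt.PowerSys
open Cfsg.Agent.Lib.FusionExt.PrimeRes1 Cfsg.Agent.Lib.Fusion.Saturation Cfsg.Agent.Lib.Fusion.Saturation2
open Cfsg.Agent.Lib.FusionExt.Factor Cfsg.Agent.Lib.FusionExt.FactorExt
open Cfsg.Agent.Lib.FusionExt.LowPi Cfsg.Agent.Lib.FusionExt.Comp1 Cfsg.Agent.Lib.FusionTheory.Abelian
open Cfsg.Agent.Lib.FusionExt.PowerE Cfsg.Agent.Lib.FusionExt.CentSys

variable {Ω : Type*} [Group Ω] {S : Subgroup Ω} {F : FusionSystem S} {p : ℕ} [Fact p.Prime]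
variable {Q : Subgroup Ω}

/-- The inner system of a normal subgroup is a normal subsystem. -/
theorem inner_isNormalIn [Finite S] (hS : IsPGroup p S) (hF : F.IsSaturated p) (hQ : F.IsNormal Q) :
    (innerFusionSystem Q).IsNormalIn F p := by
  have hQS := hQ.1
  haveI : Finite Q := finite_of_le hQS
  have hQp : IsPGroup p Q := hS.to_le hQS
  have hsc := isNormal_stronglyClosed F hQ
  have hsub : (innerFusionSystem Q).IsSubsystemOf F := by
    rintro P φ ⟨hP, g, hg, h⟩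
    have : φ = conjHom P g := by
      ext x
      exact h x
    rw [this]
    exact F.conj_mem (hP.trans hQS) (hQS hg)
  refine ⟨⟨inner_isSaturated hQp, hF, hsub, hsc, ?_, ?_⟩, ?_⟩
  · rintro P hPQ φ ⟨-, g, hg, h⟩ α hα
    have hle : (P.subgroupOf Q).map (Q.subtype.comp α.toMonoidHom) ≤ Q := by
      rintro _ ⟨x, -, rfl⟩
      exact (α x).2
    refine ⟨conjHom _ (α ⟨g, hg⟩ : Q), ⟨hle, _, (α ⟨g, hg⟩).2, fun x => rfl⟩, fun x hφx hαx => ?_⟩
    have e : (⟨φ x, hφx⟩ : Q) = ⟨g, hg⟩ * ⟨x, hPQ x.2⟩ * ⟨g, hg⟩⁻¹ := Subtype.ext (h x)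
    rw [e, map_mul, map_mul, map_inv]
    rfl
  · intro P hPQ φ hφ
    obtain ⟨α, hα, hαe⟩ := ext_of_isNormal F hQ P hPQ φ hφ
    refine ⟨α, hα, P.subtype, ⟨hPQ, 1, Q.one_mem, fun x => by simp⟩, fun x hx => ?_⟩
    exact (hαe x).symm
  · intro α hα
    obtain ⟨-, g, hg, h⟩ := (mem_autGroup_iff _ le_rfl α).1 hα
    have hRS : Q ⊔ centralizerIn S Q ≤ S := sup_le hQS inf_le_left
    have hgR : g ∈ Q ⊔ centralizerIn S Q := Subgroup.mem_sup_left hg
    have hgN : g ∈ Subgroup.normalizer ((Q ⊔ centralizerIn S Q : Subgroup Ω) : Set Ω) := Subgroup.le_normalizer hgR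
    refine ⟨normAct _ hgN, autInducedBy_le_autGroup F hRS (normAct_mem_autInducedBy S _ hgN (hQS hg)), fun x => ?_, fun c hc => ?_⟩
    · rw [normAct_apply]
      exact (h x).symm
    · rw [normAct_apply]
      have h1 : c.1 * g = g * c.1 := ((mem_cent.1 hc).2 g hg).symm
      have h2 : (c : Ω)⁻¹ * (g * c * g⁻¹) = 1 := by
        rw [← h1]
        group
      rw [h2]
      exact Subgroup.one_mem _

section image

variable {Ω' : Type*} [Group Ω'] {S₀ : Subgroup Ω} {θ : S →* Ω'} {S' : Subgroup Ω'} {E : FusionSystem S'}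

/-- The image of a normal subgroup in a factor system is normal. -/
theorem image_isNormal [Finite S] (hS₀ : F.StronglyClosed S₀) (hE : F.IsFactorSystem S₀ θ E) (hQ : F.IsNormal Q) :
    E.IsNormal (imageAlong θ Q) := by
  obtain ⟨hS₀S, hθ, hr, hiff⟩ := id hE
  have hQS := hQ.1
  have himg : imageAlong θ Q ≤ S' := by
    rw [← hr]
    rintro _ ⟨s, -, rfl⟩
    exact ⟨s, rfl⟩
  refine ⟨himg, fun P' φ' hφ' => ?_⟩
  obtain ⟨hP'S, φ, hφ, hind⟩ := (hiff P' φ').1 hφ'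
  obtain ⟨hP₀, hφS, hPP', hform⟩ := id hind
  have hP'r : P' ≤ θ.range := by rwa [hr]
  have hsupr : P' ⊔ imageAlong θ Q ≤ θ.range := by
    rw [hr]
    exact sup_le hP'S himg
  obtain ⟨ψ, hψ, hψe, hψQ⟩ := hQ.2 _ φ hφ
  -- the preimage
  have hle : preimageAlong θ (P' ⊔ imageAlong θ Q) ≤ preimageAlong θ P' ⊔ Q := by
    intro z hz
    obtain ⟨hzS, hy⟩ := mem_preimageAlong.1 hz
    have hm : P' ⊔ imageAlong θ Q = ((preimageAlong θ P').subgroupOf S ⊔ Q.subgroupOf S).map θ := by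
      rw [Subgroup.map_sup]
      congr 1
      apply le_antisymm
      · intro y hy
        obtain ⟨x, hx⟩ := exists_preimage θ hP'r hy
        exact ⟨⟨x, hP₀ x.2⟩, x.2, hx⟩
      · rintro _ ⟨x, hx, rfl⟩
        exact (mem_preimageAlong.1 hx).2
    rw [hm] at hy
    obtain ⟨w, hw, hwz⟩ := hy
    have hws : (w : Ω) ∈ preimageAlong θ P' ⊔ Q := by
      have hle2 : (preimageAlong θ P').subgroupOf S ⊔ Q.subgroupOf S ≤ (preimageAlong θ P' ⊔ Q).subgroupOf S :=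
        sup_le (fun x hx => Subgroup.mem_subgroupOf.2 (Subgroup.mem_sup_left (Subgroup.mem_subgroupOf.1 hx)))
          (fun x hx => Subgroup.mem_subgroupOf.2 (Subgroup.mem_sup_right (Subgroup.mem_subgroupOf.1 hx)))
      exact hle2 hw
    have h1 := (theta_eq_iff θ hθ w ⟨z, hzS⟩).1 hwz
    have e : z = w * ((w : Ω)⁻¹ * z) := by group
    rw [e]
    refine Subgroup.mul_mem _ hws (Subgroup.mem_sup_left ?_)
    exact le_preimageAlong θ hθ hS₀S P' h1
  have hψ₀ := restrict_mem F hle hψ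
  obtain ⟨ψ', hψ'⟩ := exists_induced F θ hS₀ hθ hsupr hψ₀
  obtain ⟨hQ₀, hψS, hPQ', hform'⟩ := id hψ'
  have hmem : ψ' ∈ E.Hom (P' ⊔ imageAlong θ Q) := (hiff _ ψ').2 ⟨sup_le hP'S himg, _, hψ₀, hψ'⟩
  have hP₀le : ∀ x : ↥(preimageAlong θ P'), (x : Ω) ∈ preimageAlong θ (P' ⊔ imageAlong θ Q) := by
    intro x
    refine mem_preimageAlong.2 ⟨hP₀ x.2, ?_⟩
    exact Subgroup.mem_sup_left (hPP' x)
  have hQle : ∀ q (hq : q ∈ Q), q ∈ preimageAlong θ (P' ⊔ imageAlong θ Q) := by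
    intro q hq
    refine mem_preimageAlong.2 ⟨hQS hq, ?_⟩
    exact Subgroup.mem_sup_right ⟨⟨q, hQS hq⟩, hq, rfl⟩
  refine ⟨ψ', hmem, fun u => ?_, ?_⟩
  · obtain ⟨x, hx⟩ := exists_preimage θ hP'r u.2
    have e₁ : (⟨θ ⟨x, hP₀ x.2⟩, hPP' x⟩ : P') = u := Subtype.ext hx
    have h1 := hform x
    rw [e₁] at h1
    rw [h1]
    have h2 := hform' ⟨x, hP₀le x⟩
    have e₂ : Subgroup.inclusion le_sup_left u = (⟨θ ⟨(⟨x, hP₀le x⟩ : ↥(preimageAlong θ (P' ⊔ imageAlong θ Q))), hQ₀ (hP₀le x)⟩, hPQ' ⟨x, hP₀le x⟩⟩ : ↥(P' ⊔ imageAlong θ Q)) :=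
      Subtype.ext hx.symm
    rw [e₂, h2]
    congr 1
    apply Subtype.ext
    exact hψe x
  · apply le_antisymm
    · rintro _ ⟨⟨b, hbm⟩, hb, rfl⟩
      obtain ⟨q, hq, rfl⟩ : ∃ q : S, (q : Ω) ∈ Q ∧ θ q = b := mem_imageAlong.1 hb
      have h2 := hform' ⟨q, hQle q hq⟩
      have e₂ : (⟨θ q, hbm⟩ : ↥(P' ⊔ imageAlong θ Q)) = ⟨θ ⟨q, hQ₀ (hQle q hq)⟩, hPQ' ⟨q, hQle q hq⟩⟩ := rfl
      show ψ' ⟨θ q, hbm⟩ ∈ _
      rw [e₂, h2]
      refine mem_imageAlong.2 ⟨_, ?_, rfl⟩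
      exact hψQ.le ⟨⟨q, Subgroup.mem_sup_right hq⟩, hq, rfl⟩
    · intro b hb
      obtain ⟨q, hq, rfl⟩ : ∃ q : S, (q : Ω) ∈ Q ∧ θ q = b := mem_imageAlong.1 hb
      obtain ⟨⟨q₀, hq₀m⟩, hq₀, e⟩ := hψQ.ge hq
      have hq₀' : q₀ ∈ Q := hq₀
      have hq₀S : q₀ ∈ S := hQS hq₀'
      have hb₀ : θ ⟨q₀, hq₀S⟩ ∈ P' ⊔ imageAlong θ Q := Subgroup.mem_sup_right ⟨⟨q₀, hq₀S⟩, hq₀', rfl⟩
      refine ⟨⟨θ ⟨q₀, hq₀S⟩, hb₀⟩, ⟨⟨q₀, hq₀S⟩, hq₀', rfl⟩, ?_⟩
      have h2 := hform' ⟨q₀, hQle q₀ hq₀'⟩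
      refine Eq.trans h2 ?_
      congr 1
      exact Subtype.ext e

end image

open Cfsg.Agent.Lib.Fusion.Center in
theorem cen_of_le_center {U : Subgroup Ω} [Finite U] {C : FusionSystem U} (h : Q ≤ C.center) : Cen C C Q := by
  have hc := isCentral_center C
  refine ⟨fun u hu => ?_, fun X f hf => ?_⟩
  · rw [Subgroup.mem_centralizer_iff]
    intro q hq
    have := Subgroup.mem_centralizer_iff.1 (C.center_le_centralizer (h hq)) u hu
    exact this.symm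
  · obtain ⟨φ, hφ, e⟩ := hf
    obtain ⟨ψ, hψ, h1, h2⟩ := hc.2 X φ hφ
    have hle : X ⊔ Q ≤ X ⊔ C.center := sup_le_sup_left h X
    refine ⟨extOf ψ, (mp_of_hom hψ).restrict hle, fun x hx => ?_, fun q hq => ?_⟩
    · rw [extOf_of_mem ψ (Subgroup.mem_sup_left hx)]
      exact (h1 ⟨x, hx⟩).trans (e ⟨x, hx⟩)
    · rw [extOf_of_mem ψ (Subgroup.mem_sup_right (h hq))]
      exact h2 ⟨q, h hq⟩

theorem iter_conj {G : Type*} [Group G] (t y : G) (n : ℕ) :
    (fun z => t * z * t⁻¹)^[n] y = t ^ n * y * (t ^ n)⁻¹ := by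
  induction n with
  | zero => simp
  | succ n ih =>
    rw [Function.iterate_succ_apply', ih]
    simp only [pow_succ', mul_inv_rev]
    group

open Cfsg.Agent.Lib.Fusion.Center in
/-- A normal subgroup of a quasisimple system is central. -/
theorem cen_base {U : Subgroup Ω} [Finite U] (hU : IsPGroup p U) {C : FusionSystem U} (hC : C.Quasisimple p)
    (hQ : C.IsNormal Q) : Cen C C Q := by
  obtain ⟨hCs, hyp, hsimple⟩ := hC
  have hZU : C.center ≤ U := center_le C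
  have hZsc : C.StronglyClosed C.center := by
    refine ⟨hZU, fun P hP φ hφ x => ?_⟩
    rw [map_of_mem_center C hφ x.2 (hP x.2)]
    exact hP x.2
  let θ : U →* (U ⧸ C.center.subgroupOf U) := QuotientGroup.mk' (C.center.subgroupOf U)
  have hθ : ∀ s : U, θ s = 1 ↔ (s : Ω) ∈ C.center := fun s => by
    show ((s : U) : U ⧸ C.center.subgroupOf U) = 1 ↔ _
    rw [QuotientGroup.eq_one_iff, Subgroup.mem_subgroupOf]
  have hr : θ.range = ⊤ := MonoidHom.range_eq_top.2 (QuotientGroup.mk'_surjective _)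
  obtain ⟨E, hE⟩ := exists_isFactorSystem C θ hZsc hθ hr
  obtain ⟨hEs, hne, hEsimple⟩ := hsimple E hE
  have hX := image_isNormal hZsc hE hQ
  have hEp : IsPGroup p (U ⧸ C.center.subgroupOf U) := hU.to_quotient _
  have hEp' : IsPGroup p (⊤ : Subgroup (U ⧸ C.center.subgroupOf U)) := hEp.to_subgroup _
  have hin := inner_isNormalIn hEp' hEs hX
  rcases hEsimple _ _ hin with h | ⟨h1, h2⟩
  · apply cen_of_le_center
    intro q hq
    have : θ ⟨q, hQ.1 hq⟩ ∈ imageAlong θ Q := ⟨_, hq, rfl⟩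
    rw [h] at this
    exact (hθ _).1 (Subgroup.mem_bot.1 this)
  · exfalso
    have hle : C.hyperfocalSubgroup p ≤ C.center := by
      refine hyperfocal_le_of_gen (fun P hP f hf x hx => ?_)
      obtain ⟨hm, hi, m, hcop, hm1⟩ := hf
      obtain ⟨φ, hφ, e⟩ := hm
      obtain ⟨ψ, hψ, he1, he2⟩ := (isCentral_center C).2 P φ hφ
      have hP'r : imageAlong θ P ≤ θ.range := by
        rw [hr]
        exact le_top
      have hle := preimage_imageAlong_le θ hZU hθ (sc_le_normalizer C hZsc) hP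
      have hψ₀ := restrict_mem C hle hψ
      obtain ⟨ψ', hψ'⟩ := exists_induced C θ hZsc hθ hP'r hψ₀
      have hmem : ψ' ∈ E.Hom (imageAlong θ P) := (hE.2.2.2 _ ψ').2 ⟨le_top, _, hψ₀, hψ'⟩
      rw [← h2] at hmem
      obtain ⟨-, t, ht, htf⟩ := hmem
      obtain ⟨hQ₀, hψS, hPQ', hform'⟩ := hψ'
      have hPle : ∀ s : U, (s : Ω) ∈ P → (s : Ω) ∈ preimageAlong θ (imageAlong θ P) := fun s hs =>
        mem_preimageAlong.2 ⟨s.2, ⟨s, hs, rfl⟩⟩
      have hfU : ∀ s ∈ P, f s ∈ U := fun s hs => hP (hi.1 s hs)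
      have key : ∀ s : U, ∀ hs : (s : Ω) ∈ P, θ ⟨f s, hfU s hs⟩ = t * θ s * t⁻¹ := by
        intro s hs
        have h3 := hform' ⟨s, hPle s hs⟩
        have h4 := htf ⟨θ s, ⟨s, hs, rfl⟩⟩
        have h5 : f s = ψ ⟨s, Subgroup.mem_sup_left hs⟩ := by
          rw [← e ⟨s, hs⟩]
          exact (he1 ⟨s, hs⟩).symm
        have h6 : (⟨f s, hfU s hs⟩ : U) = ⟨ψ ⟨s, Subgroup.mem_sup_left hs⟩, h5 ▸ hfU s hs⟩ := Subtype.ext h5
        rw [h6]
        exact h3.symm.trans h4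
      have hit : ∀ (n : ℕ) (s : U) (hs : (s : Ω) ∈ P), ∃ hn : f^[n] s ∈ U, θ ⟨f^[n] s, hn⟩ = (fun z => t * z * t⁻¹)^[n] (θ s) ∧ f^[n] s ∈ P := by
        intro n s hs
        induction n with
        | zero => exact ⟨s.2, rfl, hs⟩
        | succ n ih =>
          obtain ⟨hn, h7, h8⟩ := ih
          have e8 : f^[n + 1] s = f (f^[n] s) := Function.iterate_succ_apply' f n s
          have h9 := key ⟨f^[n] s, hn⟩ h8
          refine ⟨e8 ▸ hfU _ h8, ?_, e8 ▸ hi.1 _ h8⟩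
          rw [Function.iterate_succ_apply' (fun z => t * z * t⁻¹), ← h7]
          rw [← h9]
          congr 1
          exact Subtype.ext e8
      have hxU : x ∈ U := hP hx
      obtain ⟨hn, h10, -⟩ := hit m ⟨x, hxU⟩ hx
      have h11 : (⟨f^[m] x, hn⟩ : U) = ⟨x, hxU⟩ := Subtype.ext (hm1 x hx)
      rw [h11] at h10
      obtain ⟨k, hk⟩ := hEp t
      have hper1 : Function.IsPeriodicPt (fun z => t * z * t⁻¹) m (θ ⟨x, hxU⟩) := h10.symm
      have hper2 : Function.IsPeriodicPt (fun z => t * z * t⁻¹) (p ^ k) (θ ⟨x, hxU⟩) := by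
        show (fun z => t * z * t⁻¹)^[p ^ k] _ = _
        rw [iter_conj, hk]
        group
      have hper := hper1.gcd hper2
      have hg : m.gcd (p ^ k) = 1 := Nat.Coprime.pow_right k hcop
      rw [hg] at hper
      have h12 : t * θ ⟨x, hxU⟩ * t⁻¹ = θ ⟨x, hxU⟩ := hper
      have h13 := key ⟨x, hxU⟩ hx
      rw [h12] at h13
      exact (theta_eq_iff θ hθ ⟨x, hxU⟩ ⟨f x, hfU x hx⟩).1 h13.symm
    apply hne
    rw [eq_bot_iff]
    intro y _
    obtain ⟨s, rfl⟩ := QuotientGroup.mk'_surjective _ y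
    apply (hθ s).2
    apply hle
    rw [hyp]
    exact s.2

/-- **Components centralize normal subgroups.** -/
theorem comp_cen {S U : Subgroup Ω} {F : FusionSystem S} {C : FusionSystem U} [Finite S] (hS : IsPGroup p S) (hF : F.IsSaturated p)
    (hC : C.IsComponentIn F p) (hQ : F.IsNormal Q) : Cen F C Q := by
  have hCF := subnormal_sub hC.1
  have hUS : U ≤ S := (F.le_of_mem (hCF U (subtype_mem C le_rfl))).1
  haveI : Finite U := finite_of_le hUS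
  exact comp_cen_of_base hC.1 hC.2 (fun Q' hQ' => cen_base (hS.to_le hUS) hC.2 hQ') hS hF Q hQ

theorem comp_le_centSys {S U : Subgroup Ω} {F : FusionSystem S} {C : FusionSystem U} [Finite S] (hS : IsPGroup p S) (hF : F.IsSaturated p)
    (hC : C.IsComponentIn F p) (hQ : F.IsNormal Q) : C.IsSubsystemOf (centralizerSystem F Q hQ.1) := by
  obtain ⟨hc1, hc2⟩ := comp_cen hS hF hC hQ
  have hCF := subnormal_sub hC.1
  have hUS : U ≤ S := (F.le_of_mem (hCF U (subtype_mem C le_rfl))).1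
  intro P φ hφ
  apply hom_of_mp
  have hm := mp_of_hom hφ
  have hPU : P ≤ U := hm.le
  refine mp_centSys.2 ⟨le_inf (hPU.trans hUS) (hPU.trans hc1), fun x hx => ?_, hc2 P _ hm⟩
  have hv : extOf φ x ∈ U := hm.mem_S hx
  exact ⟨hUS hv, hc1 hv⟩

end Cfsg.Agent.Lib.FusionExt.Comp2
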