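import Cfsg.Agent.Lib.FusionExt.LiftF

/-!
# Lifting a normal subsystem along a central extension: normality (helper92)
-/

set_option autoImplicit false
set_option linter.unusedSectionVars false

namespace Cfsg.Agent.Lib.FusionExt.LiftG

open Cfsg Cfsg.FusionSystem Cfsg.Agent.Lib.Fusion.Basic Cfsg.Agent.Lib.Fusion.GroupSystem
open Cfsg.Agent.Lib.FusionExt.MapApi Cfsg.Agent.Lib.FusionExt.PowerSys Cfsg.Agent.Lib.FusionExt.PowerGen
open Cfsg.Agent.Lib.FusionExt.PrimeRes1 Cfsg.Agent.Lib.Fusion.Saturation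
open Cfsg.Agent.Lib.Fusion.Saturation2 Cfsg.Agent.Lib.FusionExt.SatCrit1 Cfsg.Agent.Lib.FusionExt.Invariant
open Cfsg.Agent.Lib.FusionExt.PowerE Cfsg.Agent.Lib.FusionExt.LowPi
open Cfsg.Agent.Lib.Fusion.KSystem Cfsg.Agent.Lib.Fusion.Alperin
open Cfsg.Agent.Lib.FusionExt.Basic Cfsg.Agent.Lib.FusionExt.Normal Cfsg.Agent.Lib.FusionExt.CentE
open Cfsg.Agent.Lib.FusionExt.LiftA Cfsg.Agent.Lib.FusionExt.Factor Cfsg.Agent.Lib.FusionExt.FactorSat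
open Cfsg.Agent.Lib.FusionExt.LiftB Cfsg.Agent.Lib.FusionExt.LiftC Cfsg.Agent.Lib.FusionExt.LiftD Cfsg.Agent.Lib.FusionExt.LiftE
open Cfsg.Agent.Lib.FusionExt.LiftF Cfsg.Agent.Lib.FusionExt.CentSys

universe u v

variable {Ω : Type u} [Group Ω] {Ω' : Type v} [Group Ω'] {S : Subgroup Ω} {X : FusionSystem S} {Z : Subgroup Ω}
  {Sb : Subgroup Ω'} {θ : S →* Ω'} {Xb : FusionSystem Sb} {Tb : Subgroup Ω'} {Yb : FusionSystem Tb} {p : ℕ}
  {P Q R W : Subgroup Ω} {P' Q' R' : Subgroup Ω'} {f g k : Ω → Ω} {fb gb : Ω' → Ω'}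

section facts

variable [Fact p.Prime] [Finite S] [Finite Sb] (D : LD p X Z θ Xb Yb)

include D

/-- The Frattini decomposition, for a map with fully normalized target. -/
theorem fr_fn (hZP : Z ≤ P) (hPT : P ≤ preimageAlong θ Tb) (hf : Mp X P f) {P₃ : Subgroup Ω} (hi : Img P f P₃) (hfn : X.IsFullyNormalized P₃) :
    ∃ a ∈ X.autGroup (preimageAlong θ Tb), ∃ f₀, Mp (YY p X Z θ Xb Yb) P f₀ ∧ ∀ x ∈ P, f x = autFun a (f₀ x) := by
  have hPS : P ≤ S := hPT.trans pre_le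
  have hP₃S : P₃ ≤ S := hfn.1
  have hZP₃ := D.img_Z hf hZP hi
  haveI : Finite P₃ := finite_of_le hP₃S
  obtain ⟨hb, hhb, eb⟩ := D.down hf
  obtain ⟨φb, hφb, eφb⟩ := hhb
  have hQb : imageAlong θ P ≤ Tb := im_le_of hPT
  obtain ⟨α, hα, φ₀, hφ₀, hαe⟩ := D.hN.1.2.2.2.2.2 _ hQb φb hφb
  have hv : ∀ y : imageAlong θ P, φ₀ y ∈ Tb := (Yb.le_of_mem hφ₀).2
  obtain ⟨J, hJ, hJe⟩ := lift_b D (mp_of_hom hφ₀)
  rw [D.pre_im hPS hZP] at hJ hJe
  obtain ⟨α₁, hα₁, hα₁e⟩ := D.up (mp_autFun D.hTS hα)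
  have hα₁i := D.up_img hα₁ D.hTS hα₁e (img_autFun α)
  obtain ⟨a, ha, hae⟩ := hα₁.toAut hα₁i
  have haf : ∀ x ∈ preimageAlong θ Tb, autFun a x = α₁ x := fun x hx => by
    rw [autFun_of_mem a hx]
    exact hae ⟨x, hx⟩
  have hrel : ∀ x ∈ P, tot θ (f x) = tot θ (autFun a (J x)) := by
    intro x hx
    have hJT : J x ∈ preimageAlong θ Tb := hJ.mem_S hx
    have hx' := tot_mem_im (θ := θ) hPS hx
    rw [haf _ hJT, ← hα₁e _ hJT, ← hJe x hx, ← eb x hx, ← eφb ⟨_, hx'⟩, hαe ⟨_, hx'⟩ (hv _), extOf_of_mem φ₀ hx', autFun_of_mem α (hv _)]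
  have hc : Mp X P (fun x => autFun a (J x)) := (YY_X hJ).comp (fun x hx => hJ.mem_S hx) (mp_autFun pre_le ha)
  have hcm : ∀ x ∈ P, autFun a (J x) ∈ P₃ := by
    intro x hx
    have hz : (f x)⁻¹ * autFun a (J x) ∈ Z :=
      (D.tot_eq (hf.mem_S hx) (pre_le (autFun_mem a (hJ.mem_S hx)))).1 (hrel x hx)
    have hzQ := hZP hz
    have e1 : autFun a (J x) = f (x * ((f x)⁻¹ * autFun a (J x))) := by
      rw [hf.map_mul hx hzQ, D.fix hf hZP hz]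
      group
    rw [e1]
    exact hi.1 _ (P.mul_mem hx hzQ)
  obtain ⟨Q₂, hQ₂⟩ := hc.exists_img
  have hQ₂P : Q₂ ≤ P₃ := fun y hy => by
    obtain ⟨x, hx, rfl⟩ := hQ₂.2 y hy
    exact hcm x hx
  have hc₂ := hc.card_img hQ₂
  have hc₃ := hf.card_img hi
  have hQ₂e : Q₂ = P₃ := Subgroup.eq_of_le_of_card_ge hQ₂P (by omega)
  subst hQ₂e
  obtain ⟨i, hi', i1, i2, i3⟩ := hc.inverse hQ₂
  have hb₀ : Mp X Q₂ (fun y => f (i y)) := hi'.comp i3.1 hf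
  have hbm : ∀ y ∈ Q₂, f (i y) ∈ Q₂ := fun y hy => hi.1 _ (i3.1 y hy)
  have hbi : Img Q₂ (fun y => f (i y)) Q₂ := LowPi.img_self hb₀ hbm
  obtain ⟨b, hb', hbe⟩ := hb₀.toAut hbi
  have hbf : ∀ y ∈ Q₂, autFun b y = f (i y) := fun y hy => by
    rw [autFun_of_mem b hy]
    exact hbe ⟨y, hy⟩
  have hbk : b ∈ kk θ Q₂ := by
    refine mem_kk.2 (fun y hy => ?_)
    obtain ⟨x, hx, rfl⟩ := hQ₂.2 y hy
    rw [hbf _ hy, i1 x hx, hrel x hx]
  obtain ⟨s, hs, hse⟩ := (mem_autInducedBy_iff S Q₂ b).1 (kk_le D hfn hZP₃ hb' hbk)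
  have hsT : s ∈ Subgroup.normalizer (preimageAlong θ Tb : Set Ω) := sc_le_normalizer X D.sc_TT hs
  have hcs : normAct (preimageAlong θ Tb) hsT ∈ X.autGroup (preimageAlong θ Tb) :=
    autInducedBy_le_autGroup X pre_le (normAct_mem_autInducedBy S _ hsT hs)
  refine ⟨normAct (preimageAlong θ Tb) hsT * a, Subgroup.mul_mem _ hcs ha, J, hJ, fun x hx => ?_⟩
  have hcx := hQ₂.1 x hx
  have h1 : f x = autFun b (autFun a (J x)) := by
    rw [hbf _ hcx, i1 x hx]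
  have h2 : autFun b (autFun a (J x)) = s * autFun a (J x) * s⁻¹ := by
    rw [autFun_of_mem b hcx]
    exact hse ⟨_, hcx⟩
  rw [h1, h2, autFun_mul_apply, autFun_of_mem _ (autFun_mem a (hJ.mem_S hx))]
  rfl

/-- The Frattini decomposition. -/
theorem fr_all (hZP : Z ≤ P) (hPT : P ≤ preimageAlong θ Tb) (hf : Mp X P f) :
    ∃ a ∈ X.autGroup (preimageAlong θ Tb), ∃ f₀, Mp (YY p X Z θ Xb Yb) P f₀ ∧ ∀ x ∈ P, f x = autFun a (f₀ x) := by
  have hPS : P ≤ S := hPT.trans pre_le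
  obtain ⟨P₃, hP₃⟩ := hf.exists_img
  have hP₃S := hf.img_le hP₃
  have hZP₃ := D.img_Z hf hZP hP₃
  have hP₃T : P₃ ≤ preimageAlong θ Tb := fun y hy => by
    obtain ⟨x, hx, rfl⟩ := hP₃.2 y hy
    exact sc_mp D.sc_TT hf hPT hx
  obtain ⟨P₄, ⟨φ, hφ, hr⟩, hfn⟩ := exists_isFullyNormalized X hP₃S
  have hh := mp_of_hom hφ
  have hhi := img_of_range hr
  obtain ⟨a₁, ha₁, J₁, hJ₁, e₁⟩ := fr_fn D hZP hPT (hf.comp hP₃.1 hh) (hP₃.comp hhi) hfn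
  obtain ⟨a₂, ha₂, J₂, hJ₂, e₂⟩ := fr_fn D hZP₃ hP₃T hh hhi hfn
  obtain ⟨R₃, hR₃⟩ := hJ₂.exists_img
  obtain ⟨i, hi, i1, -, -⟩ := hJ₂.inverse hR₃
  have hγ : a₂⁻¹ * a₁ ∈ X.autGroup (preimageAlong θ Tb) := Subgroup.mul_mem _ (Subgroup.inv_mem _ ha₂) ha₁
  have htw := Y_tw D hγ hi
  have hJ₂f : ∀ x ∈ P, J₂ (f x) = autFun (a₂⁻¹ * a₁) (J₁ x) := by
    intro x hx
    have h1 := e₁ x hx
    have h2 := e₂ _ (hP₃.1 x hx)
    rw [autFun_mul_apply, ← h1, h2, autFun_inv_apply]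
  refine ⟨_, hγ, fun x => twB (a₂⁻¹ * a₁) i (J₁ x), hJ₁.comp (fun x hx => ?_) htw, fun x hx => ?_⟩
  · refine mem_cjB.2 ⟨hJ₁.mem_S hx, ?_⟩
    rw [← hJ₂f x hx]
    exact hR₃.1 _ (hP₃.1 x hx)
  · show f x = autFun (a₂⁻¹ * a₁) (twB (a₂⁻¹ * a₁) i (J₁ x))
    rw [apply_twB, ← hJ₂f x hx, i1 _ (hP₃.1 x hx)]

/-- The Frattini clause. -/
theorem frat_clause (hPT : P ≤ preimageAlong θ Tb) (φ : P →* Ω) (hφ : φ ∈ X.Hom P) :
    ∃ α ∈ X.autGroup (preimageAlong θ Tb), ∃ φ₀ ∈ (YY p X Z θ Xb Yb).Hom P, ∀ (x : P) (hx : φ₀ x ∈ preimageAlong θ Tb), φ x = ((α ⟨φ₀ x, hx⟩ : preimageAlong θ Tb) : Ω) := by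
  obtain ⟨g₁, hg₁, h1, -⟩ := D.ext_Z (mp_of_hom hφ)
  obtain ⟨a, ha, f₀, hf₀, e⟩ := fr_all D le_sup_right (sup_le hPT (D.Z_le_pre Tb)) hg₁
  obtain ⟨φ₀, hφ₀, e₀⟩ := hf₀.restrict (le_sup_left : P ≤ P ⊔ Z)
  refine ⟨a, ha, φ₀, hφ₀, fun x hx => ?_⟩
  have h2 := h1 x x.2
  rw [extOf_coe] at h2
  rw [← h2, e x (Subgroup.mem_sup_left x.2), ← e₀ x, autFun_of_mem a hx]

/-- A `p'`-lift on `T'` extends. -/
theorem pi_gen {a : MulAut (preimageAlong θ Tb)} (hp : Pp X p (preimageAlong θ Tb) (autFun a)) (hl : Lb X θ Yb (preimageAlong θ Tb) (autFun a)) :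
    PiA X (preimageAlong θ Tb) (preimageAlong θ Tb) (autFun a) := by
  have hTS : preimageAlong θ Tb ≤ S := pre_le
  haveI := T_fin D
  have hfn := Cfsg.Agent.Lib.FusionExt.PPowerNormal.isFullyNormalized_of_stronglyClosed D.sc_TT
  have hZT := D.Z_le_pre Tb
  have hc := hc_top D
  have hgH := aut_LL_of_lb D le_rfl hl
  have hgF := aut_X_of_LL D le_rfl hgH
  obtain ⟨-, -, m, hm, hper⟩ := hp
  have ham : a ^ m = 1 := by
    refine MulEquiv.ext (fun y => Subtype.ext ?_)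
    have h2 := iterate_autFun (a := a) m y
    rw [hper y y.2] at h2
    exact h2.symm
  obtain ⟨W₀, Γ, hPW, hCW, -, hΓ, hΓi, htP, -, hΓw⟩ := exists_Γ D hfn hZT le_rfl hc hgH hm ham (Q₀ := ⊥) bot_le (fun x hx => by
    rw [Subgroup.mem_bot] at hx ⊢
    rw [hx]
    group)
  obtain ⟨z, hz, hze⟩ := e_lemma D hfn hZT hgF hm ham hCW hΓ hPW hΓi htP hΓw
  have hCC : centralizerIn S (preimageAlong θ Tb) ≤ Cp θ Sb (preimageAlong θ Tb) := by
    intro c hc'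
    refine (mem_Cp D hTS).2 ⟨(mem_cent.1 hc').1, fun y hy => ?_⟩
    have h1 := (mem_cent.1 hc').2 y hy
    have e : c * y * c⁻¹ = y := by
      rw [← h1]
      group
    rw [e]
  have hle : preimageAlong θ Tb ⊔ centralizerIn S (preimageAlong θ Tb) ≤ W₀ := sup_le hPW (hCC.trans hCW)
  have hΓm := hΓ.1
  refine ⟨fun x => z * Γ x * z⁻¹, (hΓm.restrict hle).comp (fun x hx => hΓm.mem_S (hle hx)) (Mp.conj le_rfl (hTS hz)), fun x hx => (hze x hx).symm, fun c hc' => ?_⟩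
  have hcΓ := map_cent (hΓm.restrict hle) hΓi.2 hc'
  have h1 : z * Γ c = Γ c * z := ((mem_cent.1 hcΓ).2 z hz)
  have e : c⁻¹ * (z * Γ c * z⁻¹) = c⁻¹ * Γ c := by
    rw [h1]
    group
  show c⁻¹ * (z * Γ c * z⁻¹) ∈ _
  rw [e]
  refine mem_zz.2 ⟨hΓw c (hCC hc'), fun y hy => ?_⟩
  have h2 := (mem_cent.1 hc').2 y hy
  have h3 := (mem_cent.1 hcΓ).2 y hy
  have h4 : y * c⁻¹ = c⁻¹ * y := by
    calc y * c⁻¹ = c⁻¹ * (c * y) * c⁻¹ := by group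
      _ = c⁻¹ * (y * c) * c⁻¹ := by rw [h2]
      _ = c⁻¹ * y := by group
  calc y * (c⁻¹ * Γ c) = (y * c⁻¹) * Γ c := by group
    _ = c⁻¹ * (y * Γ c) := by rw [h4]; group
    _ = c⁻¹ * (Γ c * y) := by rw [h3]
    _ = c⁻¹ * Γ c * y := by group

/-- The extension clause. -/
theorem E_clause {α : MulAut (preimageAlong θ Tb)} (hα : α ∈ (YY p X Z θ Xb Yb).autGroup (preimageAlong θ Tb)) :
    PiA X (preimageAlong θ Tb) (preimageAlong θ Tb) (autFun α) := by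
  have hTS : preimageAlong θ Tb ≤ S := pre_le
  haveI := T_fin D
  haveI : Finite (MulAut (preimageAlong θ Tb)) := finite_mulAut_of_finite (A := preimageAlong θ Tb)
  have hfn := Cfsg.Agent.Lib.FusionExt.PPowerNormal.isFullyNormalized_of_stronglyClosed D.sc_TT
  have hZT := D.Z_le_pre Tb
  have hc := hc_top D
  obtain ⟨a, ha, hae⟩ := K_step D hfn hZT le_rfl hc (fun R h1 h2 h3 _ => KQ_of D h1 h2 h3) (mp_autFun le_rfl hα) (img_autFun α)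
  have hcz : zz (preimageAlong θ Tb) (preimageAlong θ Tb) ≤ preimageAlong θ Tb := inf_le_left
  let s : Submonoid (MulAut (preimageAlong θ Tb)) :=
    { carrier := {a | PiA X (preimageAlong θ Tb) (preimageAlong θ Tb) (autFun a)}
      one_mem' := (pi_refl hTS).congr (fun x _ => (autFun_one_apply x).symm)
      mul_mem' := by
        rintro a b h2 h4
        exact (pi_comp le_rfl hcz h2 h4 (img_autFun a) (img_autFun b)).congr (fun x _ => (autFun_mul_apply a b x).symm) }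
  have hle : AA p X θ Yb (preimageAlong θ Tb) ≤ finSub s := by
    refine (Subgroup.closure_le _).2 ?_
    rintro b (hb | ⟨h1, h2⟩)
    · obtain ⟨g₀, hg₀, e⟩ := (mem_autInducedBy_iff _ _ b).1 hb
      refine (pi_conj D.sc_TT hTS (t := g₀) ?_).congr (fun x hx => ?_)
      · exact ⟨hg₀, mem_normalizer_of_conj_le' (fun x hx => Subgroup.mul_mem _ (Subgroup.mul_mem _ hg₀ hx) (Subgroup.inv_mem _ hg₀))⟩
      · rw [autFun_of_mem b hx]
        exact (e ⟨x, hx⟩).symm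
    · exact pi_gen D h1 h2
  exact (hle ha : PiA X (preimageAlong θ Tb) (preimageAlong θ Tb) (autFun a)).congr (fun x hx => (hae x hx).symm)

/-- **Normality of the generated system.** -/
theorem Y_normal : (YY p X Z θ Xb Yb).IsNormalIn X p := by
  refine ⟨⟨Y_sat D, D.hX, YY_sub, D.sc_TT, Cfsg.Agent.Lib.FusionExt.CentE4.invClause_of_tw (fun a ha P f hf => Y_tw D ha hf), fun P hP φ hφ => frat_clause D hP φ hφ⟩, fun α hα => ?_⟩
  obtain ⟨g₁, hg, hgY, hgc⟩ := E_clause D hα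
  have hPi := pi_maps (inf_le_left) hg (fun x hx => by rw [hgY x hx]; exact autFun_mem _ hx) hgc
  obtain ⟨β, hβ, eβ⟩ := hg.toAut (LowPi.img_self hg hPi)
  refine ⟨β, hβ, fun x => ?_, fun c hc => ?_⟩
  · rw [eβ]
    exact (hgY x x.2).trans (autFun_of_mem α x.2)
  · rw [eβ]
    exact hgc c hc

end facts

/-- **Lifting a normal subsystem along a central extension.** -/
theorem lift_main [Fact p.Prime] [Finite S] (hS : IsPGroup p S) (hX : X.IsSaturated p) (hZ : X.IsCentral Z) (hfac : X.IsFactorSystem Z θ Xb)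
    (hN : Yb.IsNormalIn Xb p) : ∃ Y : FusionSystem (preimageAlong θ Tb), Y.IsNormalIn X p ∧ ∀ P f, Mp Y P f → Lb X θ Yb P f := by
  have D : LD p X Z θ Xb Yb := ⟨hS, hX, hZ, hfac, hN⟩
  haveI := D.fin_Sb
  exact ⟨_, Y_normal D, fun _ _ h => YY_lb h⟩

end Cfsg.Agent.Lib.FusionExt.LiftG
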