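import Cfsg.Agent.Lib.FusionExt.CoreN
import Cfsg.Agent.Lib.FusionExt.LiftG
import Cfsg.Agent.Lib.FusionExt.Comp2
import Cfsg.Agent.Lib.Fusion.LiftX3
import Cfsg.Agent.Lib.FusionExt.PowerMain
import Cfsg.Agent.Lib.FusionExt.PPowerNormal

/-!
# Constrained systems and components (helper92)
-/

set_option autoImplicit false
set_option linter.unusedSectionVars false

namespace Cfsg.Agent.Lib.FusionExt.Constr1

open Cfsg Cfsg.FusionSystem Cfsg.Agent.Lib.Fusion.Basic Cfsg.Agent.Lib.Fusion.GroupSystem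
open Cfsg.Agent.Lib.FusionExt.MapApi Cfsg.Agent.Lib.FusionExt.PowerSys Cfsg.Agent.Lib.FusionExt.PowerGen
open Cfsg.Agent.Lib.FusionExt.PrimeRes1 Cfsg.Agent.Lib.FusionExt.Invariant Cfsg.Agent.Lib.FusionExt.Constrained
open Cfsg.Agent.Lib.FusionExt.PowerE Cfsg.Agent.Lib.FusionExt.LowPi Cfsg.Agent.Lib.Fusion.Center
open Cfsg.Agent.Lib.FusionExt.Normal Cfsg.Agent.Lib.FusionExt.Normal2 Cfsg.Agent.Lib.FusionExt.CentSys Cfsg.Agent.Lib.FusionExt.PPrimeMin
open Cfsg.Agent.Lib.FusionExt.Basic Cfsg.Agent.Lib.FusionExt.CoreN Cfsg.Agent.Lib.FusionExt.Comp1 Cfsg.Agent.Lib.FusionExt.Comp2 Cfsg.Agent.Lib.FusionExt.Factor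
open Cfsg.Agent.Lib.FusionExt.FactorSat Cfsg.Agent.Lib.FusionExt.FactorExt Cfsg.Agent.Lib.FusionExt.Hyperfocal Cfsg.Agent.Lib.Core.Residual
open Cfsg.Agent.Lib.FusionExt.LiftA Cfsg.Agent.Lib.FusionExt.LiftB Cfsg.Agent.Lib.FusionExt.LiftC Cfsg.Agent.Lib.FusionExt.LiftG

universe u v

variable {Ω : Type u} [Group Ω] {S T : Subgroup Ω} {X : FusionSystem S} {W : FusionSystem T} {p : ℕ} {Q : Subgroup Ω}

theorem constrained_of_le [Finite S] (hX : X.IsSaturated p) (hQ : X.IsNormal Q) (h : centralizerIn S Q ≤ Q) : X.IsConstrained p :=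
  ⟨hX, Q, hQ, hQ.1, fun Q' hc => by rw [isConj_eq_of_isNormal X hQ hc]; exact h⟩

theorem sub1 [Finite S] [Fact p.Prime] (hS : IsPGroup p S) (hWc : W.IsConstrained p) (hWn : W.IsNormalIn X p)
    (hTc : T ≤ Subgroup.centralizer (X.core : Set Ω)) : T ≤ X.core := by
  obtain ⟨-, Q₀, hQ₀, hc⟩ := hWc
  haveI : Finite T := finite_of_le hWn.1.2.2.2.1.1
  have hRc := isCentric_core W hQ₀ hc
  have hRT : centralizerIn T W.core ≤ W.core := hRc.2 _ (isConj_refl W hRc.1)
  have hRX : X.IsNormal W.core := core_isNormal hS hWn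
  have hRQ : W.core ≤ X.core := le_core X hRX
  intro t ht
  refine hRQ (hRT (mem_cent.2 ⟨ht, fun y hy => ?_⟩))
  exact ((Subgroup.mem_centralizer_iff.1 (hTc ht)) y (hRQ hy))

/-- If the hyperfocal subgroup is central then all automorphism groups are `p`-groups. -/
theorem aut_pgroup [Finite S] [Fact p.Prime] (hS : IsPGroup p S) (hZ : X.IsCentral Q) (hh : X.hyperfocalSubgroup p ≤ Q) {P : Subgroup Ω} (hP : P ≤ S) :
    IsPGroup p (X.autGroup P) := by
  haveI : Finite P := finite_of_le hP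
  haveI : Finite (MulAut P) := finite_mulAut_of_finite (A := P)
  have key : ∀ b ∈ X.autGroup P, (orderOf b).Coprime p → b = 1 := by
    intro b hb hc
    refine MulEquiv.ext (fun x => Subtype.ext ?_)
    show (b x : Ω) = x
    have hfix : ∀ y : P, (y : Ω) ∈ Q → (b y : Ω) = y := by
      intro y hy
      obtain ⟨ψ, -, h1, h2⟩ := hZ.2 P (autHom b) (autHom_mem X hP hb)
      have h3 := h1 y
      have h4 := h2 ⟨y, hy⟩
      have e : Subgroup.inclusion (le_sup_left : P ≤ P ⊔ Q) y = Subgroup.inclusion (le_sup_right : Q ≤ P ⊔ Q) ⟨y, hy⟩ := rfl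
      rw [e, h4] at h3
      exact h3.symm
    have hbr : (⟨b, hb⟩ : X.autGroup P) ∈ pResidual p (X.autGroup P) := by
      apply mem_pResidual_of_coprime
      rw [Subgroup.orderOf_mk]
      exact hc
    have hz : (x : Ω)⁻¹ * (b x : P) ∈ X.hyperfocalSubgroup p := hyperfocal_gen X hP ⟨b, hb⟩ hbr x
    let z : P := x⁻¹ * b x
    have hzv : (z : Ω) = (x : Ω)⁻¹ * (b x : P) := rfl
    have hzQ : (z : Ω) ∈ Q := hh hz
    have hbz : b z = z := Subtype.ext (hfix z hzQ)
    have hbx : b x = x * z := by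
      show b x = x * (x⁻¹ * b x)
      group
    have hit : ∀ j : ℕ, (b ^ j) x = x * z ^ j := by
      intro j
      induction j with
      | zero => simp
      | succ j ih =>
        rw [pow_succ', MulAut.mul_apply, ih, map_mul, hbx, map_pow, hbz, pow_succ']
        group
    have h1 := hit (orderOf b)
    rw [pow_orderOf_eq_one] at h1
    have h2 : z ^ orderOf b = 1 := by
      have : x = x * z ^ orderOf b := h1
      exact (mul_eq_left.1 this.symm)
    obtain ⟨k, hk⟩ := hS ⟨z, hP z.2⟩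
    have h3 : z ^ p ^ k = 1 := by
      apply Subtype.ext
      have := congrArg Subtype.val hk
      simpa using this
    have h4 := pow_gcd_eq_one.2 ⟨h2, h3⟩
    rw [Nat.Coprime.pow_right k hc] at h4
    have h5 : z = 1 := by simpa using h4
    rw [h5, mul_one] at hbx
    rw [hbx]
  have hp := (Fact.out : p.Prime)
  intro g
  let a : MulAut P := g
  have hn := Nat.ordProj_mul_ordCompl_eq_self (orderOf a) p
  have hcop := Nat.coprime_ordCompl hp (orderOf_pos a).ne'
  refine ⟨(orderOf a).factorization p, Subtype.ext ?_⟩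
  show a ^ p ^ (orderOf a).factorization p = 1
  apply key _ (Subgroup.pow_mem _ g.2 _)
  refine Nat.Coprime.coprime_dvd_left (orderOf_dvd_of_pow_eq_one ?_) hcop.symm
  rw [← pow_mul, hn, pow_orderOf_eq_one]

theorem normal_top_of_inner (hin : X = innerFusionSystem S) : X.IsNormal S := by
  subst hin
  refine isNormal_of_mp le_rfl (fun P f hf => ?_)
  obtain ⟨φ, ⟨hP, g, hg, h⟩, e⟩ := hf
  refine ⟨fun y => g * y * g⁻¹, Mp.conj (sup_le hP le_rfl) hg, fun x hx => ?_, fun x hx => S.mul_mem (S.mul_mem hg hx) (S.inv_mem hg), fun y hy => ⟨g⁻¹ * y * g, S.mul_mem (S.mul_mem (S.inv_mem hg) hy) hg, by group⟩⟩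
  rw [← e ⟨x, hx⟩, h]

section qs

variable [Finite S] [Fact p.Prime]

theorem central_of_sub (hQ : Q ≤ S) (h : X.IsSubsystemOf (centralizerSystem X Q hQ)) : X.IsCentral Q := by
  refine ⟨hQ, fun P φ hφ => ?_⟩
  obtain ⟨h1, h2, g, ⟨ψ, hψ, e⟩, h3, h4⟩ := mp_centSys.1 (mp_of_hom (h P hφ))
  refine ⟨ψ, hψ, fun x => ?_, fun x => ?_⟩
  · rw [e]
    show g x = _
    rw [h3 _ x.2, extOf_coe]
  · rw [e]
    exact h4 _ x.2

/-- **The key step**: a system without proper normal subsystems over `S`, whose normal subsystems over smaller groups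
are constrained, which is not constrained, is quasisimple. -/
theorem quasisimple_of (hS : IsPGroup p S) (hX : X.IsSaturated p)
    (hmin : ∀ (T : Subgroup Ω) (D : FusionSystem T), D.IsNormalIn X p → T = S → X.IsSubsystemOf D)
    (hW : ∀ (T : Subgroup Ω) (W : FusionSystem T), W.IsNormalIn X p → T ≠ S → W.IsConstrained p)
    (hnc : ¬ X.IsConstrained p) : X.Quasisimple p := by
  have hQ : X.IsNormal X.core := Cfsg.Agent.S5145.result X
  have hself := isNormalIn_self hS hX
  -- `S` centralizes the core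
  have hcent : S ≤ Subgroup.centralizer (X.core : Set Ω) := by
    by_contra hne
    have hT₁ : centralizerIn S X.core ≠ S := fun e => hne (fun s hs => by
      have h : s ∈ centralizerIn S X.core := by
        rw [e]
        exact hs
      exact h.2)
    have hWn := centSys_isNormal hS hself hQ hQ.1
    exact hnc (constrained_of_le hX hQ (sub1 hS (hW _ _ hWn hT₁) hWn inf_le_right))
  -- the core is central
  have hcen : X.IsCentral X.core :=
    central_of_sub hQ.1 (hmin _ _ (centSys_isNormal hS hself hQ hQ.1) (inf_eq_left.2 hcent))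
  have hQZ : X.core ≤ X.center := le_sSup hcen
  have hnS : ¬ S ≤ X.core := fun h => hnc (constrained_of_le hX hQ (inf_le_left.trans h))
  -- the hyperfocal subgroup is everything
  have hhyp : X.hyperfocalSubgroup p = S := by
    by_contra hne
    have hTS : X.hyperfocalSubgroup p ≤ S := hyperfocal_le X
    obtain ⟨E, ⟨hEs, hEi⟩, -⟩ := Cfsg.Agent.Lib.FusionExt.PowerMain.main hS X hX _ hTS le_rfl
    have hsc := stronglyClosed_hyperfocal X hS hX
    have hTn : ((X.hyperfocalSubgroup p).subgroupOf S).Normal :=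
      (Subgroup.normal_subgroupOf_iff_le_normalizer hTS).2 (sc_le_normalizer X hsc)
    have hEn : E.IsNormalIn X p := Cfsg.Agent.Lib.FusionExt.PPowerNormal.isNormalIn_of_ppower hS hX hTS hTn le_rfl hEs hEi
    have h := sub1 hS (hW _ _ hEn hne) hEn (hTS.trans hcent)
    have hin := Cfsg.Agent.Lib.Fusion.Alperin.eq_inner_of_isPGroup_aut X hS hX (fun P hP => aut_pgroup hS hcen h hP)
    exact hnS (le_core X (normal_top_of_inner hin))
  refine ⟨hX, hhyp, fun E hE => ?_⟩
  have hZc := isCentral_center X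
  have hZsc : X.StronglyClosed X.center := by
    refine ⟨center_le X, fun P hP φ hφ x => ?_⟩
    rw [map_of_mem_center X hφ x.2 (hP x.2)]
    exact hP x.2
  have hEs : E.IsSaturated p := image_isSaturated _ X E hS hX (isSurjectiveMorphism_of_isFactorSystem X _ hS hX hZsc hE)
  have hθ : ∀ s : S, (QuotientGroup.mk' (X.center.subgroupOf S)) s = 1 ↔ (s : Ω) ∈ X.center := hE.2.1
  have hZS : X.center ≤ X.core := le_core X (by
    refine ⟨hZc.1, fun P φ hφ => ?_⟩
    obtain ⟨ψ, hψ, h1, h2⟩ := hZc.2 P φ hφ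
    refine ⟨ψ, hψ, h1, ?_⟩
    ext y
    constructor
    · rintro ⟨x, hx, rfl⟩
      have := h2 ⟨x.1, hx⟩
      have e : x = Subgroup.inclusion (le_sup_right : X.center ≤ P ⊔ X.center) ⟨x.1, hx⟩ := rfl
      rw [e, this]
      exact hx
    · intro hy
      exact ⟨⟨y, Subgroup.mem_sup_right hy⟩, hy, h2 ⟨y, hy⟩⟩)
  refine ⟨hEs, fun hbot => ?_, fun Tb Yb hYb => ?_⟩
  · -- the quotient is nontrivial
    apply hnS
    intro s hs
    have : (QuotientGroup.mk' (X.center.subgroupOf S)) ⟨s, hs⟩ ∈ (⊥ : Subgroup (S ⧸ X.center.subgroupOf S)) := by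
      rw [← hbot]
      trivial
    exact hZS ((hθ _).1 (Subgroup.mem_bot.1 this))
  · have D : LD p X X.center (QuotientGroup.mk' (X.center.subgroupOf S)) E Yb := ⟨hS, hX, hZc, hE, hYb⟩
    obtain ⟨Y, hYn, hYl⟩ := lift_main hS hX hZc hE hYb
    by_cases hT' : preimageAlong (QuotientGroup.mk' (X.center.subgroupOf S)) Tb = S
    · right
      have hXY := hmin _ Y hYn hT'
      have hTb : Tb = ⊤ := by
        rw [eq_top_iff]
        intro y _
        obtain ⟨s, rfl⟩ := QuotientGroup.mk'_surjective _ y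
        have : (s : Ω) ∈ preimageAlong (QuotientGroup.mk' (X.center.subgroupOf S)) Tb := by
          rw [hT']
          exact s.2
        obtain ⟨h1, h2⟩ := mem_preimageAlong.1 this
        exact h2
      refine ⟨hTb, fun P' => Set.Subset.antisymm (fun φ' hφ' => hYb.1.2.2.1 P' hφ') (fun φ' hφ' => ?_)⟩
      obtain ⟨g, hg, hge⟩ := D.up (mp_of_hom hφ')
      have hP' : P' ≤ (⊤ : Subgroup (S ⧸ X.center.subgroupOf S)) := le_top
      have hgY : Mp Y _ g := mp_sub hXY hg
      obtain ⟨-, fb, hfb, hfbe⟩ := hYl _ _ hgY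
      rw [D.im_pre hP'] at hfb
      apply hom_of_mp
      refine hfb.congr (fun y hy => ?_)
      obtain ⟨s, rfl⟩ := QuotientGroup.mk'_surjective _ y
      have hs : (s : Ω) ∈ preimageAlong (QuotientGroup.mk' (X.center.subgroupOf S)) P' :=
        mem_preimageAlong.2 ⟨s.2, hy⟩
      have h1 := hfbe _ hs
      have h2 := hge _ hs
      rw [tot_coe] at h1 h2
      rw [h1, h2]
    · left
      have hle := sub1 hS (hW _ _ hYn hT') hYn (pre_le.trans hcent)
      rw [eq_bot_iff]
      intro y hy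
      obtain ⟨s, rfl⟩ := QuotientGroup.mk'_surjective _ y
      have hs : (s : Ω) ∈ preimageAlong (QuotientGroup.mk' (X.center.subgroupOf S)) Tb :=
        mem_preimageAlong.2 ⟨s.2, hy⟩
      exact Subgroup.mem_bot.2 ((hθ s).2 (hQZ (hle hs)))

/-- No component in a constrained system. -/
theorem no_comp (hS : IsPGroup p S) (hF : X.IsSaturated p) (hc : X.IsConstrained p) :
    ¬ ∃ (T : Subgroup Ω) (C : FusionSystem T), C.IsComponentIn X p := by
  rintro ⟨U, C, hC⟩
  obtain ⟨-, Q, hQ, hcQ⟩ := hc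
  obtain ⟨h1, h2⟩ := comp_cen hS hF hC hQ
  have hCF := subnormal_sub hC.1
  have hUS : U ≤ S := (X.le_of_mem (hCF U (subtype_mem C le_rfl))).1
  haveI : Finite U := finite_of_le hUS
  have hUQ : U ≤ Q := fun u hu => hcQ.2 Q (isConj_refl X hQ.1) ⟨hUS hu, h1 hu⟩
  obtain ⟨hCs, hyp, hsimple⟩ := hC.2
  have hZU : C.center ≤ U := center_le C
  have hZsc : C.StronglyClosed C.center := by
    refine ⟨hZU, fun P hP φ hφ x => ?_⟩
    rw [map_of_mem_center C hφ x.2 (hP x.2)]
    exact hP x.2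
  let θ : U →* (U ⧸ C.center.subgroupOf U) := QuotientGroup.mk' (C.center.subgroupOf U)
  have hθ : ∀ s : U, θ s = 1 ↔ (s : Ω) ∈ C.center := fun s => by
    show ((s : U) : U ⧸ C.center.subgroupOf U) = 1 ↔ _
    rw [QuotientGroup.eq_one_iff, Subgroup.mem_subgroupOf]
  have hr : θ.range = ⊤ := MonoidHom.range_eq_top.2 (QuotientGroup.mk'_surjective _)
  obtain ⟨E, hE⟩ := exists_isFactorSystem C θ hZsc hθ hr
  obtain ⟨hEs, hne, -⟩ := hsimple E hE
  have hle : C.hyperfocalSubgroup p ≤ ⊥ := by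
    refine hyperfocal_le_of_gen (fun P hP f hf x hx => ?_)
    obtain ⟨g, -, hg1, hg2⟩ := h2 P f hf.1
    rw [← hg1 x hx, hg2 x (hUQ (hP hx))]
    simp
  apply hne
  rw [eq_bot_iff]
  intro y _
  obtain ⟨s, rfl⟩ := QuotientGroup.mk'_surjective _ y
  apply (hθ s).2
  have : (s : Ω) ∈ (⊥ : Subgroup Ω) := by
    apply hle
    rw [hyp]
    exact s.2
  rw [Subgroup.mem_bot.1 this]
  exact Subgroup.one_mem _

/-- The induction. -/
theorem exists_comp (n : ℕ) : ∀ (S : Subgroup Ω) [Finite S] (F : FusionSystem S), Nat.card S ≤ n → IsPGroup p S → F.IsSaturated p → ¬ F.IsConstrained p →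
    ∃ (T : Subgroup Ω) (C : FusionSystem T), C.IsComponentIn F p := by
  induction n with
  | zero =>
    intro S _ F hc
    have := Nat.card_pos (α := S)
    omega
  | succ n ih =>
    intro S _ F hc hS hF hnc
    by_contra hno
    have hFn := isNormalIn_self hS hF
    have hXn : (PrimeRes2.e1 F p).IsNormalIn F p := Cfsg.Agent.Lib.Fusion.LiftX.e1_isNormalIn hS hFn.1
    have hXs : (PrimeRes2.e1 F p).IsSaturated p := hXn.1.1
    have hXXn := isNormalIn_self hS hXs
    have hXXe : (PrimeRes2.e1 (PrimeRes2.e1 F p) p).IsNormalIn F p := Cfsg.Agent.Lib.Fusion.LiftX.e1_isNormalIn hS hXn.1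
    have hXnc : ¬ (PrimeRes2.e1 F p).IsConstrained p := by
      rintro ⟨-, Q, hQ, hcQ⟩
      have hc1 := isCentric_core _ hQ hcQ
      have hn := core_isNormal hS hXn
      exact hnc (constrained_of_le hF hn (hc1.2 _ (isConj_refl _ hc1.1)))
    refine hno ⟨S, PrimeRes2.e1 F p, .step (.refl _ _) hXn, ?_⟩
    refine quasisimple_of hS hXs ?_ ?_ hXnc
    · rintro T D hD rfl
      have h1 : (PrimeRes2.e1 F p).IsSubsystemOf (PrimeRes2.e1 (PrimeRes2.e1 F p) p) := e1_le hS hFn hXXe
      have h2 : (PrimeRes2.e1 (PrimeRes2.e1 F p) p).IsSubsystemOf D := e1_le hS hXXn hD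
      exact fun P => (h1 P).trans (h2 P)
    · intro T W hWn hne
      by_contra hWc
      have hTS : T ≤ S := hWn.1.2.2.2.1.1
      haveI : Finite T := finite_of_le hTS
      have hlt : Nat.card T < Nat.card S := by
        have h1 := Subgroup.card_le_of_le hTS
        rcases h1.lt_or_eq with h | h
        · exact h
        · exact absurd (Subgroup.eq_of_le_of_card_ge hTS h.ge) hne
      obtain ⟨U, C, hC⟩ := ih T W (by omega) (hS.to_le hTS) hWn.1.1 hWc
      exact hno ⟨U, C, .step (.step hC.1 hWn) hXn, hC.2⟩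

end qs

/-- **S5146**. -/
theorem main [Finite S] [Fact p.Prime] (hS : IsPGroup p S) (F : FusionSystem S) (hF : F.IsSaturated p) :
    F.IsConstrained p ↔ ¬ ∃ (T : Subgroup Ω) (C : FusionSystem T), C.IsComponentIn F p := by
  constructor
  · exact no_comp hS hF
  · intro h
    by_contra hc
    exact h (exists_comp _ S F le_rfl hS hF hc)

end Cfsg.Agent.Lib.FusionExt.Constr1
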