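import Cfsg.Agent.Lib.FusionExt.LowPi

/-!
# The extension property at lower levels: the step from `N_T(P)` to `P` (helper92)
-/

set_option autoImplicit false

namespace Cfsg.Agent.Lib.FusionExt.LowPi

open Cfsg Cfsg.FusionSystem Cfsg.Agent.Lib.Fusion.Basic Cfsg.Agent.Lib.Fusion.GroupSystem
open Cfsg.Agent.Lib.FusionExt.MapApi Cfsg.Agent.Lib.FusionExt.Basic Cfsg.Agent.Lib.FusionExt.Normal
open Cfsg.Agent.Lib.FusionExt.SatCrit1 Cfsg.Agent.Lib.FusionExt.PowerSys Cfsg.Agent.Lib.FusionExt.PowerGen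
open Cfsg.Agent.Lib.FusionExt.PrimeRes1 Cfsg.Agent.Lib.Fusion.Saturation Cfsg.Agent.Lib.Fusion.Saturation2
open Cfsg.Agent.Lib.Fusion.KSystem Cfsg.Agent.Lib.FusionExt.Invariant Cfsg.Agent.Lib.FusionExt.PowerE

variable {Ω : Type*} [Group Ω] {S T : Subgroup Ω} {F : FusionSystem S} {E : FusionSystem T} {p : ℕ}
variable {X Y Q R P P' U : Subgroup Ω} {f f' g h k b G : Ω → Ω}

local notation "P₁" => normalizerIn T P
local notation "C₁" => centralizerIn S (normalizerIn T P)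
local notation "R₁" => normalizerIn T P ⊔ centralizerIn S (normalizerIn T P)
local notation "Z₁" => zz T (normalizerIn T P)

/-! ### Elementary facts on `N_T(P)`, `C_S(N_T(P))`, ... -/

theorem mem_norm {c : Ω} : c ∈ normalizerIn S P ↔ c ∈ S ∧ c ∈ Subgroup.normalizer (P : Set Ω) := Iff.rfl

theorem norm_conj {c x : Ω} (hc : c ∈ Subgroup.normalizer (P : Set Ω)) (hx : x ∈ P) : c * x * c⁻¹ ∈ P :=
  (Subgroup.mem_normalizer_iff.1 hc x).1 hx

theorem cent_conj_eq {c x : Ω} (hc : c ∈ centralizerIn S P) (hx : x ∈ P) : c * x * c⁻¹ = x := by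
  have := (mem_cent.1 hc).2 x hx
  rw [← this]
  group

theorem cent_le_norm : centralizerIn S P ≤ normalizerIn S P := centralizerIn_le_normalizerIn S P

theorem P_le_P1 (hPT : P ≤ T) : P ≤ normalizerIn T P := le_normalizerIn hPT

theorem cent_anti (h : P ≤ P') : centralizerIn S P' ≤ centralizerIn S P := by
  intro c hc
  exact mem_cent.2 ⟨(mem_cent.1 hc).1, fun y hy => (mem_cent.1 hc).2 y (h hy)⟩

theorem zz_anti (h : P ≤ P') : zz T P' ≤ zz T P := by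
  intro c hc
  exact mem_zz.2 ⟨(mem_zz.1 hc).1, fun y hy => (mem_zz.1 hc).2 y (h hy)⟩

theorem zz_P1 (hPT : P ≤ T) (hcz : zz T P ≤ P) : zz T (normalizerIn T P) ≤ normalizerIn T P :=
  (zz_anti (P_le_P1 hPT)).trans (hcz.trans (P_le_P1 hPT))

/-- Elements of `N_S(P)` normalize `N_T(P)`. -/
theorem norm_P1 (hT : F.StronglyClosed T) {s x : Ω} (hs : s ∈ normalizerIn S P) (hx : x ∈ normalizerIn T P) :
    s * x * s⁻¹ ∈ normalizerIn T P :=
  ⟨sc_conj_mem F hT hs.1 hx.1, Subgroup.mul_mem _ (Subgroup.mul_mem _ hs.2 hx.2) (Subgroup.inv_mem _ hs.2)⟩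

theorem inv_mem_norm {s : Ω} (hs : s ∈ normalizerIn S P) : s⁻¹ ∈ normalizerIn S P :=
  Subgroup.inv_mem _ hs

/-- Conjugation by an element normalizing `A` and normalized... preserves the centralizer of `A` in `K`. -/
theorem conj_cent {K A : Subgroup Ω} {s d : Ω} (hKs : s ∈ K) (hA : ∀ y ∈ A, s⁻¹ * y * s ∈ A) (hd : d ∈ centralizerIn K A) :
    s * d * s⁻¹ ∈ centralizerIn K A := by
  refine mem_cent.2 ⟨K.mul_mem (K.mul_mem hKs (mem_cent.1 hd).1) (K.inv_mem hKs), fun y hy => ?_⟩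
  have h1 := (mem_cent.1 hd).2 _ (hA y hy)
  calc y * (s * d * s⁻¹) = s * ((s⁻¹ * y * s) * d) * s⁻¹ := by group
    _ = s * (d * (s⁻¹ * y * s)) * s⁻¹ := by rw [h1]
    _ = s * d * s⁻¹ * y := by group

theorem conj_inv_mem {A : Subgroup Ω} {s y : Ω} (hs : s ∈ Subgroup.normalizer (A : Set Ω)) (hy : y ∈ A) : s⁻¹ * y * s ∈ A := by
  have h1 := norm_conj (Subgroup.inv_mem _ hs) hy
  rwa [inv_inv] at h1

theorem conj_inv_P1 (hT : F.StronglyClosed T) {s y : Ω} (hs : s ∈ normalizerIn S P) (hy : y ∈ normalizerIn T P) :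
    s⁻¹ * y * s ∈ normalizerIn T P := by
  have h1 := norm_P1 hT (inv_mem_norm hs) hy
  rwa [inv_inv] at h1

theorem norm_C1 (hT : F.StronglyClosed T) {s d : Ω} (hs : s ∈ normalizerIn S P) (hd : d ∈ centralizerIn S (normalizerIn T P)) :
    s * d * s⁻¹ ∈ centralizerIn S (normalizerIn T P) :=
  conj_cent hs.1 (fun _ hy => conj_inv_P1 hT hs hy) hd

theorem norm_Z1 (hT : F.StronglyClosed T) {s z : Ω} (hs : s ∈ normalizerIn S P) (hz : z ∈ zz T (normalizerIn T P)) :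
    s * z * s⁻¹ ∈ zz T (normalizerIn T P) := by
  have hzT := (mem_zz.1 hz).1
  refine mem_zz.2 ⟨sc_conj_mem F hT hs.1 hzT, fun y hy => ?_⟩
  have h1 := (mem_zz.1 hz).2 _ (conj_inv_P1 hT hs hy)
  calc y * (s * z * s⁻¹) = s * ((s⁻¹ * y * s) * z) * s⁻¹ := by group
    _ = s * (z * (s⁻¹ * y * s)) * s⁻¹ := by rw [h1]
    _ = s * z * s⁻¹ * y := by group

/-- `R₁ = N_T(P) C_S(N_T(P))` is normalized by `N_S(P)`. -/
theorem norm_R1 (hT : F.StronglyClosed T) {s x : Ω} (hs : s ∈ normalizerIn S P)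
    (hx : x ∈ normalizerIn T P ⊔ centralizerIn S (normalizerIn T P)) :
    s * x * s⁻¹ ∈ normalizerIn T P ⊔ centralizerIn S (normalizerIn T P) := by
  have hle : normalizerIn T P ⊔ centralizerIn S (normalizerIn T P) ≤
      (normalizerIn T P ⊔ centralizerIn S (normalizerIn T P)).comap (MulAut.conj s).toMonoidHom := by
    refine sup_le (fun y hy => ?_) (fun y hy => ?_)
    · exact Subgroup.mem_sup_left (norm_P1 hT hs hy)
    · exact Subgroup.mem_sup_right (norm_C1 hT hs hy)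
  exact hle hx

theorem T_le_S (hT : F.StronglyClosed T) : T ≤ S := hT.1

/-- `R₁ ∩ T = N_T(P)`. -/
theorem R1_inf_T (hPT : P ≤ T) (hcz : zz T P ≤ P) {x : Ω} (hx : x ∈ normalizerIn T P ⊔ centralizerIn S (normalizerIn T P))
    (hxT : x ∈ T) : x ∈ normalizerIn T P := by
  obtain ⟨c, hc, r, hr, rfl⟩ := exists_mul_of_mem_rr hx
  have hrT : r ∈ T := hr.1
  have hcT : c ∈ T := by
    have := T.mul_mem hxT (T.inv_mem hrT)
    rwa [mul_inv_cancel_right] at this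
  have : c ∈ zz T (normalizerIn T P) := mem_zz.2 ⟨hcT, (mem_cent.1 hc).2⟩
  exact Subgroup.mul_mem _ (zz_P1 hPT hcz this) hr

section core

variable [Finite S] [Fact p.Prime]

/-- A coprime argument. -/
theorem coprime_step {W V Z : Subgroup Ω} {c : Ω} {m : ℕ} (hf : Mp F W f) (hcW : c ∈ W) (hVW : V ≤ W) (hZV : Z ≤ V)
    (hfc : c⁻¹ * f c ∈ V) (hV : ∀ v ∈ V, v⁻¹ * f v ∈ Z) (hZ : ∀ u ∈ Z, f u ∈ Z) (hZc : ∀ u ∈ Z, ∀ v ∈ V, u * v = v * u)
    (hm : f^[m] c = c) (hco : (orderOf (c⁻¹ * f c)).Coprime m) : c⁻¹ * f c ∈ Z := by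
  set y := c⁻¹ * f c with hy
  have hu : y⁻¹ * f y ∈ Z := hV y hfc
  set u := y⁻¹ * f y with hu'
  have hfy : f y = y * u := by rw [hu']; group
  have hfc' : f c = c * y := by rw [hy]; group
  have hpow : ∀ k : ℕ, f (y ^ k) = y ^ k * u ^ k := by
    intro k
    rw [mp_pow hf (hVW hfc) k, hfy]
    exact (Commute.mul_pow (show Commute y u from ((hZc u hu y hfc).symm)) k)
  have key : ∀ k : ℕ, ∃ w ∈ Z, f^[k] c = c * y ^ k * w := by
    intro k
    induction k with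
    | zero => exact ⟨1, Z.one_mem, by simp⟩
    | succ k ih =>
      obtain ⟨w, hw, e⟩ := ih
      refine ⟨u ^ k * f w, Z.mul_mem (Z.pow_mem hu k) (hZ w hw), ?_⟩
      rw [Function.iterate_succ_apply', e, hf.map_mul (W.mul_mem hcW (W.pow_mem (hVW hfc) k)) (hVW (hZV hw)),
        hf.map_mul hcW (W.pow_mem (hVW hfc) k), hfc', hpow k]
      simp only [pow_succ, mul_assoc]
      group
  obtain ⟨w, hw, e⟩ := key m
  rw [hm] at e
  have h1 : y ^ m = w⁻¹ := by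
    have h2 : c * (y ^ m * w) = c * 1 := by
      rw [mul_one, ← mul_assoc]
      exact e.symm
    have h3 := mul_left_cancel h2
    exact eq_inv_of_mul_eq_one_left h3
  exact mem_of_pow_mem_coprime hco (by rw [h1]; exact Z.inv_mem hw)

/-- The conjugation relation on `N_T(P)`. -/
theorem kappa_inner (hS : IsPGroup p S) (hEs : E.IsSaturated p) (hT : F.StronglyClosed T) (hSI : StrongInv F E)
    (hPT : P ≤ T) (hfnE : E.IsFullyNormalized P) (hcz : zz T P ≤ P) (hb : Mp E (normalizerIn T P) b)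
    (hbi : Img (normalizerIn T P) b (normalizerIn T P)) (hbP : Img P b P) {c : Ω} (hc : c ∈ centralizerIn S P) :
    ∃ z ∈ zz T P, ∀ y ∈ normalizerIn T P, b (c * y * c⁻¹) = (z * c) * b y * (z * c)⁻¹ := by
  have hTS : T ≤ S := hT.1
  have hTp : IsPGroup p T := hS.to_le hTS
  haveI : Finite T := finite_of_le hTS
  have hP₁T : P₁ ≤ T := normalizerIn_le_left T P
  have hP₁S : P₁ ≤ S := hP₁T.trans hTS
  have hPP₁ : P ≤ P₁ := P_le_P1 hPT
  have hcN : c ∈ normalizerIn S P := cent_le_norm hc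
  obtain ⟨bA, hbA, hbAe⟩ := hb.toAut hbi
  have hbAf : ∀ x ∈ P₁, autFun bA x = b x := by
    intro x hx
    rw [autFun_of_mem bA hx, hbAe ⟨x, hx⟩]
  haveI : Finite P₁ := finite_of_le hP₁S
  have hcP₁ : c ∈ Subgroup.normalizer (P₁ : Set Ω) := mem_normalizer_of_conj_le' (fun x hx => norm_P1 hT hcN hx)
  let yc : MulAut P₁ := normAct P₁ hcP₁
  have hyc : yc ∈ F.autGroup P₁ := autInducedBy_le_autGroup F hP₁S (normAct_mem_autInducedBy S P₁ hcP₁ hc.1)
  have hyce : ∀ x ∈ P₁, autFun yc x = c * x * c⁻¹ := by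
    intro x hx
    rw [autFun_of_mem yc hx]
    rfl
  have hyci : ∀ x ∈ P₁, autFun yc⁻¹ (c * x * c⁻¹) = x := by
    intro x hx
    rw [← hyce x hx, autFun_inv_apply]
  have hc' : yc * bA⁻¹ * yc⁻¹ ∈ E.autGroup P₁ := by
    refine strong_conj_aut hSI hP₁T (autHom_mem F hP₁S hyc) (autHom_range yc) (Subgroup.inv_mem _ hbA) _ (fun x h => ?_)
    show ((yc (bA⁻¹ (yc⁻¹ ⟨yc x, h⟩)) : P₁) : Ω) = ((yc (bA⁻¹ x) : P₁) : Ω)
    have e : (⟨yc x, h⟩ : P₁) = yc x := rfl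
    rw [e, MulAut.inv_apply_self]
  let κ : MulAut P₁ := bA * (yc * bA⁻¹ * yc⁻¹)
  have hκ : κ ∈ E.autGroup P₁ := Subgroup.mul_mem _ hbA hc'
  have hκe : ∀ x, autFun κ x = autFun bA (autFun yc (autFun bA⁻¹ (autFun yc⁻¹ x))) := by
    intro x
    show autFun (bA * (yc * bA⁻¹ * yc⁻¹)) x = _
    rw [autFun_mul_apply, autFun_mul_apply, autFun_mul_apply]
  have htriv : ∀ x ∈ P, autFun κ x = x := by
    intro x hx
    obtain ⟨u, hu, rfl⟩ := hbP.2 x hx
    have hcu : c * b u * c⁻¹ = b u := cent_conj_eq hc (hbP.1 u hu)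
    have hcu' : c * u * c⁻¹ = u := cent_conj_eq hc hu
    have h1 : autFun yc⁻¹ (b u) = b u := by
      have := hyci _ (hPP₁ (hbP.1 u hu))
      rwa [hcu] at this
    have h2 : autFun bA⁻¹ (b u) = u := by
      rw [← hbAf u (hPP₁ hu), autFun_inv_apply]
    rw [hκe, h1, h2, hyce u (hPP₁ hu), hcu', hbAf u (hPP₁ hu)]
  obtain ⟨z, hz, hze⟩ := stab_inner hTp hEs hfnE hcz hκ htriv
  refine ⟨z, hz, fun y hy => ?_⟩
  have hby : b y ∈ P₁ := hbi.1 y hy
  have hcby : c * b y * c⁻¹ ∈ P₁ := norm_P1 hT hcN hby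
  have h1 := hze _ hcby
  have h2 : autFun bA⁻¹ (b y) = y := by
    rw [← hbAf y hy, autFun_inv_apply]
  rw [hκe, hyci _ hby, h2, hyce y hy, hbAf _ (norm_P1 hT hcN hy)] at h1
  rw [h1]
  group

/-- `R₁` lies in `N_S(P)`. -/
theorem R1_le_N (hT : F.StronglyClosed T) (hPT : P ≤ T) :
    normalizerIn T P ⊔ centralizerIn S (normalizerIn T P) ≤ normalizerIn S P :=
  sup_le (fun _ hx => ⟨hT.1 hx.1, hx.2⟩) ((cent_anti (P_le_P1 hPT)).trans cent_le_norm)

theorem R1_fn (hT : F.StronglyClosed T) (hPT : P ≤ T) (hPS : P ≤ S) :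
    (normalizerSystem F P hPS).IsFullyNormalized (normalizerIn T P ⊔ centralizerIn S (normalizerIn T P)) := by
  have hR₁N : R₁ ≤ normalizerIn S P := R1_le_N hT hPT
  have hNS : normalizerIn S P ≤ S := normalizerIn_le_left S P
  haveI : Finite (normalizerIn S P) := finite_of_le hNS
  haveI : Finite ↥(R₁) := finite_of_le hR₁N
  refine ⟨hR₁N, fun Q hQ => ?_⟩
  have e : normalizerIn (normalizerIn S P) R₁ = normalizerIn S P := by
    refine le_antisymm (normalizerIn_le_left _ _) (fun s hs => ⟨hs, ?_⟩)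
    exact mem_normalizer_of_conj_le' (fun x hx => norm_R1 hT hs hx)
  rw [e]
  exact Subgroup.card_le_of_le (normalizerIn_le_left _ Q)

/-- Automorphisms of `R₁` in `N_F(P)` preserve `N_T(P)`, `C_S(N_T(P))` and `Z(N_T(P))`. -/
theorem R1_aut_facts (hT : F.StronglyClosed T) (hPT : P ≤ T) (hPS : P ≤ S) (hcz : zz T P ≤ P)
    {a : MulAut ↥(normalizerIn T P ⊔ centralizerIn S (normalizerIn T P))}
    (ha : a ∈ (normalizerSystem F P hPS).autGroup (normalizerIn T P ⊔ centralizerIn S (normalizerIn T P))) :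
    (∀ x ∈ normalizerIn T P, autFun a x ∈ normalizerIn T P) ∧
    (∀ x ∈ centralizerIn S (normalizerIn T P), autFun a x ∈ centralizerIn S (normalizerIn T P)) ∧
    (∀ x ∈ zz T (normalizerIn T P), autFun a x ∈ zz T (normalizerIn T P)) := by
  have hR₁N : R₁ ≤ normalizerIn S P := R1_le_N hT hPT
  have hNS : normalizerIn S P ≤ S := normalizerIn_le_left S P
  have hm : Mp F R₁ (autFun a) := mp_of_norm hPS (mp_autFun hR₁N ha)
  have hP₁R : P₁ ≤ R₁ := le_sup_left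
  have hP₁T : P₁ ≤ T := normalizerIn_le_left T P
  have h1 : ∀ x ∈ P₁, autFun a x ∈ P₁ := fun x hx =>
    R1_inf_T hPT hcz ((img_autFun a).1 x (hP₁R hx)) (sc_mp hT (hm.restrict hP₁R) hP₁T hx)
  have hi : Img P₁ (autFun a) P₁ := img_self (hm.restrict hP₁R) h1
  refine ⟨h1, fun x hx => ?_, fun x hx => zz_img hm hP₁R hi hP₁T hx (zz_P1 hPT hcz hx)⟩
  have hxR : x ∈ R₁ := Subgroup.mem_sup_right hx
  refine mem_cent.2 ⟨hm.mem_S hxR, fun y hy => ?_⟩
  obtain ⟨u, hu, rfl⟩ := hi.2 y hy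
  rw [← hm.map_mul (hP₁R hu) hxR, ← hm.map_mul hxR (hP₁R hu), (mem_cent.1 hx).2 u hu]

/-- The key claim: the conjugates of `G` by elements of `C_S(P)`. -/
theorem core_hD (hS : IsPGroup p S) (hF : F.IsSaturated p) (hT : F.StronglyClosed T) (hfn : F.IsFullyNormalized P)
    (hPT : P ≤ T) (hcz : zz T P ≤ P) (hG : Mp F (normalizerIn T P ⊔ centralizerIn S (normalizerIn T P)) G)
    (hGi : Img (normalizerIn T P ⊔ centralizerIn S (normalizerIn T P)) G (normalizerIn T P ⊔ centralizerIn S (normalizerIn T P)))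
    (hGP₁ : Img (normalizerIn T P) G (normalizerIn T P)) (hGP : Img P G P)
    (hGd : ∀ d ∈ centralizerIn S (normalizerIn T P), d⁻¹ * G d ∈ zz T (normalizerIn T P))
    {c : Ω} (hc : c ∈ centralizerIn S P)
    (hrel : ∃ z ∈ zz T P, ∀ y ∈ normalizerIn T P, G (c * y * c⁻¹) = (z * c) * G y * (z * c)⁻¹) :
    ∃ z ∈ zz T P, ∃ s ∈ centralizerIn S (normalizerIn T P),
      ∀ x ∈ normalizerIn T P ⊔ centralizerIn S (normalizerIn T P), G (c * x * c⁻¹) = (z * c * s) * G x * (z * c * s)⁻¹ := by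
  have hPS : P ≤ S := hfn.1
  have hPP₁ : P ≤ P₁ := P_le_P1 hPT
  have hP₁T : P₁ ≤ T := normalizerIn_le_left T P
  have hR₁N : R₁ ≤ normalizerIn S P := R1_le_N hT hPT
  have hNS : normalizerIn S P ≤ S := normalizerIn_le_left S P
  have hR₁S : R₁ ≤ S := hR₁N.trans hNS
  have hP₁R : P₁ ≤ R₁ := le_sup_left
  have hC₁R : C₁ ≤ R₁ := le_sup_right
  have hPR : P ≤ R₁ := hPP₁.trans hP₁R
  have hZP₁ : Z₁ ≤ P₁ := zz_P1 hPT hcz
  have hcN : c ∈ normalizerIn S P := cent_le_norm hc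
  obtain ⟨z, hz, hze⟩ := hrel
  have hzP : z ∈ P := hcz hz
  have hzN : z ∈ normalizerIn S P := ⟨hPS hzP, Subgroup.le_normalizer hzP⟩
  set w := z * c with hw
  have hwN : w ∈ normalizerIn S P := Subgroup.mul_mem _ hzN hcN
  have hwiN : w⁻¹ ∈ normalizerIn S P := Subgroup.inv_mem _ hwN
  -- the inverse of `G`
  obtain ⟨k₁, hk₁, hk1, hk2, hk3⟩ := hG.inverse hGi
  have hk₁P₁ : Img P₁ k₁ P₁ := by
    refine ⟨fun y hy => ?_, fun y hy => ⟨G y, hGP₁.1 y hy, hk1 y (hP₁R hy)⟩⟩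
    obtain ⟨u, hu, rfl⟩ := hGP₁.2 y hy
    rw [hk1 u (hP₁R hu)]
    exact hu
  have hk₁P : Img P k₁ P := by
    refine ⟨fun y hy => ?_, fun y hy => ⟨G y, hGP.1 y hy, hk1 y (hPR hy)⟩⟩
    obtain ⟨u, hu, rfl⟩ := hGP.2 y hy
    rw [hk1 u (hPR hu)]
    exact hu
  have hk₁Z : ∀ u ∈ Z₁, k₁ u ∈ Z₁ := fun u hu => zz_img hk₁ hP₁R hk₁P₁ hP₁T hu (hZP₁ hu)
  have hGZ : ∀ u ∈ Z₁, G u ∈ Z₁ := fun u hu => zz_img hG hP₁R hGP₁ hP₁T hu (hZP₁ hu)
  -- the map `v`
  let v : Ω → Ω := fun x => w⁻¹ * G (c * k₁ x * c⁻¹) * w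
  have hconjc : ∀ x ∈ R₁, c * x * c⁻¹ ∈ R₁ := fun x hx => norm_R1 hT hcN hx
  have hconjw : ∀ x ∈ R₁, w⁻¹ * x * w ∈ R₁ := fun x hx => by
    have := norm_R1 hT hwiN hx
    rwa [inv_inv] at this
  have hv : Mp F R₁ v := by
    have h1 : Mp F R₁ (fun x => c * k₁ x * c⁻¹) := hk₁.comp hk3.1 (Mp.conj hR₁S hc.1)
    have h2 : Mp F R₁ (fun x => G (c * k₁ x * c⁻¹)) := h1.comp (fun x hx => hconjc _ (hk3.1 x hx)) hG
    have h3 := h2.comp (Y := R₁) (fun x hx => hGi.1 _ (hconjc _ (hk3.1 x hx))) (Mp.conj (a := w⁻¹) hR₁S (hNS hwiN))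
    refine h3.congr (fun x _ => ?_)
    show w⁻¹ * G (c * k₁ x * c⁻¹) * w⁻¹⁻¹ = w⁻¹ * G (c * k₁ x * c⁻¹) * w
    rw [inv_inv]
  have hvR : ∀ x ∈ R₁, v x ∈ R₁ := fun x hx => hconjw _ (hGi.1 _ (hconjc _ (hk3.1 x hx)))
  have hvi : Img R₁ v R₁ := img_self hv hvR
  -- `v` is trivial on `P₁`
  have hvP₁ : ∀ x ∈ P₁, v x = x := by
    intro x hx
    have hkx := hk₁P₁.1 x hx
    show w⁻¹ * G (c * k₁ x * c⁻¹) * w = x
    rw [hze _ hkx, hk2 x (hP₁R hx)]
    group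
  have hvP : Img P v P := (img_refl P).congr (fun x hx => (hvP₁ x (hPP₁ hx)).symm)
  have hv' : Mp (normalizerSystem F P hPS) R₁ v := mp_norm hPS hv hPR hR₁N (fun x hx => hR₁N (hvR x hx)) hvP
  obtain ⟨a, ha, hae⟩ := hv'.toAut hvi
  have haf : ∀ x ∈ R₁, autFun a x = v x := by
    intro x hx
    rw [autFun_of_mem a hx, hae ⟨x, hx⟩]
  -- `v` on `C₁`
  have hvC : ∀ d ∈ C₁, d⁻¹ * v d ∈ Z₁ := by
    intro d hd
    have hdR : d ∈ R₁ := hC₁R hd
    set z₀ := d⁻¹ * G d with hz₀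
    have hz₀Z : z₀ ∈ Z₁ := hGd d hd
    have hGde : G d = d * z₀ := by rw [hz₀]; group
    have hkd : k₁ d = d * (k₁ z₀)⁻¹ := by
      have h1 : k₁ (G d) = d := hk1 d hdR
      rw [hGde, hk₁.map_mul hdR (hP₁R (hZP₁ hz₀Z))] at h1
      rw [eq_mul_inv_iff_mul_eq]
      exact h1
    have hz₁ : (k₁ z₀)⁻¹ ∈ Z₁ := Subgroup.inv_mem _ (hk₁Z _ hz₀Z)
    set z₁ := (k₁ z₀)⁻¹ with hz₁def
    set d' := c * d * c⁻¹ with hd'
    have hd'C : d' ∈ C₁ := norm_C1 hT hcN hd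
    set z₁' := c * z₁ * c⁻¹ with hz₁'
    have hz₁'Z : z₁' ∈ Z₁ := norm_Z1 hT hcN hz₁
    have e1 : c * k₁ d * c⁻¹ = d' * z₁' := by
      rw [hkd, hd', hz₁']
      group
    have e2 : G (c * k₁ d * c⁻¹) = d' * (d'⁻¹ * G d') * G z₁' := by
      rw [e1, hG.map_mul (hC₁R hd'C) (hP₁R (hZP₁ hz₁'Z))]
      group
    have hz₂ : d'⁻¹ * G d' ∈ Z₁ := hGd d' hd'C
    have hz₃ : (d'⁻¹ * G d') * G z₁' ∈ Z₁ := Subgroup.mul_mem _ hz₂ (hGZ _ hz₁'Z)
    set z₃ := (d'⁻¹ * G d') * G z₁' with hz₃def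
    have e3 : v d = w⁻¹ * (d' * z₃) * w := by
      show w⁻¹ * G (c * k₁ d * c⁻¹) * w = _
      rw [e2, hz₃def]
      group
    have e4 : z⁻¹ * d' * z = d' := by
      have := (mem_cent.1 hd'C).2 z (hPP₁ hzP)
      rw [mul_assoc, ← this]
      group
    have e5 : d⁻¹ * v d = w⁻¹ * z₃ * w := by
      rw [e3]
      have e6 : w⁻¹ * (d' * z₃) * w = (c⁻¹ * (z⁻¹ * d' * z) * c) * (w⁻¹ * z₃ * w) := by
        rw [hw]
        group
      rw [e6, e4, hd']
      group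
    rw [e5]
    have := norm_Z1 hT hwiN hz₃
    rwa [inv_inv] at this
  -- `v` is induced from `C₁`
  have hNfin : Finite (normalizerIn S P) := finite_of_le hNS
  have hfnR := R1_fn (F := F) hT hPT hPS
  have hF' : (normalizerSystem F P hPS).IsSaturated p := isSaturated_normalizerSystem hS F hF hfn _ (fun _ => rfl)
  have hNp : IsPGroup p (normalizerIn S P) := hS.to_le hNS
  have hFA := isFullyAutomized_of_isFullyNormalized (F := normalizerSystem F P hPS) hNp hF' hfnR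
  have hin : a ∈ autInducedBy (normalizerIn S P) R₁ := by
    refine v_induced (A := P₁) (D := C₁) (Z := Z₁) hNp hR₁N hFA hZP₁ ?_ ?_ ?_ ?_ ?_ ha ?_ ?_
    · exact fun d hd => cent_le_normalizer hd
    · intro u hu x hx
      exact (mem_zz.1 hu).2 x hx
    · exact fun b hb => (R1_aut_facts hT hPT hPS hcz hb).1
    · exact fun b hb => (R1_aut_facts hT hPT hPS hcz hb).2.1
    · exact fun b hb => (R1_aut_facts hT hPT hPS hcz hb).2.2
    · intro x hx
      rw [haf x (hP₁R hx), hvP₁ x hx]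
    · intro d hd
      rw [haf d (hC₁R hd)]
      exact hvC d hd
  obtain ⟨s, hsN, hse⟩ := (mem_autInducedBy_iff _ R₁ a).1 hin
  have hsv : ∀ x ∈ R₁, v x = s * x * s⁻¹ := by
    intro x hx
    rw [← haf x hx, autFun_of_mem a hx]
    exact hse ⟨x, hx⟩
  have hsC : s ∈ C₁ := by
    refine mem_cent.2 ⟨hNS hsN, fun y hy => ?_⟩
    have h1 := hsv y (hP₁R hy)
    rw [hvP₁ y hy] at h1
    calc y * s = s * y * s⁻¹ * s := by rw [← h1]
      _ = s * y := by group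
  refine ⟨z, hz, s, hsC, fun x hx => ?_⟩
  have hGx := hGi.1 x hx
  have h1 := hsv _ hGx
  have h2 : v (G x) = w⁻¹ * G (c * x * c⁻¹) * w := by
    show w⁻¹ * G (c * k₁ (G x) * c⁻¹) * w = _
    rw [hk1 x hx]
  rw [h2] at h1
  have h3 : G (c * x * c⁻¹) = w * (s * G x * s⁻¹) * w⁻¹ := by
    rw [← h1]
    group
  rw [h3, hw]
  group

/-- The extension of `G` to `R₁ C_S(P)`. -/
theorem core_ext (hS : IsPGroup p S) (hF : F.IsSaturated p) (hT : F.StronglyClosed T) (hfn : F.IsFullyNormalized P)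
    (hPT : P ≤ T) (hG : Mp F (R₁) G) (hGi : Img (R₁) G (R₁)) (hGP : Img P G P)
    (hD : ∀ c ∈ centralizerIn S P, ∃ z ∈ zz T P, ∃ s ∈ C₁, ∀ x ∈ R₁, G (c * x * c⁻¹) = (z * c * s) * G x * (z * c * s)⁻¹)
    (hcz : zz T P ≤ P) :
    ∃ Γ, Mp F (R₁ ⊔ centralizerIn S P) Γ ∧ (∀ x ∈ R₁, Γ x = G x) ∧
      ∀ c ∈ centralizerIn S P, c⁻¹ * Γ c ∈ zz T P ⊔ C₁ := by
  have hPS : P ≤ S := hfn.1
  have hPP₁ : P ≤ P₁ := P_le_P1 hPT
  have hR₁N : R₁ ≤ normalizerIn S P := R1_le_N hT hPT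
  have hNS : normalizerIn S P ≤ S := normalizerIn_le_left S P
  have hP₁R : P₁ ≤ R₁ := le_sup_left
  have hPR : P ≤ R₁ := hPP₁.trans hP₁R
  have hR₁S : R₁ ≤ S := hR₁N.trans hNS
  haveI : Finite ↥(R₁) := finite_of_le hR₁S
  have hNfin : Finite (normalizerIn S P) := finite_of_le hNS
  have hfnR := R1_fn (F := F) hT hPT hPS
  have hF' : (normalizerSystem F P hPS).IsSaturated p := isSaturated_normalizerSystem hS F hF hfn _ (fun _ => rfl)
  have hNp : IsPGroup p (normalizerIn S P) := hS.to_le hNS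
  have hrec := isReceptive_of_isFullyNormalized (F := normalizerSystem F P hPS) hNp hF' hfnR
  have hG' : Mp (normalizerSystem F P hPS) (R₁) G := mp_norm hPS hG hPR hR₁N (fun x hx => hR₁N (hGi.1 x hx)) hGP
  have hCn : centralizerIn S P ≤ Subgroup.normalizer ((R₁ : Subgroup Ω) : Set Ω) := fun c hc =>
    mem_normalizer_of_conj_le' (fun x hx => norm_R1 hT (cent_le_norm hc) hx)
  have hWN : R₁ ⊔ centralizerIn S P ≤ normalizerIn S P := sup_le hR₁N cent_le_norm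
  have hzN : ∀ z ∈ zz T P, z ∈ normalizerIn S P := fun z hz =>
    ⟨hPS (hcz hz), Subgroup.le_normalizer (hcz hz)⟩
  have hC₁N : C₁ ≤ normalizerIn S P := (cent_anti hPP₁).trans cent_le_norm
  obtain ⟨Γ, hΓ, hΓe⟩ := hG'.ext_rec hrec hGi (Y := R₁ ⊔ centralizerIn S P) le_sup_left (fun y hy => by
    have hy' : y ∈ centralizerIn S P ⊔ R₁ := by
      rw [sup_comm]
      exact hy
    obtain ⟨c, hc, r, hr, rfl⟩ := exists_mul_of_mem_sup' hCn hy'
    obtain ⟨z, hz, s, hs, hzs⟩ := hD c hc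
    refine ⟨hWN hy, Subgroup.mul_mem _ (hCn hc) (Subgroup.le_normalizer hr), (z * c * s) * G r, ?_, fun x hx => ?_⟩
    · exact Subgroup.mul_mem _ (Subgroup.mul_mem _ (Subgroup.mul_mem _ (hzN z hz) (cent_le_norm hc)) (hC₁N hs))
        (hR₁N (hGi.1 r hr))
    · have e1 : c * r * x * (c * r)⁻¹ = c * (r * x * r⁻¹) * c⁻¹ := by group
      rw [e1, hzs _ (Subgroup.mul_mem _ (Subgroup.mul_mem _ hr hx) (Subgroup.inv_mem _ hr)), hG.map_conj hr hx]
      group)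
  have hΓF : Mp F (R₁ ⊔ centralizerIn S P) Γ := mp_of_norm hPS hΓ
  refine ⟨Γ, hΓF, hΓe, fun c hc => ?_⟩
  obtain ⟨z, hz, s, hs, hzs⟩ := hD c hc
  have hcW : c ∈ R₁ ⊔ centralizerIn S P := Subgroup.mem_sup_right hc
  have hRW : R₁ ≤ R₁ ⊔ centralizerIn S P := le_sup_left
  have hΓcS : Γ c ∈ S := hΓF.mem_S hcW
  set a := z * c * s with ha
  have haS : a ∈ S := hNS (Subgroup.mul_mem _ (Subgroup.mul_mem _ (hzN z hz) (cent_le_norm hc)) (hC₁N hs))
  have hcent : a⁻¹ * Γ c ∈ C₁ := by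
    refine mem_cent.2 ⟨S.mul_mem (S.inv_mem haS) hΓcS, fun y hy => ?_⟩
    obtain ⟨x, hx, rfl⟩ := hGi.2 y (hP₁R hy)
    have h1 : c * x * c⁻¹ ∈ R₁ := norm_R1 hT (cent_le_norm hc) hx
    have h2 := hΓF.map_conj hcW (hRW hx)
    rw [hΓe _ h1, hΓe x hx, hzs x hx] at h2
    have h3 : a * G x = Γ c * G x * (Γ c)⁻¹ * a := by
      rw [← h2]
      group
    calc G x * (a⁻¹ * Γ c) = a⁻¹ * (a * G x) * (a⁻¹ * Γ c) := by group
      _ = a⁻¹ * (Γ c * G x * (Γ c)⁻¹ * a) * (a⁻¹ * Γ c) := by rw [h3]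
      _ = a⁻¹ * Γ c * G x := by group
  have e : c⁻¹ * Γ c = z * (s * (a⁻¹ * Γ c)) := by
    have h5 : c⁻¹ * z * c = z := by
      have := (mem_cent.1 hc).2 z (hcz hz)
      rw [mul_assoc, this]
      group
    calc c⁻¹ * Γ c = c⁻¹ * (z * c * s * (a⁻¹ * Γ c)) := by
          congr 1
          rw [← ha]
          group
      _ = (c⁻¹ * z * c) * (s * (a⁻¹ * Γ c)) := by group
      _ = _ := by rw [h5]
  rw [e]
  exact Subgroup.mul_mem _ (Subgroup.mem_sup_left hz) (Subgroup.mem_sup_right (Subgroup.mul_mem _ hs hcent))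

/-- **The step from `N_T(P)` to `P`.** -/
theorem step_core (hS : IsPGroup p S) (hF : F.IsSaturated p) (hEs : E.IsSaturated p) (hsub : E.IsSubsystemOf F)
    (hT : F.StronglyClosed T) (hSI : StrongInv F E) (hfn : F.IsFullyNormalized P) (hfnE : E.IsFullyNormalized P)
    (hPT : P ≤ T) (hcz : zz T P ≤ P) (hb : Pp E p (P₁) b) (hbP : Img P b P) (hIH : PiA F T (P₁) b) :
    PiA F T P b := by
  have hPS : P ≤ S := hfn.1
  have hTS : T ≤ S := hT.1
  have hPP₁ : P ≤ P₁ := P_le_P1 hPT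
  have hP₁T : P₁ ≤ T := normalizerIn_le_left T P
  have hR₁N : R₁ ≤ normalizerIn S P := R1_le_N hT hPT
  have hNS : normalizerIn S P ≤ S := normalizerIn_le_left S P
  have hP₁R : P₁ ≤ R₁ := le_sup_left
  have hC₁R : C₁ ≤ R₁ := le_sup_right
  have hPR : P ≤ R₁ := hPP₁.trans hP₁R
  have hR₁S : R₁ ≤ S := hR₁N.trans hNS
  have hZ₁ : Z₁ ≤ P₁ := zz_P1 hPT hcz
  obtain ⟨hbE, hbi, hbm⟩ := id hb
  have hbF : Pp F p (P₁) b := ⟨mp_sub hsub hbE, hbi, hbm⟩
  obtain ⟨g₁, hg₁, hg₁e, hg₁c⟩ := hIH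
  have hg₁P₁ : Img (P₁) g₁ (P₁) := hbi.congr (fun x hx => (hg₁e x hx).symm)
  have hg₁R : ∀ x ∈ R₁, g₁ x ∈ R₁ := pi_maps hZ₁ hg₁ hg₁P₁.1 hg₁c
  have hg₁i : Img (R₁) g₁ (R₁) := img_self hg₁ hg₁R
  obtain ⟨G, m, hG, hGe, hGm⟩ := pp_extend' hR₁S hg₁ hg₁i hP₁R hbF hg₁e
  obtain ⟨hGM, hGi, hGo⟩ := id hG
  have hGP₁ : Img (P₁) G (P₁) := hbi.congr (fun x hx => (hGe x hx).symm)
  have hGP : Img P G P := hbP.congr (fun x hx => (hGe x (hPP₁ hx)).symm)
  have hGd : ∀ d ∈ C₁, d⁻¹ * G d ∈ Z₁ := by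
    intro d hd
    rw [hGm d (hC₁R hd)]
    exact iter_zz hP₁T hZ₁ hg₁ hg₁P₁ hg₁c m hd
  have hD : ∀ c ∈ centralizerIn S P, ∃ z ∈ zz T P, ∃ s ∈ C₁, ∀ x ∈ R₁, G (c * x * c⁻¹) = (z * c * s) * G x * (z * c * s)⁻¹ := by
    intro c hc
    refine core_hD hS hF hT hfn hPT hcz hGM hGi hGP₁ hGP hGd hc ?_
    obtain ⟨z, hz, hze⟩ := kappa_inner hS hEs hT hSI hPT hfnE hcz hbE hbi hbP hc
    refine ⟨z, hz, fun y hy => ?_⟩
    rw [hGe _ hy, hGe _ (norm_P1 hT (cent_le_norm hc) hy)]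
    exact hze y hy
  obtain ⟨Γ, hΓ, hΓe, hΓc⟩ := core_ext hS hF hT hfn hPT hGM hGi hGP hD hcz
  -- the group `V`
  have hZp1 : zz T P ≤ R₁ := hcz.trans hPR
  have hVR : zz T P ⊔ C₁ ≤ R₁ := sup_le hZp1 hC₁R
  have hRW : R₁ ≤ R₁ ⊔ centralizerIn S P := le_sup_left
  have hCW : centralizerIn S P ≤ R₁ ⊔ centralizerIn S P := le_sup_right
  have hWS : R₁ ⊔ centralizerIn S P ≤ S := sup_le hR₁S inf_le_left
  have hZ₁Zp : Z₁ ≤ zz T P := zz_anti hPP₁
  have hGZp : ∀ u ∈ zz T P, G u ∈ zz T P := fun u hu => zz_img hGM hPR hGP hPT hu (hcz hu)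
  have hGV : ∀ v ∈ zz T P ⊔ C₁, G v ∈ zz T P ⊔ C₁ := by
    refine maps_sup (hGM.restrict hVR) (fun u hu => Subgroup.mem_sup_left (hGZp u hu)) (fun d hd => ?_)
    have e : G d = d * (d⁻¹ * G d) := by group
    rw [e]
    exact Subgroup.mul_mem _ (Subgroup.mem_sup_right hd) (Subgroup.mem_sup_left (hZ₁Zp (hGd d hd)))
  have hΓW : ∀ x ∈ R₁ ⊔ centralizerIn S P, Γ x ∈ R₁ ⊔ centralizerIn S P := by
    refine maps_sup hΓ (fun r hr => ?_) (fun c hc => ?_)
    · rw [hΓe r hr]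
      exact hRW (hGi.1 r hr)
    · have e : Γ c = c * (c⁻¹ * Γ c) := by group
      rw [e]
      exact Subgroup.mul_mem _ (hCW hc) (hRW (hVR (hΓc c hc)))
  have hΓi : Img (R₁ ⊔ centralizerIn S P) Γ (R₁ ⊔ centralizerIn S P) := img_self hΓ hΓW
  obtain ⟨Γ₂, m₂, hΓ₂, hΓ₂e, hΓ₂m⟩ := pp_extend' hWS hΓ hΓi hRW hG hΓe
  obtain ⟨hΓ₂M, hΓ₂i, m₀, hm₀, hΓ₂o⟩ := hΓ₂
  have hiter : ∀ (n : ℕ) (c : Ω), c ∈ centralizerIn S P → c⁻¹ * Γ^[n] c ∈ zz T P ⊔ C₁ := by
    intro n c hc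
    induction n with
    | zero =>
      show c⁻¹ * c ∈ _
      rw [inv_mul_cancel]
      exact Subgroup.one_mem _
    | succ n ih =>
      have e : Γ^[n] c = c * (c⁻¹ * Γ^[n] c) := by group
      rw [Function.iterate_succ_apply', e, hΓ.map_mul (hCW hc) (hRW (hVR ih)), ← mul_assoc]
      refine Subgroup.mul_mem _ (hΓc c hc) ?_
      rw [hΓe _ (hVR ih)]
      exact hGV _ ih
  refine ⟨Γ₂, hΓ₂M.restrict (sup_le (hPR.trans hRW) hCW), fun x hx => ?_, fun c hc => ?_⟩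
  · rw [hΓ₂e x (hPR hx), hGe x (hPP₁ hx)]
  have hcW : c ∈ R₁ ⊔ centralizerIn S P := hCW hc
  have hy : c⁻¹ * Γ₂ c ∈ zz T P ⊔ C₁ := by
    rw [hΓ₂m c hcW]
    exact hiter m₂ c hc
  have hcomm : ∀ u ∈ zz T P, ∀ v ∈ zz T P ⊔ C₁, u * v = v * u := by
    intro u hu v hv
    have hle : zz T P ⊔ C₁ ≤ Subgroup.centralizer ((zz T P : Subgroup Ω) : Set Ω) := by
      refine sup_le (fun w hw => Subgroup.mem_centralizer_iff.2 fun h hh => ?_) (fun d hd => Subgroup.mem_centralizer_iff.2 fun h hh => ?_)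
      · exact (mem_zz.1 hw).2 h (hcz hh)
      · exact (mem_cent.1 hd).2 h (hPP₁ (hcz hh))
    exact Subgroup.mem_centralizer_iff.1 (hle hv) u hu
  have hV : ∀ v ∈ zz T P ⊔ C₁, v⁻¹ * Γ₂ v ∈ zz T P := by
    intro v hv
    have hn : zz T P ≤ Subgroup.normalizer ((C₁ : Subgroup Ω) : Set Ω) := by
      intro u hu
      rw [Subgroup.mem_normalizer_iff]
      intro d
      have hud : ∀ d ∈ C₁, u * d * u⁻¹ = d := by
        intro d hd
        have := (mem_cent.1 hd).2 u (hPP₁ (hcz hu))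
        rw [this]
        group
      constructor
      · intro hd
        rw [hud d hd]
        exact hd
      · intro hd
        have h1 : d = u⁻¹ * (u * d * u⁻¹) * u := by group
        have h2 : u⁻¹ * (u * d * u⁻¹) * u⁻¹⁻¹ = u * d * u⁻¹ := by
          have := (mem_cent.1 hd).2 u⁻¹ (hPP₁ (hcz (Subgroup.inv_mem _ hu)))
          rw [this]
          group
        rw [inv_inv] at h2
        rw [h1, h2]
        exact hd
    obtain ⟨u, hu, d, hd, rfl⟩ := exists_mul_of_mem_sup' hn hv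
    have huR := hZp1 hu
    have hdR := hC₁R hd
    rw [hΓ₂e _ (hVR hv), hGM.map_mul huR hdR]
    have e : (u * d)⁻¹ * (G u * G d) = d⁻¹ * (u⁻¹ * G u) * d * (d⁻¹ * G d) := by group
    have hw : u⁻¹ * G u ∈ zz T P := Subgroup.mul_mem _ (Subgroup.inv_mem _ hu) (hGZp u hu)
    have e2 : d⁻¹ * (u⁻¹ * G u) * d = u⁻¹ * G u := by
      have := (mem_cent.1 hd).2 _ (hPP₁ (hcz hw))
      rw [mul_assoc, this]
      group
    rw [e, e2]
    exact Subgroup.mul_mem _ hw (hZ₁Zp (hGd d hd))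
  have hco : (orderOf (c⁻¹ * Γ₂ c)).Coprime m₀ := by
    have hyS : c⁻¹ * Γ₂ c ∈ S := S.mul_mem (S.inv_mem (hWS hcW)) (hΓ₂M.mem_S hcW)
    obtain ⟨j, hj⟩ := hS ⟨_, hyS⟩
    have h1 : (c⁻¹ * Γ₂ c) ^ p ^ j = 1 := congrArg Subtype.val hj
    have h2 := orderOf_dvd_of_pow_eq_one h1
    refine Nat.Coprime.coprime_dvd_left h2 ?_
    exact (Nat.Coprime.pow_right j hm₀).symm
  exact coprime_step hΓ₂M hcW (hVR.trans hRW) le_sup_left hy hV (fun u hu => by
    rw [hΓ₂e u (hZp1 hu)]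
    exact hGZp u hu) hcomm (hΓ₂o c hcW) hco

/-- Full normalization in `F` gives full normalization in the subsystem over a strongly closed subgroup. -/
theorem fn_sub (hS : IsPGroup p S) (hF : F.IsSaturated p) (hsub : E.IsSubsystemOf F) (hT : F.StronglyClosed T)
    (hfn : F.IsFullyNormalized P) (hPT : P ≤ T) : E.IsFullyNormalized P := by
  have hTS : T ≤ S := hT.1
  have hFA := isFullyAutomized_of_isFullyNormalized F hS hF hfn
  have hrc := isReceptive_of_isFullyNormalized F hS hF hfn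
  refine ⟨hPT, fun Q hQ => ?_⟩
  have hQF : F.IsConj Q P := by
    obtain ⟨φ, hφ, hr⟩ := hQ
    exact isConj_symm F ⟨φ, hsub P hφ, hr⟩
  obtain ⟨φ, hφ, hφv, -⟩ := exists_normalizer_map F hS hFA hrc hQF
  have hle : normalizerIn T Q ≤ normalizerIn S Q := fun x hx => ⟨hTS hx.1, hx.2⟩
  haveI : Finite (normalizerIn T P) := finite_of_le ((normalizerIn_le_left T P).trans hTS)
  refine card_le_of_hom (φ.comp (Subgroup.inclusion hle)) ?_ (fun x => ?_)
  · exact (F.injective_of_mem hφ).comp (Subgroup.inclusion_injective hle)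
  · refine ⟨?_, (hφv _).2⟩
    have hres : φ.comp (Subgroup.inclusion hle) ∈ F.Hom (normalizerIn T Q) := restrict_mem F hle hφ
    exact hT.2 _ (normalizerIn_le_left T Q) _ hres x

/-- Conjugation by an element of `N_T(P)` has the extension property. -/
theorem pi_conj (hT : F.StronglyClosed T) (hPS : P ≤ S) {t : Ω} (ht : t ∈ normalizerIn T P) :
    PiA F T P (fun x => t * x * t⁻¹) := by
  have htS : t ∈ S := hT.1 ht.1
  refine ⟨fun x => t * x * t⁻¹, Mp.conj (sup_le hPS inf_le_left) htS, fun _ _ => rfl, fun c hc => ?_⟩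
  refine mem_zz.2 ⟨?_, fun y hy => ?_⟩
  · have h1 : c⁻¹ * t * c ∈ T := by
      have := sc_conj_mem F hT (S.inv_mem (mem_cent.1 hc).1) ht.1
      rwa [inv_inv] at this
    have e : c⁻¹ * (t * c * t⁻¹) = (c⁻¹ * t * c) * t⁻¹ := by group
    rw [e]
    exact T.mul_mem h1 (T.inv_mem ht.1)
  · have h1 : t⁻¹ * y * t ∈ P := conj_inv_mem ht.2 hy
    have h2 := (mem_cent.1 hc).2 _ h1
    have h3 := (mem_cent.1 hc).2 _ hy
    have h4 : y * (t * c * t⁻¹) = t * c * t⁻¹ * y := by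
      calc y * (t * c * t⁻¹) = t * ((t⁻¹ * y * t) * c) * t⁻¹ := by group
        _ = t * (c * (t⁻¹ * y * t)) * t⁻¹ := by rw [h2]
        _ = t * c * t⁻¹ * y := by group
    calc y * (c⁻¹ * (t * c * t⁻¹)) = c⁻¹ * (c * y * c⁻¹) * (t * c * t⁻¹) := by group
      _ = c⁻¹ * y * (t * c * t⁻¹) := by rw [← h3]; group
      _ = c⁻¹ * (y * (t * c * t⁻¹)) := by group
      _ = c⁻¹ * (t * c * t⁻¹ * y) := by rw [h4]
      _ = c⁻¹ * (t * c * t⁻¹) * y := by group

/-- The decomposition of an element of a finite group in its `p`-part and its `p'`-part. -/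
theorem exists_parts {A : Type*} [Group A] [Finite A] (a : A) :
    ∃ u v : ℕ, a = a ^ u * a ^ v ∧ (∃ k : ℕ, (a ^ u) ^ p ^ k = 1) ∧ ∃ q : ℕ, q.Coprime p ∧ (a ^ v) ^ q = 1 := by
  have hp : p.Prime := Fact.out
  obtain ⟨k, q, hq, hN⟩ := Nat.exists_eq_pow_mul_and_not_dvd (orderOf_pos a).ne' p hp.ne_one
  have hco : (p ^ k).Coprime q := Nat.Coprime.pow_left k (hp.coprime_iff_not_dvd.2 hq)
  obtain ⟨u, hu1, hu2⟩ := Nat.chineseRemainder hco 1 0
  obtain ⟨v, hv1, hv2⟩ := Nat.chineseRemainder hco 0 1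
  refine ⟨u, v, ?_, ⟨k, ?_⟩, q, (hp.coprime_iff_not_dvd.2 hq).symm, ?_⟩
  · rw [← pow_add]
    conv_lhs => rw [← pow_one a]
    rw [pow_eq_pow_iff_modEq, hN]
    apply (Nat.modEq_and_modEq_iff_modEq_mul hco).1
    constructor
    · have := (hu1.add hv1)
      simpa using this.symm
    · have := (hu2.add hv2)
      simpa using this.symm
  · obtain ⟨d, hd⟩ := (Nat.modEq_zero_iff_dvd).1 hu2
    rw [← pow_mul, hd]
    have : q * d * p ^ k = orderOf a * d := by rw [hN]; ring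
    rw [this, pow_mul, pow_orderOf_eq_one, one_pow]
  · obtain ⟨d, hd⟩ := (Nat.modEq_zero_iff_dvd).1 hv1
    rw [← pow_mul, hd]
    have : p ^ k * d * q = orderOf a * d := by rw [hN]; ring
    rw [this, pow_mul, pow_orderOf_eq_one, one_pow]

/-- Elements of `Aut_E(P)` have the extension property, for `P` fully normalized, given this for `N_T(P)`. -/
theorem pi_fn (hS : IsPGroup p S) (hF : F.IsSaturated p) (hEs : E.IsSaturated p) (hsub : E.IsSubsystemOf F)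
    (hT : F.StronglyClosed T) (hSI : StrongInv F E) (hfn : F.IsFullyNormalized P) (hPT : P ≤ T) (hcz : zz T P ≤ P)
    (hIH : ∀ a ∈ E.autGroup (P₁), PiA F T (P₁) (autFun a)) {α : MulAut P} (hα : α ∈ E.autGroup P) :
    PiA F T P (autFun α) := by
  have hPS : P ≤ S := hfn.1
  have hTS : T ≤ S := hT.1
  have hTp : IsPGroup p T := hS.to_le hTS
  haveI : Finite T := finite_of_le hTS
  haveI : Finite P := finite_of_le hPS
  haveI : Finite (MulAut P) := Cfsg.Agent.Lib.Fusion.Basic.finite_mulAut_of_finite (A := P)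
  have hfnE : E.IsFullyNormalized P := fn_sub hS hF hsub hT hfn hPT
  have hFA := isFullyAutomized_of_isFullyNormalized (F := E) hTp hEs hfnE
  have hrE := isReceptive_of_isFullyNormalized (F := E) hTp hEs hfnE
  have hrF := isReceptive_of_isFullyNormalized F hS hF hfn
  have hPP₁ : P ≤ P₁ := P_le_P1 hPT
  have hP₁T : P₁ ≤ T := normalizerIn_le_left T P
  let FF : Subgroup (MulAut P) := finSub
    { carrier := {a | a ∈ E.autGroup P ∧ PiA F T P (autFun a)}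
      one_mem' := ⟨Subgroup.one_mem _, (pi_refl hPS).congr (fun x _ => (autFun_one_apply x).symm)⟩
      mul_mem' := by
        rintro a b ⟨h1, h2⟩ ⟨h3, h4⟩
        exact ⟨Subgroup.mul_mem _ h1 h3, (pi_comp hPT hcz h2 h4 (img_autFun a) (img_autFun b)).congr
          (fun x _ => (autFun_mul_apply a b x).symm)⟩ }
  have hFF : ∀ {a}, a ∈ FF ↔ a ∈ E.autGroup P ∧ PiA F T P (autFun a) := Iff.rfl
  have hFFA : FF ≤ E.autGroup P := fun a ha => ha.1
  have hWFF : autInducedBy T P ≤ FF := by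
    intro a ha
    refine ⟨autInducedBy_le_autGroup E hPT ha, ?_⟩
    obtain ⟨t, ht, hte⟩ := (mem_autInducedBy_iff T P a).1 ha
    have htN : t ∈ normalizerIn T P := ⟨ht, mem_normalizer_of_conj P a t hte⟩
    refine (pi_conj hT hPS htN).congr (fun x hx => ?_)
    rw [autFun_of_mem a hx]
    exact (hte ⟨x, hx⟩).symm
  -- conjugates
  have hnormal : ∀ δ ∈ E.autGroup P, ∀ a ∈ FF, δ * a * δ⁻¹ ∈ FF := by
    intro δ hδ a ha
    have hδi := Subgroup.inv_mem _ hδ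
    refine ⟨Subgroup.mul_mem _ (Subgroup.mul_mem _ hδ ha.1) hδi, ?_⟩
    refine pi_pull hPT hPT hcz hrF (h := autFun δ⁻¹) (f' := autFun a) (mp_sub hsub (mp_autFun hPT hδi))
      (img_autFun δ⁻¹) (img_autFun a).1 ha.2 (fun x _ => ?_) (img_autFun _).1
    rw [autFun_mul_apply, autFun_mul_apply, autFun_inv_apply]
  have hsyl : IsSylowIn p (autInducedBy T P) (E.autGroup P) := hFA.2
  have hWp : IsPGroup p (autInducedBy T P) := isPGroup_autInducedBy P hTp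
  have hsylFF : IsSylowIn p (autInducedBy T P) FF := hsyl.mono (autInducedBy_le_autGroup E hPT) hWFF hFFA
  -- `p`-elements
  have hpelt : ∀ a ∈ E.autGroup P, (∃ k : ℕ, a ^ p ^ k = 1) → a ∈ FF := by
    rintro a ha ⟨k, hk⟩
    have hZp : IsPGroup p (Subgroup.zpowers a) := by
      rintro ⟨g, n, rfl⟩
      refine ⟨k, Subtype.ext ?_⟩
      show (a ^ n) ^ p ^ k = 1
      rw [← zpow_natCast, ← zpow_mul, mul_comm, zpow_mul, zpow_natCast, hk, one_zpow]
    obtain ⟨δ, hδ, hδe⟩ := hsyl.exists_conj ((Subgroup.zpowers_le).2 ha) hZp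
    have h1 := hδe a (Subgroup.mem_zpowers a)
    have h2 := hnormal δ⁻¹ (Subgroup.inv_mem _ hδ) _ (hWFF h1)
    have e : δ⁻¹ * (δ * a * δ⁻¹) * δ⁻¹⁻¹ = a := by group
    rwa [e] at h2
  -- `p'`-elements normalizing `Aut_T(P)`
  have hpprime : ∀ a ∈ E.autGroup P, (∃ q : ℕ, q.Coprime p ∧ a ^ q = 1) →
      (∀ c ∈ autInducedBy T P, a * c * a⁻¹ ∈ autInducedBy T P) → a ∈ FF := by
    rintro a ha ⟨q, hq, hqe⟩ hn
    refine ⟨ha, ?_⟩
    have hpp : Pp E p P (autFun a) := by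
      refine ⟨mp_autFun hPT ha, img_autFun a, q, hq, fun x hx => ?_⟩
      rw [show x = ((⟨x, hx⟩ : P) : Ω) from rfl, iterate_autFun, hqe]
      rfl
    obtain ⟨g₀, hg₀, hg₀e⟩ := (mp_autFun hPT ha).ext_rec hrE (img_autFun a) hPP₁ (fun y hy => by
      have h1 : y ∈ T := hy.1
      have h2 : y ∈ Subgroup.normalizer (P : Set Ω) := hy.2
      refine ⟨h1, h2, ?_⟩
      have hc : normAct P h2 ∈ autInducedBy T P := normAct_mem_autInducedBy T P h2 h1
      obtain ⟨u, hu, hue⟩ := (mem_autInducedBy_iff T P _).1 (hn _ hc)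
      refine ⟨u, hu, fun x hx => ?_⟩
      have hx' : y * x * y⁻¹ ∈ P := norm_conj h2 hx
      have h3 := hue (a ⟨x, hx⟩)
      have e1 : (a * normAct P h2 * a⁻¹) (a ⟨x, hx⟩) = a (normAct P h2 ⟨x, hx⟩) := by
        show a (normAct P h2 (a⁻¹ (a ⟨x, hx⟩))) = _
        simp
      rw [e1] at h3
      rw [autFun_of_mem _ hx', autFun_of_mem _ hx]
      exact h3)
    have hg₀P₁ : ∀ x ∈ P₁, g₀ x ∈ P₁ := by
      intro x hx
      refine ⟨hg₀.mem_S hx, mem_normalizer_of_conj_le' (U := P) (fun y hy => ?_)⟩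
      obtain ⟨u, hu, rfl⟩ := (img_autFun a).2 y hy
      rw [← hg₀e u hu, ← hg₀.map_conj hx (hPP₁ hu), hg₀e _ (norm_conj hx.2 hu)]
      exact (img_autFun a).1 _ (norm_conj hx.2 hu)
    have hg₀i : Img (P₁) g₀ (P₁) := img_self hg₀ hg₀P₁
    obtain ⟨b, m, hb, hbe, -⟩ := pp_extend' hP₁T hg₀ hg₀i hPP₁ hpp hg₀e
    have hbP : Img P b P := (img_autFun a).congr (fun x hx => (hbe x hx).symm)
    obtain ⟨a₁, ha₁, ha₁e⟩ := hb.1.toAut hb.2.1
    have hIH' : PiA F T (P₁) b := (hIH a₁ ha₁).congr (fun x hx => by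
      rw [autFun_of_mem a₁ hx]
      exact ha₁e ⟨x, hx⟩)
    exact (step_core hS hF hEs hsub hT hSI hfn hfnE hPT hcz hb hbP hIH').congr (fun x hx => hbe x hx)
  -- the Frattini argument
  have hCFF : (autInducedBy T P).map (MulAut.conj α).toMonoidHom ≤ FF := by
    rintro _ ⟨c, hc, rfl⟩
    exact hnormal α hα c (hWFF hc)
  have hCp : IsPGroup p ((autInducedBy T P).map (MulAut.conj α).toMonoidHom) := hWp.map _
  obtain ⟨w, hw, hwc⟩ := hsylFF.exists_conj hCFF hCp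
  let γ : MulAut P := w * α
  have hγ : γ ∈ E.autGroup P := Subgroup.mul_mem _ (hFFA hw) hα
  have hγn : ∀ c ∈ autInducedBy T P, γ * c * γ⁻¹ ∈ autInducedBy T P := by
    intro c hc
    have := hwc _ ⟨c, hc, rfl⟩
    have e : w * (MulAut.conj α).toMonoidHom c * w⁻¹ = γ * c * γ⁻¹ := by
      show w * (α * c * α⁻¹) * w⁻¹ = (w * α) * c * (w * α)⁻¹
      group
    rwa [e] at this
  obtain ⟨u, v, hγe, hu, q, hq, hv⟩ := exists_parts (p := p) γ
  have hpow : ∀ n : ℕ, ∀ c ∈ autInducedBy T P, γ ^ n * c * (γ ^ n)⁻¹ ∈ autInducedBy T P := by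
    intro n
    induction n with
    | zero =>
      intro c hc
      simpa using hc
    | succ n ih =>
      intro c hc
      have e : γ ^ (n + 1) * c * (γ ^ (n + 1))⁻¹ = γ ^ n * (γ * c * γ⁻¹) * (γ ^ n)⁻¹ := by
        rw [pow_succ]
        group
      rw [e]
      exact ih _ (hγn c hc)
  have hγv : γ ^ v ∈ FF := hpprime _ (Subgroup.pow_mem _ hγ v) ⟨q, hq, hv⟩ (hpow v)
  have hγu : γ ^ u ∈ FF := hpelt _ (Subgroup.pow_mem _ hγ u) hu
  have hγFF : γ ∈ FF := by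
    rw [hγe]
    exact Subgroup.mul_mem _ hγu hγv
  have hαe : α = w⁻¹ * γ := by
    show α = w⁻¹ * (w * α)
    group
  rw [hαe]
  exact (FF.mul_mem (FF.inv_mem hw) hγFF).2

/-- **The extension theorem at lower levels.** For `E` normal in `F` over `T` and `P ≤ T` such that `C_T(Q) ≤ Q` for all
`F`-conjugates `Q` of `P`, every `α ∈ Aut_E(P)` extends to a map `β` of `F` on `P C_S(P)` with `c⁻¹ β(c) ∈ Z(P)`
for `c ∈ C_S(P)`. -/
theorem pi_main (hS : IsPGroup p S) (hN : E.IsNormalIn F p) :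
    ∀ (P : Subgroup Ω), P ≤ T → (∀ Q, F.IsConj P Q → zz T Q ≤ Q) → ∀ α ∈ E.autGroup P, PiA F T P (autFun α) := by
  obtain ⟨⟨hEs, hF, hsub, hT, hInv, hFr⟩, hext⟩ := hN
  have hSI : StrongInv F E := strong_of_inv hInv hFr
  have hTS : T ≤ S := hT.1
  have hTp : IsPGroup p T := hS.to_le hTS
  haveI : Finite T := finite_of_le hTS
  have key : ∀ (d : ℕ) (P : Subgroup Ω), Nat.card T - Nat.card P = d → P ≤ T → (∀ Q, F.IsConj P Q → zz T Q ≤ Q) →
      ∀ α ∈ E.autGroup P, PiA F T P (autFun α) := by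
    intro d
    induction d using Nat.strong_induction_on with
    | _ d ih =>
    intro P hd hPT hc α hα
    by_cases hPe : P = T
    · subst hPe
      obtain ⟨β, hβ, hβ1, hβ2⟩ := hext α hα
      refine ⟨autFun β, mp_autFun (sup_le hTS inf_le_left) hβ, fun x hx => ?_, fun c hc => ?_⟩
      · rw [autFun_of_mem β (Subgroup.mem_sup_left hx), autFun_of_mem α hx]
        exact hβ1 ⟨x, hx⟩
      · rw [autFun_of_mem β (Subgroup.mem_sup_right hc)]
        exact hβ2 ⟨c, Subgroup.mem_sup_right hc⟩ hc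
    have hPS : P ≤ S := hPT.trans hTS
    obtain ⟨R, hPR, hfn⟩ := exists_isFullyNormalized F hPS
    obtain ⟨φ, hφ, hφr⟩ := id hPR
    have hRT : R ≤ T := by
      rw [← hφr]
      rintro _ ⟨x, rfl⟩
      exact hT.2 P hPT φ hφ x
    have hcR : ∀ Q, F.IsConj R Q → zz T Q ≤ Q := fun Q hQ => hc Q (isConj_trans F hPR hQ)
    have hczR : zz T R ≤ R := hcR R (isConj_refl F hfn.1)
    have hcard : Nat.card R = Nat.card P := (isConj_card_eq F hPR).symm
    have hPlt : Nat.card P < Nat.card T := by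
      refine lt_of_le_of_ne (Subgroup.card_le_of_le hPT) (fun e => hPe ?_)
      exact Subgroup.eq_of_le_of_card_ge hPT e.ge
    have hRlt : R < T := by
      refine lt_of_le_of_ne hRT (fun e => ?_)
      rw [e] at hcard
      omega
    have hRN : R < normalizerIn T R := lt_normalizerIn hTp hRlt
    have hNT : normalizerIn T R ≤ T := normalizerIn_le_left T R
    have hNcard : Nat.card R < Nat.card (normalizerIn T R) := by
      haveI : Finite (normalizerIn T R) := finite_of_le (hNT.trans hTS)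
      refine lt_of_le_of_ne (Subgroup.card_le_of_le hRN.le) (fun e => hRN.ne ?_)
      exact Subgroup.eq_of_le_of_card_ge hRN.le e.ge
    have hNle : Nat.card (normalizerIn T R) ≤ Nat.card T := Subgroup.card_le_of_le hNT
    have hIH : ∀ a ∈ E.autGroup (normalizerIn T R), PiA F T (normalizerIn T R) (autFun a) := by
      intro a ha
      refine ih _ (by omega) (normalizerIn T R) rfl hNT (fun Q' hQ' => ?_) a ha
      obtain ⟨φ', hφ', hr'⟩ := hQ'
      have hm : Mp F (normalizerIn T R) (extOf φ') := mp_of_hom hφ'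
      obtain ⟨R', hR'⟩ := (hm.restrict hRN.le).exists_img
      have hcR' := hcR R' ((hm.restrict hRN.le).isConj hR')
      have hle : R' ≤ Q' := by
        intro y hy
        obtain ⟨x, hx, rfl⟩ := hR'.2 y hy
        rw [extOf_of_mem φ' (hRN.le hx), ← hr']
        exact ⟨_, rfl⟩
      exact (zz_anti hle).trans (hcR'.trans hle)
    have hφiso : Img P (extOf φ) R := by
      refine ⟨fun x hx => ?_, fun y hy => ?_⟩
      · rw [extOf_of_mem φ hx, ← hφr]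
        exact ⟨_, rfl⟩
      · rw [← hφr] at hy
        obtain ⟨x, rfl⟩ := hy
        exact ⟨x, x.2, extOf_coe φ x⟩
    let e : P ≃* R := isoOf φ (F.injective_of_mem hφ) hφr
    have hev : ∀ x : P, ((e x : R) : Ω) = φ x := fun _ => rfl
    let a' : MulAut R := MulAut.congr e α
    have ha'e : ∀ x : P, a' (e x) = e (α x) := by
      intro x
      show e (α (e.symm (e x))) = e (α x)
      simp
    have ha' : a' ∈ E.autGroup R := by
      refine strong_conj_aut hSI hPT hφ hφr hα a' (fun x h => ?_)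
      have e1 : (⟨φ x, h⟩ : R) = e x := Subtype.ext (hev x).symm
      rw [e1, ha'e]
      rfl
    have hpi := pi_fn hS hF hEs hsub hT hSI hfn hRT hczR hIH ha'
    have hrF := isReceptive_of_isFullyNormalized F hS hF hfn
    refine pi_pull hPT hRT hczR hrF (h := extOf φ) (f' := autFun a') (mp_of_hom hφ) hφiso (img_autFun a').1 hpi
      (fun x hx => ?_) (img_autFun α).1
    rw [autFun_of_mem α hx, extOf_coe φ, extOf_of_mem φ hx, ← hev, ← hev]
    have e2 : autFun a' ((e ⟨x, hx⟩ : R) : Ω) = ((a' (e ⟨x, hx⟩) : R) : Ω) := autFun_coe a' _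
    rw [e2, ha'e]
  exact fun P hPT hc α hα => key _ P rfl hPT hc α hα

end core

end Cfsg.Agent.Lib.FusionExt.LowPi
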