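import Cfsg.Agent.Lib.FusionExt.Comp1
import Cfsg.Agent.Lib.FusionExt.FactorExt

/-!
# Maps on subgroups of the product of two commuting strongly closed subgroups (helper92)

If `T₁`, `T₂` are strongly closed and commute, every map on `Q ≤ T₁T₂` extends to the product of the two
projections of `Q`.
-/

set_option autoImplicit false
set_option linter.unusedSectionVars false

namespace Cfsg.Agent.Lib.FusionExt.CProd1

open Cfsg Cfsg.FusionSystem Cfsg.Agent.Lib.Fusion.Basic Cfsg.Agent.Lib.Fusion.GroupSystem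
open Cfsg.Agent.Lib.FusionExt.MapApi Cfsg.Agent.Lib.FusionExt.Basic Cfsg.Agent.Lib.FusionExt.Normal
open Cfsg.Agent.Lib.FusionExt.SatCrit1 Cfsg.Agent.Lib.FusionExt.PowerSys Cfsg.Agent.Lib.FusionExt.PowerGen
open Cfsg.Agent.Lib.FusionExt.PrimeRes1 Cfsg.Agent.Lib.Fusion.Saturation Cfsg.Agent.Lib.Fusion.Saturation2
open Cfsg.Agent.Lib.FusionExt.PowerE Cfsg.Agent.Lib.FusionExt.LowPi Cfsg.Agent.Lib.FusionExt.FixQ
open Cfsg.Agent.Lib.FusionExt.Comp1 Cfsg.Agent.Lib.FusionExt.FactorExt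

variable {Ω : Type*} [Group Ω] {S T₁ T₂ A : Subgroup Ω} {F : FusionSystem S} {p : ℕ}
variable {Q R X Y : Subgroup Ω} {g f h θ : Ω → Ω}

/-- The projection of `Q` to `T₂` along `T₁`. -/
def e2 (T₁ T₂ Q : Subgroup Ω) : Subgroup Ω := (Q ⊔ T₁) ⊓ T₂

theorem e2_mono (h : Q ≤ R) : e2 T₁ T₂ Q ≤ e2 T₁ T₂ R := inf_le_inf_right _ (sup_le_sup_right h _)

theorem inf_le_e2 : T₁ ⊓ T₂ ≤ e2 T₁ T₂ Q := inf_le_inf_right _ le_sup_right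

section main

variable [Finite S] [Fact p.Prime]

theorem sc_sup (hS : IsPGroup p S) (hF : F.IsSaturated p) (hT₁ : F.StronglyClosed T₁) (hT₂ : F.StronglyClosed T₂) :
    F.StronglyClosed (T₁ ⊔ T₂) := by
  have hle := sup_le hT₁.1 hT₂.1
  refine ⟨hle, fun P hP φ hφ x => ?_⟩
  obtain ⟨Φ, hΦ, hΦe⟩ := exists_extMod F hS hF hT₁ P φ hφ
  have hm : Mp F (P ⊔ T₁) (extOf Φ) := mp_of_hom hΦ
  obtain ⟨a, ha, b, hb, e⟩ := exists_mul_of_mem_sup' (hT₁.1.trans (sc_le_normalizer F hT₂)) (hP x.2)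
  have haU : a ∈ P ⊔ T₁ := Subgroup.mem_sup_right ha
  have hxU : (x : Ω) ∈ P ⊔ T₁ := Subgroup.mem_sup_left x.2
  have hbU : b ∈ P ⊔ T₁ := by
    have : b = a⁻¹ * x := by rw [e]; group
    rw [this]
    exact Subgroup.mul_mem _ (Subgroup.inv_mem _ haU) hxU
  have h1 : extOf Φ x = extOf Φ a * extOf Φ b := by rw [e, hm.map_mul haU hbU]
  have h2 : extOf Φ a ∈ T₁ := sc_mp hT₁ (hm.restrict le_sup_right) le_rfl ha
  have h3 : extOf Φ b ∈ T₂ := sc_mp hT₂ (hm.restrict inf_le_left) inf_le_right (Subgroup.mem_inf.2 ⟨hbU, hb⟩)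
  have h4 := hΦe x
  have h5 : Φ (Subgroup.inclusion le_sup_left x) = extOf Φ x := (extOf_of_mem Φ hxU).symm
  rw [h5] at h4
  have e2 : φ x = extOf Φ a * extOf Φ b * ((φ x)⁻¹ * extOf Φ x)⁻¹ := by
    rw [← h1]
    group
  rw [e2]
  exact Subgroup.mul_mem _ (Subgroup.mul_mem _ (Subgroup.mem_sup_left h2) (Subgroup.mem_sup_right h3))
    (Subgroup.inv_mem _ (Subgroup.mem_sup_left h4))

/-- Automorphisms stabilizing a strongly closed subgroup of `R` and acting trivially on the quotient are induced by `S`. -/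
theorem stab_induced (hS : IsPGroup p S) (hF : F.IsSaturated p) (hfn : F.IsFullyNormalized R) (hA : F.StronglyClosed A)
    (hAR : A ≤ R) {b : MulAut R} (hb : b ∈ F.autGroup R) (h1 : ∀ x ∈ R, x⁻¹ * autFun b x ∈ A)
    (h2 : ∀ z ∈ A, autFun b z = z) : b ∈ autInducedBy S R := by
  have hRS : R ≤ S := hfn.1
  have hRp : IsPGroup p R := hS.to_le hRS
  haveI : Finite R := finite_of_le hRS
  haveI : Finite (MulAut R) := Cfsg.Agent.Lib.Fusion.Basic.finite_mulAut_of_finite (A := R)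
  have hFA := isFullyAutomized_of_isFullyNormalized (F := F) hS hF hfn
  let W : Subgroup (MulAut R) := finSub
    { carrier := {b | b ∈ F.autGroup R ∧ (∀ x ∈ R, x⁻¹ * autFun b x ∈ A) ∧ ∀ z ∈ A, autFun b z = z}
      one_mem' := ⟨Subgroup.one_mem _, fun x _ => by
        rw [autFun_one_apply, inv_mul_cancel]
        exact Subgroup.one_mem _, fun z _ => autFun_one_apply z⟩
      mul_mem' := by
        rintro b₁ b₂ ⟨h1, h2, h2'⟩ ⟨h3, h4, h4'⟩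
        refine ⟨Subgroup.mul_mem _ h1 h3, fun x hx => ?_, fun z hz => ?_⟩
        · have hr := h4 x hx
          have e : autFun b₂ x = x * (x⁻¹ * autFun b₂ x) := by group
          rw [autFun_mul_apply, e, autFun_mul b₁ hx (hAR hr), h2' _ hr, ← mul_assoc]
          exact Subgroup.mul_mem _ (h2 x hx) hr
        · rw [autFun_mul_apply, h4' z hz, h2' z hz] }
  have hW : ∀ {b}, b ∈ W ↔ b ∈ F.autGroup R ∧ (∀ x ∈ R, x⁻¹ * autFun b x ∈ A) ∧ ∀ z ∈ A, autFun b z = z := Iff.rfl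
  have hW1 : W ≤ F.autGroup R := fun b hb => hb.1
  have hW2 : IsPGroup p W := by
    refine isPGroup_of_pow_eq_one (fun b hb => ?_)
    have hk0 : ∃ k : ℕ, ∀ z : R, (z : Ω) ∈ A → (b ^ p ^ k) z = z := by
      refine ⟨0, fun z hz => ?_⟩
      apply Subtype.ext
      have := hb.2.2 _ hz
      rw [autFun_coe] at this
      simpa using this
    have hα : ∀ x : R, (x : Ω) ∈ (R : Subgroup Ω) → (x : Ω)⁻¹ * ((b x : R) : Ω) ∈ A := by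
      intro x hx
      rw [← autFun_coe]
      exact hb.2.1 x hx
    obtain ⟨k, hk⟩ := pow_fix_step hRp b (N := A) (M := R) hAR hα hk0
    exact ⟨k, MulEquiv.ext fun x => hk x x.2⟩
  have hW3 : ∀ δ ∈ F.autGroup R, ∀ w ∈ W, δ * w * δ⁻¹ ∈ W := by
    intro δ hδ w hw
    have hδi := Subgroup.inv_mem _ hδ
    have hδA : ∀ (δ' : MulAut R), δ' ∈ F.autGroup R → ∀ r ∈ A, autFun δ' r ∈ A := fun δ' hδ' r hr =>
      sc_mp hA ((mp_autFun hRS hδ').restrict hAR) le_rfl hr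
    refine ⟨Subgroup.mul_mem _ (Subgroup.mul_mem _ hδ hw.1) hδi, fun x hx => ?_, fun z hz => ?_⟩
    · have hx₀ := (img_autFun δ⁻¹).1 x hx
      have hr := hw.2.1 _ hx₀
      have e : autFun w (autFun δ⁻¹ x) = autFun δ⁻¹ x * ((autFun δ⁻¹ x)⁻¹ * autFun w (autFun δ⁻¹ x)) := by group
      rw [autFun_mul_apply, autFun_mul_apply, e, autFun_mul δ hx₀ (hAR hr), autFun_apply_inv, inv_mul_cancel_left]
      exact hδA δ hδ _ hr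
    · rw [autFun_mul_apply, autFun_mul_apply, hw.2.2 _ (hδA _ hδi z hz), autFun_apply_inv]
  exact opAut_le_autInducedBy hFA (le_opAut hW1 hW2 hW3 (show b ∈ W from ⟨hb, h1, h2⟩))

/-- The computation with commutators. -/
theorem comm_key (hT₁ : F.StronglyClosed T₁) (hT₂ : F.StronglyClosed T₂) (hc : ∀ a ∈ T₁, ∀ b ∈ T₂, a * b = b * a)
    (hg : Mp F Q g) {x' a₁ u a' u' w : Ω} (hx' : x' ∈ Q) (ha₁ : a₁ ∈ T₁) (hu : u ∈ T₂) (he : u = x' * a₁)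
    (hun : u ∈ Subgroup.normalizer (Q : Set Ω)) (ha' : a' ∈ T₁) (hu' : u' ∈ T₂) (hgx : g x' = a' * u') (hw : w ∈ Q) :
    ∃ z ∈ T₁ ⊓ T₂, g (u * w * u⁻¹) = z * (u' * g w * u'⁻¹) := by
  have hQS : Q ≤ S := hg.le
  have hwS := hQS hw
  have hvS : g w ∈ S := hg.mem_S hw
  have ha₁n : a₁ ∈ Subgroup.normalizer (Q : Set Ω) := by
    have : a₁ = x'⁻¹ * u := by rw [he]; group
    rw [this]
    exact Subgroup.mul_mem _ (Subgroup.inv_mem _ (Subgroup.le_normalizer hx')) hun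
  have hc2Q : u * w * u⁻¹ * w⁻¹ ∈ Q ⊓ T₂ := by
    refine ⟨Q.mul_mem (norm_conj hun hw) (Q.inv_mem hw), ?_⟩
    have e : u * w * u⁻¹ * w⁻¹ = u * (w * u⁻¹ * w⁻¹) := by group
    rw [e]
    exact T₂.mul_mem hu (sc_conj_mem F hT₂ hwS (T₂.inv_mem hu))
  have hc1Q : a₁ * w * a₁⁻¹ * w⁻¹ ∈ Q ⊓ T₁ := by
    refine ⟨Q.mul_mem (norm_conj ha₁n hw) (Q.inv_mem hw), ?_⟩
    have e : a₁ * w * a₁⁻¹ * w⁻¹ = a₁ * (w * a₁⁻¹ * w⁻¹) := by group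
    rw [e]
    exact T₁.mul_mem ha₁ (sc_conj_mem F hT₁ hwS (T₁.inv_mem ha₁))
  set c₂ := u * w * u⁻¹ * w⁻¹ with hc₂
  set c₁ := a₁ * w * a₁⁻¹ * w⁻¹ with hc₁
  have hd₁ : g c₁ ∈ T₁ := sc_mp hT₁ (hg.restrict inf_le_left) inf_le_right hc1Q
  have hd₂ : g c₂ ∈ T₂ := sc_mp hT₂ (hg.restrict inf_le_left) inf_le_right hc2Q
  have e1 : u * w * u⁻¹ = c₂ * w := by rw [hc₂]; group
  have e2 : u * w * u⁻¹ = x' * (c₁ * w) * x'⁻¹ := by rw [hc₁, he]; group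
  have e3 : g (u * w * u⁻¹) = g c₂ * g w := by rw [e1, hg.map_mul hc2Q.1 hw]
  have e4 : g (u * w * u⁻¹) = (a' * u') * (g c₁ * g w) * (a' * u')⁻¹ := by
    rw [e2, hg.map_conj hx' (Q.mul_mem hc1Q.1 hw), hg.map_mul hc1Q.1 hw, hgx]
  set v := g w with hv
  set d₁ := g c₁ with hd₁d
  set d₂ := g c₂ with hd₂d
  set y := u' * v * u'⁻¹ * v⁻¹ with hy
  have hyT : y ∈ T₂ := by
    have e : y = u' * (v * u'⁻¹ * v⁻¹) := by rw [hy]; group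
    rw [e]
    exact T₂.mul_mem hu' (sc_conj_mem F hT₂ hvS (T₂.inv_mem hu'))
  set e' := v * a'⁻¹ * v⁻¹ with he'
  have he'T : e' ∈ T₁ := sc_conj_mem F hT₁ hvS (T₁.inv_mem ha')
  have hcom1 : u' * d₁ = d₁ * u' := (hc d₁ hd₁ u' hu').symm
  have hcom2 : y * e' = e' * y := (hc e' he'T y hyT).symm
  have e5 : d₂ = a' * d₁ * e' * y := by
    have h1 : d₂ * v = (a' * u') * (d₁ * v) * (a' * u')⁻¹ := e3.symm.trans e4
    have h2 : (a' * u') * (d₁ * v) * (a' * u')⁻¹ = a' * d₁ * (y * e') * v := by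
      have h3 : a' * d₁ * (y * e') * v = a' * d₁ * (u' * v * u'⁻¹ * v⁻¹ * (v * a'⁻¹ * v⁻¹)) * v := by rw [hy, he']
      rw [h3]
      calc (a' * u') * (d₁ * v) * (a' * u')⁻¹ = a' * (u' * d₁) * v * u'⁻¹ * a'⁻¹ := by group
        _ = a' * (d₁ * u') * v * u'⁻¹ * a'⁻¹ := by rw [hcom1]
        _ = _ := by group
    rw [h2, hcom2] at h1
    have h4 : d₂ = a' * d₁ * (e' * y) * v * v⁻¹ := by rw [← h1]; group
    rw [h4]
    group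
  refine ⟨a' * d₁ * e', ⟨T₁.mul_mem (T₁.mul_mem ha' hd₁) he'T, ?_⟩, ?_⟩
  · have : a' * d₁ * e' = d₂ * y⁻¹ := by rw [e5]; group
    rw [this]
    exact T₂.mul_mem hd₂ (T₂.inv_mem hyT)
  · rw [e3, e5, hy]
    group

/-- `T₀` is central in `T₁T₂`. -/
theorem inf_comm_sup (hc : ∀ a ∈ T₁, ∀ b ∈ T₂, a * b = b * a) {z x : Ω} (hz : z ∈ T₁ ⊓ T₂) (hx : x ∈ T₁ ⊔ T₂) :
    z * x = x * z := by
  have hle : T₁ ⊔ T₂ ≤ Subgroup.centralizer ({z} : Set Ω) := by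
    refine sup_le (fun a ha => ?_) (fun b hb => ?_)
    · rw [Subgroup.mem_centralizer_iff]
      intro y hy
      rw [Set.mem_singleton_iff.1 hy]
      exact (hc a ha z hz.2).symm
    · rw [Subgroup.mem_centralizer_iff]
      intro y hy
      rw [Set.mem_singleton_iff.1 hy]
      exact hc z hz.1 b hb
  exact Subgroup.mem_centralizer_iff.1 (hle hx) z rfl

/-- The step: elements of the projection normalizing `Q` lie in the extender. -/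
theorem ext2_step (hS : IsPGroup p S) (hF : F.IsSaturated p) (hT₁ : F.StronglyClosed T₁) (hT₂ : F.StronglyClosed T₂)
    (hc : ∀ a ∈ T₁, ∀ b ∈ T₂, a * b = b * a) (hQT : Q ≤ T₁ ⊔ T₂) (hT₀Q : T₁ ⊓ T₂ ≤ Q) (hfn : F.IsFullyNormalized R)
    (hg : Mp F Q g) (hi : Img Q g R) {u : Ω} (hu : u ∈ e2 T₁ T₂ Q) (hun : u ∈ Subgroup.normalizer (Q : Set Ω)) :
    ∃ s ∈ S, ∀ w ∈ Q, g (u * w * u⁻¹) = s * g w * s⁻¹ := by
  have hQS : Q ≤ S := hg.le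
  have hRS : R ≤ S := hfn.1
  have hsc := sc_sup hS hF hT₁ hT₂
  have hT₀ : F.StronglyClosed (T₁ ⊓ T₂) := sc_inf hT₁ hT₂
  have hQN : Q ≤ Subgroup.normalizer (T₁ : Set Ω) := hQS.trans (sc_le_normalizer F hT₁)
  have hT₁N : T₁ ≤ Subgroup.normalizer (T₂ : Set Ω) := hT₁.1.trans (sc_le_normalizer F hT₂)
  have huS : u ∈ S := hT₂.1 hu.2
  obtain ⟨x', hx', a₁, ha₁, he⟩ := exists_mul_of_mem_sup' hQN hu.1
  have hRT : R ≤ T₁ ⊔ T₂ := by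
    intro y hy
    obtain ⟨x, hx, rfl⟩ := hi.2 y hy
    exact sc_mp hsc hg hQT hx
  obtain ⟨a', ha', u', hu', hgx⟩ := exists_mul_of_mem_sup' hT₁N (hRT (hi.1 x' hx'))
  obtain ⟨k, hk, hk1, hk2, hk3⟩ := hg.inverse hi
  have hT₀R : T₁ ⊓ T₂ ≤ R := by
    have h1 : Mp F (T₁ ⊓ T₂) g := hg.restrict hT₀Q
    have h2 := LowPi.img_self h1 (fun x hx => sc_mp hT₀ h1 le_rfl hx)
    intro z hz
    obtain ⟨z₀, hz₀, rfl⟩ := h2.2 z hz
    exact hi.1 z₀ (hT₀Q hz₀)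
  have hkT₀ : ∀ z ∈ T₁ ⊓ T₂, k z ∈ T₁ ⊓ T₂ := fun z hz => sc_mp hT₀ (hk.restrict hT₀R) le_rfl hz
  -- the conjugated automorphism
  let κ : Ω → Ω := fun v => g (u * k v * u⁻¹)
  have hconj : Mp F Q (fun x => u * x * u⁻¹) := Mp.conj hQS huS
  have hκ : Mp F R κ := (hk.comp (fun v hv => hk3.1 v hv) hconj).comp (fun v hv => norm_conj hun (hk3.1 v hv)) hg
  have hκR : ∀ v ∈ R, κ v ∈ R := fun v hv => hi.1 _ (norm_conj hun (hk3.1 v hv))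
  have hκi : Img R κ R := LowPi.img_self hκ hκR
  have hkey : ∀ v ∈ R, ∃ z ∈ T₁ ⊓ T₂, κ v = z * (u' * v * u'⁻¹) := by
    intro v hv
    obtain ⟨z, hz, e⟩ := comm_key hT₁ hT₂ hc hg hx' ha₁ hu.2 he hun ha' hu' hgx (hk3.1 v hv)
    refine ⟨z, hz, ?_⟩
    rw [hk2 v hv] at e
    exact e
  have hu'n : u' ∈ Subgroup.normalizer (R : Set Ω) := by
    haveI : Finite R := finite_of_le hRS
    refine mem_normalizer_of_conj_le' (fun v hv => ?_)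
    obtain ⟨z, hz, e⟩ := hkey v hv
    have : u' * v * u'⁻¹ = z⁻¹ * κ v := by rw [e]; group
    rw [this]
    exact R.mul_mem (R.inv_mem (hT₀R hz)) (hκR v hv)
  obtain ⟨aκ, haκ, haκe⟩ := hκ.toAut hκi
  have haκf : ∀ v ∈ R, autFun aκ v = κ v := by
    intro v hv
    rw [autFun_of_mem aκ hv, haκe ⟨v, hv⟩]
  have hu'S : u' ∈ S := hT₂.1 hu'
  let cu : MulAut R := normAct R hu'n
  have hcu : cu ∈ F.autGroup R := autInducedBy_le_autGroup F hRS (normAct_mem_autInducedBy S R hu'n hu'S)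
  have hcue : ∀ x ∈ R, autFun cu x = u' * x * u'⁻¹ := by
    intro x hx
    rw [autFun_of_mem cu hx]
    rfl
  have hcui : ∀ x ∈ R, autFun cu⁻¹ x = u'⁻¹ * x * u' := by
    intro x hx
    have hw : u'⁻¹ * x * u' ∈ R := conj_inv_mem hu'n hx
    have h1 := autFun_inv_apply cu (x := u'⁻¹ * x * u')
    rw [hcue _ hw] at h1
    have e : u' * (u'⁻¹ * x * u') * u'⁻¹ = x := by group
    rwa [e] at h1
  let b : MulAut R := aκ * cu⁻¹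
  have hb : b ∈ F.autGroup R := Subgroup.mul_mem _ haκ (Subgroup.inv_mem _ hcu)
  have hbv : ∀ x ∈ R, autFun b x = κ (u'⁻¹ * x * u') := by
    intro x hx
    show autFun (aκ * cu⁻¹) x = _
    rw [autFun_mul_apply, hcui x hx, haκf _ (conj_inv_mem hu'n hx)]
  have hbI : b ∈ autInducedBy S R := by
    refine stab_induced hS hF hfn hT₀ hT₀R hb (fun x hx => ?_) (fun z hz => ?_)
    · obtain ⟨z, hz, e⟩ := hkey _ (conj_inv_mem hu'n hx)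
      rw [hbv x hx, e]
      have e1 : u' * (u'⁻¹ * x * u') * u'⁻¹ = x := by group
      rw [e1]
      have e2 : x⁻¹ * (z * x) = z := by
        rw [inf_comm_sup hc hz (hRT hx)]
        group
      rw [e2]
      exact hz
    · have hzc : u'⁻¹ * z * u' = z := by
        have := hc z hz.1 u' hu'
        calc u'⁻¹ * z * u' = u'⁻¹ * (z * u') := by group
          _ = u'⁻¹ * (u' * z) := by rw [this]
          _ = z := by group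
      rw [hbv z (hT₀R hz), hzc]
      show g (u * k z * u⁻¹) = z
      have hkz := hkT₀ z hz
      have hcomm := hc (k z) hkz.1 u hu.2
      have e : u * k z * u⁻¹ = k z := by
        rw [← hcomm]
        group
      rw [e, hk2 z (hT₀R hz)]
  obtain ⟨y, hy, hye⟩ := (mem_autInducedBy_iff S R b).1 hbI
  refine ⟨y * u', S.mul_mem hy hu'S, fun w hw => ?_⟩
  have hv : g w ∈ R := hi.1 w hw
  have hx₂ : u' * g w * u'⁻¹ ∈ R := norm_conj hu'n hv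
  have h1 := hbv _ hx₂
  have e1 : u'⁻¹ * (u' * g w * u'⁻¹) * u' = g w := by group
  rw [e1, autFun_of_mem b hx₂, hye ⟨_, hx₂⟩] at h1
  have h2 : κ (g w) = g (u * w * u⁻¹) := by
    show g (u * k (g w) * u⁻¹) = _
    rw [hk1 w hw]
  rw [← h2, ← h1]
  group

/-- The step up: a proper extension exists. -/
theorem ext2_up (hS : IsPGroup p S) (hF : F.IsSaturated p) (hT₁ : F.StronglyClosed T₁) (hT₂ : F.StronglyClosed T₂)
    (hc : ∀ a ∈ T₁, ∀ b ∈ T₂, a * b = b * a) (hQT : Q ≤ T₁ ⊔ T₂) (hfn : F.IsFullyNormalized R)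
    (hg : Mp F Q g) (hi : Img Q g R) (hlt : Q < Q ⊔ e2 T₁ T₂ Q) :
    ∃ Q₁, Q < Q₁ ∧ Q₁ ≤ Q ⊔ e2 T₁ T₂ Q ∧ ∃ g₁, Mp F Q₁ g₁ ∧ ∀ x ∈ Q, g₁ x = g x := by
  have hQS : Q ≤ S := hg.le
  have hrec := isReceptive_of_isFullyNormalized F hS hF hfn
  by_cases hT₀Q : T₁ ⊓ T₂ ≤ Q
  · have hVS : Q ⊔ e2 T₁ T₂ Q ≤ S := sup_le hQS (inf_le_right.trans hT₂.1)
    haveI : Finite ↥(Q ⊔ e2 T₁ T₂ Q) := finite_of_le hVS
    have hVle : Q ⊔ e2 T₁ T₂ Q ≤ Q ⊔ T₁ := sup_le le_sup_left inf_le_left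
    have hVp : IsPGroup p ↥(Q ⊔ e2 T₁ T₂ Q) := hS.to_le hVS
    refine ⟨normalizerIn (Q ⊔ e2 T₁ T₂ Q) Q, lt_normalizerIn hVp hlt, inf_le_left, ?_⟩
    refine hg.ext_rec hrec hi (le_normalizerIn le_sup_left) (fun y hy => ?_)
    have hyV : y ∈ Q ⊔ e2 T₁ T₂ Q := hy.1
    have hyn : y ∈ Subgroup.normalizer (Q : Set Ω) := hy.2
    refine ⟨hVS hyV, hyn, ?_⟩
    have hyT : y ∈ Q ⊔ T₂ := (sup_le_sup_left (inf_le_right : e2 T₁ T₂ Q ≤ T₂) Q) hyV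
    obtain ⟨x'', hx'', u, hu, rfl⟩ := exists_mul_of_mem_sup' (hQS.trans (sc_le_normalizer F hT₂)) hyT
    have hun : u ∈ Subgroup.normalizer (Q : Set Ω) := by
      have e : u = x''⁻¹ * (x'' * u) := by group
      rw [e]
      exact Subgroup.mul_mem _ (Subgroup.inv_mem _ (Subgroup.le_normalizer hx'')) hyn
    have huQ : u ∈ Q ⊔ T₁ := by
      have e : u = x''⁻¹ * (x'' * u) := by group
      rw [e]
      exact Subgroup.mul_mem _ (Subgroup.inv_mem _ (Subgroup.mem_sup_left hx'')) (hVle hyV)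
    obtain ⟨s, hs, hse⟩ := ext2_step hS hF hT₁ hT₂ hc hQT hT₀Q hfn hg hi (Subgroup.mem_inf.2 ⟨huQ, hu⟩) hun
    refine ⟨g x'' * s, S.mul_mem (hg.mem_S hx'') hs, fun x hx => ?_⟩
    have e : x'' * u * x * (x'' * u)⁻¹ = x'' * (u * x * u⁻¹) * x''⁻¹ := by group
    rw [e, hg.map_conj hx'' (norm_conj hun hx), hse x hx]
    group
  · have hT₀le : T₁ ⊓ T₂ ≤ centralizerIn S Q := by
      intro z hz
      exact mem_cent.2 ⟨hT₁.1 hz.1, fun y hy => (inf_comm_sup hc hz (hQT hy)).symm⟩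
    obtain ⟨g₁, hg₁, hg₁e⟩ := ext_cent hrec hg hi
    refine ⟨Q ⊔ (T₁ ⊓ T₂), lt_of_le_of_ne le_sup_left (fun e => hT₀Q ?_),
      sup_le_sup_left inf_le_e2 Q, g₁, hg₁.restrict (sup_le_sup_left hT₀le Q), hg₁e⟩
    rw [e]
    exact le_sup_right

/-- Maps to fully normalized subgroups extend. -/
theorem ext2_fn (hS : IsPGroup p S) (hF : F.IsSaturated p) (hT₁ : F.StronglyClosed T₁) (hT₂ : F.StronglyClosed T₂)
    (hc : ∀ a ∈ T₁, ∀ b ∈ T₂, a * b = b * a) (hQT : Q ≤ T₁ ⊔ T₂) (hfn : F.IsFullyNormalized R)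
    (hIH : ∀ Q₁, Q < Q₁ → Q₁ ≤ T₁ ⊔ T₂ → ∀ g₁, Mp F Q₁ g₁ → ∃ ĝ, Mp F (Q₁ ⊔ e2 T₁ T₂ Q₁) ĝ ∧ ∀ x ∈ Q₁, ĝ x = g₁ x)
    (hg : Mp F Q g) (hi : Img Q g R) : ∃ ĝ, Mp F (Q ⊔ e2 T₁ T₂ Q) ĝ ∧ ∀ x ∈ Q, ĝ x = g x := by
  by_cases hlt : Q < Q ⊔ e2 T₁ T₂ Q
  · obtain ⟨Q₁, hQQ₁, hQ₁V, g₁, hg₁, hg₁e⟩ := ext2_up hS hF hT₁ hT₂ hc hQT hfn hg hi hlt
    have hVT : Q ⊔ e2 T₁ T₂ Q ≤ T₁ ⊔ T₂ := sup_le hQT (inf_le_right.trans le_sup_right)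
    obtain ⟨ĝ, hĝ, hĝe⟩ := hIH Q₁ hQQ₁ (hQ₁V.trans hVT) g₁ hg₁
    refine ⟨ĝ, hĝ.restrict (sup_le_sup hQQ₁.le (e2_mono hQQ₁.le)), fun x hx => ?_⟩
    rw [hĝe x (hQQ₁.le hx), hg₁e x hx]
  · have hle : Q ⊔ e2 T₁ T₂ Q ≤ Q := by
      by_contra hcon
      exact hlt (lt_of_le_of_ne le_sup_left (fun e => hcon (le_of_eq e.symm)))
    exact ⟨g, hg.restrict hle, fun _ _ => rfl⟩

/-- The image of the projection. -/
theorem e2_map (hT₁ : F.StronglyClosed T₁) (hT₂ : F.StronglyClosed T₂) (hg : Mp F (Q ⊔ e2 T₁ T₂ Q) g) (hi : ∀ x ∈ Q, g x ∈ R) :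
    ∀ u ∈ e2 T₁ T₂ Q, g u ∈ e2 T₁ T₂ R := by
  intro u hu
  have hQS : Q ≤ S := le_sup_left.trans hg.le
  have huV : u ∈ Q ⊔ e2 T₁ T₂ Q := Subgroup.mem_sup_right hu
  obtain ⟨x', hx', a, ha, e⟩ := exists_mul_of_mem_sup' (hQS.trans (sc_le_normalizer F hT₁)) hu.1
  have hx'V : x' ∈ Q ⊔ e2 T₁ T₂ Q := Subgroup.mem_sup_left hx'
  have haV : a ∈ Q ⊔ e2 T₁ T₂ Q := by
    have e' : a = x'⁻¹ * u := by rw [e]; group
    rw [e']
    exact Subgroup.mul_mem _ (Subgroup.inv_mem _ hx'V) huV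
  have h1 : g a ∈ T₁ := sc_mp hT₁ (hg.restrict inf_le_left) inf_le_right (Subgroup.mem_inf.2 ⟨haV, ha⟩)
  have h2 : g u ∈ T₂ := sc_mp hT₂ (hg.restrict inf_le_left) inf_le_right (Subgroup.mem_inf.2 ⟨huV, hu.2⟩)
  refine ⟨?_, h2⟩
  rw [e, hg.map_mul hx'V haV]
  exact Subgroup.mul_mem _ (Subgroup.mem_sup_left (hi x' hx')) (Subgroup.mem_sup_right h1)

/-- The projection of the image lies in the image. -/
theorem e2_surj (hT₁ : F.StronglyClosed T₁) (hT₂ : F.StronglyClosed T₂) (hc : ∀ a ∈ T₁, ∀ b ∈ T₂, a * b = b * a)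
    (hQT : Q ≤ T₁ ⊔ T₂) (hg : Mp F (Q ⊔ e2 T₁ T₂ Q) g) (hi : ∀ y ∈ R, ∃ x ∈ Q, g x = y) {W : Subgroup Ω}
    (hW : Img (Q ⊔ e2 T₁ T₂ Q) g W) : e2 T₁ T₂ R ≤ W := by
  intro y hy
  have hRS : R ≤ S := by
    intro r hr
    obtain ⟨x, hx, rfl⟩ := hi r hr
    exact hg.mem_S (Subgroup.mem_sup_left hx)
  obtain ⟨r, hr, a, ha, e⟩ := exists_mul_of_mem_sup' (hRS.trans (sc_le_normalizer F hT₁)) hy.1
  obtain ⟨x, hx, rfl⟩ := hi r hr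
  obtain ⟨x₁, hx₁, x₂, hx₂, ex⟩ := exists_mul_of_mem_sup' (hT₁.1.trans (sc_le_normalizer F hT₂)) (hQT hx)
  have hxV : x ∈ Q ⊔ e2 T₁ T₂ Q := Subgroup.mem_sup_left hx
  have hx₂e : x₂ ∈ e2 T₁ T₂ Q := by
    refine ⟨?_, hx₂⟩
    have e' : x₂ = x₁⁻¹ * x := by rw [ex]; group
    rw [e']
    exact Subgroup.mul_mem _ (Subgroup.inv_mem _ (Subgroup.mem_sup_right hx₁)) (Subgroup.mem_sup_left hx)
  have hx₂V : x₂ ∈ Q ⊔ e2 T₁ T₂ Q := Subgroup.mem_sup_right hx₂e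
  have hx₁V : x₁ ∈ Q ⊔ e2 T₁ T₂ Q := by
    have e' : x₁ = x * x₂⁻¹ := by rw [ex]; group
    rw [e']
    exact Subgroup.mul_mem _ hxV (Subgroup.inv_mem _ hx₂V)
  have h1 : g x₁ ∈ T₁ := sc_mp hT₁ (hg.restrict inf_le_left) inf_le_right (Subgroup.mem_inf.2 ⟨hx₁V, hx₁⟩)
  have h2 : g x₂ ∈ T₂ := sc_mp hT₂ (hg.restrict inf_le_left) inf_le_right (Subgroup.mem_inf.2 ⟨hx₂V, hx₂⟩)
  have e1 : g x = g x₁ * g x₂ := by rw [ex, hg.map_mul hx₁V hx₂V]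
  have ht : (g x₂)⁻¹ * y ∈ T₁ ⊓ T₂ := by
    refine ⟨?_, T₂.mul_mem (T₂.inv_mem h2) hy.2⟩
    have e2 : (g x₂)⁻¹ * y = g x₁ * a := by
      rw [e, e1, hc _ h1 _ h2]
      group
    rw [e2]
    exact T₁.mul_mem h1 ha
  have hT₀ := sc_inf hT₁ hT₂
  have hT₀V : T₁ ⊓ T₂ ≤ e2 T₁ T₂ Q := inf_le_e2
  have hm : Mp F (T₁ ⊓ T₂) g := hg.restrict (hT₀V.trans le_sup_right)
  have himg := LowPi.img_self hm (fun z hz => sc_mp hT₀ hm le_rfl hz)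
  obtain ⟨z₀, hz₀, ez⟩ := himg.2 _ ht
  have e2 : y = g (x₂ * z₀) := by
    rw [hg.map_mul hx₂V (Subgroup.mem_sup_right (hT₀V hz₀)), ez]
    group
  rw [e2]
  exact hW.1 _ (Subgroup.mul_mem _ hx₂V (Subgroup.mem_sup_right (hT₀V hz₀)))

/-- **Every map on `Q ≤ T₁T₂` extends to `Q` times its projection to `T₂`.** -/
theorem ext2 (hS : IsPGroup p S) (hF : F.IsSaturated p) (hT₁ : F.StronglyClosed T₁) (hT₂ : F.StronglyClosed T₂)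
    (hc : ∀ a ∈ T₁, ∀ b ∈ T₂, a * b = b * a) : ∀ (d : ℕ) (Q : Subgroup Ω), Nat.card ↥(T₁ ⊔ T₂) - Nat.card Q = d →
      Q ≤ T₁ ⊔ T₂ → ∀ g, Mp F Q g → ∃ ĝ, Mp F (Q ⊔ e2 T₁ T₂ Q) ĝ ∧ ∀ x ∈ Q, ĝ x = g x := by
  have hsc := sc_sup hS hF hT₁ hT₂
  have hUS : T₁ ⊔ T₂ ≤ S := hsc.1
  haveI : Finite ↥(T₁ ⊔ T₂) := finite_of_le hUS
  intro d
  induction d using Nat.strong_induction_on with
  | _ d ih =>
  intro Q hd hQT g hg
  have hQS : Q ≤ S := hg.le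
  obtain ⟨Q₂, hQ₂⟩ := hg.exists_img
  have hQ₂S : Q₂ ≤ S := by
    intro y hy
    obtain ⟨x, hx, rfl⟩ := hQ₂.2 y hy
    exact hg.mem_S hx
  have hQ₂T : Q₂ ≤ T₁ ⊔ T₂ := by
    intro y hy
    obtain ⟨x, hx, rfl⟩ := hQ₂.2 y hy
    exact sc_mp hsc hg hQT hx
  obtain ⟨R, hQ₂R, hfn⟩ := exists_isFullyNormalized F hQ₂S
  obtain ⟨φ, hφ, hφr⟩ := id hQ₂R
  have hφm : Mp F Q₂ (extOf φ) := mp_of_hom hφ
  have hφi : Img Q₂ (extOf φ) R := by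
    refine ⟨fun x hx => ?_, fun y hy => ?_⟩
    · rw [extOf_of_mem φ hx, ← hφr]
      exact ⟨_, rfl⟩
    · rw [← hφr] at hy
      obtain ⟨x, rfl⟩ := hy
      exact ⟨x, x.2, extOf_coe φ x⟩
  have hcard : Nat.card Q₂ = Nat.card Q := hg.card_img hQ₂
  have hIHgen : ∀ Q' : Subgroup Ω, Nat.card Q' = Nat.card Q → ∀ Q₁, Q' < Q₁ → Q₁ ≤ T₁ ⊔ T₂ → ∀ g₁, Mp F Q₁ g₁ →
      ∃ ĝ, Mp F (Q₁ ⊔ e2 T₁ T₂ Q₁) ĝ ∧ ∀ x ∈ Q₁, ĝ x = g₁ x := by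
    intro Q' hQ' Q₁ hlt hQ₁ g₁ hg₁
    haveI : Finite Q₁ := finite_of_le (hQ₁.trans hUS)
    have hc1 : Nat.card Q' < Nat.card Q₁ := by
      refine lt_of_le_of_ne (Subgroup.card_le_of_le hlt.le) (fun e => hlt.ne ?_)
      exact Subgroup.eq_of_le_of_card_ge hlt.le e.ge
    have hc2 : Nat.card Q₁ ≤ Nat.card ↥(T₁ ⊔ T₂) := Subgroup.card_le_of_le hQ₁
    exact ih _ (by omega) Q₁ rfl hQ₁ g₁ hg₁
  -- the two extensions
  have hθ : Mp F Q (fun x => extOf φ (g x)) := hg.comp hQ₂.1 hφm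
  have hθi : Img Q (fun x => extOf φ (g x)) R := hQ₂.comp hφi
  obtain ⟨θh, hθh, hθhe⟩ := ext2_fn hS hF hT₁ hT₂ hc hQT hfn (hIHgen Q rfl) hθ hθi
  obtain ⟨φh, hφh, hφhe⟩ := ext2_fn hS hF hT₁ hT₂ hc hQ₂T hfn (hIHgen Q₂ hcard) hφm hφi
  obtain ⟨W, hW⟩ := hφh.exists_img
  obtain ⟨κ, hκ, hκ1, -, -⟩ := hφh.inverse hW
  have hsurj : e2 T₁ T₂ R ≤ W := e2_surj hT₁ hT₂ hc hQ₂T hφh (fun y hy => by
    obtain ⟨x, hx, e⟩ := hφi.2 y hy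
    exact ⟨x, hx, by rw [hφhe x hx, e]⟩) hW
  have hmap : ∀ x ∈ Q ⊔ e2 T₁ T₂ Q, θh x ∈ W := by
    refine maps_sup hθh (fun x hx => ?_) (fun u hu => ?_)
    · rw [hθhe x hx, ← hφhe _ (hQ₂.1 x hx)]
      exact hW.1 _ (Subgroup.mem_sup_left (hQ₂.1 x hx))
    · refine hsurj (e2_map hT₁ hT₂ hθh (fun x hx => ?_) u hu)
      rw [hθhe x hx]
      exact hθi.1 x hx
  refine ⟨fun x => κ (θh x), hθh.comp hmap hκ, fun x hx => ?_⟩
  show κ (θh x) = g x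
  rw [hθhe x hx, ← hφhe _ (hQ₂.1 x hx), hκ1 _ (Subgroup.mem_sup_left (hQ₂.1 x hx))]

theorem le_ee (hT₁ : F.StronglyClosed T₁) (hT₂ : F.StronglyClosed T₂) (hQT : Q ≤ T₁ ⊔ T₂) :
    Q ≤ e2 T₂ T₁ Q ⊔ e2 T₁ T₂ Q := by
  intro x hx
  obtain ⟨x₁, hx₁, x₂, hx₂, ex⟩ := exists_mul_of_mem_sup' (hT₁.1.trans (sc_le_normalizer F hT₂)) (hQT hx)
  rw [ex]
  refine Subgroup.mul_mem _ (Subgroup.mem_sup_left ⟨?_, hx₁⟩) (Subgroup.mem_sup_right ⟨?_, hx₂⟩)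
  · have e' : x₁ = x * x₂⁻¹ := by rw [ex]; group
    rw [e']
    exact Subgroup.mul_mem _ (Subgroup.mem_sup_left hx) (Subgroup.inv_mem _ (Subgroup.mem_sup_right hx₂))
  · have e' : x₂ = x₁⁻¹ * x := by rw [ex]; group
    rw [e']
    exact Subgroup.mul_mem _ (Subgroup.inv_mem _ (Subgroup.mem_sup_right hx₁)) (Subgroup.mem_sup_left hx)

/-- **Claim C**: every map on `Q ≤ T₁T₂` extends to the product of the two projections. -/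
theorem ee_ext (hS : IsPGroup p S) (hF : F.IsSaturated p) (hT₁ : F.StronglyClosed T₁) (hT₂ : F.StronglyClosed T₂)
    (hc : ∀ a ∈ T₁, ∀ b ∈ T₂, a * b = b * a) (hQT : Q ≤ T₁ ⊔ T₂) (hg : Mp F Q g) :
    ∃ ĝ, Mp F (e2 T₂ T₁ Q ⊔ e2 T₁ T₂ Q) ĝ ∧ ∀ x ∈ Q, ĝ x = g x := by
  obtain ⟨g₁, hg₁, hg₁e⟩ := ext2 hS hF hT₁ hT₂ hc _ Q rfl hQT g hg
  have hc' : ∀ a ∈ T₂, ∀ b ∈ T₁, a * b = b * a := fun a ha b hb => (hc b hb a ha).symm
  have hQ₁ : Q ⊔ e2 T₁ T₂ Q ≤ T₂ ⊔ T₁ := by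
    rw [sup_comm T₂ T₁]
    exact sup_le hQT (inf_le_right.trans le_sup_right)
  obtain ⟨g₂, hg₂, hg₂e⟩ := ext2 hS hF hT₂ hT₁ hc' _ _ rfl hQ₁ g₁ hg₁
  have hle : e2 T₂ T₁ Q ⊔ e2 T₁ T₂ Q ≤ (Q ⊔ e2 T₁ T₂ Q) ⊔ e2 T₂ T₁ (Q ⊔ e2 T₁ T₂ Q) :=
    sup_le (le_sup_of_le_right (e2_mono le_sup_left)) (le_sup_of_le_left le_sup_right)
  refine ⟨g₂, hg₂.restrict hle, fun x hx => ?_⟩
  rw [hg₂e x (Subgroup.mem_sup_left hx), hg₁e x hx]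

end main

end Cfsg.Agent.Lib.FusionExt.CProd1
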