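import Cfsg.Agent.Lib.FusionExt.PPrimeMin
import Cfsg.Agent.Lib.FusionExt.PPowerNormal
import Cfsg.Agent.Lib.Fusion.Alperin
import Cfsg.Agent.Lib.Core.Residual

/-!
# The largest subgroup of `C_S(T)` centralized by a normal subsystem (helper92)
-/

set_option autoImplicit false

namespace Cfsg.Agent.Lib.FusionExt.CentE

open Cfsg Cfsg.FusionSystem Cfsg.Agent.Lib.Fusion.Basic Cfsg.Agent.Lib.Fusion.GroupSystem
open Cfsg.Agent.Lib.FusionExt.MapApi Cfsg.Agent.Lib.FusionExt.PowerSys Cfsg.Agent.Lib.FusionExt.PowerGen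
open Cfsg.Agent.Lib.FusionExt.PrimeRes1 Cfsg.Agent.Lib.FusionExt.PrimeRes2 Cfsg.Agent.Lib.Fusion.Saturation
open Cfsg.Agent.Lib.Fusion.Saturation2 Cfsg.Agent.Lib.FusionExt.SatCrit1 Cfsg.Agent.Lib.FusionExt.Invariant
open Cfsg.Agent.Lib.FusionExt.PowerE Cfsg.Agent.Lib.FusionExt.LowPi Cfsg.Agent.Lib.FusionExt.CentSys
open Cfsg.Agent.Lib.FusionExt.FixQ Cfsg.Agent.Lib.FusionExt.PPrimeMin Cfsg.Agent.Lib.Fusion.KSystem
open Cfsg.Agent.Lib.FusionExt.Basic Cfsg.Agent.Lib.FusionExt.Normal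

universe u

section grp

variable {G : Type*} [Group G] [Finite G] {p : ℕ} [Fact p.Prime]

/-- A subgroup containing a Sylow subgroup and all `p'`-elements is everything. -/
theorem eq_of_sylow_pprime {A K H : Subgroup G} (hA : IsSylowIn p A H) (hAK : A ≤ K) (hKH : K ≤ H)
    (hp' : ∀ a ∈ H, (∃ q : ℕ, q.Coprime p ∧ a ^ q = 1) → a ∈ K) : K = H := by
  have hp : p.Prime := Fact.out
  let N : Subgroup H := pResidual p H
  have hNn : N.Normal := by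
    refine ⟨fun n hn g => ?_⟩
    have : N.map (MulAut.conj g).toMonoidHom ≤ N := by
      show (Subgroup.closure _).map _ ≤ Subgroup.closure _
      rw [MonoidHom.map_closure]
      apply (Subgroup.closure_le _).2
      rintro _ ⟨x, hx, rfl⟩
      apply Subgroup.subset_closure
      have : orderOf ((MulAut.conj g).toMonoidHom x) = orderOf x :=
        MulEquiv.orderOf_eq (MulAut.conj g) x
      show Nat.Coprime _ p
      rw [this]
      exact hx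
    exact this ⟨n, hn, rfl⟩
  haveI := hNn
  let K' : Subgroup H := K.subgroupOf H
  have hNK : N ≤ K' := by
    apply (Subgroup.closure_le _).2
    intro b hb
    have : (b : G) ∈ K := by
      refine hp' _ b.2 ⟨orderOf b, hb, ?_⟩
      rw [← Subgroup.coe_pow, pow_orderOf_eq_one]
      rfl
    exact this
  have hq : IsPGroup p (H ⧸ N) := by
    intro x
    obtain ⟨a, rfl⟩ := QuotientGroup.mk_surjective x
    obtain ⟨u, v, hae, ⟨k, hk⟩, q, hq, hv⟩ := exists_parts (p := p) a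
    refine ⟨k, ?_⟩
    have h1 : a ^ v ∈ N := by
      apply Subgroup.subset_closure
      exact Nat.Coprime.coprime_dvd_left (orderOf_dvd_of_pow_eq_one hv) hq
    rw [hae, QuotientGroup.mk_mul, (QuotientGroup.eq_one_iff _).2 h1, mul_one, ← QuotientGroup.mk_pow, hk]
    rfl
  obtain ⟨R, hR⟩ := hA
  have hRK : (R : Subgroup H) ≤ K' := by
    rw [hR]
    exact fun x hx => hAK hx
  let W : Subgroup (H ⧸ N) := K'.map (QuotientGroup.mk' N)
  have hWdvd : W.index ∣ (R : Subgroup H).index :=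
    (Subgroup.index_map_dvd _ (QuotientGroup.mk'_surjective N)).trans (Subgroup.index_dvd_of_le hRK)
  have hnd : ¬ p ∣ (R : Subgroup H).index := R.not_dvd_index
  obtain ⟨n, hn⟩ := IsPGroup.iff_card.1 hq
  have hWn : W.index ∣ p ^ n := by
    rw [← hn]
    exact Subgroup.index_dvd_card W
  obtain ⟨j, -, hj⟩ := (Nat.dvd_prime_pow hp).1 hWn
  have hW1 : W.index = 1 := by
    rcases j with _ | j
    · simpa using hj
    · exfalso
      apply hnd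
      rw [hj] at hWdvd
      exact (dvd_pow_self p (Nat.succ_ne_zero j)).trans hWdvd
  have hWt : W = ⊤ := Subgroup.index_eq_one.1 hW1
  apply le_antisymm hKH
  intro a ha
  have h1 : QuotientGroup.mk' N (⟨a, ha⟩ : H) ∈ W := by
    rw [hWt]
    exact Subgroup.mem_top _
  obtain ⟨k, hk, hke⟩ := h1
  have h2 : k⁻¹ * ⟨a, ha⟩ ∈ N := QuotientGroup.eq.1 hke
  have h3 := K'.mul_mem hk (hNK h2)
  rw [mul_inv_cancel_left] at h3
  exact h3

end grp

variable {Ω : Type u} [Group Ω] {S T : Subgroup Ω} {F : FusionSystem S} {E : FusionSystem T} {p : ℕ}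
variable {X Y Q R P B : Subgroup Ω} {f g h k b : Ω → Ω}

/-- Automorphisms that are trivial on an invariant subgroup, and on the quotient by an invariant subgroup of it, are induced. -/
theorem v_stab [Fact p.Prime] {S' : Subgroup Ω} [Finite S'] {F' : FusionSystem S'} (hS' : IsPGroup p S') {A Z : Subgroup Ω}
    (hB : B ≤ S') (hFA : F'.IsFullyAutomized p B) (hZA : Z ≤ A) (hAB : A ≤ B)
    (hpA : ∀ a ∈ F'.autGroup B, ∀ x ∈ A, autFun a x ∈ A)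
    (hpZ : ∀ a ∈ F'.autGroup B, ∀ z ∈ Z, autFun a z ∈ Z)
    {v : MulAut B} (hv : v ∈ F'.autGroup B) (hvA : ∀ x ∈ A, autFun v x = x)
    (hvB : ∀ y ∈ B, y⁻¹ * autFun v y ∈ Z) : v ∈ autInducedBy S' B := by
  haveI : Finite B := finite_of_le hB
  haveI : Finite (MulAut B) := Cfsg.Agent.Lib.Fusion.Basic.finite_mulAut_of_finite (A := B)
  let YY : Subgroup (MulAut B) := finSub
    { carrier := {y | y ∈ F'.autGroup B ∧ (∀ x ∈ A, autFun y x = x) ∧ ∀ d ∈ B, d⁻¹ * autFun y d ∈ Z}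
      one_mem' := ⟨Subgroup.one_mem _, fun x _ => autFun_one_apply x, fun d _ => by
        rw [autFun_one_apply, inv_mul_cancel]; exact Z.one_mem⟩
      mul_mem' := by
        rintro y₁ y₂ ⟨h1, h2, h3⟩ ⟨h4, h5, h6⟩
        refine ⟨Subgroup.mul_mem _ h1 h4, fun x hx => ?_, fun d hd => ?_⟩
        · rw [autFun_mul_apply, h5 x hx, h2 x hx]
        · have hz := h6 d hd
          have e : autFun y₂ d = d * (d⁻¹ * autFun y₂ d) := by group
          rw [autFun_mul_apply, e, autFun_mul y₁ hd (hAB (hZA hz)), h2 _ (hZA hz), ← mul_assoc]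
          exact Z.mul_mem (h3 d hd) hz }
  have hvY : v ∈ YY := ⟨hv, hvA, hvB⟩
  have hRp : IsPGroup p B := hS'.to_le hB
  have h1 : YY ≤ F'.autGroup B := fun y hy => hy.1
  have h2 : IsPGroup p YY := by
    refine isPGroup_of_pow_eq_one (fun y hy => ?_)
    have hk0 : ∃ k : ℕ, ∀ z : B, (z : Ω) ∈ Z → (y ^ p ^ k) z = z := by
      refine ⟨0, fun z hz => ?_⟩
      apply Subtype.ext
      have := hy.2.1 _ (hZA hz)
      rw [autFun_coe] at this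
      simpa using this
    have hα : ∀ x : B, (x : Ω) ∈ B → (x : Ω)⁻¹ * ((y x : B) : Ω) ∈ Z := by
      intro x hx
      rw [← autFun_coe]
      exact hy.2.2 x hx
    obtain ⟨k, hk⟩ := pow_fix_step hRp y (N := Z) (M := B) (hZA.trans hAB) hα hk0
    exact ⟨k, MulEquiv.ext fun x => hk x x.2⟩
  have h3 : ∀ a ∈ F'.autGroup B, ∀ w ∈ YY, a * w * a⁻¹ ∈ YY := by
    intro a ha w hw
    have hai := Subgroup.inv_mem _ ha
    refine ⟨Subgroup.mul_mem _ (Subgroup.mul_mem _ ha hw.1) hai, fun x hx => ?_, fun d hd => ?_⟩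
    · rw [autFun_mul_apply, autFun_mul_apply, hw.2.1 _ (hpA _ hai x hx), autFun_apply_inv]
    · have hd₀ : autFun a⁻¹ d ∈ B := (img_autFun a⁻¹).1 d hd
      have hz := hw.2.2 _ hd₀
      have e : autFun w (autFun a⁻¹ d) = autFun a⁻¹ d * ((autFun a⁻¹ d)⁻¹ * autFun w (autFun a⁻¹ d)) := by group
      rw [autFun_mul_apply, autFun_mul_apply, e, autFun_mul a hd₀ (hAB (hZA hz)), autFun_apply_inv, inv_mul_cancel_left]
      exact hpZ a ha _ hz
  exact opAut_le_autInducedBy hFA (le_opAut h1 h2 h3 hvY)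

/-- The image of a normal subgroup under a map of the normalizer system. -/
theorem img_of_norm {P : Subgroup Ω} (hPS : P ≤ S) (hf : Mp (normalizerSystem F P hPS) X f) (hPX : P ≤ X) : Img P f P := by
  obtain ⟨φ, ⟨hφ, h1, h2, ψ, hψ, h3, h4⟩, e⟩ := hf
  have hP' : P ≤ X ⊔ P := le_sup_right
  have hv : ∀ x (hx : x ∈ P), ψ ⟨x, hP' hx⟩ = f x := by
    intro x hx
    have h5 := h3 ⟨x, hPX hx⟩
    rw [e] at h5
    rw [← h5]
    rfl
  refine ⟨fun x hx => ?_, fun y hy => ?_⟩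
  · rw [← hv x hx]
    exact h4.le ⟨⟨x, hP' hx⟩, hx, rfl⟩
  · rw [← h4] at hy
    obtain ⟨⟨x, hx'⟩, hx, rfl⟩ := hy
    exact ⟨x, hx, (hv x hx).symm⟩

theorem mp_zpow (hf : Mp F X f) {x : Ω} (hx : x ∈ X) (k : ℤ) : f (x ^ k) = (f x) ^ k := by
  obtain ⟨φ, hφ, e⟩ := hf
  have h1 := e ⟨x ^ k, X.zpow_mem hx k⟩
  have h2 := e ⟨x, hx⟩
  rw [← h1, ← h2]
  have : (⟨x ^ k, X.zpow_mem hx k⟩ : X) = (⟨x, hx⟩ : X) ^ k := rfl
  rw [this, map_zpow]

/-- Maps to a subgroup on `A ⊔ ⟨x⟩`. -/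
theorem maps_sup_z {A : Subgroup Ω} {x : Ω} (hg : Mp F (A ⊔ Subgroup.zpowers x) g) (hA : ∀ a ∈ A, g a ∈ X) (hx : g x ∈ X) :
    ∀ y ∈ A ⊔ Subgroup.zpowers x, g y ∈ X := by
  refine maps_sup hg hA ?_
  rintro _ ⟨k, rfl⟩
  have hxm : x ∈ A ⊔ Subgroup.zpowers x := Subgroup.mem_sup_right (Subgroup.mem_zpowers x)
  show g (x ^ k) ∈ X
  rw [mp_zpow hg hxm k]
  exact X.zpow_mem hx k

theorem img_of_range {φ : X →* Ω} (hφr : φ.range = Y) : Img X (extOf φ) Y := by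
  refine ⟨fun x hx => ?_, fun y hy => ?_⟩
  · rw [extOf_of_mem φ hx, ← hφr]
    exact ⟨_, rfl⟩
  · rw [← hφr] at hy
    obtain ⟨x, rfl⟩ := hy
    exact ⟨x, x.2, extOf_coe φ x⟩

theorem calc_aux {G : Type*} [Group G] {gx x f₀ z bu : G} (n : ℕ) (h : gx = x * f₀ * z) (c : z * bu = bu * z) :
    gx * bu * z ^ n = x * (f₀ * bu) * z ^ (n + 1) := by
  subst h
  rw [pow_succ']
  calc x * f₀ * z * bu * z ^ n = x * f₀ * (z * bu) * z ^ n := by simp only [mul_assoc]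
    _ = x * f₀ * (bu * z) * z ^ n := by rw [c]
    _ = _ := by simp only [mul_assoc]

section main

variable [Finite S] [Fact p.Prime]

/-- Elements of `C_T(R)` stay there under conjugation by `N_S(R)`. -/
theorem conj_zz_norm (hT : F.StronglyClosed T) {s z : Ω} (hs : s ∈ normalizerIn S R) (hz : z ∈ zz T R) : s * z * s⁻¹ ∈ zz T R := by
  have hzT := (mem_zz.1 hz).1
  refine mem_zz.2 ⟨sc_conj_mem F hT hs.1 hzT, fun y hy => ?_⟩
  have h1 := (mem_zz.1 hz).2 _ (conj_inv_mem hs.2 hy)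
  calc y * (s * z * s⁻¹) = s * ((s⁻¹ * y * s) * z) * s⁻¹ := by group
    _ = s * (z * (s⁻¹ * y * s)) * s⁻¹ := by rw [h1]
    _ = s * z * s⁻¹ * y := by group

/-- **Uniqueness.** Two `p'`-extensions of the `p'`-automorphism `b` to `R⟨x⟩` with the extension property, where `x` centralizes
`T`, agree on `x`. -/
theorem fix_unique' (hS : IsPGroup p S) (hN : E.IsNormalIn F p) (hfn : F.IsFullyNormalized R) (hRT : R ≤ T)
    (hc : ∀ Q, F.IsConj R Q → zz T Q ≤ Q) {x : Ω} (hx : x ∈ centralizerIn S T) {G : Ω → Ω}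
    (hb : Mp E R b) (hbi : Img R b R)
    (h₁ : Mp F (R ⊔ Subgroup.zpowers x) g) (h₁e : ∀ y ∈ R, g y = b y) (h₁x : x⁻¹ * g x ∈ zz T R)
    (h₂ : Mp F (R ⊔ centralizerIn S R) G) (h₂e : ∀ y ∈ R, G y = b y)
    (h₂c : ∀ c ∈ centralizerIn S R, c⁻¹ * G c ∈ zz T R) {m : ℕ} (hm₁ : g^[m] x = x) (hm : G^[m] x = x) (hco : m.Coprime p) :
    G x = g x := by
  obtain ⟨⟨hEs, hF, hsub, hT, hInv, hFr⟩, hext⟩ := id hN
  have hSI : StrongInv F E := strong_of_inv hInv hFr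
  have hRS : R ≤ S := hfn.1
  have hTS : T ≤ S := hT.1
  have hcz : zz T R ≤ R := hc R (isConj_refl F hRS)
  have hNS : normalizerIn S R ≤ S := normalizerIn_le_left S R
  haveI : Finite (normalizerIn S R) := finite_of_le hNS
  have hxC : x ∈ centralizerIn S R := mem_cent.2 ⟨(mem_cent.1 hx).1, fun y hy => (mem_cent.1 hx).2 y (hRT hy)⟩
  have hxN : x ∈ normalizerIn S R := centralizerIn_le_normalizerIn S R hxC
  have hM : (normalizerSystem F R hRS).IsSaturated p := isSaturated_normalizerSystem hS F hF hfn _ (fun _ => rfl)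
  have hNp : IsPGroup p (normalizerIn S R) := hS.to_le hNS
  have hBN : R ⊔ Subgroup.zpowers x ≤ normalizerIn S R :=
    sup_le (le_normalizerIn hRS) ((Subgroup.zpowers_le).2 hxN)
  have hRB : R ≤ R ⊔ Subgroup.zpowers x := le_sup_left
  have hxB : x ∈ R ⊔ Subgroup.zpowers x := Subgroup.mem_sup_right (Subgroup.mem_zpowers x)
  have hBA : R ⊔ Subgroup.zpowers x ≤ R ⊔ centralizerIn S R :=
    sup_le le_sup_left ((Subgroup.zpowers_le).2 (Subgroup.mem_sup_right hxC))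
  have hz₁ : x⁻¹ * G x ∈ zz T R := h₂c x hxC
  have hz₁R : x⁻¹ * G x ∈ R := hcz hz₁
  have hz₀R : x⁻¹ * g x ∈ R := hcz h₁x
  have hGx : G x = x * (x⁻¹ * G x) := by group
  have hgx : g x = x * (x⁻¹ * g x) := by group
  have hgB : ∀ y ∈ R ⊔ Subgroup.zpowers x, g y ∈ R ⊔ Subgroup.zpowers x :=
    maps_sup_z h₁ (fun a ha => by rw [h₁e a ha]; exact hRB (hbi.1 a ha)) (by rw [hgx]; exact Subgroup.mul_mem _ hxB (hRB hz₀R))
  have hG' : Mp F (R ⊔ Subgroup.zpowers x) G := h₂.restrict hBA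
  have hGB : ∀ y ∈ R ⊔ Subgroup.zpowers x, G y ∈ R ⊔ Subgroup.zpowers x :=
    maps_sup_z hG' (fun a ha => by rw [h₂e a ha]; exact hRB (hbi.1 a ha))
      (by rw [hGx]; exact Subgroup.mul_mem _ hxB (hRB hz₁R))
  have hgi : Img (R ⊔ Subgroup.zpowers x) g (R ⊔ Subgroup.zpowers x) := LowPi.img_self h₁ hgB
  have hGi : Img (R ⊔ Subgroup.zpowers x) G (R ⊔ Subgroup.zpowers x) := LowPi.img_self hG' hGB
  have hgR : Img R g R := hbi.congr (fun y hy => (h₁e y hy).symm)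
  have hGR : Img R G R := hbi.congr (fun y hy => (h₂e y hy).symm)
  have hgM : Mp (normalizerSystem F R hRS) (R ⊔ Subgroup.zpowers x) g :=
    mp_norm hRS h₁ hRB hBN (fun y hy => hBN (hgB y hy)) hgR
  have hGM : Mp (normalizerSystem F R hRS) (R ⊔ Subgroup.zpowers x) G :=
    mp_norm hRS hG' hRB hBN (fun y hy => hBN (hGB y hy)) hGR
  obtain ⟨B₁, hBB₁, hfn₁⟩ := exists_isFullyNormalized (normalizerSystem F R hRS) hBN
  obtain ⟨φ, hφ, hφr⟩ := id hBB₁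
  have hζ : Mp (normalizerSystem F R hRS) (R ⊔ Subgroup.zpowers x) (extOf φ) := mp_of_hom hφ
  have hζi : Img (R ⊔ Subgroup.zpowers x) (extOf φ) B₁ := img_of_range hφr
  obtain ⟨κ, hκ, k1, k2, k3⟩ := hζ.inverse hζi
  obtain ⟨gi, hgim, g1, g2, g3⟩ := hgM.inverse hgi
  have hζR : Img R (extOf φ) R := img_of_norm hRS hζ hRB
  have hRB₁ : R ≤ B₁ := fun r hr => by
    obtain ⟨r₀, h0, rfl⟩ := hζR.2 r hr
    exact hζi.1 _ (hRB h0)
  have hv : Mp (normalizerSystem F R hRS) B₁ (fun y => extOf φ (G (gi (κ y)))) :=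
    hκ.comp k3.1 (hgim.comp g3.1 (hGM.comp hGi.1 hζ))
  have hvi : Img B₁ (fun y => extOf φ (G (gi (κ y)))) B₁ := k3.comp (g3.comp (hGi.comp hζi))
  obtain ⟨a, ha, hae⟩ := hv.toAut hvi
  have haf : ∀ y ∈ B₁, autFun a y = extOf φ (G (gi (κ y))) := by
    intro y hy
    rw [autFun_of_mem a hy]
    exact hae ⟨y, hy⟩
  have hvR : ∀ r ∈ R, autFun a r = r := by
    intro r hr
    rw [haf r (hRB₁ hr)]
    obtain ⟨r₀, h0, rfl⟩ := hζR.2 r hr
    rw [k1 _ (hRB h0)]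
    obtain ⟨r₁, hr₁, rfl⟩ := hgR.2 r₀ h0
    rw [g1 _ (hRB hr₁), h₂e r₁ hr₁, h₁e r₁ hr₁]
  have hcommx : ∀ z ∈ zz T R, Commute x z := fun z hz => ((mem_cent.1 hx).2 _ (mem_zz.1 hz).1).symm
  have hdiff : ∀ w ∈ R ⊔ Subgroup.zpowers x, (g w)⁻¹ * G w ∈ zz T R := by
    intro w hw
    have hw' : w ∈ Subgroup.zpowers x ⊔ R := by
      rw [sup_comm]
      exact hw
    have hDn : Subgroup.zpowers x ≤ Subgroup.normalizer (R : Set Ω) := (Subgroup.zpowers_le).2 hxN.2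
    obtain ⟨d, ⟨k, rfl⟩, r, hr, rfl⟩ := exists_mul_of_mem_sup' hDn hw'
    have hdk : x ^ k ∈ R ⊔ Subgroup.zpowers x := Subgroup.zpow_mem _ hxB k
    show (g (x ^ k * r))⁻¹ * G (x ^ k * r) ∈ _
    rw [h₁.map_mul hdk (hRB hr), hG'.map_mul hdk (hRB hr), mp_zpow h₁ hxB k, mp_zpow hG' hxB k, h₁e r hr, h₂e r hr]
    have e2 : (G x) ^ k = x ^ k * (x⁻¹ * G x) ^ k := by
      conv_lhs => rw [hGx]
      exact (hcommx _ hz₁).mul_zpow k
    have e2' : (g x) ^ k = x ^ k * (x⁻¹ * g x) ^ k := by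
      conv_lhs => rw [hgx]
      exact (hcommx _ h₁x).mul_zpow k
    rw [e2, e2']
    have hzk : (x⁻¹ * G x) ^ k ∈ zz T R := Subgroup.zpow_mem _ hz₁ k
    have hzk' : (x⁻¹ * g x) ^ k ∈ zz T R := Subgroup.zpow_mem _ h₁x k
    have hbr : b r ∈ R := hbi.1 r hr
    have e3 : (x ^ k * (x⁻¹ * g x) ^ k * b r)⁻¹ * (x ^ k * (x⁻¹ * G x) ^ k * b r) =
        (b r)⁻¹ * (((x⁻¹ * g x) ^ k)⁻¹ * (x⁻¹ * G x) ^ k) * b r := by group
    rw [e3]
    have h4 := conj_zz_norm (F := F) (s := (b r)⁻¹) hT (Subgroup.inv_mem _ (le_normalizerIn hRS hbr))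
      (Subgroup.mul_mem _ (Subgroup.inv_mem _ hzk') hzk)
    rwa [inv_inv] at h4
  have hvB : ∀ y ∈ B₁, y⁻¹ * autFun a y ∈ zz T R := by
    intro y hy
    rw [haf y hy]
    obtain ⟨y₀, hy₀, rfl⟩ := hζi.2 y hy
    rw [k1 _ hy₀]
    have hw := g3.1 y₀ hy₀
    have h5 := hdiff _ hw
    rw [g2 _ hy₀] at h5
    have h6 := zz_img hζ hRB hζR hRT h5 (hcz h5)
    rw [hζ.map_mul (Subgroup.inv_mem _ hy₀) (hGi.1 _ hw), hζ.map_inv hy₀] at h6
    exact h6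
  have hFA₁ := isFullyAutomized_of_isFullyNormalized (F := normalizerSystem F R hRS) hNp hM hfn₁
  have hind : a ∈ autInducedBy (normalizerIn S R) B₁ := v_stab hNp hfn₁.1 hFA₁ hcz hRB₁
    (fun a' ha' y hy => (img_of_norm hRS (mp_autFun hfn₁.1 ha') hRB₁).1 y hy)
    (fun a' ha' z hz => zz_img (mp_autFun hfn₁.1 ha') hRB₁ (img_of_norm hRS (mp_autFun hfn₁.1 ha') hRB₁) hRT hz (hcz hz))
    ha hvR hvB
  obtain ⟨s, hs, hse⟩ := (mem_autInducedBy_iff _ B₁ a).1 hind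
  have hse' : ∀ y ∈ B₁, autFun a y = s * y * s⁻¹ := by
    intro y hy
    rw [autFun_of_mem a hy]
    exact hse ⟨y, hy⟩
  have hsC : s ∈ centralizerIn S R := by
    refine mem_cent.2 ⟨hNS hs, fun r hr => ?_⟩
    have h1 := hse' r (hRB₁ hr)
    rw [hvR r hr] at h1
    have h2 : r * s = s * r * s⁻¹ * s := by rw [← h1]
    rw [h2]
    group
  -- the element `x₁ = ζ x`
  have hx₁B : extOf φ x ∈ B₁ := hζi.1 x hxB
  have hx₁C : extOf φ x ∈ centralizerIn S R := by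
    refine mem_cent.2 ⟨(hNS (hfn₁.1 hx₁B)), fun y hy => ?_⟩
    obtain ⟨r, hr, rfl⟩ := hζR.2 y hy
    rw [← hζ.map_mul (hRB hr) hxB, ← hζ.map_mul hxB (hRB hr), (mem_cent.1 hxC).2 r hr]
  have hz₀' : extOf φ (x⁻¹ * g x) ∈ zz T R := zz_img hζ hRB hζR hRT h₁x hz₀R
  have hz₁' : extOf φ (x⁻¹ * G x) ∈ zz T R := zz_img hζ hRB hζR hRT hz₁ hz₁R
  have hz₂ : (x⁻¹ * g x)⁻¹ * (x⁻¹ * G x) ∈ zz T R := Subgroup.mul_mem _ (Subgroup.inv_mem _ h₁x) hz₁
  have hz₂R : (x⁻¹ * g x)⁻¹ * (x⁻¹ * G x) ∈ R := hcz hz₂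
  have hvx : s * extOf φ x * s⁻¹ = extOf φ x * extOf φ ((x⁻¹ * g x)⁻¹ * (x⁻¹ * G x)) := by
    have h1 := hse' _ (hζi.1 _ (hgB x hxB))
    rw [haf _ (hζi.1 _ (hgB x hxB)), k1 _ (hgB x hxB), g1 x hxB] at h1
    have e1 : G x = x * (x⁻¹ * g x) * ((x⁻¹ * g x)⁻¹ * (x⁻¹ * G x)) := by group
    have e2 : g x = x * (x⁻¹ * g x) := by group
    have h2 : extOf φ (g x) = extOf φ x * extOf φ (x⁻¹ * g x) := by
      conv_lhs => rw [e2]
      exact hζ.map_mul hxB (hRB hz₀R)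
    have h3 : extOf φ (G x) = extOf φ x * extOf φ (x⁻¹ * g x) * extOf φ ((x⁻¹ * g x)⁻¹ * (x⁻¹ * G x)) := by
      conv_lhs => rw [e1]
      rw [hζ.map_mul (Subgroup.mul_mem _ hxB (hRB hz₀R)) (hRB hz₂R), hζ.map_mul hxB (hRB hz₀R)]
    rw [h2, h3] at h1
    have hsz : s * extOf φ (x⁻¹ * g x) = extOf φ (x⁻¹ * g x) * s :=
      ((mem_cent.1 hsC).2 _ (hcz hz₀')).symm
    have hcz₂ : extOf φ (x⁻¹ * g x) * extOf φ ((x⁻¹ * g x)⁻¹ * (x⁻¹ * G x)) =
        extOf φ ((x⁻¹ * g x)⁻¹ * (x⁻¹ * G x)) * extOf φ (x⁻¹ * g x) :=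
      (mem_zz.1 (zz_img hζ hRB hζR hRT hz₂ hz₂R)).2 _ (hcz hz₀')
    have h4 : s * (extOf φ x * extOf φ (x⁻¹ * g x)) * s⁻¹ = s * extOf φ x * s⁻¹ * extOf φ (x⁻¹ * g x) := by
      calc s * (extOf φ x * extOf φ (x⁻¹ * g x)) * s⁻¹ = s * extOf φ x * (extOf φ (x⁻¹ * g x) * s⁻¹) := by group
        _ = s * extOf φ x * (s⁻¹ * extOf φ (x⁻¹ * g x)) := by
          congr 1
          calc extOf φ (x⁻¹ * g x) * s⁻¹ = s⁻¹ * (s * extOf φ (x⁻¹ * g x)) * s⁻¹ := by group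
            _ = s⁻¹ * (extOf φ (x⁻¹ * g x) * s) * s⁻¹ := by rw [hsz]
            _ = s⁻¹ * extOf φ (x⁻¹ * g x) := by group
        _ = _ := by group
    rw [h4, mul_assoc (extOf φ x), hcz₂, ← mul_assoc] at h1
    exact mul_right_cancel h1.symm
  have hz' : extOf φ ((x⁻¹ * g x)⁻¹ * (x⁻¹ * G x)) ∈ zz T R := zz_img hζ hRB hζR hRT hz₂ hz₂R
  have hz'R : extOf φ ((x⁻¹ * g x)⁻¹ * (x⁻¹ * G x)) ∈ R := hcz hz'
  -- transporting `b`
  obtain ⟨h₃, hh₃, hh₃e⟩ := sI_mp hSI (P := R) (Q' := R) le_rfl hRT hb hbi.1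
    (mp_of_norm hRS (hζ.restrict hRB)) hζR
  have hh₃i : Img R h₃ R := by
    refine ⟨fun y hy => ?_, fun y hy => ?_⟩
    · obtain ⟨r, hr, rfl⟩ := hζR.2 y hy
      rw [hh₃e r hr]
      exact hζR.1 _ (hbi.1 r hr)
    · obtain ⟨r, hr, rfl⟩ := hζR.2 y hy
      obtain ⟨r₁, hr₁, rfl⟩ := hbi.2 r hr
      exact ⟨_, hζR.1 r₁ hr₁, hh₃e r₁ hr₁⟩
  obtain ⟨α₁, hα₁, hα₁e⟩ := hh₃.toAut hh₃i
  have hc' : ∀ Q, F.IsConj R Q → zz T Q ≤ Q := hc
  obtain ⟨Γ, hΓ, hΓe, hΓc⟩ := pi_main hS hN R hRT hc' α₁ hα₁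
  have hΓz : ∀ r ∈ R, Γ r = h₃ r := by
    intro r hr
    rw [hΓe r hr, autFun_of_mem α₁ hr]
    exact hα₁e ⟨r, hr⟩
  have hf₁ := hΓc s hsC
  have hh' := hΓc _ hx₁C
  have hf₁R := hcz hf₁
  have hh'R := hcz hh'
  have hsA : s ∈ R ⊔ centralizerIn S R := Subgroup.mem_sup_right hsC
  have hx₁A : extOf φ x ∈ R ⊔ centralizerIn S R := Subgroup.mem_sup_right hx₁C
  have hleR : R ≤ R ⊔ centralizerIn S R := le_sup_left
  have e1 : Γ (s * extOf φ x * s⁻¹) = Γ s * Γ (extOf φ x) * (Γ s)⁻¹ := hΓ.map_conj hsA hx₁A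
  rw [hvx, hΓ.map_mul hx₁A (hleR hz'R), hΓz _ hz'R] at e1
  have hfix : h₃ (extOf φ ((x⁻¹ * g x)⁻¹ * (x⁻¹ * G x))) = extOf φ ((x⁻¹ * g x)⁻¹ * (x⁻¹ * G x)) := by
    set z' := extOf φ ((x⁻¹ * g x)⁻¹ * (x⁻¹ * G x)) with hz'def
    set x₁ := extOf φ x with hx₁def
    set f₁ := s⁻¹ * Γ s with hf₁def
    set h' := x₁⁻¹ * Γ x₁ with hh'def
    have e2 : Γ s = s * f₁ := by rw [hf₁def]; group
    have e3 : Γ x₁ = x₁ * h' := by rw [hh'def]; group
    clear_value h' f₁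
    have c1 : f₁ * x₁ = x₁ * f₁ := (mem_cent.1 hx₁C).2 f₁ hf₁R
    have c2 : f₁ * h' = h' * f₁ := (mem_zz.1 hh').2 f₁ hf₁R
    have c3 : h' * s = s * h' := (mem_cent.1 hsC).2 h' hh'R
    have c4 : z' * h' = h' * z' := (mem_zz.1 hh').2 z' hz'R
    rw [e2, e3] at e1
    have e4 : s * f₁ * (x₁ * h') * (s * f₁)⁻¹ = s * x₁ * s⁻¹ * (s * h' * s⁻¹) := by
      calc s * f₁ * (x₁ * h') * (s * f₁)⁻¹ = s * (f₁ * x₁) * h' * f₁⁻¹ * s⁻¹ := by group
        _ = s * x₁ * (f₁ * h') * f₁⁻¹ * s⁻¹ := by rw [c1]; group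
        _ = s * x₁ * h' * s⁻¹ := by rw [c2]; group
        _ = s * x₁ * s⁻¹ * (s * h' * s⁻¹) := by group
    rw [e4, hvx] at e1
    have e5 : s * h' * s⁻¹ = h' := by
      rw [← c3]
      group
    rw [e5] at e1
    have e6 : z' * h' = h' * h₃ z' := by
      rw [mul_assoc, mul_assoc] at e1
      exact (mul_left_cancel e1).symm
    rw [c4] at e6
    exact (mul_left_cancel e6).symm
  have hbz : b ((x⁻¹ * g x)⁻¹ * (x⁻¹ * G x)) = (x⁻¹ * g x)⁻¹ * (x⁻¹ * G x) := by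
    rw [hh₃e _ hz₂R] at hfix
    exact hζ.inj (hRB (hbi.1 _ hz₂R)) (hRB hz₂R) hfix
  -- iterating
  have hGz : G ((x⁻¹ * g x)⁻¹ * (x⁻¹ * G x)) = (x⁻¹ * g x)⁻¹ * (x⁻¹ * G x) := by rw [h₂e _ hz₂R, hbz]
  have hbZ : ∀ u ∈ zz T R, b u ∈ zz T R := fun u hu => zz_img hb le_rfl hbi hRT hu (hcz hu)
  have hxA : x ∈ R ⊔ centralizerIn S R := hBA hxB
  have hit : ∀ n : ℕ, ∃ u ∈ zz T R, g^[n] x = x * u ∧ G^[n] x = x * u * ((x⁻¹ * g x)⁻¹ * (x⁻¹ * G x)) ^ n := by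
    intro n
    induction n with
    | zero =>
      exact ⟨1, Subgroup.one_mem _, by simp, by simp⟩
    | succ n ih =>
      obtain ⟨u, hu, e1', e2'⟩ := ih
      have huR := hcz hu
      refine ⟨(x⁻¹ * g x) * b u, Subgroup.mul_mem _ h₁x (hbZ u hu), ?_, ?_⟩
      · rw [Function.iterate_succ_apply', e1', h₁.map_mul hxB (hRB huR), h₁e u huR, hgx]
        simp [mul_assoc]
      · rw [Function.iterate_succ_apply', e2', h₂.map_mul (Subgroup.mul_mem _ hxA (hleR huR)) (Subgroup.pow_mem _ (hleR hz₂R) n),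
          h₂.map_mul hxA (hleR huR), mp_pow h₂ (hleR hz₂R) n, hGz, h₂e u huR]
        have c2 : ((x⁻¹ * g x)⁻¹ * (x⁻¹ * G x)) * b u = b u * ((x⁻¹ * g x)⁻¹ * (x⁻¹ * G x)) :=
          ((mem_zz.1 hz₂).2 _ (hcz (hbZ u hu))).symm
        exact calc_aux n (by group) c2
  obtain ⟨u, hu, h7, h7'⟩ := hit m
  rw [hm₁] at h7
  have hu1 : u = 1 := by
    have : x * u = x * 1 := by rw [← h7, mul_one]
    exact mul_left_cancel this
  rw [hm, hu1, mul_one] at h7'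
  have h8 : ((x⁻¹ * g x)⁻¹ * (x⁻¹ * G x)) ^ m = 1 := by
    have : x * ((x⁻¹ * g x)⁻¹ * (x⁻¹ * G x)) ^ m = x * 1 := by rw [← h7', mul_one]
    exact mul_left_cancel this
  have hzS : (x⁻¹ * g x)⁻¹ * (x⁻¹ * G x) ∈ S := hTS (mem_zz.1 hz₂).1
  obtain ⟨n, hn⟩ := hS ⟨_, hzS⟩
  have h9 : ((x⁻¹ * g x)⁻¹ * (x⁻¹ * G x)) ^ p ^ n = 1 := congrArg Subtype.val hn
  have h10 : orderOf ((x⁻¹ * g x)⁻¹ * (x⁻¹ * G x)) ∣ m := orderOf_dvd_of_pow_eq_one h8
  have h11 : orderOf ((x⁻¹ * g x)⁻¹ * (x⁻¹ * G x)) ∣ p ^ n := orderOf_dvd_of_pow_eq_one h9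
  have h12 : orderOf ((x⁻¹ * g x)⁻¹ * (x⁻¹ * G x)) = 1 :=
    Nat.eq_one_of_dvd_coprimes (Nat.Coprime.pow_right n hco) h10 h11
  rw [orderOf_eq_one_iff] at h12
  have h13 : x⁻¹ * G x = x⁻¹ * g x := by
    have := h12
    rw [inv_mul_eq_one] at this
    exact this.symm
  exact mul_left_cancel h13

end main

/-- The hypotheses on a subgroup of `C_S(T)` under which `E` centralizes it. -/
structure KGood (F : FusionSystem S) (E : FusionSystem T) (p : ℕ) (K : Subgroup Ω) : Prop where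
  le : K ≤ centralizerIn S T
  map : ∀ H, Mp F (T ⊔ centralizerIn S T) H → ∀ c ∈ K, H c ∈ K
  fix : ∀ R, F.IsFullyNormalized R → R ≤ T → (∀ Q, F.IsConj R Q → zz T Q ≤ Q) → ∀ a : MulAut R, a ∈ E.autGroup R →
    ∀ q : ℕ, q.Coprime p → a ^ q = 1 → ∀ Γ, Mp F (R ⊔ centralizerIn S R) Γ → (∀ x ∈ R, Γ x = autFun a x) →
      (∀ c ∈ centralizerIn S R, c⁻¹ * Γ c ∈ zz T R) → ∀ m : ℕ, m.Coprime p → (∀ x ∈ R ⊔ centralizerIn S R, Γ^[m] x = x) →
        ∀ c ∈ K, Γ c = c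

/-- `x` centralizes `T` and all maps of `E` extend fixing `x`. -/
def Fx (F : FusionSystem S) (E : FusionSystem T) (x : Ω) : Prop :=
  x ∈ centralizerIn S T ∧ ∀ P f, Mp E P f → ∃ g, Mp F (P ⊔ Subgroup.zpowers x) g ∧ (∀ y ∈ P, g y = f y) ∧ g x = x

/-- The subgroup generated by the elements of `Fx`. -/
def CC (F : FusionSystem S) (E : FusionSystem T) : Subgroup Ω := Subgroup.closure {x | Fx F E x}

theorem CC_le : CC F E ≤ centralizerIn S T := (Subgroup.closure_le _).2 (fun _ hx => hx.1)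

/-- The maps that extend fixing `K`. -/
def Dm (F : FusionSystem S) (K X : Subgroup Ω) (f : Ω → Ω) : Prop :=
  ∃ g, Mp F (X ⊔ K) g ∧ (∀ y ∈ X, g y = f y) ∧ ∀ c ∈ K, g c = c

variable {K : Subgroup Ω}

theorem Dm.restrict {X' : Subgroup Ω} (h : Dm F K X f) (hX : X' ≤ X) : Dm F K X' f := by
  obtain ⟨g, hg, h1, h2⟩ := h
  exact ⟨g, hg.restrict (sup_le_sup_right hX _), fun y hy => h1 y (hX hy), h2⟩

theorem Dm.congr {f' : Ω → Ω} (h : Dm F K X f) (e : ∀ x ∈ X, f x = f' x) : Dm F K X f' := by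
  obtain ⟨g, hg, h1, h2⟩ := h
  exact ⟨g, hg, fun y hy => (h1 y hy).trans (e y hy), h2⟩

theorem Dm.comp {f' : Ω → Ω} (hf : Dm F K X f) (hm : ∀ x ∈ X, f x ∈ Y) (hf' : Dm F K Y f') : Dm F K X (fun x => f' (f x)) := by
  obtain ⟨g, hg, h1, h2⟩ := hf
  obtain ⟨g', hg', h1', h2'⟩ := hf'
  have hmap : ∀ x ∈ X ⊔ K, g x ∈ Y ⊔ K := maps_sup hg
    (fun a ha => by rw [h1 a ha]; exact Subgroup.mem_sup_left (hm a ha))
    (fun c hc => by rw [h2 c hc]; exact Subgroup.mem_sup_right hc)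
  refine ⟨fun x => g' (g x), hg.comp hmap hg', fun y hy => ?_, fun c hc => ?_⟩
  · show g' (g y) = f' (f y)
    rw [h1 y hy, h1' _ (hm y hy)]
  · show g' (g c) = c
    rw [h2 c hc, h2' c hc]

theorem Dm.inverse {f' : Ω → Ω} (hf : Dm F K X f) (h2 : ∀ y ∈ Y, f' y ∈ X) (h3 : ∀ y ∈ Y, f (f' y) = y) : Dm F K Y f' := by
  obtain ⟨g, hg, h1, h4⟩ := hf
  obtain ⟨W, hW⟩ := hg.exists_img
  obtain ⟨gi, hgi, i1, -, -⟩ := hg.inverse hW
  have hd : Y ⊔ K ≤ W := sup_le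
    (fun y hy => by
      rw [← h3 y hy, ← h1 _ (h2 y hy)]
      exact hW.1 _ (Subgroup.mem_sup_left (h2 y hy)))
    (fun c hc => by
      rw [← h4 c hc]
      exact hW.1 _ (Subgroup.mem_sup_right hc))
  refine ⟨gi, hgi.restrict hd, fun y hy => ?_, fun c hc => ?_⟩
  · have := i1 (f' y) (Subgroup.mem_sup_left (h2 y hy))
    rwa [h1 _ (h2 y hy), h3 y hy] at this
  · have := i1 c (Subgroup.mem_sup_right hc)
    rwa [h4 c hc] at this

theorem Dm.refl (hK : KGood F E p K) (hX : X ≤ S) : Dm F K X (fun x => x) :=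
  ⟨fun x => x, Mp.refl (sup_le hX (hK.le.trans inf_le_left)), fun _ _ => rfl, fun _ _ => rfl⟩

theorem Dm.conj (hK : KGood F E p K) (hTS : T ≤ S) (hX : X ≤ S) {t : Ω} (ht : t ∈ T) : Dm F K X (fun x => t * x * t⁻¹) := by
  refine ⟨fun x => t * x * t⁻¹, Mp.conj (sup_le hX (hK.le.trans inf_le_left)) (hTS ht), fun _ _ => rfl, fun c hc => ?_⟩
  have := (mem_cent.1 (hK.le hc)).2 t ht
  show t * c * t⁻¹ = c
  rw [this]
  group

section main2

variable [Finite S]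

theorem fx_transport (hT : F.StronglyClosed T) (hSI : StrongInv F E) {x : Ω} {ψ : Ω → Ω} (hx : Fx F E x)
    (hψ : Mp F (T ⊔ Subgroup.zpowers x) ψ) : Fx F E (ψ x) := by
  have hTW : T ≤ T ⊔ Subgroup.zpowers x := le_sup_left
  have hxW : x ∈ T ⊔ Subgroup.zpowers x := Subgroup.mem_sup_right (Subgroup.mem_zpowers x)
  have hψT : Img T ψ T := LowPi.img_self (hψ.restrict hTW) (fun t ht => sc_mp hT (hψ.restrict hTW) le_rfl ht)
  obtain ⟨W₁, hW₁⟩ := hψ.exists_img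
  obtain ⟨ψi, hψi, i1, i2, i3⟩ := hψ.inverse hW₁
  have hTW₁ : T ≤ W₁ := fun t ht => by
    obtain ⟨t₀, h0, rfl⟩ := hψT.2 t ht
    exact hW₁.1 _ (hTW h0)
  have hyW₁ : ψ x ∈ W₁ := hW₁.1 x hxW
  have hψiT : ∀ t ∈ T, ψi t ∈ T := fun t ht => by
    obtain ⟨t₀, h0, rfl⟩ := hψT.2 t ht
    rw [i1 _ (hTW h0)]
    exact h0
  refine ⟨mem_cent.2 ⟨hψ.mem_S hxW, fun t ht => ?_⟩, fun P f hf => ?_⟩
  · obtain ⟨t₀, h0, rfl⟩ := hψT.2 t ht
    rw [← hψ.map_mul (hTW h0) hxW, ← hψ.map_mul hxW (hTW h0), (mem_cent.1 hx.1).2 t₀ h0]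
  · have hPT : P ≤ T := hf.le
    have hPW₁ : P ≤ W₁ := hPT.trans hTW₁
    obtain ⟨P₀, hP₀⟩ := (hψi.restrict hPW₁).exists_img
    obtain ⟨h₀, hh₀, hh₀e⟩ := sI_mp hSI hPT le_rfl hf (fun y hy => hf.mem_S hy) (hψi.restrict hTW₁) hP₀
    obtain ⟨g₀, hg₀, hg₀e, hg₀x⟩ := hx.2 P₀ h₀ hh₀
    have hd : P ⊔ Subgroup.zpowers (ψ x) ≤ W₁ := sup_le hPW₁ ((Subgroup.zpowers_le).2 hyW₁)
    have hm1 : ∀ y ∈ P ⊔ Subgroup.zpowers (ψ x), ψi y ∈ P₀ ⊔ Subgroup.zpowers x :=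
      maps_sup_z (hψi.restrict hd) (fun y hy => Subgroup.mem_sup_left (hP₀.1 y hy))
        (by rw [i1 x hxW]; exact Subgroup.mem_sup_right (Subgroup.mem_zpowers x))
    have hm2 : ∀ y ∈ P₀ ⊔ Subgroup.zpowers x, g₀ y ∈ T ⊔ Subgroup.zpowers x :=
      maps_sup_z hg₀ (fun y hy => by rw [hg₀e y hy]; exact hTW (hh₀.mem_S hy)) (by rw [hg₀x]; exact hxW)
    refine ⟨fun y => ψ (g₀ (ψi y)), (((hψi.restrict hd).comp hm1 hg₀).comp (fun y hy => hm2 _ (hm1 y hy)) hψ), fun y hy => ?_, ?_⟩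
    · show ψ (g₀ (ψi y)) = f y
      rw [hg₀e _ (hP₀.1 y hy), hh₀e y hy, i2 _ (hTW₁ (hf.mem_S hy))]
    · show ψ (g₀ (ψi (ψ x))) = ψ x
      rw [i1 x hxW, hg₀x]

theorem CC_map (hT : F.StronglyClosed T) (hSI : StrongInv F E) {H : Ω → Ω} (hH : Mp F (T ⊔ centralizerIn S T) H) :
    ∀ c ∈ CC F E, H c ∈ CC F E := by
  intro c hc
  induction hc using Subgroup.closure_induction with
  | mem x hx =>
    have hd : T ⊔ Subgroup.zpowers x ≤ T ⊔ centralizerIn S T :=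
      sup_le le_sup_left ((Subgroup.zpowers_le).2 (Subgroup.mem_sup_right hx.1))
    exact Subgroup.subset_closure (fx_transport hT hSI hx (hH.restrict hd))
  | one =>
    rw [hH.map_one]
    exact Subgroup.one_mem _
  | mul x y hx hy ihx ihy =>
    rw [hH.map_mul (Subgroup.mem_sup_right (CC_le hx)) (Subgroup.mem_sup_right (CC_le hy))]
    exact Subgroup.mul_mem _ ihx ihy
  | inv x hx ih =>
    rw [hH.map_inv (Subgroup.mem_sup_right (CC_le hx))]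
    exact Subgroup.inv_mem _ ih

theorem Dm.tw [Fact p.Prime] (hK : KGood F E p K) (hS : IsPGroup p S) (hF : F.IsSaturated p) (hT : F.StronglyClosed T)
    {a : MulAut T} (ha : a ∈ F.autGroup T) (hfT : ∀ x ∈ X, f x ∈ T) (h : Dm F K X f) : Dm F K (cjB a X) (twB a f) := by
  have hTS : T ≤ S := hT.1
  have hrT := isReceptive_of_isFullyNormalized F hS hF (Cfsg.Agent.Lib.FusionExt.PPowerNormal.isFullyNormalized_of_stronglyClosed hT)
  obtain ⟨H, hH, hHe⟩ := ext_cent hrT (mp_autFun hTS ha) (img_autFun a)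
  have hCm := hK.map H hH
  obtain ⟨W, hW⟩ := hH.exists_img
  obtain ⟨Hi, hHi, i1, i2, i3⟩ := hH.inverse hW
  have hCA : K ≤ T ⊔ centralizerIn S T := hK.le.trans le_sup_right
  have hTW : T ≤ W := fun t ht => by
    have h1 := hW.1 (autFun a⁻¹ t) (Subgroup.mem_sup_left (autFun_mem _ ht))
    rwa [hHe _ (autFun_mem _ ht), autFun_apply_inv] at h1
  have hiC : Img (K) H (K) := LowPi.img_self (hH.restrict hCA) hCm
  have hCW : K ≤ W := fun c hc => by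
    obtain ⟨c₀, h0, rfl⟩ := hiC.2 c hc
    exact hW.1 _ (hCA h0)
  obtain ⟨g, hg, h1, h2⟩ := h
  have d1 : cjB a X ⊔ K ≤ T ⊔ centralizerIn S T := sup_le (fun y hy => Subgroup.mem_sup_left hy.1) hCA
  have hm1 : ∀ y ∈ cjB a X ⊔ K, H y ∈ X ⊔ K := maps_sup (hH.restrict d1)
    (fun y hy => by rw [hHe y hy.1]; exact Subgroup.mem_sup_left hy.2)
    (fun c hc => Subgroup.mem_sup_right (hCm c hc))
  have hm2 : ∀ y ∈ X ⊔ K, g y ∈ T ⊔ K := maps_sup hg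
    (fun y hy => by rw [h1 y hy]; exact Subgroup.mem_sup_left (hfT y hy))
    (fun c hc => by rw [h2 c hc]; exact Subgroup.mem_sup_right hc)
  have d2 : T ⊔ K ≤ W := sup_le hTW hCW
  have hHia : ∀ t ∈ T, Hi t = autFun a⁻¹ t := by
    intro t ht
    have h3 := i1 (autFun a⁻¹ t) (Subgroup.mem_sup_left (autFun_mem _ ht))
    rwa [hHe _ (autFun_mem _ ht), autFun_apply_inv] at h3
  refine ⟨fun y => Hi (g (H y)), ((hH.restrict d1).comp hm1 hg).comp (fun y hy => hm2 _ (hm1 y hy)) (hHi.restrict d2), fun y hy => ?_, fun c hc => ?_⟩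
  · show Hi (g (H y)) = autFun a⁻¹ (f (autFun a y))
    rw [hHe y hy.1, h1 _ hy.2, hHia _ (hfT _ hy.2)]
  · show Hi (g (H c)) = c
    rw [h2 _ (hCm c hc)]
    exact i1 c (hCA hc)

end main2

section main3

variable [Finite S] [Fact p.Prime]

/-- Elements of `Aut_E(R)`, for `R` fully normalized in `F`, extend fixing `CC`. -/
theorem dm_fn (hK : KGood F E p K) (hS : IsPGroup p S) (hN : E.IsNormalIn F p) (hfn : F.IsFullyNormalized R) (hRT : R ≤ T)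
    (hc : ∀ Q, F.IsConj R Q → zz T Q ≤ Q) {α : MulAut R} (hα : α ∈ E.autGroup R) : Dm F K R (autFun α) := by
  obtain ⟨⟨hEs, hF, hsub, hT, hInv, hFr⟩, hext⟩ := id hN
  have hRS : R ≤ S := hfn.1
  have hTS : T ≤ S := hT.1
  have hTp : IsPGroup p T := hS.to_le hTS
  haveI : Finite T := finite_of_le hTS
  haveI : Finite R := finite_of_le hRS
  haveI : Finite (MulAut R) := Cfsg.Agent.Lib.Fusion.Basic.finite_mulAut_of_finite (A := R)
  have hcz : zz T R ≤ R := hc R (isConj_refl F hRS)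
  have hfnE : E.IsFullyNormalized R := fn_sub hS hF hsub hT hfn hRT
  have hFA := isFullyAutomized_of_isFullyNormalized (F := E) hTp hEs hfnE
  let FF : Subgroup (MulAut R) := finSub
    { carrier := {a | a ∈ E.autGroup R ∧ Dm F K R (autFun a)}
      one_mem' := ⟨Subgroup.one_mem _, (Dm.refl hK hRS).congr (fun x _ => (autFun_one_apply x).symm)⟩
      mul_mem' := by
        rintro a b ⟨h1, h2⟩ ⟨h3, h4⟩
        exact ⟨Subgroup.mul_mem _ h1 h3, (h4.comp (img_autFun b).1 h2).congr (fun x _ => (autFun_mul_apply a b x).symm)⟩ }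
  have hFFA : FF ≤ E.autGroup R := fun a ha => ha.1
  have hWFF : autInducedBy T R ≤ FF := by
    intro a ha
    refine ⟨autInducedBy_le_autGroup E hRT ha, ?_⟩
    obtain ⟨t, ht, hte⟩ := (mem_autInducedBy_iff T R a).1 ha
    refine (Dm.conj hK hTS hRS ht).congr (fun x hx => ?_)
    rw [autFun_of_mem a hx]
    exact (hte ⟨x, hx⟩).symm
  have hp' : ∀ a ∈ E.autGroup R, (∃ q : ℕ, q.Coprime p ∧ a ^ q = 1) → a ∈ FF := by
    rintro a ha ⟨q, hq, hqe⟩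
    refine ⟨ha, ?_⟩
    have hpp : Pp E p R (autFun a) := by
      refine ⟨mp_autFun hRT ha, img_autFun a, q, hq, fun x hx => ?_⟩
      rw [show x = ((⟨x, hx⟩ : R) : Ω) from rfl, iterate_autFun, hqe]
      rfl
    have hppF : Pp F p R (autFun a) := ⟨mp_sub hsub hpp.1, hpp.2.1, hpp.2.2⟩
    obtain ⟨g₀, hg₀, hg₀e, hg₀c⟩ := pi_main hS hN R hRT hc a ha
    have hg₀i : Img R g₀ R := (img_autFun a).congr (fun x hx => (hg₀e x hx).symm)
    have hg₀A : Img (R ⊔ centralizerIn S R) g₀ (R ⊔ centralizerIn S R) :=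
      LowPi.img_self hg₀ (pi_maps hcz hg₀ hg₀i.1 hg₀c)
    obtain ⟨Γ, m', hΓ, hΓe, hΓit⟩ := pp_extend' (sup_le hRS inf_le_left) hg₀ hg₀A le_sup_left hppF hg₀e
    obtain ⟨hΓm, hΓi, m, hm, hper⟩ := hΓ
    have hΓc : ∀ c ∈ centralizerIn S R, c⁻¹ * Γ c ∈ zz T R := by
      intro c hc'
      rw [hΓit c (Subgroup.mem_sup_right hc')]
      exact iter_zz hRT hcz hg₀ hg₀i hg₀c m' hc'
    have hCC : K ≤ centralizerIn S R := hK.le.trans (cent_anti hRT)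
    exact ⟨Γ, hΓm.restrict (sup_le_sup_left hCC _), hΓe, hK.fix R hfn hRT hc a ha q hq hqe Γ hΓm hΓe hΓc m hm hper⟩
  have hEq := eq_of_sylow_pprime (p := p) hFA.2 hWFF hFFA hp'
  have : α ∈ FF := by
    rw [hEq]
    exact hα
  exact this.2

/-- Maps of `E` between `Hc` subgroups with an `F`-fully normalized conjugate. -/
theorem dm_step (hK : KGood F E p K) (hS : IsPGroup p S) (hN : E.IsNormalIn F p) {R' : Subgroup Ω} (hfn : F.IsFullyNormalized R')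
    (hRT : R ≤ T) (hc : ∀ Q, F.IsConj R Q → zz T Q ≤ Q) {ε : Ω → Ω} (hε : Mp E R ε) (hεi : Img R ε R')
    (hIH : ∀ R₁ : Subgroup Ω, Nat.card R < Nat.card R₁ → R₁ ≤ T → (∀ Q, F.IsConj R₁ Q → zz T Q ≤ Q) → ∀ f, Mp E R₁ f → Dm F K R₁ f)
    {f : Ω → Ω} (hf : Mp E R f) : Dm F K R f := by
  obtain ⟨⟨hEs, hF, hsub, hT, hInv, hFr⟩, hext⟩ := id hN
  have hTS : T ≤ S := hT.1
  have hTp : IsPGroup p T := hS.to_le hTS
  haveI : Finite T := finite_of_le hTS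
  have hR'T : R' ≤ T := hε.img_le hεi
  have hfnE : E.IsFullyNormalized R' := fn_sub hS hF hsub hT hfn hR'T
  have hFA := isFullyAutomized_of_isFullyNormalized (F := E) hTp hEs hfnE
  have hrE := isReceptive_of_isFullyNormalized (F := E) hTp hEs hfnE
  have hcR' : ∀ Q, F.IsConj R' Q → zz T Q ≤ Q := fun Q hQ =>
    hc Q (isConj_trans F ((mp_sub hsub hε).isConj hεi) hQ)
  have hcard : Nat.card R' = Nat.card R := hε.card_img hεi
  -- arrows to `R'`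
  have hL : ∀ Q, E.IsConj Q R' → (∀ Q', F.IsConj Q Q' → zz T Q' ≤ Q') → ∃ m, Mp E Q m ∧ Img Q m R' ∧ Dm F K Q m := by
    intro Q hQ hcQ
    have hQT : Q ≤ T := isConj_left_le E hQ
    have hcardQ : Nat.card Q = Nat.card R' := isConj_card_eq E hQ
    by_cases hQe : Q = T
    · have hR'e : R' = T := Subgroup.eq_of_le_of_card_ge hR'T (by rw [← hcardQ, hQe])
      subst hQe
      rw [hR'e]
      exact ⟨fun x => x, Mp.refl le_rfl, img_refl _, Dm.refl hK hTS⟩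
    have hlt : Q < T := lt_of_le_of_ne hQT hQe
    have hQN : Q < normalizerIn T Q := lt_normalizerIn hTp hlt
    have hNT : normalizerIn T Q ≤ T := normalizerIn_le_left T Q
    obtain ⟨μ, hμ, -, hμr⟩ := exists_normalizer_map E hTp hFA hrE hQ
    have him := img_of_normalizer_map hQN.le μ hμr
    have hm := mp_of_hom hμ
    refine ⟨extOf μ, hm.restrict hQN.le, him, ?_⟩
    have hcN : Nat.card Q < Nat.card (normalizerIn T Q) := card_lt_of_lt (S := S) hQN.le hQN.ne (hNT.trans hTS)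
    have hD := hIH (normalizerIn T Q) (by rw [← hcard, ← hcardQ]; exact hcN) hNT (fun Q' hQ' => hc_up hcQ hQN.le hQ') _ hm
    exact hD.restrict hQN.le
  obtain ⟨R₂, hR₂⟩ := hf.exists_img
  obtain ⟨fi, hfi, f1, f2, f3⟩ := hf.inverse hR₂
  have hfF : Mp F R f := mp_sub hsub hf
  have hcR₂ : ∀ Q, F.IsConj R₂ Q → zz T Q ≤ Q := fun Q hQ => hc Q (isConj_trans F (hfF.isConj hR₂) hQ)
  have hconj₁ : E.IsConj R R' := hε.isConj hεi
  have hconj₂ : E.IsConj R₂ R' := isConj_trans E (isConj_symm E (hf.isConj hR₂)) hconj₁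
  obtain ⟨m₁, hm₁, hm₁i, hD₁⟩ := hL R hconj₁ hc
  obtain ⟨m₂, hm₂, hm₂i, hD₂⟩ := hL R₂ hconj₂ hcR₂
  obtain ⟨m₁', hm₁', a1, a2, a3⟩ := hm₁.inverse hm₁i
  obtain ⟨m₂', hm₂', b1, b2, b3⟩ := hm₂.inverse hm₂i
  have hb : Mp E R' (fun y => m₂ (f (m₁' y))) := hm₁'.comp a3.1 (hf.comp hR₂.1 hm₂)
  have hbi : Img R' (fun y => m₂ (f (m₁' y))) R' := a3.comp (hR₂.comp hm₂i)
  obtain ⟨β, hβ, hβe⟩ := hb.toAut hbi
  have hDβ : Dm F K R' (fun y => m₂ (f (m₁' y))) := (dm_fn hK hS hN hfn hR'T hcR' hβ).congr (fun y hy => by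
    rw [autFun_of_mem β hy]
    exact hβe ⟨y, hy⟩)
  have hD₂' : Dm F K R' m₂' := hD₂.inverse b3.1 b2
  have h1 : Dm F K R (fun x => m₂' ((fun y => m₂ (f (m₁' y))) (m₁ x))) :=
    (hD₁.comp hm₁i.1 hDβ).comp (Y := R') (fun x hx => hbi.1 _ (hm₁i.1 x hx)) hD₂'
  refine h1.congr (fun x hx => ?_)
  show m₂' (m₂ (f (m₁' (m₁ x)))) = f x
  rw [a1 x hx, b1 _ (hR₂.1 x hx)]

/-- Maps of `E` on `Hc` subgroups extend fixing `CC`. -/
theorem dm_hc (hK : KGood F E p K) (hS : IsPGroup p S) (hN : E.IsNormalIn F p) :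
    ∀ (d : ℕ) (R : Subgroup Ω), Nat.card T - Nat.card R = d → R ≤ T → (∀ Q, F.IsConj R Q → zz T Q ≤ Q) →
      ∀ f, Mp E R f → Dm F K R f := by
  obtain ⟨⟨hEs, hF, hsub, hT, hInv, hFr⟩, hext⟩ := id hN
  have hSI : StrongInv F E := strong_of_inv hInv hFr
  have hTS : T ≤ S := hT.1
  haveI : Finite T := finite_of_le hTS
  intro d
  induction d using Nat.strong_induction_on with
  | _ d ih =>
  intro R hd hRT hc f hf
  have hRS : R ≤ S := hRT.trans hTS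
  obtain ⟨R', hRR', hfn⟩ := exists_isFullyNormalized F hRS
  obtain ⟨φ, hφ, hφr⟩ := id hRR'
  obtain ⟨a, ha, φ₀, hφ₀, e⟩ := hFr R hRT φ hφ
  have hai : a⁻¹ ∈ F.autGroup T := Subgroup.inv_mem _ ha
  have hv : ∀ x : R, φ₀ x ∈ T := fun x => val_mem E hφ₀ x
  have hfi : Mp E (cjB a⁻¹ R) (twB a⁻¹ f) := tw_sI hTS hSI hai hf
  have hεi : Mp E (cjB a⁻¹ R) (twB a⁻¹ (extOf φ₀)) := tw_sI hTS hSI hai (mp_of_hom hφ₀)
  have hinv : ∀ x, autFun (a⁻¹)⁻¹ x = autFun a x := by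
    intro x
    rw [inv_inv]
  have hval : ∀ x (hx : x ∈ R), autFun a (extOf φ₀ x) = φ ⟨x, hx⟩ := by
    intro x hx
    rw [extOf_of_mem φ₀ hx, e ⟨x, hx⟩ (hv _), autFun_of_mem a (hv _)]
  have himg : Img (cjB a⁻¹ R) (twB a⁻¹ (extOf φ₀)) R' := by
    refine ⟨fun y hy => ?_, fun y hy => ?_⟩
    · show autFun (a⁻¹)⁻¹ (extOf φ₀ (autFun a⁻¹ y)) ∈ R'
      rw [hinv, hval _ hy.2, ← hφr]
      exact ⟨_, rfl⟩
    · rw [← hφr] at hy
      obtain ⟨⟨x, hx⟩, rfl⟩ := hy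
      refine ⟨autFun a x, ⟨autFun_mem a (hRT hx), by rwa [autFun_inv_apply]⟩, ?_⟩
      show autFun (a⁻¹)⁻¹ (extOf φ₀ (autFun a⁻¹ (autFun a x))) = _
      rw [hinv, autFun_inv_apply, hval x hx]
  have hcardc : Nat.card (cjB a⁻¹ R) = Nat.card R := card_cjB a⁻¹ hRT
  have hRe : ∀ y ∈ cjB a⁻¹ R, autFun a⁻¹ y ∈ R := fun y hy => hy.2
  have hc' : ∀ Q, F.IsConj (cjB a⁻¹ R) Q → zz T Q ≤ Q := by
    intro Q hQ
    refine hc Q (isConj_trans F ?_ hQ)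
    have hmm : Mp F R (autFun a) := (mp_autFun hTS ha).restrict hRT
    refine hmm.isConj ⟨fun x hx => ⟨autFun_mem a (hRT hx), by rwa [autFun_inv_apply]⟩, fun y hy => ⟨_, hy.2, autFun_apply_inv a y⟩⟩
  have hD := dm_step hK (R := cjB a⁻¹ R) hS hN hfn (fun y hy => hy.1) hc' hεi himg (fun R₁ hR₁ hR₁T hcR₁ f₁ hf₁ => by
    have h1 : Nat.card R₁ ≤ Nat.card T := Subgroup.card_le_of_le hR₁T
    have h2 : Nat.card R < Nat.card R₁ := by rwa [hcardc] at hR₁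
    exact ih _ (by omega) R₁ rfl hR₁T hcR₁ f₁ hf₁) hfi
  have hD' := hD.tw hK hS hF hT ha (fun x hx => hfi.mem_S hx)
  refine (hD'.restrict (X' := R) (fun x hx => ⟨hRT hx, autFun_mem _ (hRT hx), by rwa [autFun_inv_apply]⟩)).congr (fun x hx => ?_)
  show autFun a⁻¹ (twB a⁻¹ f (autFun a x)) = f x
  show autFun a⁻¹ (autFun (a⁻¹)⁻¹ (f (autFun a⁻¹ (autFun a x)))) = f x
  rw [autFun_inv_apply, inv_inv, autFun_inv_apply]

/-- All maps of `E` extend fixing `CC`. -/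
theorem dm_all (hK : KGood F E p K) (hS : IsPGroup p S) (hN : E.IsNormalIn F p) (P : Subgroup Ω) (f : Ω → Ω) (hf : Mp E P f) : Dm F K P f := by
  obtain ⟨⟨hEs, hF, hsub, hT, hInv, hFr⟩, hext⟩ := id hN
  have hTS : T ≤ S := hT.1
  have hTp : IsPGroup p T := hS.to_le hTS
  haveI : Finite T := finite_of_le hTS
  obtain ⟨φ, hφ, e⟩ := hf
  have key : Dm F K P (extOf φ) := by
    refine Cfsg.Agent.Lib.Fusion.Alperin.alperin_induction E hTp hEs (fun P φ => Dm F K P (extOf φ)) ?_ ?_ ?_ ?_ P φ hφ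
    · intro Q hQ α hα
      have hQT : Q ≤ T := by
        rcases hQ with hQ | hQ
        · exact hQ.le
        · exact hQ.1.1
      have hc : ∀ Q', F.IsConj Q Q' → zz T Q' ≤ Q' := by
        rcases hQ with hQe | hQ
        · intro Q' hQ'
          obtain ⟨ρ, hρ, hρr⟩ := hQ'
          have hle : Q' ≤ T := by
            rw [← hρr]
            rintro _ ⟨x, rfl⟩
            exact hT.2 Q hQT ρ hρ x
          have hcard : Nat.card T ≤ Nat.card Q' := by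
            rw [← hρr, card_range F hρ, hQe]
          have : Q' = T := Subgroup.eq_of_le_of_card_ge hle hcard
          rw [this]
          exact inf_le_left
        · exact fun Q' hQ' => hc_of_centric hFr hQ.1 hQ'
      exact dm_hc hK hS hN _ Q rfl hQT hc _ (mp_autFun hQT hα)
    · intro Q Q' h ρ _ hρ
      refine (hρ.restrict h).congr (fun x hx => ?_)
      rw [extOf_of_mem ρ (h hx), extOf_of_mem _ hx]
      rfl
    · intro A B C e e' _ _ h h'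
      refine (h.comp (Y := B) (fun x hx => ?_) h').congr (fun x hx => ?_)
      · rw [extOf_of_mem _ hx]
        exact (e ⟨x, hx⟩).2
      · have e1 : extOf (isoHom e) x = ((e ⟨x, hx⟩ : B) : Ω) := extOf_of_mem _ hx
        show extOf (isoHom e') (extOf (isoHom e) x) = _
        rw [e1, extOf_of_mem _ (e ⟨x, hx⟩).2, extOf_of_mem _ hx]
        rfl
    · intro A B e _ h
      refine h.inverse (f' := extOf (isoHom e.symm)) (fun y hy => ?_) (fun y hy => ?_)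
      · rw [extOf_of_mem _ hy]
        exact (e.symm ⟨y, hy⟩).2
      · have e1 : extOf (isoHom e.symm) y = ((e.symm ⟨y, hy⟩ : A) : Ω) := extOf_of_mem _ hy
        rw [e1, extOf_of_mem _ (e.symm ⟨y, hy⟩).2]
        show ((e ⟨_, _⟩ : B) : Ω) = y
        simp
  exact key.congr (fun x hx => by
    rw [extOf_of_mem φ hx]
    exact e ⟨x, hx⟩)

/-- Every element of a good subgroup has the property `Fx`. -/
theorem fx_of_good (hK : KGood F E p K) (hS : IsPGroup p S) (hN : E.IsNormalIn F p) {c : Ω} (hc : c ∈ K) : Fx F E c := by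
  refine ⟨hK.le hc, fun P f hf => ?_⟩
  obtain ⟨g, hg, h1, h2⟩ := dm_all hK hS hN P f hf
  exact ⟨g, hg.restrict (sup_le_sup_left ((Subgroup.zpowers_le).2 hc) _), h1, h2 c hc⟩

/-- `CC` is good. -/
theorem CC_good (hS : IsPGroup p S) (hN : E.IsNormalIn F p) : KGood F E p (CC F E) := by
  obtain ⟨⟨hEs, hF, hsub, hT, hInv, hFr⟩, hext⟩ := id hN
  have hSI : StrongInv F E := strong_of_inv hInv hFr
  refine ⟨CC_le, fun H hH => CC_map hT hSI hH, ?_⟩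
  intro R hfn hRT hc a ha q hq hqe Γ hΓm hΓe hΓc m hm hper
  have hpp : Mp E R (autFun a) := mp_autFun hRT ha
  have hfix : ∀ x, Fx F E x → Γ x = x := by
    intro x hx
    have hxC : x ∈ centralizerIn S R := mem_cent.2 ⟨(mem_cent.1 hx.1).1, fun y hy => (mem_cent.1 hx.1).2 y (hRT hy)⟩
    obtain ⟨g₁, hg₁, h1, h2⟩ := hx.2 R _ hpp
    have hgm : g₁^[m] x = x := Function.iterate_fixed h2 m
    have := fix_unique' hS hN hfn hRT hc hx.1 hpp (img_autFun a) hg₁ h1 (by rw [h2, inv_mul_cancel]; exact Subgroup.one_mem _)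
      hΓm hΓe hΓc hgm (hper x (Subgroup.mem_sup_right hxC)) hm
    rw [this, h2]
  have hCC : CC F E ≤ centralizerIn S R := CC_le.trans (cent_anti hRT)
  intro c hc'
  induction hc' using Subgroup.closure_induction with
  | mem x hx => exact hfix x hx
  | one => exact hΓm.map_one
  | mul x y hx hy ihx ihy =>
    rw [hΓm.map_mul (Subgroup.mem_sup_right (hCC hx)) (Subgroup.mem_sup_right (hCC hy)), ihx, ihy]
  | inv x hx ih =>
    rw [hΓm.map_inv (Subgroup.mem_sup_right (hCC hx)), ih]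

/-- Every element of `CC` has the property `Fx`. -/
theorem fx_of_mem (hS : IsPGroup p S) (hN : E.IsNormalIn F p) {c : Ω} (hc : c ∈ CC F E) : Fx F E c :=
  fx_of_good (CC_good hS hN) hS hN hc

end main3

end Cfsg.Agent.Lib.FusionExt.CentE
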