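import Cfsg.Agent.Lib.FusionExt.Basic
import Cfsg.Prelude.Def_FusionComponents

/-!
# Direct products of fusion systems (helper92)
-/

set_option autoImplicit false

namespace Cfsg.Agent.Lib.FusionExt.Product

open Cfsg Cfsg.FusionSystem Cfsg.Agent.Lib.Fusion.Basic

variable {Ω₁ Ω₂ : Type*} [Group Ω₁] [Group Ω₂] {S₁ : Subgroup Ω₁} {S₂ : Subgroup Ω₂}

theorem fst_mem {P : Subgroup (Ω₁ × Ω₂)} (x : P) : (x : Ω₁ × Ω₂).1 ∈ P.map (MonoidHom.fst Ω₁ Ω₂) :=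
  ⟨x, x.2, rfl⟩

theorem snd_mem {P : Subgroup (Ω₁ × Ω₂)} (x : P) : (x : Ω₁ × Ω₂).2 ∈ P.map (MonoidHom.snd Ω₁ Ω₂) :=
  ⟨x, x.2, rfl⟩

theorem map_fst_le {P : Subgroup (Ω₁ × Ω₂)} (hP : P ≤ S₁.prod S₂) : P.map (MonoidHom.fst Ω₁ Ω₂) ≤ S₁ := by
  rintro _ ⟨x, hx, rfl⟩
  exact (hP hx).1

theorem map_snd_le {P : Subgroup (Ω₁ × Ω₂)} (hP : P ≤ S₁.prod S₂) : P.map (MonoidHom.snd Ω₁ Ω₂) ≤ S₂ := by
  rintro _ ⟨x, hx, rfl⟩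
  exact (hP hx).2

/-- The direct product of two fusion systems. -/
def productSystem (F₁ : FusionSystem S₁) (F₂ : FusionSystem S₂) : FusionSystem (S₁.prod S₂) where
  Hom P := {φ | P ≤ S₁.prod S₂ ∧
      ∃ φ₁ ∈ F₁.Hom (P.map (MonoidHom.fst Ω₁ Ω₂)), ∃ φ₂ ∈ F₂.Hom (P.map (MonoidHom.snd Ω₁ Ω₂)),
        ∀ (x : P) (h₁ : (x : Ω₁ × Ω₂).1 ∈ P.map (MonoidHom.fst Ω₁ Ω₂))
          (h₂ : (x : Ω₁ × Ω₂).2 ∈ P.map (MonoidHom.snd Ω₁ Ω₂)),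
          φ x = (φ₁ ⟨(x : Ω₁ × Ω₂).1, h₁⟩, φ₂ ⟨(x : Ω₁ × Ω₂).2, h₂⟩)}
  le_of_mem := by
    rintro P φ ⟨hP, φ₁, hφ₁, φ₂, hφ₂, h⟩
    refine ⟨hP, fun x => ?_⟩
    rw [h x (fst_mem x) (snd_mem x)]
    exact ⟨val_mem F₁ hφ₁ _, val_mem F₂ hφ₂ _⟩
  injective_of_mem := by
    rintro P φ ⟨hP, φ₁, hφ₁, φ₂, hφ₂, h⟩ a b hab
    rw [h a (fst_mem a) (snd_mem a), h b (fst_mem b) (snd_mem b), Prod.mk.injEq] at hab
    have h1 := F₁.injective_of_mem hφ₁ hab.1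
    have h2 := F₂.injective_of_mem hφ₂ hab.2
    apply Subtype.ext
    apply Prod.ext
    · exact congrArg (fun y : ↥(P.map (MonoidHom.fst Ω₁ Ω₂)) => (y : Ω₁)) h1
    · exact congrArg (fun y : ↥(P.map (MonoidHom.snd Ω₁ Ω₂)) => (y : Ω₂)) h2
  conj_mem := by
    rintro P ⟨g₁, g₂⟩ hP ⟨hg₁, hg₂⟩
    refine ⟨hP, conjHom _ g₁, F₁.conj_mem (map_fst_le hP) hg₁, conjHom _ g₂,
      F₂.conj_mem (map_snd_le hP) hg₂, fun x h₁ h₂ => rfl⟩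
  comp_mem := by
    rintro P Q φ ψ ⟨hP, φ₁, hφ₁, φ₂, hφ₂, hφ⟩ ⟨hQ, ψ₁, hψ₁, ψ₂, hψ₂, hψ⟩ h
    have hv₁ : ∀ x : ↥(P.map (MonoidHom.fst Ω₁ Ω₂)), φ₁ x ∈ Q.map (MonoidHom.fst Ω₁ Ω₂) := by
      rintro ⟨_, y, hy, rfl⟩
      have e := hφ ⟨y, hy⟩ (fst_mem _) (snd_mem _)
      refine ⟨φ ⟨y, hy⟩, h _, ?_⟩
      rw [e]
      rfl
    have hv₂ : ∀ x : ↥(P.map (MonoidHom.snd Ω₁ Ω₂)), φ₂ x ∈ Q.map (MonoidHom.snd Ω₁ Ω₂) := by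
      rintro ⟨_, y, hy, rfl⟩
      have e := hφ ⟨y, hy⟩ (fst_mem _) (snd_mem _)
      refine ⟨φ ⟨y, hy⟩, h _, ?_⟩
      rw [e]
      rfl
    refine ⟨hP, ψ₁.comp (φ₁.codRestrict _ hv₁), F₁.comp_mem hφ₁ hψ₁ hv₁,
      ψ₂.comp (φ₂.codRestrict _ hv₂), F₂.comp_mem hφ₂ hψ₂ hv₂, fun x h₁ h₂ => ?_⟩
    have e1 := hφ x h₁ h₂
    show ψ (φ.codRestrict Q h x) = _
    have e2 := hψ (φ.codRestrict Q h x) (fst_mem _) (snd_mem _)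
    rw [e2]
    show (ψ₁ _, ψ₂ _) = (ψ₁ _, ψ₂ _)
    have e3 : ((φ.codRestrict Q h x : Q) : Ω₁ × Ω₂) = φ x := rfl
    congr 2
    · apply Subtype.ext
      show (φ x).1 = _
      rw [e1]
      rfl
    · apply Subtype.ext
      show (φ x).2 = _
      rw [e1]
      rfl
  inv_mem := by
    rintro P φ ⟨hP, φ₁, hφ₁, φ₂, hφ₂, hφ⟩
    have hr₁ : φ₁.range = φ.range.map (MonoidHom.fst Ω₁ Ω₂) := by
      apply le_antisymm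
      · rintro _ ⟨⟨_, y, hy, rfl⟩, rfl⟩
        refine ⟨φ ⟨y, hy⟩, ⟨_, rfl⟩, ?_⟩
        rw [hφ ⟨y, hy⟩ (fst_mem _) (snd_mem _)]
        rfl
      · rintro _ ⟨_, ⟨y, rfl⟩, rfl⟩
        refine ⟨⟨(y : Ω₁ × Ω₂).1, fst_mem y⟩, ?_⟩
        rw [hφ y (fst_mem y) (snd_mem y)]
        rfl
    have hr₂ : φ₂.range = φ.range.map (MonoidHom.snd Ω₁ Ω₂) := by
      apply le_antisymm
      · rintro _ ⟨⟨_, y, hy, rfl⟩, rfl⟩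
        refine ⟨φ ⟨y, hy⟩, ⟨_, rfl⟩, ?_⟩
        rw [hφ ⟨y, hy⟩ (fst_mem _) (snd_mem _)]
        rfl
      · rintro _ ⟨_, ⟨y, rfl⟩, rfl⟩
        refine ⟨⟨(y : Ω₁ × Ω₂).2, snd_mem y⟩, ?_⟩
        rw [hφ y (fst_mem y) (snd_mem y)]
        rfl
    obtain ⟨θ₁, hθ₁, -, h₁, -, -⟩ := exists_inv F₁ hφ₁ hr₁
    obtain ⟨θ₂, hθ₂, -, h₂, -, -⟩ := exists_inv F₂ hφ₂ hr₂
    have hinj : Function.Injective φ := by
      intro a b hab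
      rw [hφ a (fst_mem a) (snd_mem a), hφ b (fst_mem b) (snd_mem b), Prod.mk.injEq] at hab
      have h1 := F₁.injective_of_mem hφ₁ hab.1
      have h2 := F₂.injective_of_mem hφ₂ hab.2
      apply Subtype.ext
      apply Prod.ext
      · exact congrArg (fun y : ↥(P.map (MonoidHom.fst Ω₁ Ω₂)) => (y : Ω₁)) h1
      · exact congrArg (fun y : ↥(P.map (MonoidHom.snd Ω₁ Ω₂)) => (y : Ω₂)) h2
    let e : P ≃* φ.range := MonoidHom.ofInjective hinj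
    have hrange : φ.range ≤ S₁.prod S₂ := by
      rintro _ ⟨y, rfl⟩
      rw [hφ y (fst_mem y) (snd_mem y)]
      exact ⟨val_mem F₁ hφ₁ _, val_mem F₂ hφ₂ _⟩
    refine ⟨P.subtype.comp e.symm.toMonoidHom, ⟨hrange, θ₁, hθ₁, θ₂, hθ₂, ?_⟩, ?_⟩
    · rintro ⟨_, y, rfl⟩ h₁' h₂'
      have e0 : e.symm ⟨φ y, ⟨y, rfl⟩⟩ = y := MulEquiv.symm_apply_apply e y
      show ((e.symm ⟨φ y, ⟨y, rfl⟩⟩ : P) : Ω₁ × Ω₂) = _
      rw [e0]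
      have ea := h₁ ⟨(y : Ω₁ × Ω₂).1, fst_mem y⟩
      have eb := h₂ ⟨(y : Ω₁ × Ω₂).2, snd_mem y⟩
      have hfy := hφ y (fst_mem y) (snd_mem y)
      have hf1 : φ₁ ⟨(y : Ω₁ × Ω₂).1, fst_mem y⟩ = (φ y).1 := by rw [hfy]
      have hf2 : φ₂ ⟨(y : Ω₁ × Ω₂).2, snd_mem y⟩ = (φ y).2 := by rw [hfy]
      apply Prod.ext
      · have := ea (by rw [hf1]; exact h₁')
        simp only [hf1] at this
        exact this.symm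
      · have := eb (by rw [hf2]; exact h₂')
        simp only [hf2] at this
        exact this.symm
    · intro x
      show ((e.symm (e x) : P) : Ω₁ × Ω₂) = x
      rw [MulEquiv.symm_apply_apply]

theorem isProductSystem_productSystem (F₁ : FusionSystem S₁) (F₂ : FusionSystem S₂) :
    IsProductSystem F₁ F₂ (productSystem F₁ F₂) := fun _ _ => Iff.rfl

end Cfsg.Agent.Lib.FusionExt.Product
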