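import Cfsg.Agent.Lib.FusionExt.Mp
import Cfsg.Agent.Lib.FusionExt.Product

/-!
# The direct product of saturated fusion systems is saturated (helper92)
-/

set_option autoImplicit false

namespace Cfsg.Agent.Lib.FusionExt.ProductSat

open Cfsg Cfsg.FusionSystem Cfsg.Agent.Lib.Fusion.Basic Cfsg.Agent.Lib.Fusion.GroupSystem
open Cfsg.Agent.Lib.FusionExt.MapApi

variable {Ω₁ Ω₂ : Type*} [Group Ω₁] [Group Ω₂] {S₁ : Subgroup Ω₁} {S₂ : Subgroup Ω₂}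
variable {F₁ : FusionSystem S₁} {F₂ : FusionSystem S₂} {E : FusionSystem (S₁.prod S₂)}

theorem map_fst_prod (A : Subgroup Ω₁) (B : Subgroup Ω₂) : (A.prod B).map (MonoidHom.fst Ω₁ Ω₂) = A := by
  ext x
  constructor
  · rintro ⟨y, hy, rfl⟩
    exact hy.1
  · intro hx
    exact ⟨(x, 1), ⟨hx, B.one_mem⟩, rfl⟩

theorem map_snd_prod (A : Subgroup Ω₁) (B : Subgroup Ω₂) : (A.prod B).map (MonoidHom.snd Ω₁ Ω₂) = B := by
  ext x
  constructor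
  · rintro ⟨y, hy, rfl⟩
    exact hy.2
  · intro hx
    exact ⟨(1, x), ⟨A.one_mem, hx⟩, rfl⟩

theorem mp_prod (hE : IsProductSystem F₁ F₂ E) {P : Subgroup (Ω₁ × Ω₂)} (hP : P ≤ S₁.prod S₂) {f₁ : Ω₁ → Ω₁}
    {f₂ : Ω₂ → Ω₂} (h₁ : Mp F₁ (P.map (MonoidHom.fst Ω₁ Ω₂)) f₁) (h₂ : Mp F₂ (P.map (MonoidHom.snd Ω₁ Ω₂)) f₂) :
    Mp E P (fun x => (f₁ x.1, f₂ x.2)) := by
  have hmul : ∀ x ∈ P, ∀ y ∈ P, (fun x : Ω₁ × Ω₂ => (f₁ x.1, f₂ x.2)) (x * y) =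
      (fun x : Ω₁ × Ω₂ => (f₁ x.1, f₂ x.2)) x * (fun x : Ω₁ × Ω₂ => (f₁ x.1, f₂ x.2)) y := by
    intro x hx y hy
    show (f₁ (x.1 * y.1), f₂ (x.2 * y.2)) = (f₁ x.1 * f₁ y.1, f₂ x.2 * f₂ y.2)
    have e1 : f₁ (x.1 * y.1) = f₁ x.1 * f₁ y.1 := h₁.map_mul (x := x.1) (y := y.1) ⟨x, hx, rfl⟩ ⟨y, hy, rfl⟩
    have e2 : f₂ (x.2 * y.2) = f₂ x.2 * f₂ y.2 := h₂.map_mul (x := x.2) (y := y.2) ⟨x, hx, rfl⟩ ⟨y, hy, rfl⟩
    rw [e1, e2]
  obtain ⟨φ₁, hφ₁, e₁⟩ := h₁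
  obtain ⟨φ₂, hφ₂, e₂⟩ := h₂
  refine ⟨homOf P (fun x : Ω₁ × Ω₂ => (f₁ x.1, f₂ x.2)) hmul, (hE P _).2 ⟨hP, φ₁, hφ₁, φ₂, hφ₂, fun x h1 h2 => ?_⟩, fun x => rfl⟩
  rw [homOf_apply, e₁, e₂]

theorem mp_decomp (hE : IsProductSystem F₁ F₂ E) {P : Subgroup (Ω₁ × Ω₂)} {f : Ω₁ × Ω₂ → Ω₁ × Ω₂} (hf : Mp E P f) :
    P ≤ S₁.prod S₂ ∧ ∃ f₁ f₂, Mp F₁ (P.map (MonoidHom.fst Ω₁ Ω₂)) f₁ ∧ Mp F₂ (P.map (MonoidHom.snd Ω₁ Ω₂)) f₂ ∧
      ∀ x ∈ P, f x = (f₁ x.1, f₂ x.2) := by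
  obtain ⟨φ, hφ, e⟩ := hf
  obtain ⟨hP, φ₁, hφ₁, φ₂, hφ₂, h⟩ := (hE P φ).1 hφ
  refine ⟨hP, extOf φ₁, extOf φ₂, mp_of_hom hφ₁, mp_of_hom hφ₂, fun x hx => ?_⟩
  rw [← e ⟨x, hx⟩, h ⟨x, hx⟩ (Product.fst_mem _) (Product.snd_mem _),
    extOf_of_mem φ₁ (Product.fst_mem ⟨x, hx⟩), extOf_of_mem φ₂ (Product.snd_mem ⟨x, hx⟩)]

/-- The hull: the product of the projections. -/
def cl (P : Subgroup (Ω₁ × Ω₂)) : Subgroup (Ω₁ × Ω₂) :=
  (P.map (MonoidHom.fst Ω₁ Ω₂)).prod (P.map (MonoidHom.snd Ω₁ Ω₂))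

theorem le_cl (P : Subgroup (Ω₁ × Ω₂)) : P ≤ cl P := fun x hx => ⟨⟨x, hx, rfl⟩, ⟨x, hx, rfl⟩⟩

theorem cl_le {P : Subgroup (Ω₁ × Ω₂)} (hP : P ≤ S₁.prod S₂) : cl P ≤ S₁.prod S₂ := by
  rintro x ⟨⟨y, hy, e1⟩, ⟨z, hz, e2⟩⟩
  constructor
  · show x.1 ∈ S₁
    rw [← e1]
    exact (hP hy).1
  · show x.2 ∈ S₂
    rw [← e2]
    exact (hP hz).2

theorem mp_cl (hE : IsProductSystem F₁ F₂ E) {P : Subgroup (Ω₁ × Ω₂)} {f₁ : Ω₁ → Ω₁} {f₂ : Ω₂ → Ω₂}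
    (h₁ : Mp F₁ (P.map (MonoidHom.fst Ω₁ Ω₂)) f₁) (h₂ : Mp F₂ (P.map (MonoidHom.snd Ω₁ Ω₂)) f₂)
    (hP : P ≤ S₁.prod S₂) :
    Mp E (cl P) (fun x => (f₁ x.1, f₂ x.2)) := by
  refine mp_prod hE (cl_le hP) ?_ ?_
  · rw [cl, map_fst_prod]
    exact h₁
  · rw [cl, map_snd_prod]
    exact h₂

section sat

variable {p : ℕ} [Fact p.Prime] [Finite S₁] [Finite S₂]

/-- The automorphisms of a product from automorphisms of the factors. -/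
def prodAut (Q₁ : Subgroup Ω₁) (Q₂ : Subgroup Ω₂) : MulAut Q₁ × MulAut Q₂ →* MulAut (Q₁.prod Q₂) :=
  MonoidHom.mk' (fun ab => MulAut.congr (Subgroup.prodEquiv Q₁ Q₂).symm (MulEquiv.prodCongr ab.1 ab.2))
    (fun a b => by
      ext x <;> rfl)

theorem prodAut_apply (Q₁ : Subgroup Ω₁) (Q₂ : Subgroup Ω₂) (ab : MulAut Q₁ × MulAut Q₂) (x : Q₁.prod Q₂) :
    ((prodAut Q₁ Q₂ ab x : Q₁.prod Q₂) : Ω₁ × Ω₂) =
      (((ab.1 ⟨x.1.1, x.2.1⟩ : Q₁) : Ω₁), ((ab.2 ⟨x.1.2, x.2.2⟩ : Q₂) : Ω₂)) := rfl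

omit [Fact p.Prime] in
theorem card_prod_subgroup {G H : Type*} [Group G] [Group H] (A : Subgroup G) (B : Subgroup H) :
    Nat.card (A.prod B) = Nat.card A * Nat.card B := by
  rw [← Nat.card_prod]
  exact Nat.card_congr (Subgroup.prodEquiv A B).toEquiv

theorem isSylowIn_prod {G H : Type*} [Group G] [Group H] [Finite G] [Finite H] {U A : Subgroup G}
    {V B : Subgroup H} (hUA : U ≤ A) (hVB : V ≤ B) (h₁ : IsSylowIn p U A) (h₂ : IsSylowIn p V B) :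
    IsSylowIn p (U.prod V) (A.prod B) := by
  refine isSylowIn_of_card (Subgroup.prod_mono hUA hVB) ?_
  rw [card_prod_subgroup, card_prod_subgroup, h₁.card_eq hUA, h₂.card_eq hVB,
    Nat.factorization_mul Nat.card_pos.ne' Nat.card_pos.ne', Finsupp.add_apply, pow_add]

theorem isPGroup_prod (h₁ : IsPGroup p S₁) (h₂ : IsPGroup p S₂) : IsPGroup p (S₁.prod S₂) := by
  rintro ⟨⟨a, b⟩, ha, hb⟩
  obtain ⟨k, hk⟩ := h₁ ⟨a, ha⟩
  obtain ⟨l, hl⟩ := h₂ ⟨b, hb⟩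
  have hk' : a ^ p ^ k = 1 := congrArg Subtype.val hk
  have hl' : b ^ p ^ l = 1 := congrArg Subtype.val hl
  refine ⟨k + l, Subtype.ext ?_⟩
  show (a, b) ^ p ^ (k + l) = 1
  rw [Prod.pow_mk, pow_add, pow_mul, hk', one_pow, mul_comm, pow_mul, hl', one_pow]
  rfl

theorem prod_fullyAutomized (hE : IsProductSystem F₁ F₂ E) {Q₁ : Subgroup Ω₁} {Q₂ : Subgroup Ω₂}
    (h₁ : F₁.IsFullyAutomized p Q₁) (h₂ : F₂.IsFullyAutomized p Q₂) :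
    E.IsFullyAutomized p (Q₁.prod Q₂) := by
  have hQ₁ := h₁.1
  have hQ₂ := h₂.1
  haveI : Finite Q₁ := finite_of_le hQ₁
  haveI : Finite Q₂ := finite_of_le hQ₂
  have hQ : Q₁.prod Q₂ ≤ S₁.prod S₂ := Subgroup.prod_mono hQ₁ hQ₂
  have hU₁ := autInducedBy_le_autGroup F₁ hQ₁
  have hU₂ := autInducedBy_le_autGroup F₂ hQ₂
  have hsyl : IsSylowIn p ((autInducedBy S₁ Q₁).prod (autInducedBy S₂ Q₂))
      ((F₁.autGroup Q₁).prod (F₂.autGroup Q₂)) := isSylowIn_prod hU₁ hU₂ h₁.2 h₂.2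
  have h := image_sylow (prodAut Q₁ Q₂) hsyl (Subgroup.prod_mono hU₁ hU₂)
  have e1 : ((F₁.autGroup Q₁).prod (F₂.autGroup Q₂)).map (prodAut Q₁ Q₂) = E.autGroup (Q₁.prod Q₂) := by
    apply le_antisymm
    · rintro _ ⟨⟨a, b⟩, ⟨ha, hb⟩, rfl⟩
      have h1 : Mp F₁ ((Q₁.prod Q₂).map (MonoidHom.fst Ω₁ Ω₂)) (autFun a) := by
        rw [map_fst_prod]
        exact mp_autFun hQ₁ ha
      have h2 : Mp F₂ ((Q₁.prod Q₂).map (MonoidHom.snd Ω₁ Ω₂)) (autFun b) := by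
        rw [map_snd_prod]
        exact mp_autFun hQ₂ hb
      obtain ⟨φ, hφ, e⟩ := mp_prod hE hQ h1 h2
      refine mem_autGroup_of_hom E hφ _ (fun x => ?_)
      rw [e, prodAut_apply]
      show _ = (autFun a x.1.1, autFun b x.1.2)
      rw [autFun_of_mem a x.2.1, autFun_of_mem b x.2.2]
    · intro α hα
      obtain ⟨-, f₁, f₂, m₁, m₂, e⟩ := mp_decomp hE (mp_autFun hQ hα)
      rw [map_fst_prod] at m₁
      rw [map_snd_prod] at m₂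
      have hi := img_autFun α
      have hi₁ : Img Q₁ f₁ Q₁ := by
        refine ⟨fun x hx => ?_, fun y hy => ?_⟩
        · have hm : ((x, 1) : Ω₁ × Ω₂) ∈ Q₁.prod Q₂ := ⟨hx, Q₂.one_mem⟩
          have := hi.1 _ hm
          rw [e _ hm] at this
          exact this.1
        · obtain ⟨u, hu, eu⟩ := hi.2 ((y, 1) : Ω₁ × Ω₂) ⟨hy, Q₂.one_mem⟩
          refine ⟨u.1, hu.1, ?_⟩
          rw [e u hu] at eu
          exact congrArg Prod.fst eu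
      have hi₂ : Img Q₂ f₂ Q₂ := by
        refine ⟨fun x hx => ?_, fun y hy => ?_⟩
        · have hm : ((1, x) : Ω₁ × Ω₂) ∈ Q₁.prod Q₂ := ⟨Q₁.one_mem, hx⟩
          have := hi.1 _ hm
          rw [e _ hm] at this
          exact this.2
        · obtain ⟨u, hu, eu⟩ := hi.2 ((1, y) : Ω₁ × Ω₂) ⟨Q₁.one_mem, hy⟩
          refine ⟨u.2, hu.2, ?_⟩
          rw [e u hu] at eu
          exact congrArg Prod.snd eu
      obtain ⟨a, ha, ea⟩ := m₁.toAut hi₁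
      obtain ⟨b, hb, eb⟩ := m₂.toAut hi₂
      refine ⟨(a, b), ⟨ha, hb⟩, ?_⟩
      ext x
      · rw [prodAut_apply]
        show ((a ⟨x.1.1, x.2.1⟩ : Q₁) : Ω₁) = _
        rw [ea, ← autFun_coe, e _ x.2]
      · rw [prodAut_apply]
        show ((b ⟨x.1.2, x.2.2⟩ : Q₂) : Ω₂) = _
        rw [eb, ← autFun_coe, e _ x.2]
  have e2 : ((autInducedBy S₁ Q₁).prod (autInducedBy S₂ Q₂)).map (prodAut Q₁ Q₂) =
      autInducedBy (S₁.prod S₂) (Q₁.prod Q₂) := by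
    apply le_antisymm
    · rintro _ ⟨⟨a, b⟩, ⟨ha, hb⟩, rfl⟩
      obtain ⟨g, hg, hga⟩ := (mem_autInducedBy_iff S₁ Q₁ a).1 ha
      obtain ⟨k, hk, hkb⟩ := (mem_autInducedBy_iff S₂ Q₂ b).1 hb
      refine (mem_autInducedBy_iff _ _ _).2 ⟨(g, k), ⟨hg, hk⟩, fun x => ?_⟩
      rw [prodAut_apply]
      show (_, _) = _
      rw [hga, hkb]
      rfl
    · intro α hα
      obtain ⟨g, hg, hgα⟩ := (mem_autInducedBy_iff _ _ α).1 hα
      have hgN := mem_normalizer_of_conj _ α g hgα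
      have hN₁ : g.1 ∈ Subgroup.normalizer (Q₁ : Set Ω₁) := by
        rw [Subgroup.mem_normalizer_iff]
        intro x
        have := Subgroup.mem_normalizer_iff.1 hgN (x, 1)
        have e : g * (x, (1 : Ω₂)) * g⁻¹ = (g.1 * x * g.1⁻¹, 1) := by
          ext
          · rfl
          · show g.2 * 1 * g.2⁻¹ = 1
            simp
        rw [e] at this
        constructor
        · intro hx
          exact (this.1 ⟨hx, Q₂.one_mem⟩).1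
        · intro hx
          exact (this.2 ⟨hx, Q₂.one_mem⟩).1
      have hN₂ : g.2 ∈ Subgroup.normalizer (Q₂ : Set Ω₂) := by
        rw [Subgroup.mem_normalizer_iff]
        intro x
        have := Subgroup.mem_normalizer_iff.1 hgN (1, x)
        have e : g * ((1 : Ω₁), x) * g⁻¹ = (1, g.2 * x * g.2⁻¹) := by
          ext
          · show g.1 * 1 * g.1⁻¹ = 1
            simp
          · rfl
        rw [e] at this
        constructor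
        · intro hx
          exact (this.1 ⟨Q₁.one_mem, hx⟩).2
        · intro hx
          exact (this.2 ⟨Q₁.one_mem, hx⟩).2
      refine ⟨(normAct Q₁ hN₁, normAct Q₂ hN₂), ⟨normAct_mem_autInducedBy (K := S₁) Q₁ hN₁ hg.1,
        normAct_mem_autInducedBy (K := S₂) Q₂ hN₂ hg.2⟩, ?_⟩
      ext x
      · rw [prodAut_apply]
        show ((normAct Q₁ hN₁ _ : Q₁) : Ω₁) = _
        rw [normAct_apply, hgα]
        rfl
      · rw [prodAut_apply]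
        show ((normAct Q₂ hN₂ _ : Q₂) : Ω₂) = _
        rw [normAct_apply, hgα]
        rfl
  rw [e1, e2] at h
  exact ⟨hQ, h⟩

theorem prod_receptive (hE : IsProductSystem F₁ F₂ E) {Q₁ : Subgroup Ω₁} {Q₂ : Subgroup Ω₂}
    (h₁ : F₁.IsReceptive Q₁) (h₂ : F₂.IsReceptive Q₂) : E.IsReceptive (Q₁.prod Q₂) := by
  refine ⟨Subgroup.prod_mono h₁.1 h₂.1, fun R φ hφ hr => ?_⟩
  have hf : Mp E R (extOf φ) := mp_of_hom hφ
  obtain ⟨hR, f₁, f₂, m₁, m₂, e⟩ := mp_decomp hE hf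
  have hiR : Img R (extOf φ) (Q₁.prod Q₂) := by
    refine ⟨fun x hx => ?_, fun y hy => ?_⟩
    · rw [extOf_of_mem φ hx, ← hr]
      exact ⟨_, rfl⟩
    · rw [← hr] at hy
      obtain ⟨x, rfl⟩ := hy
      exact ⟨x, x.2, extOf_coe φ x⟩
  have hi₁ : Img (R.map (MonoidHom.fst Ω₁ Ω₂)) f₁ Q₁ := by
    refine ⟨?_, fun y hy => ?_⟩
    · rintro _ ⟨u, hu, rfl⟩
      have := hiR.1 u hu
      rw [e u hu] at this
      exact this.1
    · obtain ⟨u, hu, eu⟩ := hiR.2 ((y, 1) : Ω₁ × Ω₂) ⟨hy, Q₂.one_mem⟩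
      refine ⟨u.1, ⟨u, hu, rfl⟩, ?_⟩
      rw [e u hu] at eu
      exact congrArg Prod.fst eu
  have hi₂ : Img (R.map (MonoidHom.snd Ω₁ Ω₂)) f₂ Q₂ := by
    refine ⟨?_, fun y hy => ?_⟩
    · rintro _ ⟨u, hu, rfl⟩
      have := hiR.1 u hu
      rw [e u hu] at this
      exact this.2
    · obtain ⟨u, hu, eu⟩ := hiR.2 ((1, y) : Ω₁ × Ω₂) ⟨Q₁.one_mem, hy⟩
      refine ⟨u.2, ⟨u, hu, rfl⟩, ?_⟩
      rw [e u hu] at eu
      exact congrArg Prod.snd eu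
  set N := extender (S₁.prod S₂) R φ with hN
  have hRN : R ≤ N := le_extender E hφ
  have hNS : N ≤ S₁.prod S₂ := extender_le_left φ
  obtain ⟨g₁, mg₁, eg₁⟩ := Mp.ext_rec (Y := N.map (MonoidHom.fst Ω₁ Ω₂)) h₁ m₁ hi₁
    (Subgroup.map_mono hRN) (by
      rintro _ ⟨u, hu, rfl⟩
      obtain ⟨hu1, hu2, k, hk, hu3⟩ := (mem_extender_iff φ).1 hu
      have hnorm : ∀ v ∈ R, u * v * u⁻¹ ∈ R := fun v hv => (Subgroup.mem_normalizer_iff.1 hu2 v).1 hv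
      have hnorm' : ∀ v ∈ R, u⁻¹ * v * u ∈ R := fun v hv =>
        (Subgroup.mem_normalizer_iff.1 hu2 (u⁻¹ * v * u)).2 (by
          have e : u * (u⁻¹ * v * u) * u⁻¹ = v := by group
          rwa [e])
      refine ⟨hu1.1, ?_, k.1, hk.1, ?_⟩
      · rw [Subgroup.mem_normalizer_iff]
        intro x
        constructor
        · rintro ⟨v, hv, rfl⟩
          exact ⟨u * v * u⁻¹, hnorm v hv, rfl⟩
        · rintro ⟨v, hv, ev⟩
          refine ⟨u⁻¹ * v * u, hnorm' v hv, ?_⟩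
          have ev' : v.1 = u.1 * x * u.1⁻¹ := ev
          show u.1⁻¹ * v.1 * u.1 = x
          rw [ev']
          group
      · rintro _ ⟨v, hv, rfl⟩
        have h3 := hu3 ⟨v, hv⟩ (hnorm v hv)
        have h4 : extOf φ (u * v * u⁻¹) = k * extOf φ v * k⁻¹ := by
          rw [extOf_of_mem φ (hnorm v hv), extOf_of_mem φ hv]
          exact h3
        rw [e _ (hnorm v hv), e v hv] at h4
        exact congrArg Prod.fst h4)
  obtain ⟨g₂, mg₂, eg₂⟩ := Mp.ext_rec (Y := N.map (MonoidHom.snd Ω₁ Ω₂)) h₂ m₂ hi₂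
    (Subgroup.map_mono hRN) (by
      rintro _ ⟨u, hu, rfl⟩
      obtain ⟨hu1, hu2, k, hk, hu3⟩ := (mem_extender_iff φ).1 hu
      have hnorm : ∀ v ∈ R, u * v * u⁻¹ ∈ R := fun v hv => (Subgroup.mem_normalizer_iff.1 hu2 v).1 hv
      have hnorm' : ∀ v ∈ R, u⁻¹ * v * u ∈ R := fun v hv =>
        (Subgroup.mem_normalizer_iff.1 hu2 (u⁻¹ * v * u)).2 (by
          have e : u * (u⁻¹ * v * u) * u⁻¹ = v := by group
          rwa [e])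
      refine ⟨hu1.2, ?_, k.2, hk.2, ?_⟩
      · rw [Subgroup.mem_normalizer_iff]
        intro x
        constructor
        · rintro ⟨v, hv, rfl⟩
          exact ⟨u * v * u⁻¹, hnorm v hv, rfl⟩
        · rintro ⟨v, hv, ev⟩
          refine ⟨u⁻¹ * v * u, hnorm' v hv, ?_⟩
          have ev' : v.2 = u.2 * x * u.2⁻¹ := ev
          show u.2⁻¹ * v.2 * u.2 = x
          rw [ev']
          group
      · rintro _ ⟨v, hv, rfl⟩
        have h3 := hu3 ⟨v, hv⟩ (hnorm v hv)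
        have h4 : extOf φ (u * v * u⁻¹) = k * extOf φ v * k⁻¹ := by
          rw [extOf_of_mem φ (hnorm v hv), extOf_of_mem φ hv]
          exact h3
        rw [e _ (hnorm v hv), e v hv] at h4
        exact congrArg Prod.snd h4)
  obtain ⟨ψ, hψ, eψ⟩ := mp_prod hE hNS mg₁ mg₂
  refine ⟨ψ, hψ, fun x hP hNx => ?_⟩
  rw [eψ ⟨x, hNx⟩]
  show (g₁ x.1, g₂ x.2) = _
  have e1 : g₁ x.1 = f₁ x.1 := eg₁ x.1 ⟨x, hP, rfl⟩
  have e2 : g₂ x.2 = f₂ x.2 := eg₂ x.2 ⟨x, hP, rfl⟩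
  rw [e1, e2, ← e x hP, extOf_of_mem φ hP]

theorem main (h₁ : IsPGroup p S₁) (h₂ : IsPGroup p S₂) (hF₁ : F₁.IsSaturated p) (hF₂ : F₂.IsSaturated p)
    (hE : IsProductSystem F₁ F₂ E) : E.IsSaturated p := by
  haveI : Finite (S₁.prod S₂) :=
    Finite.of_injective (Subgroup.prodEquiv S₁ S₂) (Subgroup.prodEquiv S₁ S₂).injective
  refine isSaturated_of_hull (isPGroup_prod h₁ h₂) E cl (fun P _ => le_cl P) ?_ ?_ ?_
  · intro P hP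
    obtain ⟨Q₁, ⟨φ₁, hφ₁, hr₁⟩, hFA₁, hR₁⟩ := hF₁ _ (Product.map_fst_le hP)
    obtain ⟨Q₂, ⟨φ₂, hφ₂, hr₂⟩, hFA₂, hR₂⟩ := hF₂ _ (Product.map_snd_le hP)
    refine ⟨Q₁.prod Q₂, ?_, prod_fullyAutomized hE hFA₁ hFA₂, prod_receptive hE hR₁ hR₂⟩
    refine (mp_cl hE (mp_of_hom hφ₁) (mp_of_hom hφ₂) hP).isConj ⟨fun x hx => ?_, fun y hy => ?_⟩
    · constructor
      · show extOf φ₁ x.1 ∈ Q₁
        rw [extOf_of_mem φ₁ hx.1, ← hr₁]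
        exact ⟨_, rfl⟩
      · show extOf φ₂ x.2 ∈ Q₂
        rw [extOf_of_mem φ₂ hx.2, ← hr₂]
        exact ⟨_, rfl⟩
    · have hy1 := hy.1
      have hy2 := hy.2
      rw [← hr₁] at hy1
      rw [← hr₂] at hy2
      obtain ⟨a, ha⟩ := hy1
      obtain ⟨b, hb⟩ := hy2
      refine ⟨(a.1, b.1), ⟨a.2, b.2⟩, ?_⟩
      show (extOf φ₁ a.1, extOf φ₂ b.1) = y
      rw [extOf_coe, extOf_coe, ha, hb]
  · intro P f hf
    obtain ⟨hP, f₁, f₂, m₁, m₂, e⟩ := mp_decomp hE hf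
    refine ⟨_, mp_cl hE m₁ m₂ hP, fun x hx => (e x hx).symm, fun P' hP' => ⟨fun x hx => ?_, fun y hy => ?_⟩⟩
    · constructor
      · obtain ⟨u, hu, eu⟩ := hx.1
        refine ⟨f u, hP'.1 u hu, ?_⟩
        have eu' : u.1 = x.1 := eu
        rw [e u hu]
        show f₁ u.1 = f₁ x.1
        rw [eu']
      · obtain ⟨u, hu, eu⟩ := hx.2
        refine ⟨f u, hP'.1 u hu, ?_⟩
        have eu' : u.2 = x.2 := eu
        rw [e u hu]
        show f₂ u.2 = f₂ x.2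
        rw [eu']
    · obtain ⟨u', hu', eu'⟩ := hy.1
      obtain ⟨v', hv', ev'⟩ := hy.2
      obtain ⟨u, hu, rfl⟩ := hP'.2 u' hu'
      obtain ⟨v, hv, rfl⟩ := hP'.2 v' hv'
      refine ⟨(u.1, v.2), ⟨⟨u, hu, rfl⟩, ⟨v, hv, rfl⟩⟩, ?_⟩
      have e1 : f₁ u.1 = y.1 := by
        rw [← eu', e u hu]
        rfl
      have e2 : f₂ v.2 = y.2 := by
        rw [← ev', e v hv]
        rfl
      show (f₁ u.1, f₂ v.2) = y
      rw [e1, e2]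
  · intro P f g hf hg hfg x hx
    obtain ⟨hP, f₁, f₂, m₁, m₂, e⟩ := mp_decomp hE hf
    obtain ⟨-, g₁, g₂, n₁, n₂, e'⟩ := mp_decomp hE hg
    rw [e x hx, e' x hx]
    obtain ⟨u, hu, eu⟩ := hx.1
    obtain ⟨v, hv, ev⟩ := hx.2
    have hu' := le_cl P hu
    have hv' := le_cl P hv
    have e1 := hfg u hu
    have e2 := hfg v hv
    rw [e u hu', e' u hu'] at e1
    rw [e v hv', e' v hv'] at e2
    have e3 : f₁ u.1 = g₁ u.1 := congrArg Prod.fst e1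
    have e4 : f₂ v.2 = g₂ v.2 := congrArg Prod.snd e2
    have eu1 : u.1 = x.1 := eu
    have ev1 : v.2 = x.2 := ev
    rw [eu1] at e3
    rw [ev1] at e4
    rw [e3, e4]

end sat

end Cfsg.Agent.Lib.FusionExt.ProductSat
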