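import Cfsg.Agent.Lib.FusionExt.CProd1
import Cfsg.Agent.Lib.FusionExt.CentE
import Cfsg.Agent.Lib.FusionExt.ProductSat
import Cfsg.Agent.Lib.FusionExt.Comp2
import Cfsg.Agent.Lib.Fusion.Center

/-!
# The maps of a normal subsystem extend trivially over a commuting strongly closed subgroup (helper92)
-/

set_option autoImplicit false
set_option linter.unusedSectionVars false

namespace Cfsg.Agent.Lib.FusionExt.CProd2

open Cfsg Cfsg.FusionSystem Cfsg.Agent.Lib.Fusion.Basic Cfsg.Agent.Lib.Fusion.GroupSystem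
open Cfsg.Agent.Lib.FusionExt.MapApi Cfsg.Agent.Lib.FusionExt.Basic Cfsg.Agent.Lib.FusionExt.Normal
open Cfsg.Agent.Lib.FusionExt.SatCrit1 Cfsg.Agent.Lib.FusionExt.PowerSys Cfsg.Agent.Lib.FusionExt.PowerGen
open Cfsg.Agent.Lib.FusionExt.PrimeRes1 Cfsg.Agent.Lib.Fusion.Saturation Cfsg.Agent.Lib.Fusion.Saturation2
open Cfsg.Agent.Lib.FusionExt.PowerE Cfsg.Agent.Lib.FusionExt.LowPi Cfsg.Agent.Lib.FusionExt.FixQ
open Cfsg.Agent.Lib.FusionExt.Comp1 Cfsg.Agent.Lib.FusionExt.FactorExt Cfsg.Agent.Lib.FusionExt.CProd1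
open Cfsg.Agent.Lib.FusionExt.CentE Cfsg.Agent.Lib.FusionExt.Invariant

universe u

variable {Ω : Type u} [Group Ω] {S T₁ T₂ : Subgroup Ω} {F : FusionSystem S} {E : FusionSystem T₁} {p : ℕ}
variable {Q R X Y : Subgroup Ω} {g f h θ : Ω → Ω}

section main

variable [Finite S] [Fact p.Prime]

/-- A commuting strongly closed subgroup, on whose intersection with `T₁` the maps of `E` are trivial, is good. -/
theorem good_T2 (hS : IsPGroup p S) (hN : E.IsNormalIn F p) (hT₂ : F.StronglyClosed T₂)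
    (hc : ∀ a ∈ T₁, ∀ b ∈ T₂, a * b = b * a) (hfix : ∀ (X : Subgroup Ω) (f : Ω → Ω), Mp E X f → ∀ x ∈ X, x ∈ T₂ → f x = x) :
    KGood F E p T₂ := by
  obtain ⟨⟨hEs, hF, hsub, hT, hInv, hFr⟩, hext⟩ := id hN
  have hTS : T₁ ≤ S := hT.1
  have hT₂S : T₂ ≤ S := hT₂.1
  refine ⟨fun c hc' => mem_cent.2 ⟨hT₂S hc', fun y hy => hc y hy c hc'⟩, fun H hH c hc' => ?_, ?_⟩
  · have hcR : c ∈ T₁ ⊔ centralizerIn S T₁ :=
      Subgroup.mem_sup_right (mem_cent.2 ⟨hT₂S hc', fun y hy => hc y hy c hc'⟩)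
    exact sc_mp hT₂ (hH.restrict inf_le_left) inf_le_right (Subgroup.mem_inf.2 ⟨hcR, hc'⟩)
  · intro R hfn hRT hcc a ha q hq hqe Γ hΓm hΓe hΓc m hm hper c hc'
    have hRS : R ≤ S := hfn.1
    have hcz : zz T₁ R ≤ R := hcc R (isConj_refl F hRS)
    have hcC : c ∈ centralizerIn S R := mem_cent.2 ⟨hT₂S hc', fun y hy => hc y (hRT hy) c hc'⟩
    have hcU : c ∈ R ⊔ centralizerIn S R := Subgroup.mem_sup_right hcC
    -- elements of `T₀` are fixed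
    have hT₀R : T₁ ⊓ T₂ ≤ R := fun z hz => hcz (mem_zz.2 ⟨hz.1, fun y hy => hc y (hRT hy) z hz.2⟩)
    have hΓT₀ : ∀ z ∈ T₁ ⊓ T₂, Γ z = z := by
      intro z hz
      rw [hΓe z (hT₀R hz)]
      exact hfix R _ (mp_autFun hRT ha) z (hT₀R hz) hz.2
    have hΓT₂ : ∀ y ∈ T₂, Γ y ∈ T₂ := by
      intro y hy
      have hy' : y ∈ R ⊔ centralizerIn S R :=
        Subgroup.mem_sup_right (mem_cent.2 ⟨hT₂S hy, fun w hw => hc w (hRT hw) y hy⟩)
      exact sc_mp hT₂ (hΓm.restrict inf_le_left) inf_le_right (Subgroup.mem_inf.2 ⟨hy', hy⟩)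
    have hz : c⁻¹ * Γ c ∈ T₁ ⊓ T₂ :=
      ⟨(mem_zz.1 (hΓc c hcC)).1, T₂.mul_mem (T₂.inv_mem hc') (hΓT₂ c hc')⟩
    have hcoS : (orderOf (c⁻¹ * Γ c)).Coprime m := by
      have hzS : c⁻¹ * Γ c ∈ S := hT₂S hz.2
      obtain ⟨j, hj⟩ := hS ⟨_, hzS⟩
      have h1 : (c⁻¹ * Γ c) ^ p ^ j = 1 := congrArg Subtype.val hj
      have h2 := orderOf_dvd_of_pow_eq_one h1
      exact Nat.Coprime.coprime_dvd_left h2 (Nat.Coprime.pow_right j hm).symm
    have hq2 : c⁻¹ * Γ c ∈ (⊥ : Subgroup Ω) :=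
      coprime_step (F := F) (W := R ⊔ centralizerIn S R) (V := T₁ ⊓ T₂) (Z := ⊥) hΓm hcU (hT₀R.trans le_sup_left) bot_le hz
        (fun v hv => by
          rw [hΓT₀ v hv, inv_mul_cancel]
          exact Subgroup.one_mem _) (fun u hu => by
          rw [Subgroup.mem_bot] at hu ⊢
          rw [hu]
          exact hΓm.map_one) (fun u hu v _ => by
          rw [Subgroup.mem_bot] at hu
          rw [hu, one_mul, mul_one]) (hper c hcU) hcoS
    rw [Subgroup.mem_bot, inv_mul_eq_one] at hq2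
    exact hq2.symm

/-- The maps of `E` extend to maps fixing `T₂`. -/
theorem cen_T2 (hS : IsPGroup p S) (hN : E.IsNormalIn F p) (hT₂ : F.StronglyClosed T₂)
    (hc : ∀ a ∈ T₁, ∀ b ∈ T₂, a * b = b * a) (hfix : ∀ (X : Subgroup Ω) (f : Ω → Ω), Mp E X f → ∀ x ∈ X, x ∈ T₂ → f x = x)
    (hf : Mp E X f) : ∃ g, Mp F (X ⊔ T₂) g ∧ (∀ y ∈ X, g y = f y) ∧ ∀ c ∈ T₂, g c = c :=
  dm_all (good_T2 hS hN hT₂ hc hfix) hS hN X f hf

/-- The extension of an automorphism of `T₁`. -/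
theorem top_ext (hS : IsPGroup p S) (hN : E.IsNormalIn F p) (hT₂ : F.StronglyClosed T₂)
    (hc : ∀ a ∈ T₁, ∀ b ∈ T₂, a * b = b * a) (hfix : ∀ (X : Subgroup Ω) (f : Ω → Ω), Mp E X f → ∀ x ∈ X, x ∈ T₂ → f x = x)
    {α : MulAut T₁} (hα : α ∈ E.autGroup T₁) :
    ∃ β, Mp F (T₁ ⊔ centralizerIn S T₁) β ∧ (∀ x ∈ T₁, β x = autFun α x) ∧
      (∀ c ∈ centralizerIn S T₁, c⁻¹ * β c ∈ zz T₁ T₁) ∧ ∀ q ∈ T₂, β q = q := by
  have hK := good_T2 hS hN hT₂ hc hfix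
  obtain ⟨⟨hEs, hF, hsub, hT, hInv, hFr⟩, hext⟩ := id hN
  have hTS : T₁ ≤ S := hT.1
  have hTp : IsPGroup p T₁ := hS.to_le hTS
  haveI : Finite T₁ := finite_of_le hTS
  haveI : Finite (MulAut T₁) := Cfsg.Agent.Lib.Fusion.Basic.finite_mulAut_of_finite (A := T₁)
  have hfn : F.IsFullyNormalized T₁ := Cfsg.Agent.Lib.FusionExt.PPowerNormal.isFullyNormalized_of_stronglyClosed hT
  have hfnE : E.IsFullyNormalized T₁ := fn_sub hS hF hsub hT hfn le_rfl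
  have hFA := isFullyAutomized_of_isFullyNormalized (F := E) hTp hEs hfnE
  have hcz : zz T₁ T₁ ≤ T₁ := inf_le_left
  have hcT : ∀ Q', F.IsConj T₁ Q' → zz T₁ Q' ≤ Q' := by
    intro Q' hQ'
    obtain ⟨ρ, hρ, hρr⟩ := hQ'
    have hle : Q' ≤ T₁ := by
      rw [← hρr]
      rintro _ ⟨x, rfl⟩
      exact hT.2 T₁ le_rfl ρ hρ x
    have hcard : Nat.card T₁ ≤ Nat.card Q' := by
      rw [← hρr, card_range F hρ]
    have : Q' = T₁ := Subgroup.eq_of_le_of_card_ge hle hcard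
    rw [this]
    exact inf_le_left
  have hRS : T₁ ⊔ centralizerIn S T₁ ≤ S := sup_le hTS inf_le_left
  let FF : Subgroup (MulAut T₁) := finSub
    { carrier := {a | a ∈ E.autGroup T₁ ∧ ∃ β, Mp F (T₁ ⊔ centralizerIn S T₁) β ∧ (∀ x ∈ T₁, β x = autFun a x) ∧
        (∀ c ∈ centralizerIn S T₁, c⁻¹ * β c ∈ zz T₁ T₁) ∧ ∀ q ∈ T₂, β q = q}
      one_mem' := ⟨Subgroup.one_mem _, fun x => x, Mp.refl hRS, fun x _ => (autFun_one_apply x).symm, fun c _ => by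
        rw [inv_mul_cancel]
        exact Subgroup.one_mem _, fun _ _ => rfl⟩
      mul_mem' := by
        rintro a b ⟨h1, β₁, h2, h3, h4, h5⟩ ⟨h6, β₂, h7, h8, h9, h10⟩
        have hβ₂T : ∀ x ∈ T₁, β₂ x ∈ T₁ := fun x hx => by
          rw [h8 x hx]
          exact autFun_mem b hx
        have hβ₂m := pi_maps hcz h7 hβ₂T h9
        have hai : Img T₁ β₁ T₁ := (img_autFun a).congr (fun x hx => (h3 x hx).symm)
        refine ⟨Subgroup.mul_mem _ h1 h6, fun x => β₁ (β₂ x), h7.comp hβ₂m h2, fun x hx => ?_, fun c hc' => ?_, fun q hq => ?_⟩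
        · show β₁ (β₂ x) = _
          rw [h8 x hx, h3 _ (autFun_mem b hx), autFun_mul_apply]
        · have hz := h9 c hc'
          have hzT : c⁻¹ * β₂ c ∈ T₁ := (mem_zz.1 hz).1
          have e : β₂ c = c * (c⁻¹ * β₂ c) := by group
          show c⁻¹ * β₁ (β₂ c) ∈ _
          rw [e, h2.map_mul (Subgroup.mem_sup_right hc') (Subgroup.mem_sup_left hzT), ← mul_assoc]
          exact Subgroup.mul_mem _ (h4 c hc') (zz_img h2 le_sup_left hai le_rfl hz hzT)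
        · show β₁ (β₂ q) = q
          rw [h10 q hq, h5 q hq] }
  have hFFA : FF ≤ E.autGroup T₁ := fun a ha => ha.1
  have hWFF : autInducedBy T₁ T₁ ≤ FF := by
    intro a ha
    refine ⟨autInducedBy_le_autGroup E le_rfl ha, ?_⟩
    obtain ⟨t, ht, hte⟩ := (mem_autInducedBy_iff T₁ T₁ a).1 ha
    refine ⟨fun x => t * x * t⁻¹, Mp.conj hRS (hTS ht), fun x hx => ?_, fun c hc' => ?_, fun q hq => ?_⟩
    · rw [autFun_of_mem a hx]
      exact (hte ⟨x, hx⟩).symm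
    · have e := (mem_cent.1 hc').2 t ht
      have e2 : c⁻¹ * (t * c * t⁻¹) = 1 := by
        rw [e]
        group
      show c⁻¹ * (t * c * t⁻¹) ∈ _
      rw [e2]
      exact Subgroup.one_mem _
    · show t * q * t⁻¹ = q
      rw [hc t ht q hq]
      group
  have hp' : ∀ a ∈ E.autGroup T₁, (∃ q : ℕ, q.Coprime p ∧ a ^ q = 1) → a ∈ FF := by
    rintro a ha ⟨q, hq, hqe⟩
    refine ⟨ha, ?_⟩
    have hpp : Pp E p T₁ (autFun a) := by
      refine ⟨mp_autFun le_rfl ha, img_autFun a, q, hq, fun x hx => ?_⟩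
      rw [show x = ((⟨x, hx⟩ : T₁) : Ω) from rfl, iterate_autFun, hqe]
      rfl
    have hppF : Pp F p T₁ (autFun a) := ⟨mp_sub hsub hpp.1, hpp.2.1, hpp.2.2⟩
    obtain ⟨g₀, hg₀, hg₀e, hg₀c⟩ := pi_main hS hN T₁ le_rfl hcT a ha
    have hg₀i : Img T₁ g₀ T₁ := (img_autFun a).congr (fun x hx => (hg₀e x hx).symm)
    have hg₀A : Img (T₁ ⊔ centralizerIn S T₁) g₀ (T₁ ⊔ centralizerIn S T₁) :=
      LowPi.img_self hg₀ (pi_maps hcz hg₀ hg₀i.1 hg₀c)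
    obtain ⟨Γ, m', hΓ, hΓe, hΓit⟩ := pp_extend' hRS hg₀ hg₀A le_sup_left hppF hg₀e
    obtain ⟨hΓm, hΓi, m, hm, hper⟩ := hΓ
    have hΓc : ∀ c ∈ centralizerIn S T₁, c⁻¹ * Γ c ∈ zz T₁ T₁ := by
      intro c hc'
      rw [hΓit c (Subgroup.mem_sup_right hc')]
      exact iter_zz le_rfl hcz hg₀ hg₀i hg₀c m' hc'
    exact ⟨Γ, hΓm, hΓe, hΓc, hK.fix T₁ hfn le_rfl hcT a ha q hq hqe Γ hΓm hΓe hΓc m hm hper⟩
  have hEq := eq_of_sylow_pprime (p := p) hFA.2 hWFF hFFA hp'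
  have : α ∈ FF := by
    rw [hEq]
    exact hα
  exact this.2

end main

end Cfsg.Agent.Lib.FusionExt.CProd2
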