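import Cfsg.Agent.Lib.FusionExt.CProd2

/-!
# The central product of two commuting normal subsystems (helper92)
-/

set_option autoImplicit false
set_option linter.unusedSectionVars false

namespace Cfsg.Agent.Lib.FusionExt.CProd3

open Cfsg Cfsg.FusionSystem Cfsg.Agent.Lib.Fusion.Basic Cfsg.Agent.Lib.Fusion.GroupSystem
open Cfsg.Agent.Lib.FusionExt.MapApi Cfsg.Agent.Lib.FusionExt.Basic Cfsg.Agent.Lib.FusionExt.Normal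
open Cfsg.Agent.Lib.FusionExt.SatCrit1 Cfsg.Agent.Lib.FusionExt.PowerSys Cfsg.Agent.Lib.FusionExt.PowerGen
open Cfsg.Agent.Lib.FusionExt.PrimeRes1 Cfsg.Agent.Lib.Fusion.Saturation Cfsg.Agent.Lib.Fusion.Saturation2
open Cfsg.Agent.Lib.FusionExt.PowerE Cfsg.Agent.Lib.FusionExt.LowPi Cfsg.Agent.Lib.FusionExt.FixQ
open Cfsg.Agent.Lib.FusionExt.Comp1 Cfsg.Agent.Lib.FusionExt.FactorExt Cfsg.Agent.Lib.FusionExt.CProd1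
open Cfsg.Agent.Lib.FusionExt.CProd2 Cfsg.Agent.Lib.FusionExt.Invariant Cfsg.Agent.Lib.FusionExt.Factor
open Cfsg.Agent.Lib.FusionExt.FactorSat Cfsg.Agent.Lib.FusionExt.Product Cfsg.Agent.Lib.FusionExt.ProductSat
open Cfsg.Agent.Lib.FusionExt.CentSys

universe u

variable {Ω : Type u} [Group Ω] {T₁ T₂ : Subgroup Ω}

/-- The multiplication map on the direct product of two commuting subgroups. -/
def mulMap (hc : ∀ a ∈ T₁, ∀ b ∈ T₂, a * b = b * a) : ↥(T₁.prod T₂) →* Ω where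
  toFun x := (x : Ω × Ω).1 * (x : Ω × Ω).2
  map_one' := by simp
  map_mul' := by
    rintro ⟨⟨a, b⟩, ha, hb⟩ ⟨⟨a', b'⟩, ha', hb'⟩
    show a * a' * (b * b') = a * b * (a' * b')
    have := hc a' ha' b hb
    calc a * a' * (b * b') = a * (a' * b) * b' := by group
      _ = a * (b * a') * b' := by rw [this]
      _ = _ := by group

theorem mulMap_apply (hc : ∀ a ∈ T₁, ∀ b ∈ T₂, a * b = b * a) (x : ↥(T₁.prod T₂)) :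
    mulMap hc x = (x : Ω × Ω).1 * (x : Ω × Ω).2 := rfl

theorem mulMap_range (hc : ∀ a ∈ T₁, ∀ b ∈ T₂, a * b = b * a) : (mulMap hc).range = T₁ ⊔ T₂ := by
  apply le_antisymm
  · rintro _ ⟨⟨⟨a, b⟩, ha, hb⟩, rfl⟩
    exact Subgroup.mul_mem _ (Subgroup.mem_sup_left ha) (Subgroup.mem_sup_right hb)
  · refine sup_le (fun a ha => ?_) (fun b hb => ?_)
    · refine ⟨⟨(a, 1), ha, T₂.one_mem⟩, ?_⟩
      show a * 1 = a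
      rw [mul_one]
    · refine ⟨⟨(1, b), T₁.one_mem, hb⟩, ?_⟩
      show 1 * b = b
      rw [one_mul]

/-- The kernel of the multiplication map, as a subgroup of `Ω × Ω`. -/
def antiZ (hc : ∀ a ∈ T₁, ∀ b ∈ T₂, a * b = b * a) : Subgroup (Ω × Ω) := (mulMap hc).ker.map (T₁.prod T₂).subtype

theorem mem_antiZ {hc : ∀ a ∈ T₁, ∀ b ∈ T₂, a * b = b * a} {x : Ω × Ω} :
    x ∈ antiZ hc ↔ x.1 ∈ T₁ ∧ x.2 ∈ T₂ ∧ x.1 * x.2 = 1 := by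
  constructor
  · rintro ⟨⟨y, hy⟩, hk, rfl⟩
    exact ⟨hy.1, hy.2, hk⟩
  · rintro ⟨h1, h2, h3⟩
    exact ⟨⟨x, h1, h2⟩, h3, rfl⟩

theorem antiZ_theta (hc : ∀ a ∈ T₁, ∀ b ∈ T₂, a * b = b * a) (s : ↥(T₁.prod T₂)) :
    mulMap hc s = 1 ↔ (s : Ω × Ω) ∈ antiZ hc := by
  rw [mem_antiZ]
  exact ⟨fun h => ⟨s.2.1, s.2.2, h⟩, fun h => h.2.2⟩

theorem antiZ_comp {hc : ∀ a ∈ T₁, ∀ b ∈ T₂, a * b = b * a} {x : Ω × Ω} (hx : x ∈ antiZ hc) :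
    x.1 ∈ T₁ ⊓ T₂ ∧ x.2 ∈ T₁ ⊓ T₂ := by
  obtain ⟨h1, h2, h3⟩ := mem_antiZ.1 hx
  have e1 : x.1 = x.2⁻¹ := eq_inv_of_mul_eq_one_left h3
  have e2 : x.2 = x.1⁻¹ := eq_inv_of_mul_eq_one_right h3
  refine ⟨⟨h1, ?_⟩, ⟨?_, h2⟩⟩
  · rw [e1]
    exact T₂.inv_mem h2
  · rw [e2]
    exact T₁.inv_mem h1

variable {hc : ∀ a ∈ T₁, ∀ b ∈ T₂, a * b = b * a} {E₁ : FusionSystem T₁} {E₂ : FusionSystem T₂}
  {X X₁ X₂ : Subgroup Ω} {f f₁ f₂ : Ω → Ω}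

theorem prod_eq (a b : Ω) (hab : (a, b) ∈ T₁.prod T₂) : mulMap hc ⟨(a, b), hab⟩ = a * b := rfl

theorem mem_pre {x : Ω × Ω} : x ∈ preimageAlong (mulMap hc) X ↔ x.1 ∈ T₁ ∧ x.2 ∈ T₂ ∧ x.1 * x.2 ∈ X := by
  rw [mem_preimageAlong]
  constructor
  · rintro ⟨h, h'⟩
    exact ⟨h.1, h.2, h'⟩
  · rintro ⟨h1, h2, h3⟩
    exact ⟨⟨h1, h2⟩, h3⟩

theorem pre_fst (hXN : X ≤ Subgroup.normalizer (T₂ : Set Ω)) :
    (preimageAlong (mulMap hc) X).map (MonoidHom.fst Ω Ω) = e2 T₂ T₁ X := by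
  apply le_antisymm
  · rintro _ ⟨⟨a, b⟩, hx, rfl⟩
    obtain ⟨h1, h2, h3⟩ := mem_pre.1 hx
    refine ⟨?_, h1⟩
    have e : a = (a * b) * b⁻¹ := by group
    show a ∈ X ⊔ T₂
    rw [e]
    exact Subgroup.mul_mem _ (Subgroup.mem_sup_left h3) (Subgroup.inv_mem _ (Subgroup.mem_sup_right h2))
  · rintro a ⟨ha1, ha2⟩
    obtain ⟨x, hx, t, ht, e⟩ := exists_mul_of_mem_sup' hXN ha1
    refine ⟨(a, t⁻¹), mem_pre.2 ⟨ha2, T₂.inv_mem ht, ?_⟩, rfl⟩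
    show a * t⁻¹ ∈ X
    rw [e]
    simpa using hx

theorem pre_snd (hXN : X ≤ Subgroup.normalizer (T₁ : Set Ω)) :
    (preimageAlong (mulMap hc) X).map (MonoidHom.snd Ω Ω) = e2 T₁ T₂ X := by
  apply le_antisymm
  · rintro _ ⟨⟨a, b⟩, hx, rfl⟩
    obtain ⟨h1, h2, h3⟩ := mem_pre.1 hx
    refine ⟨?_, h2⟩
    have e : b = a⁻¹ * (a * b) := by group
    show b ∈ X ⊔ T₁
    rw [e]
    exact Subgroup.mul_mem _ (Subgroup.inv_mem _ (Subgroup.mem_sup_right h1)) (Subgroup.mem_sup_left h3)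
  · rintro b ⟨hb1, hb2⟩
    obtain ⟨x, hx, t, ht, e⟩ := exists_mul_of_mem_sup' hXN hb1
    refine ⟨(t⁻¹, b), mem_pre.2 ⟨T₁.inv_mem ht, hb2, ?_⟩, rfl⟩
    show t⁻¹ * b ∈ X
    rw [hc t⁻¹ (T₁.inv_mem ht) b hb2, e]
    simpa using hx

section sys

variable {D : FusionSystem (T₁ ⊔ T₂)}

/-- The decomposition of the maps of the central product. -/
theorem mp_D_decomp (hXN₁ : X ≤ Subgroup.normalizer (T₁ : Set Ω)) (hXN₂ : X ≤ Subgroup.normalizer (T₂ : Set Ω))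
    (hD : (productSystem E₁ E₂).IsFactorSystem (antiZ hc) (mulMap hc) D) (hf : Mp D X f) :
    X ≤ T₁ ⊔ T₂ ∧ ∃ f₁ f₂, Mp E₁ (e2 T₂ T₁ X) f₁ ∧ Mp E₂ (e2 T₁ T₂ X) f₂ ∧
      ∀ a ∈ e2 T₂ T₁ X, ∀ b ∈ e2 T₁ T₂ X, a * b ∈ X → f (a * b) = f₁ a * f₂ b := by
  obtain ⟨φ', hφ', e⟩ := hf
  obtain ⟨hX, φ, hφ, hP, hφS, hPP', hform⟩ := (hD.2.2.2 X φ').1 hφ'
  have hm : Mp (productSystem E₁ E₂) (preimageAlong (mulMap hc) X) (extOf φ) := mp_of_hom hφ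
  obtain ⟨-, f₁, f₂, h₁, h₂, he⟩ := mp_decomp (isProductSystem_productSystem E₁ E₂) hm
  rw [pre_fst (hc := hc) hXN₂] at h₁
  rw [pre_snd (hc := hc) hXN₁] at h₂
  refine ⟨hX, f₁, f₂, h₁, h₂, fun a ha b hb hab => ?_⟩
  have hmem : ((a, b) : Ω × Ω) ∈ preimageAlong (mulMap hc) X := mem_pre.2 ⟨ha.2, hb.2, hab⟩
  have h1 := hform ⟨(a, b), hmem⟩
  have h2 := he (a, b) hmem
  rw [extOf_of_mem φ hmem] at h2
  have e1 : f (a * b) = φ' ⟨a * b, hab⟩ := (e ⟨a * b, hab⟩).symm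
  rw [e1]
  refine h1.trans ?_
  rw [mulMap_apply]
  show ((φ ⟨(a, b), hmem⟩ : Ω × Ω)).1 * ((φ ⟨(a, b), hmem⟩ : Ω × Ω)).2 = _
  rw [h2]

theorem le_norm_of_comm {A B : Subgroup Ω} (h : ∀ a ∈ A, ∀ b ∈ B, a * b = b * a) : A ≤ Subgroup.normalizer (B : Set Ω) := by
  intro a ha
  rw [Subgroup.mem_normalizer_iff]
  intro x
  constructor
  · intro hx
    have e : a * x * a⁻¹ = x := by
      rw [h a ha x hx]
      group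
    rwa [e]
  · intro hx
    have e := h a⁻¹ (A.inv_mem ha) _ hx
    have e2 : x = a⁻¹ * (a * x * a⁻¹) * a := by group
    rw [e2, e]
    have e3 : a * x * a⁻¹ * a⁻¹ * a = a * x * a⁻¹ := by group
    rwa [e3]

/-- Constructing maps of the central product. -/
theorem exists_mp_D (hD : (productSystem E₁ E₂).IsFactorSystem (antiZ hc) (mulMap hc) D)
    (hsc : (productSystem E₁ E₂).StronglyClosed (antiZ hc))
    (hX₁ : X₁ ≤ T₁) (hX₂ : X₂ ≤ T₂) (hT₀₁ : T₁ ⊓ T₂ ≤ X₁) (hT₀₂ : T₁ ⊓ T₂ ≤ X₂) (hX : X ≤ X₁ ⊔ X₂)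
    (h₁ : Mp E₁ X₁ f₁) (h₂ : Mp E₂ X₂ f₂) :
    ∃ f, Mp D X f ∧ ∀ a ∈ X₁, ∀ b ∈ X₂, a * b ∈ X → f (a * b) = f₁ a * f₂ b := by
  have hXT : X ≤ T₁ ⊔ T₂ := hX.trans (sup_le_sup hX₁ hX₂)
  have hXr : X ≤ (mulMap hc).range := by
    rw [mulMap_range]
    exact hXT
  have hX₁N : X₁ ≤ Subgroup.normalizer (X₂ : Set Ω) := le_norm_of_comm (fun a ha b hb => hc a (hX₁ ha) b (hX₂ hb))
  have hpre : ∀ a b, ((a, b) : Ω × Ω) ∈ preimageAlong (mulMap hc) X → a ∈ X₁ ∧ b ∈ X₂ := by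
    intro a b hx
    obtain ⟨h1, h2, h3⟩ := mem_pre.1 hx
    obtain ⟨x₁, hx₁, x₂, hx₂, e⟩ := exists_mul_of_mem_sup' hX₁N (hX h3)
    have e1 : x₁⁻¹ * a = x₂ * b⁻¹ := by
      have : a * b = x₁ * x₂ := e
      calc x₁⁻¹ * a = x₁⁻¹ * (a * b) * b⁻¹ := by group
        _ = x₁⁻¹ * (x₁ * x₂) * b⁻¹ := by rw [this]
        _ = _ := by group
    have hz : x₁⁻¹ * a ∈ T₁ ⊓ T₂ := by
      refine ⟨T₁.mul_mem (T₁.inv_mem (hX₁ hx₁)) h1, ?_⟩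
      rw [e1]
      exact T₂.mul_mem (hX₂ hx₂) (T₂.inv_mem h2)
    constructor
    · have e2 : a = x₁ * (x₁⁻¹ * a) := by group
      rw [e2]
      exact X₁.mul_mem hx₁ (hT₀₁ hz)
    · have e2 : b = (x₁⁻¹ * a)⁻¹ * x₂ := by
        rw [e1]
        group
      rw [e2]
      exact X₂.mul_mem (X₂.inv_mem (hT₀₂ hz)) hx₂
  have hpreP : preimageAlong (mulMap hc) X ≤ T₁.prod T₂ := preimageAlong_le _ _
  have h₁' : Mp E₁ ((preimageAlong (mulMap hc) X).map (MonoidHom.fst Ω Ω)) f₁ := by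
    refine h₁.restrict ?_
    rintro _ ⟨⟨a, b⟩, hx, rfl⟩
    exact (hpre a b hx).1
  have h₂' : Mp E₂ ((preimageAlong (mulMap hc) X).map (MonoidHom.snd Ω Ω)) f₂ := by
    refine h₂.restrict ?_
    rintro _ ⟨⟨a, b⟩, hx, rfl⟩
    exact (hpre a b hx).2
  obtain ⟨φ, hφ, eφ⟩ := mp_prod (isProductSystem_productSystem E₁ E₂) hpreP h₁' h₂'
  obtain ⟨φ', hind⟩ := exists_induced (productSystem E₁ E₂) (mulMap hc) hsc (antiZ_theta hc) hXr hφ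
  have hmem : φ' ∈ D.Hom X := (hD.2.2.2 X φ').2 ⟨hXT, φ, hφ, hind⟩
  refine ⟨extOf φ', mp_of_hom hmem, fun a ha b hb hab => ?_⟩
  obtain ⟨hP, hφS, hPP', hform⟩ := hind
  have hmemp : ((a, b) : Ω × Ω) ∈ preimageAlong (mulMap hc) X := mem_pre.2 ⟨hX₁ ha, hX₂ hb, hab⟩
  have h1 := hform ⟨(a, b), hmemp⟩
  rw [extOf_of_mem φ' hab]
  refine h1.trans ?_
  rw [mulMap_apply]
  show ((φ ⟨(a, b), hmemp⟩ : Ω × Ω)).1 * ((φ ⟨(a, b), hmemp⟩ : Ω × Ω)).2 = _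
  rw [eφ ⟨(a, b), hmemp⟩]

end sys

/-- The kernel is central in the direct product. -/
theorem antiZ_central [Finite T₁] [Finite T₂] (h₁ : T₁ ⊓ T₂ ≤ E₁.center) (h₂ : T₁ ⊓ T₂ ≤ E₂.center) :
    (productSystem E₁ E₂).IsCentral (antiZ hc) := by
  have hE := isProductSystem_productSystem E₁ E₂
  refine ⟨fun x hx => ⟨(mem_antiZ.1 hx).1, (mem_antiZ.1 hx).2.1⟩, fun P φ hφ => ?_⟩
  obtain ⟨hP, f₁, f₂, hf₁, hf₂, e⟩ := mp_decomp hE (mp_of_hom hφ)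
  obtain ⟨-, hc₁⟩ := Cfsg.Agent.Lib.FusionExt.Comp2.cen_of_le_center (C := E₁) h₁
  obtain ⟨-, hc₂⟩ := Cfsg.Agent.Lib.FusionExt.Comp2.cen_of_le_center (C := E₂) h₂
  obtain ⟨g₁, hg₁, hg₁e, hg₁q⟩ := hc₁ _ _ hf₁
  obtain ⟨g₂, hg₂, hg₂e, hg₂q⟩ := hc₂ _ _ hf₂
  set P₁ := P.map (MonoidHom.fst Ω Ω) ⊔ (T₁ ⊓ T₂) with hP₁
  set P₂ := P.map (MonoidHom.snd Ω Ω) ⊔ (T₁ ⊓ T₂) with hP₂
  have hP₁T : P₁ ≤ T₁ := sup_le (map_fst_le hP) inf_le_left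
  have hP₂T : P₂ ≤ T₂ := sup_le (map_snd_le hP) inf_le_right
  have hV : P₁.prod P₂ ≤ T₁.prod T₂ := Subgroup.prod_mono hP₁T hP₂T
  have hm : Mp (productSystem E₁ E₂) (P₁.prod P₂) (fun x => (g₁ x.1, g₂ x.2)) := by
    refine mp_prod hE hV ?_ ?_
    · rw [map_fst_prod]
      exact hg₁
    · rw [map_snd_prod]
      exact hg₂
  have hle : P ⊔ antiZ hc ≤ P₁.prod P₂ := by
    refine sup_le (fun x hx => ⟨Subgroup.mem_sup_left ⟨x, hx, rfl⟩, Subgroup.mem_sup_left ⟨x, hx, rfl⟩⟩) (fun x hx => ?_)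
    obtain ⟨h3, h4⟩ := antiZ_comp hx
    exact ⟨Subgroup.mem_sup_right h3, Subgroup.mem_sup_right h4⟩
  obtain ⟨ψ, hψ, eψ⟩ := hm.restrict hle
  refine ⟨ψ, hψ, fun x => ?_, fun x => ?_⟩
  · rw [show ψ (Subgroup.inclusion le_sup_left x) = _ from eψ _]
    show (g₁ (x : Ω × Ω).1, g₂ (x : Ω × Ω).2) = _
    have e1 : g₁ (x : Ω × Ω).1 = f₁ (x : Ω × Ω).1 := hg₁e _ ⟨x, x.2, rfl⟩
    have e2 : g₂ (x : Ω × Ω).2 = f₂ (x : Ω × Ω).2 := hg₂e _ ⟨x, x.2, rfl⟩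
    rw [e1, e2, ← e x x.2, extOf_of_mem φ x.2]
  · rw [show ψ (Subgroup.inclusion le_sup_right x) = _ from eψ _]
    obtain ⟨h3, h4⟩ := antiZ_comp x.2
    show (g₁ (x : Ω × Ω).1, g₂ (x : Ω × Ω).2) = _
    rw [hg₁q _ h3, hg₂q _ h4]

end Cfsg.Agent.Lib.FusionExt.CProd3
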