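import Cfsg.Agent.Lib.FusionExt.CProd3

/-!
# The central product of two commuting normal subsystems is normal (helper92)
-/

set_option autoImplicit false
set_option linter.unusedSectionVars false

namespace Cfsg.Agent.Lib.FusionExt.CProd4

open Cfsg Cfsg.FusionSystem Cfsg.Agent.Lib.Fusion.Basic Cfsg.Agent.Lib.Fusion.GroupSystem
open Cfsg.Agent.Lib.FusionExt.MapApi Cfsg.Agent.Lib.FusionExt.Basic Cfsg.Agent.Lib.FusionExt.Normal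
open Cfsg.Agent.Lib.FusionExt.SatCrit1 Cfsg.Agent.Lib.FusionExt.PowerSys Cfsg.Agent.Lib.FusionExt.PowerGen
open Cfsg.Agent.Lib.FusionExt.PrimeRes1 Cfsg.Agent.Lib.Fusion.Saturation Cfsg.Agent.Lib.Fusion.Saturation2
open Cfsg.Agent.Lib.FusionExt.PowerE Cfsg.Agent.Lib.FusionExt.LowPi Cfsg.Agent.Lib.FusionExt.FixQ
open Cfsg.Agent.Lib.FusionExt.Comp1 Cfsg.Agent.Lib.FusionExt.FactorExt Cfsg.Agent.Lib.FusionExt.CProd1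
open Cfsg.Agent.Lib.FusionExt.CProd2 Cfsg.Agent.Lib.FusionExt.Invariant Cfsg.Agent.Lib.FusionExt.Factor
open Cfsg.Agent.Lib.FusionExt.FactorSat Cfsg.Agent.Lib.FusionExt.Product Cfsg.Agent.Lib.FusionExt.ProductSat
open Cfsg.Agent.Lib.FusionExt.CentSys Cfsg.Agent.Lib.FusionExt.CProd3

universe u

variable {Ω : Type u} [Group Ω] {S T₁ T₂ : Subgroup Ω} {F : FusionSystem S} {p : ℕ}
variable {hc : ∀ a ∈ T₁, ∀ b ∈ T₂, a * b = b * a} {E₁ : FusionSystem T₁} {E₂ : FusionSystem T₂}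
  {D : FusionSystem (T₁ ⊔ T₂)} {X Y P Q : Subgroup Ω} {f g : Ω → Ω}

/-- The data of the construction. -/
structure CPD (F : FusionSystem S) (p : ℕ) (hc : ∀ a ∈ T₁, ∀ b ∈ T₂, a * b = b * a) (E₁ : FusionSystem T₁) (E₂ : FusionSystem T₂)
    (D : FusionSystem (T₁ ⊔ T₂)) : Prop where
  hS : IsPGroup p S
  hF : F.IsSaturated p
  hE₁ : E₁.IsNormalIn F p
  hE₂ : E₂.IsNormalIn F p
  h₁ : ∀ (X : Subgroup Ω) (f : Ω → Ω), Mp E₁ X f → ∀ x ∈ X, x ∈ T₂ → f x = x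
  h₂ : ∀ (X : Subgroup Ω) (f : Ω → Ω), Mp E₂ X f → ∀ x ∈ X, x ∈ T₁ → f x = x
  hD : (productSystem E₁ E₂).IsFactorSystem (antiZ hc) (mulMap hc) D
  hsc : (productSystem E₁ E₂).StronglyClosed (antiZ hc)

theorem inf_le_e2' : T₁ ⊓ T₂ ≤ e2 T₂ T₁ Q := by
  rw [inf_comm]
  exact inf_le_e2

theorem e2_top₁ : e2 T₂ T₁ (T₁ ⊔ T₂) = T₁ := by
  apply le_antisymm inf_le_right
  exact le_inf ((le_sup_left : T₁ ≤ T₁ ⊔ T₂).trans le_sup_left) le_rfl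

theorem e2_top₂ : e2 T₁ T₂ (T₁ ⊔ T₂) = T₂ := by
  apply le_antisymm inf_le_right
  exact le_inf ((le_sup_right : T₂ ≤ T₁ ⊔ T₂).trans le_sup_left) le_rfl

section main

variable [Finite S] [Fact p.Prime]

theorem dec (hT₁ : F.StronglyClosed T₁) (hT₂ : F.StronglyClosed T₂) (hXT : X ≤ T₁ ⊔ T₂) {x : Ω} (hx : x ∈ X) :
    ∃ a ∈ e2 T₂ T₁ X, ∃ b ∈ e2 T₁ T₂ X, x = a * b := by
  obtain ⟨x₁, hx₁, x₂, hx₂, ex⟩ := exists_mul_of_mem_sup' (hT₁.1.trans (sc_le_normalizer F hT₂)) (hXT hx)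
  refine ⟨x₁, ⟨?_, hx₁⟩, x₂, ⟨?_, hx₂⟩, ex⟩
  · have e' : x₁ = x * x₂⁻¹ := by rw [ex]; group
    rw [e']
    exact Subgroup.mul_mem _ (Subgroup.mem_sup_left hx) (Subgroup.inv_mem _ (Subgroup.mem_sup_right hx₂))
  · have e' : x₂ = x₁⁻¹ * x := by rw [ex]; group
    rw [e']
    exact Subgroup.mul_mem _ (Subgroup.inv_mem _ (Subgroup.mem_sup_right hx₁)) (Subgroup.mem_sup_left hx)

variable (h : CPD F p hc E₁ E₂ D)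

include h

theorem CPD.hT₁ : F.StronglyClosed T₁ := h.hE₁.1.2.2.2.1
theorem CPD.hT₂ : F.StronglyClosed T₂ := h.hE₂.1.2.2.2.1
theorem CPD.hc' : ∀ a ∈ T₂, ∀ b ∈ T₁, a * b = b * a := fun a ha b hb => (hc b hb a ha).symm

theorem CPD.sc : F.StronglyClosed (T₁ ⊔ T₂) := sc_sup h.hS h.hF h.hT₁ h.hT₂

theorem CPD.decomp (hf : Mp D X f) :
    X ≤ T₁ ⊔ T₂ ∧ ∃ f₁ f₂, Mp E₁ (e2 T₂ T₁ X) f₁ ∧ Mp E₂ (e2 T₁ T₂ X) f₂ ∧
      ∀ a ∈ e2 T₂ T₁ X, ∀ b ∈ e2 T₁ T₂ X, a * b ∈ X → f (a * b) = f₁ a * f₂ b := by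
  have hXT : X ≤ T₁ ⊔ T₂ := hf.le
  have hXS := hXT.trans h.sc.1
  exact mp_D_decomp (hXS.trans (sc_le_normalizer F h.hT₁)) (hXS.trans (sc_le_normalizer F h.hT₂)) h.hD hf

/-- Maps of the central product are maps of `F`. -/
theorem CPD.mp_F (hf : Mp D X f) : Mp F X f := by
  obtain ⟨hXT, f₁, f₂, h₁, h₂, hv⟩ := h.decomp hf
  have hT₁ := h.hT₁
  have hT₂ := h.hT₂
  obtain ⟨g₁, hg₁, hg₁e, hg₁q⟩ := cen_T2 h.hS h.hE₁ hT₂ hc h.h₁ h₁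
  obtain ⟨g₂, hg₂, hg₂e, hg₂q⟩ := cen_T2 h.hS h.hE₂ hT₁ h.hc' h.h₂ h₂
  have hle : X ≤ e2 T₂ T₁ X ⊔ e2 T₁ T₂ X := le_ee hT₁ hT₂ hXT
  have hg₁' : Mp F (e2 T₂ T₁ X ⊔ e2 T₁ T₂ X) g₁ :=
    hg₁.restrict (sup_le_sup_left inf_le_right _)
  have hb : ∀ b ∈ e2 T₁ T₂ X, g₁ b = b := fun b hb => hg₁q b hb.2
  have hm : ∀ y ∈ e2 T₂ T₁ X ⊔ e2 T₁ T₂ X, g₁ y ∈ e2 T₁ T₂ X ⊔ T₁ := by
    refine maps_sup hg₁' (fun a ha => ?_) (fun b hb' => ?_)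
    · rw [hg₁e a ha]
      exact Subgroup.mem_sup_right (h₁.mem_S ha)
    · rw [hb b hb']
      exact Subgroup.mem_sup_left hb'
  refine ((hg₁'.comp hm hg₂).restrict hle).congr (fun x hx => ?_)
  obtain ⟨a, ha, b, hb', rfl⟩ := dec hT₁ hT₂ hXT hx
  show g₂ (g₁ (a * b)) = f (a * b)
  have hua : a ∈ e2 T₂ T₁ X ⊔ e2 T₁ T₂ X := Subgroup.mem_sup_left ha
  have hub : b ∈ e2 T₂ T₁ X ⊔ e2 T₁ T₂ X := Subgroup.mem_sup_right hb'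
  rw [hg₁'.map_mul hua hub, hg₁e a ha, hb b hb', hg₂.map_mul (Subgroup.mem_sup_right (h₁.mem_S ha)) (Subgroup.mem_sup_left hb'),
    hg₂q _ (h₁.mem_S ha), hg₂e b hb', hv a ha b hb' hx]

theorem CPD.sub : D.IsSubsystemOf F := fun P φ hφ => hom_of_mp (h.mp_F (mp_of_hom hφ))

/-- Strong invariance. -/
theorem CPD.strong : StrongInv F D := by
  have hT₁ := h.hT₁
  have hT₂ := h.hT₂
  have hT₀ := sc_inf hT₁ hT₂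
  obtain ⟨⟨hE₁s, -, hsub₁, -, hInv₁, hFr₁⟩, -⟩ := id h.hE₁
  obtain ⟨⟨hE₂s, -, hsub₂, -, hInv₂, hFr₂⟩, -⟩ := id h.hE₂
  have hSI₁ : StrongInv F E₁ := strong_of_inv hInv₁ hFr₁
  have hSI₂ : StrongInv F E₂ := strong_of_inv hInv₂ hFr₂
  refine strongInv_of_mp (fun P Q' X f g hPQ hQ'T hf hfQ hg hi => ?_)
  obtain ⟨hPT, f₁, f₂, h₁, h₂, hv⟩ := h.decomp hf
  obtain ⟨ĝ, hĝ, hĝe⟩ := ee_ext h.hS h.hF hT₁ hT₂ hc hQ'T hg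
  have hle₁ : e2 T₂ T₁ P ≤ e2 T₂ T₁ Q' := e2_mono hPQ
  have hle₂ : e2 T₁ T₂ P ≤ e2 T₁ T₂ Q' := e2_mono hPQ
  -- `f₁`, `f₂` map into the projections of `Q'`
  have hf₁Q : ∀ a ∈ e2 T₂ T₁ P, f₁ a ∈ e2 T₂ T₁ Q' := by
    intro a ha
    refine ⟨?_, h₁.mem_S ha⟩
    have hPS := hPT.trans h.sc.1
    obtain ⟨x, hx, t, ht, e⟩ := exists_mul_of_mem_sup' (hPS.trans (sc_le_normalizer F hT₂)) ha.1
    have hti : t⁻¹ ∈ e2 T₁ T₂ P := by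
      refine ⟨?_, T₂.inv_mem ht⟩
      have e' : t⁻¹ = a⁻¹ * x := by rw [e]; group
      rw [e']
      exact Subgroup.mul_mem _ (Subgroup.inv_mem _ (Subgroup.mem_sup_right ha.2)) (Subgroup.mem_sup_left hx)
    have hax : a * t⁻¹ = x := by rw [e]; group
    have h3 := hv a ha t⁻¹ hti (by rw [hax]; exact hx)
    rw [hax] at h3
    have e2' : f₁ a = f x * (f₂ t⁻¹)⁻¹ := by rw [h3]; group
    rw [e2']
    exact Subgroup.mul_mem _ (Subgroup.mem_sup_left (hfQ x hx)) (Subgroup.inv_mem _ (Subgroup.mem_sup_right (h₂.mem_S hti)))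
  have hf₂Q : ∀ b ∈ e2 T₁ T₂ P, f₂ b ∈ e2 T₁ T₂ Q' := by
    intro b hb
    refine ⟨?_, h₂.mem_S hb⟩
    have hPS := hPT.trans h.sc.1
    obtain ⟨x, hx, t, ht, e⟩ := exists_mul_of_mem_sup' (hPS.trans (sc_le_normalizer F hT₁)) hb.1
    have hti : t⁻¹ ∈ e2 T₂ T₁ P := by
      refine ⟨?_, T₁.inv_mem ht⟩
      have e' : t⁻¹ = b⁻¹ * x := by rw [e]; group
      rw [e']
      exact Subgroup.mul_mem _ (Subgroup.inv_mem _ (Subgroup.mem_sup_right hb.2)) (Subgroup.mem_sup_left hx)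
    have hax : t⁻¹ * b = x := by
      rw [hc t⁻¹ (T₁.inv_mem ht) b hb.2, e]
      group
    have h3 := hv t⁻¹ hti b hb (by rw [hax]; exact hx)
    rw [hax] at h3
    have hcm := hc _ (h₁.mem_S hti) _ (h₂.mem_S hb)
    have e2' : f₂ b = f x * (f₁ t⁻¹)⁻¹ := by
      rw [h3, hcm]
      group
    rw [e2']
    exact Subgroup.mul_mem _ (Subgroup.mem_sup_left (hfQ x hx)) (Subgroup.inv_mem _ (Subgroup.mem_sup_right (h₁.mem_S hti)))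
  -- the conjugates
  have hĝ₁ : Mp F (e2 T₂ T₁ Q') ĝ := hĝ.restrict le_sup_left
  have hĝ₂ : Mp F (e2 T₁ T₂ Q') ĝ := hĝ.restrict le_sup_right
  obtain ⟨X₁, hX₁⟩ := (hĝ₁.restrict hle₁).exists_img
  obtain ⟨X₂, hX₂⟩ := (hĝ₂.restrict hle₂).exists_img
  obtain ⟨k₁, hk₁, hk₁e⟩ := sI_mp hSI₁ hle₁ inf_le_right h₁ hf₁Q hĝ₁ hX₁
  obtain ⟨k₂, hk₂, hk₂e⟩ := sI_mp hSI₂ hle₂ inf_le_right h₂ hf₂Q hĝ₂ hX₂
  have hX₁T : X₁ ≤ T₁ := hk₁.le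
  have hX₂T : X₂ ≤ T₂ := hk₂.le
  have hmT₀ : Mp F (T₁ ⊓ T₂) ĝ := hĝ₂.restrict inf_le_e2
  have himg := LowPi.img_self hmT₀ (fun z hz => sc_mp hT₀ hmT₀ le_rfl hz)
  have hT₀X₁ : T₁ ⊓ T₂ ≤ X₁ := by
    intro z hz
    obtain ⟨z₀, hz₀, rfl⟩ := himg.2 z hz
    exact hX₁.1 z₀ (inf_le_e2' hz₀)
  have hT₀X₂ : T₁ ⊓ T₂ ≤ X₂ := by
    intro z hz
    obtain ⟨z₀, hz₀, rfl⟩ := himg.2 z hz
    exact hX₂.1 z₀ (inf_le_e2 hz₀)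
  have hua : ∀ {a}, a ∈ e2 T₂ T₁ P → a ∈ e2 T₂ T₁ Q' ⊔ e2 T₁ T₂ Q' := fun ha => Subgroup.mem_sup_left (hle₁ ha)
  have hub : ∀ {b}, b ∈ e2 T₁ T₂ P → b ∈ e2 T₂ T₁ Q' ⊔ e2 T₁ T₂ Q' := fun hb => Subgroup.mem_sup_right (hle₂ hb)
  have hXle : X ≤ X₁ ⊔ X₂ := by
    intro y hy
    obtain ⟨x, hx, rfl⟩ := hi.2 y hy
    obtain ⟨a, ha, b, hb, rfl⟩ := dec hT₁ hT₂ hPT hx
    rw [← hĝe _ (hPQ hx), hĝ.map_mul (hua ha) (hub hb)]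
    exact Subgroup.mul_mem _ (Subgroup.mem_sup_left (hX₁.1 a ha)) (Subgroup.mem_sup_right (hX₂.1 b hb))
  obtain ⟨k, hk, hke⟩ := exists_mp_D h.hD h.hsc hX₁T hX₂T hT₀X₁ hT₀X₂ hXle hk₁ hk₂
  refine ⟨k, hk, fun x hx => ?_⟩
  obtain ⟨a, ha, b, hb, rfl⟩ := dec hT₁ hT₂ hPT hx
  have e1 : g (a * b) = ĝ a * ĝ b := by
    rw [← hĝe _ (hPQ hx), hĝ.map_mul (hua ha) (hub hb)]
  have hmemX : ĝ a * ĝ b ∈ X := by
    rw [← e1]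
    exact hi.1 _ hx
  have hfx : f₁ a * f₂ b ∈ Q' := by
    rw [← hv a ha b hb hx]
    exact hfQ _ hx
  rw [e1, hke _ (hX₁.1 a ha) _ (hX₂.1 b hb) hmemX, hk₁e a ha, hk₂e b hb, hv a ha b hb hx, ← hĝe _ hfx,
    hĝ.map_mul (Subgroup.mem_sup_left (hf₁Q a ha)) (Subgroup.mem_sup_right (hf₂Q b hb))]

/-- The extension clause. -/
theorem CPD.ext {α : MulAut ↥(T₁ ⊔ T₂)} (hα : α ∈ D.autGroup (T₁ ⊔ T₂)) :
    ∃ β ∈ F.autGroup ((T₁ ⊔ T₂) ⊔ centralizerIn S (T₁ ⊔ T₂)),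
      (∀ x : ↥(T₁ ⊔ T₂), ((β (Subgroup.inclusion le_sup_left x) : ↥((T₁ ⊔ T₂) ⊔ centralizerIn S (T₁ ⊔ T₂))) : Ω) = ((α x : ↥(T₁ ⊔ T₂)) : Ω)) ∧
      ∀ c : ↥((T₁ ⊔ T₂) ⊔ centralizerIn S (T₁ ⊔ T₂)), (c : Ω) ∈ centralizerIn S (T₁ ⊔ T₂) →
        (c : Ω)⁻¹ * ((β c : ↥((T₁ ⊔ T₂) ⊔ centralizerIn S (T₁ ⊔ T₂))) : Ω) ∈ (T₁ ⊔ T₂) ⊓ Subgroup.centralizer ((T₁ ⊔ T₂ : Subgroup Ω) : Set Ω) := by
  have hT₁ := h.hT₁
  have hT₂ := h.hT₂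
  have hTS : T₁ ⊔ T₂ ≤ S := h.sc.1
  have hT₁S : T₁ ≤ S := hT₁.1
  have hT₂S : T₂ ≤ S := hT₂.1
  haveI : Finite T₁ := finite_of_le hT₁S
  haveI : Finite T₂ := finite_of_le hT₂S
  obtain ⟨-, f₁, f₂, h₁, h₂, hv⟩ := h.decomp (mp_autFun le_rfl hα)
  rw [e2_top₁] at h₁ hv
  rw [e2_top₂] at h₂ hv
  have hi₁ : Img T₁ f₁ T₁ := LowPi.img_self h₁ (fun x hx => h₁.mem_S hx)
  have hi₂ : Img T₂ f₂ T₂ := LowPi.img_self h₂ (fun x hx => h₂.mem_S hx)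
  obtain ⟨a₁, ha₁, ha₁e⟩ := h₁.toAut hi₁
  obtain ⟨a₂, ha₂, ha₂e⟩ := h₂.toAut hi₂
  obtain ⟨β₁, hβ₁, hβ₁e, hβ₁c, hβ₁q⟩ := top_ext h.hS h.hE₁ hT₂ hc h.h₁ ha₁
  obtain ⟨β₂, hβ₂, hβ₂e, hβ₂c, hβ₂q⟩ := top_ext h.hS h.hE₂ hT₁ h.hc' h.h₂ ha₂
  have hβ₁f : ∀ x ∈ T₁, β₁ x = f₁ x := fun x hx => by
    rw [hβ₁e x hx, autFun_of_mem a₁ hx]
    exact ha₁e ⟨x, hx⟩
  have hβ₂f : ∀ x ∈ T₂, β₂ x = f₂ x := fun x hx => by
    rw [hβ₂e x hx, autFun_of_mem a₂ hx]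
    exact ha₂e ⟨x, hx⟩
  set R := (T₁ ⊔ T₂) ⊔ centralizerIn S (T₁ ⊔ T₂) with hR
  have hRS : R ≤ S := sup_le hTS inf_le_left
  have hC₁ : centralizerIn S (T₁ ⊔ T₂) ≤ centralizerIn S T₁ := cent_anti le_sup_left
  have hC₂ : centralizerIn S (T₁ ⊔ T₂) ≤ centralizerIn S T₂ := cent_anti le_sup_right
  have hT₂C : T₂ ≤ centralizerIn S T₁ := fun c hc' => mem_cent.2 ⟨hT₂S hc', fun y hy => hc y hy c hc'⟩
  have hT₁C : T₁ ≤ centralizerIn S T₂ := fun c hc' => mem_cent.2 ⟨hT₁S hc', fun y hy => (hc c hc' y hy).symm⟩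
  have hR₁ : R ≤ T₁ ⊔ centralizerIn S T₁ :=
    sup_le (sup_le le_sup_left (hT₂C.trans le_sup_right)) (hC₁.trans le_sup_right)
  have hR₂ : R ≤ T₂ ⊔ centralizerIn S T₂ :=
    sup_le (sup_le (hT₁C.trans le_sup_right) le_sup_left) (hC₂.trans le_sup_right)
  have hβ₁R : Mp F R β₁ := hβ₁.restrict hR₁
  have hβ₂R : Mp F R β₂ := hβ₂.restrict hR₂
  have hT₁R : T₁ ≤ R := le_sup_left.trans le_sup_left
  have hT₂R : T₂ ≤ R := le_sup_right.trans le_sup_left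
  have hCR : centralizerIn S (T₁ ⊔ T₂) ≤ R := le_sup_right
  have hTRs : T₁ ⊔ T₂ ≤ R := le_sup_left
  have hzT : ∀ {z}, z ∈ zz T₁ T₁ → z ∈ R := fun hz => hT₁R (mem_zz.1 hz).1
  have hzT₂ : ∀ {z}, z ∈ zz T₂ T₂ → z ∈ R := fun hz => hT₂R (mem_zz.1 hz).1
  have hβ₁m : ∀ x ∈ R, β₁ x ∈ R := by
    have h1 : Mp F ((T₁ ⊔ T₂) ⊔ centralizerIn S (T₁ ⊔ T₂)) β₁ := hβ₁R
    have h2 : Mp F (T₁ ⊔ T₂) β₁ := h1.restrict le_sup_left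
    refine maps_sup h1 (maps_sup h2 (fun a ha => ?_) (fun b hb => ?_)) (fun c hc' => ?_)
    · rw [hβ₁f a ha]
      exact hT₁R (h₁.mem_S ha)
    · rw [hβ₁q b hb]
      exact hT₂R hb
    · have hz := hβ₁c c (hC₁ hc')
      have e : β₁ c = c * (c⁻¹ * β₁ c) := by group
      rw [e]
      exact R.mul_mem (hCR hc') (hzT hz)
  have hβ₂m : ∀ x ∈ R, β₂ x ∈ R := by
    have h1 : Mp F ((T₁ ⊔ T₂) ⊔ centralizerIn S (T₁ ⊔ T₂)) β₂ := hβ₂R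
    have h2 : Mp F (T₁ ⊔ T₂) β₂ := h1.restrict le_sup_left
    refine maps_sup h1 (maps_sup h2 (fun a ha => ?_) (fun b hb => ?_)) (fun c hc' => ?_)
    · rw [hβ₂q a ha]
      exact hT₁R ha
    · rw [hβ₂f b hb]
      exact hT₂R (h₂.mem_S hb)
    · have hz := hβ₂c c (hC₂ hc')
      have e : β₂ c = c * (c⁻¹ * β₂ c) := by group
      rw [e]
      exact R.mul_mem (hCR hc') (hzT₂ hz)
  have hcomp : Mp F R (fun x => β₂ (β₁ x)) := hβ₁R.comp hβ₁m hβ₂R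
  have hcompi : Img R (fun x => β₂ (β₁ x)) R := LowPi.img_self hcomp (fun x hx => hβ₂m _ (hβ₁m x hx))
  obtain ⟨β, hβ, hβe⟩ := hcomp.toAut hcompi
  refine ⟨β, hβ, fun x => ?_, fun c hc' => ?_⟩
  · obtain ⟨a, ha, b, hb, e⟩ := exists_mul_of_mem_sup' (hT₁S.trans (sc_le_normalizer F hT₂)) x.2
    rw [hβe]
    show β₂ (β₁ (x : Ω)) = _
    have hax : a * b ∈ T₁ ⊔ T₂ := by
      rw [← e]
      exact x.2
    have h3 := hv a ha b hb hax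
    rw [← e, autFun_of_mem α x.2] at h3
    rw [h3, e, hβ₁R.map_mul (hT₁R ha) (hT₂R hb), hβ₁f a ha, hβ₁q b hb, hβ₂R.map_mul (hT₁R (h₁.mem_S ha)) (hT₂R hb),
      hβ₂q _ (h₁.mem_S ha), hβ₂f b hb]
  · rw [hβe]
    show (c : Ω)⁻¹ * β₂ (β₁ (c : Ω)) ∈ _
    have hz₁ := hβ₁c c (hC₁ hc')
    set z₁ := (c : Ω)⁻¹ * β₁ c with hz₁d
    have e1 : β₁ c = c * z₁ := by rw [hz₁d]; group
    have hz₁T : z₁ ∈ T₁ := (mem_zz.1 hz₁).1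
    have hz₂ := hβ₂c c (hC₂ hc')
    set z₂ := (c : Ω)⁻¹ * β₂ c with hz₂d
    have e2 : β₂ c = c * z₂ := by rw [hz₂d]; group
    have hz₂T : z₂ ∈ T₂ := (mem_zz.1 hz₂).1
    have hval : (c : Ω)⁻¹ * β₂ (β₁ (c : Ω)) = z₂ * z₁ := by
      rw [e1, hβ₂R.map_mul (hCR hc') (hT₁R hz₁T), e2, hβ₂q _ hz₁T]
      group
    rw [hval]
    refine Subgroup.mem_inf.2 ⟨Subgroup.mul_mem _ (Subgroup.mem_sup_right hz₂T) (Subgroup.mem_sup_left hz₁T),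
      Subgroup.mem_centralizer_iff.2 fun t ht => ?_⟩
    obtain ⟨a, ha, b, hb, rfl⟩ := exists_mul_of_mem_sup' (hT₁S.trans (sc_le_normalizer F hT₂)) ht
    have h3 : a * z₁ = z₁ * a := (mem_zz.1 hz₁).2 a ha
    have h4 : b * z₂ = z₂ * b := (mem_zz.1 hz₂).2 b hb
    have h5 : a * z₂ = z₂ * a := hc a ha z₂ hz₂T
    have h6 : z₁ * b = b * z₁ := hc z₁ hz₁T b hb
    calc a * b * (z₂ * z₁) = a * (b * z₂) * z₁ := by group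
      _ = a * (z₂ * b) * z₁ := by rw [h4]
      _ = (a * z₂) * (b * z₁) := by group
      _ = (z₂ * a) * (z₁ * b) := by rw [h5, h6]
      _ = z₂ * (a * z₁) * b := by group
      _ = z₂ * (z₁ * a) * b := by rw [h3]
      _ = _ := by group

omit h in
theorem isFin_prod [Finite T₁] [Finite T₂] : Finite ↥(T₁.prod T₂) :=
  Finite.of_injective (Subgroup.prodEquiv T₁ T₂) (Subgroup.prodEquiv T₁ T₂).injective

/-- The saturation of the central product. -/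
theorem CPD.sat : D.IsSaturated p := by
  have hT₁S : T₁ ≤ S := h.hT₁.1
  have hT₂S : T₂ ≤ S := h.hT₂.1
  haveI : Finite T₁ := finite_of_le hT₁S
  haveI : Finite T₂ := finite_of_le hT₂S
  haveI := isFin_prod (T₁ := T₁) (T₂ := T₂)
  have hp : IsPGroup p ↥(T₁.prod T₂) := isPGroup_prod (h.hS.to_le hT₁S) (h.hS.to_le hT₂S)
  have hsat : (productSystem E₁ E₂).IsSaturated p :=
    Cfsg.Agent.Lib.FusionExt.ProductSat.main (h.hS.to_le hT₁S) (h.hS.to_le hT₂S) h.hE₁.1.1 h.hE₂.1.1 (isProductSystem_productSystem E₁ E₂)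
  exact image_isSaturated _ _ D hp hsat (isSurjectiveMorphism_of_isFactorSystem _ _ hp hsat h.hsc h.hD)

/-- **The central product is normal.** -/
theorem CPD.normal : D.IsNormalIn F p := by
  refine ⟨⟨h.sat, h.hF, (isInvariantIn_iff h.hS h.hF h.sub h.sc).2 h.strong⟩, fun α hα => ?_⟩
  exact h.ext hα

end main

open Cfsg.Agent.Lib.Fusion.Center in
/-- **The central case.** -/
theorem main_central [Finite S] [Fact p.Prime] (hS : IsPGroup p S) (hF : F.IsSaturated p) (hE₁ : E₁.IsNormalIn F p) (hE₂ : E₂.IsNormalIn F p)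
    (hc : ∀ a ∈ T₁, ∀ b ∈ T₂, a * b = b * a) (hZ₁ : T₁ ⊓ T₂ ≤ E₁.center) (hZ₂ : T₁ ⊓ T₂ ≤ E₂.center) :
    ∃ D : FusionSystem (T₁ ⊔ T₂), D.IsNormalIn F p ∧ IsCentralProductOf E₁ E₂ D := by
  have hT₁S : T₁ ≤ S := hE₁.1.2.2.2.1.1
  have hT₂S : T₂ ≤ S := hE₂.1.2.2.2.1.1
  haveI : Finite T₁ := finite_of_le hT₁S
  haveI : Finite T₂ := finite_of_le hT₂S
  haveI := isFin_prod (T₁ := T₁) (T₂ := T₂)
  have hcen := antiZ_central (hc := hc) (E₁ := E₁) (E₂ := E₂) hZ₁ hZ₂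
  have hZc : antiZ hc ≤ (productSystem E₁ E₂).center := le_sSup hcen
  have hsc : (productSystem E₁ E₂).StronglyClosed (antiZ hc) := by
    refine ⟨hcen.1, fun P hP φ hφ x => ?_⟩
    rw [map_of_mem_center _ hφ x.2 (hZc (hP x.2))]
    exact hP x.2
  obtain ⟨D, hD⟩ := exists_isFactorSystem (productSystem E₁ E₂) (mulMap hc) hsc (antiZ_theta hc) (mulMap_range hc)
  have h₁ : ∀ (X : Subgroup Ω) (f : Ω → Ω), Mp E₁ X f → ∀ x ∈ X, x ∈ T₂ → f x = x := by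
    rintro X f ⟨φ, hφ, e⟩ x hx hx₂
    have hxT : x ∈ T₁ ⊓ T₂ := ⟨(E₁.le_of_mem hφ).1 hx, hx₂⟩
    rw [← e ⟨x, hx⟩]
    exact map_of_mem_center E₁ hφ hx (hZ₁ hxT)
  have h₂ : ∀ (X : Subgroup Ω) (f : Ω → Ω), Mp E₂ X f → ∀ x ∈ X, x ∈ T₁ → f x = x := by
    rintro X f ⟨φ, hφ, e⟩ x hx hx₁
    have hxT : x ∈ T₁ ⊓ T₂ := ⟨hx₁, (E₂.le_of_mem hφ).1 hx⟩
    rw [← e ⟨x, hx⟩]
    exact map_of_mem_center E₂ hφ hx (hZ₂ hxT)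
  have hdata : CPD F p hc E₁ E₂ D := ⟨hS, hF, hE₁, hE₂, h₁, h₂, hD, hsc⟩
  refine ⟨D, hdata.normal, productSystem E₁ E₂, isProductSystem_productSystem E₁ E₂, antiZ hc, mulMap hc, hZc, ?_, ?_, ?_, ?_, hD⟩
  · rw [eq_bot_iff]
    rintro ⟨a, b⟩ ⟨hx, -, hb⟩
    obtain ⟨-, -, h3⟩ := mem_antiZ.1 hx
    have hb' : b = 1 := hb
    have h3' : a * b = 1 := h3
    rw [hb', mul_one] at h3'
    rw [h3', hb']
    exact Subgroup.one_mem _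
  · rw [eq_bot_iff]
    rintro ⟨a, b⟩ ⟨hx, ha, -⟩
    obtain ⟨-, -, h3⟩ := mem_antiZ.1 hx
    have ha' : a = 1 := ha
    have h3' : a * b = 1 := h3
    rw [ha', one_mul] at h3'
    rw [h3', ha']
    exact Subgroup.one_mem _
  · intro x hx
    rw [mulMap_apply]
    exact mul_one x
  · intro y hy
    rw [mulMap_apply]
    exact one_mul y

end Cfsg.Agent.Lib.FusionExt.CProd4
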