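import Cfsg.Agent.Lib.FusionExt.CProd4

/-!
# Commuting normal subsystems: the general case (helper92)
-/

set_option autoImplicit false
set_option linter.unusedSectionVars false

namespace Cfsg.Agent.Lib.FusionExt.CProd5

open Cfsg Cfsg.FusionSystem Cfsg.Agent.Lib.Fusion.Basic Cfsg.Agent.Lib.Fusion.GroupSystem
open Cfsg.Agent.Lib.FusionExt.MapApi Cfsg.Agent.Lib.FusionExt.Basic Cfsg.Agent.Lib.FusionExt.Normal
open Cfsg.Agent.Lib.FusionExt.Normal2 Cfsg.Agent.Lib.FusionExt.PowerE Cfsg.Agent.Lib.FusionExt.LowPi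
open Cfsg.Agent.Lib.FusionExt.Comp1 Cfsg.Agent.Lib.FusionExt.CProd1 Cfsg.Agent.Lib.FusionExt.CentSys

universe u

variable {Ω : Type u} [Group Ω] {S T T₁ T₂ Q : Subgroup Ω} {F : FusionSystem S} {p : ℕ}

/-- An abelian subgroup is central in its centralizer system. -/
theorem centSys_isCentral {D : FusionSystem T} (hQT : Q ≤ T) (hab : ∀ a ∈ Q, ∀ b ∈ Q, a * b = b * a) :
    (centralizerSystem D Q hQT).IsCentral Q := by
  have hQC : Q ≤ centralizerIn T Q := fun q hq => mem_cent.2 ⟨hQT hq, fun y hy => hab y hy q hq⟩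
  refine ⟨hQC, fun P φ hφ => ?_⟩
  obtain ⟨h1, h2, g, hg, hge, hgq⟩ := mp_centSys.1 (mp_of_hom hφ)
  have hval : ∀ x ∈ P ⊔ Q, g x ∈ centralizerIn T Q := by
    refine maps_sup hg (fun a ha => ?_) (fun q hq => ?_)
    · rw [hge a ha]
      exact h2 a ha
    · rw [hgq q hq]
      exact hQC hq
  have hm : Mp (centralizerSystem D Q hQT) (P ⊔ Q) g :=
    mp_centSys.2 ⟨sup_le h1 hQC, hval, g, hg.restrict (sup_le le_rfl le_sup_right), fun _ _ => rfl, hgq⟩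
  obtain ⟨ψ, hψ, e⟩ := hm
  refine ⟨ψ, hψ, fun x => ?_, fun x => ?_⟩
  · rw [show ψ (Subgroup.inclusion le_sup_left x) = _ from e _]
    show g x = _
    rw [hge x x.2, extOf_of_mem φ x.2]
  · rw [show ψ (Subgroup.inclusion le_sup_right x) = _ from e _]
    exact hgq x x.2

/-- **Two commuting normal subsystems.** -/
theorem main [Finite S] [Fact p.Prime] (hS : IsPGroup p S) (hF : F.IsSaturated p) {E₁ : FusionSystem T₁} {E₂ : FusionSystem T₂}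
    (hE₁ : E₁.IsNormalIn F p) (hE₂ : E₂.IsNormalIn F p) (hc : ∀ a ∈ T₁, ∀ b ∈ T₂, a * b = b * a) :
    ∃ D : FusionSystem (T₁ ⊔ T₂), D.IsNormalIn F p ∧ (T₁ ⊓ T₂ ≤ E₁.center → T₁ ⊓ T₂ ≤ E₂.center → IsCentralProductOf E₁ E₂ D) := by
  by_cases hZ : T₁ ⊓ T₂ ≤ E₁.center ∧ T₁ ⊓ T₂ ≤ E₂.center
  · obtain ⟨D, h1, h2⟩ := Cfsg.Agent.Lib.FusionExt.CProd4.main_central hS hF hE₁ hE₂ hc hZ.1 hZ.2
    exact ⟨D, h1, fun _ _ => h2⟩
  · have hT₁ : F.StronglyClosed T₁ := hE₁.1.2.2.2.1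
    have hT₂ : F.StronglyClosed T₂ := hE₂.1.2.2.2.1
    have hT₀ : F.StronglyClosed (T₁ ⊓ T₂) := sc_inf hT₁ hT₂
    have hab : ∀ a ∈ T₁ ⊓ T₂, ∀ b ∈ T₁ ⊓ T₂, a * b = b * a := fun a ha b hb => hc a ha.1 b hb.2
    have hQ : F.IsNormal (T₁ ⊓ T₂) := isNormal_of_abelian F hS hF hT₀ hab
    have hQ₁ : T₁ ⊓ T₂ ≤ T₁ := inf_le_left
    have hQ₂ : T₁ ⊓ T₂ ≤ T₂ := inf_le_right
    have e₁ : centralizerIn T₁ (T₁ ⊓ T₂) = T₁ :=
      le_antisymm inf_le_left (fun a ha => mem_cent.2 ⟨ha, fun y hy => (hc a ha y hy.2).symm⟩)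
    have e₂ : centralizerIn T₂ (T₁ ⊓ T₂) = T₂ :=
      le_antisymm inf_le_left (fun b hb => mem_cent.2 ⟨hb, fun y hy => hc y hy.1 b hb⟩)
    have hN₁ := centSys_isNormal hS hE₁ hQ hQ₁
    have hN₂ := centSys_isNormal hS hE₂ hQ hQ₂
    have hcc : ∀ a ∈ centralizerIn T₁ (T₁ ⊓ T₂), ∀ b ∈ centralizerIn T₂ (T₁ ⊓ T₂), a * b = b * a := by
      intro a ha b hb
      exact hc a (mem_cent.1 ha).1 b (mem_cent.1 hb).1
    have hQe : centralizerIn T₁ (T₁ ⊓ T₂) ⊓ centralizerIn T₂ (T₁ ⊓ T₂) = T₁ ⊓ T₂ := by rw [e₁, e₂]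
    have hZ₁ : centralizerIn T₁ (T₁ ⊓ T₂) ⊓ centralizerIn T₂ (T₁ ⊓ T₂) ≤ (centralizerSystem E₁ (T₁ ⊓ T₂) hQ₁).center := by
      rw [hQe]
      exact le_sSup (centSys_isCentral hQ₁ hab)
    have hZ₂ : centralizerIn T₁ (T₁ ⊓ T₂) ⊓ centralizerIn T₂ (T₁ ⊓ T₂) ≤ (centralizerSystem E₂ (T₁ ⊓ T₂) hQ₂).center := by
      rw [hQe]
      exact le_sSup (centSys_isCentral hQ₂ hab)
    obtain ⟨D', h1, -⟩ := Cfsg.Agent.Lib.FusionExt.CProd4.main_central hS hF hN₁ hN₂ hcc hZ₁ hZ₂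
    have hex : ∃ D : FusionSystem (centralizerIn T₁ (T₁ ⊓ T₂) ⊔ centralizerIn T₂ (T₁ ⊓ T₂)), D.IsNormalIn F p := ⟨D', h1⟩
    have hsup : centralizerIn T₁ (T₁ ⊓ T₂) ⊔ centralizerIn T₂ (T₁ ⊓ T₂) = T₁ ⊔ T₂ := by rw [e₁, e₂]
    rw [hsup] at hex
    obtain ⟨D, hD⟩ := hex
    exact ⟨D, hD, fun h₁ h₂ => absurd ⟨h₁, h₂⟩ hZ⟩

end Cfsg.Agent.Lib.FusionExt.CProd5
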