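import Cfsg.Agent.Lib.FusionExt.Iso3

/-!
# Images of quasisimple systems, and conjugates of components (helper92)
-/

set_option autoImplicit false
set_option linter.unusedSectionVars false

namespace Cfsg.Agent.Lib.FusionExt.Iso4

open Cfsg Cfsg.FusionSystem Cfsg.Agent.Lib.Fusion.Basic Cfsg.Agent.Lib.Fusion.GroupSystem
open Cfsg.Agent.Lib.FusionExt.MapApi Cfsg.Agent.Lib.FusionExt.Basic Cfsg.Agent.Lib.FusionExt.Normal
open Cfsg.Agent.Lib.FusionExt.PowerE Cfsg.Agent.Lib.FusionExt.LowPi Cfsg.Agent.Lib.FusionExt.Invariant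
open Cfsg.Agent.Lib.FusionExt.CentSys Cfsg.Agent.Lib.FusionExt.Factor Cfsg.Agent.Lib.FusionExt.FactorExt
open Cfsg.Agent.Lib.FusionExt.FactorSat Cfsg.Agent.Lib.FusionExt.PrimeRes1 Cfsg.Agent.Lib.FusionExt.Iso1
open Cfsg.Agent.Lib.FusionExt.Comp1 Cfsg.Agent.Lib.FusionExt.PowerSys Cfsg.Agent.Lib.FusionExt.Iso2
open Cfsg.Agent.Lib.FusionExt.LiftA Cfsg.Agent.Lib.Fusion.Center Cfsg.Agent.Lib.FusionExt.Iso3

universe u v

section fac

variable {Ω : Type u} [Group Ω] {Ω' : Type v} [Group Ω'] {S K : Subgroup Ω} {S' X : Subgroup Ω'} {G : FusionSystem S} {G' : FusionSystem S'}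
  {θ : S →* Ω'} {f : Ω' → Ω'} {f₀ : Ω → Ω}

theorem mem_pre {x : Ω} : x ∈ preimageAlong θ X ↔ x ∈ S ∧ tot θ x ∈ X := by
  rw [mem_preimageAlong]
  constructor
  · rintro ⟨h, h'⟩
    exact ⟨h, by rwa [tot_of_mem θ h]⟩
  · rintro ⟨h, h'⟩
    exact ⟨h, by rwa [tot_of_mem θ h] at h'⟩

theorem mp_fac (hE : G.IsFactorSystem K θ G') (hf : Mp G' X f) :
    ∃ f₀, Mp G (preimageAlong θ X) f₀ ∧ ∀ y ∈ preimageAlong θ X, f (tot θ y) = tot θ (f₀ y) := by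
  obtain ⟨φ', hφ', e⟩ := hf
  obtain ⟨hX, φ, hφ, hP, hφS, hPP', hform⟩ := (hE.2.2.2 X φ').1 hφ'
  refine ⟨extOf φ, mp_of_hom hφ, fun y hy => ?_⟩
  have h1 := hform ⟨y, hy⟩
  rw [tot_of_mem θ (hP hy), extOf_of_mem φ hy, tot_of_mem θ (hφS ⟨y, hy⟩), ← e ⟨θ ⟨y, hP hy⟩, hPP' ⟨y, hy⟩⟩]
  exact h1

theorem push_fac [Finite S] (hsc : G.StronglyClosed K) (hE : G.IsFactorSystem K θ G') (hX : X ≤ S')
    (hf₀ : Mp G (preimageAlong θ X) f₀) :
    ∃ f, Mp G' X f ∧ ∀ y ∈ preimageAlong θ X, f (tot θ y) = tot θ (f₀ y) := by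
  obtain ⟨φ, hφ, e⟩ := hf₀
  have hXr : X ≤ θ.range := by rwa [hE.2.2.1]
  obtain ⟨φ', hind⟩ := exists_induced G θ hsc hE.2.1 hXr hφ
  have hmem : φ' ∈ G'.Hom X := (hE.2.2.2 X φ').2 ⟨hX, φ, hφ, hind⟩
  refine ⟨extOf φ', mp_of_hom hmem, fun y hy => ?_⟩
  obtain ⟨hP, hφS, hPP', hform⟩ := hind
  have h1 := hform ⟨y, hy⟩
  have h2 : tot θ y ∈ X := (mem_pre.1 hy).2
  rw [extOf_of_mem φ' h2]
  have e1 : (⟨tot θ y, h2⟩ : X) = ⟨θ ⟨y, hP hy⟩, hPP' ⟨y, hy⟩⟩ := Subtype.ext (tot_of_mem θ (hP hy))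
  rw [e1, h1, ← e ⟨y, hy⟩, tot_of_mem θ (hφS ⟨y, hy⟩)]

end fac

section quot

variable {Ω : Type u} [Group Ω] {Ω' : Type v} [Group Ω'] {a : Ω → Ω'} {b : Ω' → Ω} {T K : Subgroup Ω} {T' K' : Subgroup Ω'}

/-- The isomorphism of quotient groups. -/
theorem exists_quot_pair [(K.subgroupOf T).Normal] [(K'.subgroupOf T').Normal] (hI : IsoPair a b T T') (hK : Im K a K') (hKT : K ≤ T) (hK'T : K' ≤ T') :
    ∃ (aq : (T ⧸ K.subgroupOf T) → (T' ⧸ K'.subgroupOf T')) (bq : (T' ⧸ K'.subgroupOf T') → (T ⧸ K.subgroupOf T)),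
      IsoPair aq bq ⊤ ⊤ ∧ ∀ x ∈ T, aq (tot (QuotientGroup.mk' (K.subgroupOf T)) x) = tot (QuotientGroup.mk' (K'.subgroupOf T')) (a x) := by
  have hI' := hI.symm
  let aT : T →* T' := MonoidHom.mk' (fun x => ⟨a x, hI.im.1 x x.2⟩) (fun x y => Subtype.ext (hI.tr.mul x x.2 y y.2))
  let bT : T' →* T := MonoidHom.mk' (fun x => ⟨b x, hI'.im.1 x x.2⟩) (fun x y => Subtype.ext (hI'.tr.mul x x.2 y y.2))
  have hba : ∀ x : T, bT (aT x) = x := fun x => Subtype.ext (hI.ba x x.2)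
  have hab : ∀ x : T', aT (bT x) = x := fun x => Subtype.ext (hI.ab x.2)
  have h1 : ∀ x ∈ K.subgroupOf T, (QuotientGroup.mk' (K'.subgroupOf T')).comp aT x = 1 := by
    intro x hx
    show ((aT x : T') : T' ⧸ K'.subgroupOf T') = 1
    rw [QuotientGroup.eq_one_iff]
    exact Subgroup.mem_subgroupOf.2 (hK.1 _ (Subgroup.mem_subgroupOf.1 hx))
  have h2 : ∀ x ∈ K'.subgroupOf T', (QuotientGroup.mk' (K.subgroupOf T)).comp bT x = 1 := by
    intro x hx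
    show ((bT x : T) : T ⧸ K.subgroupOf T) = 1
    rw [QuotientGroup.eq_one_iff]
    obtain ⟨y, hy, e⟩ := hK.2 _ (Subgroup.mem_subgroupOf.1 hx)
    refine Subgroup.mem_subgroupOf.2 ?_
    show b x ∈ K
    rw [← e, hI.ba y (hKT hy)]
    exact hy
  let aq : (T ⧸ K.subgroupOf T) →* (T' ⧸ K'.subgroupOf T') := QuotientGroup.lift _ _ h1
  let bq : (T' ⧸ K'.subgroupOf T') →* (T ⧸ K.subgroupOf T) := QuotientGroup.lift _ _ h2
  have haqv : ∀ x : T, aq (x : T ⧸ K.subgroupOf T) = ((aT x : T') : T' ⧸ K'.subgroupOf T') := fun x => rfl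
  have hbqv : ∀ x : T', bq (x : T' ⧸ K'.subgroupOf T') = ((bT x : T) : T ⧸ K.subgroupOf T) := fun x => rfl
  have hba' : ∀ z, bq (aq z) = z := by
    intro z
    induction z using QuotientGroup.induction_on with
    | H x => rw [haqv, hbqv, hba]
  have hab' : ∀ z, aq (bq z) = z := by
    intro z
    induction z using QuotientGroup.induction_on with
    | H x => rw [hbqv, haqv, hab]
  refine ⟨aq, bq, ⟨⟨fun x _ y _ => map_mul aq x y, fun x _ y _ e => ?_⟩, ⟨fun _ _ => trivial, fun y _ => ⟨bq y, trivial, hab' y⟩⟩, fun x _ => hba' x⟩, fun x hx => ?_⟩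
  · rw [← hba' x, ← hba' y, e]
  · rw [tot_of_mem _ hx, tot_of_mem _ (hI.im.1 x hx)]
    exact haqv ⟨x, hx⟩

variable {Ω₁ : Type u} [Group Ω₁] {Ω₂ : Type v} [Group Ω₂]
  {θ : T →* Ω₁} {θ' : T' →* Ω₂} {C : FusionSystem T} {E : FusionSystem T'} {Cb : FusionSystem (⊤ : Subgroup Ω₁)} {Eb : FusionSystem (⊤ : Subgroup Ω₂)}
  {aq : Ω₁ → Ω₂} {bq : Ω₂ → Ω₁}

/-- The two factor systems correspond. -/
theorem imgSys_quot [Finite T] [Finite T'] (hI : IsoPair a b T T') (hCb : C.IsFactorSystem K θ Cb) (hEb : E.IsFactorSystem K' θ' Eb)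
    (hsc : C.StronglyClosed K) (hsc' : E.StronglyClosed K') (h : ImgSys a C E) (hP : IsoPair aq bq ⊤ ⊤)
    (haq : ∀ x ∈ T, aq (tot θ x) = tot θ' (a x)) : ImgSys aq Cb Eb := by
  have hsurj : ∀ z : Ω₁, ∃ y ∈ T, tot θ y = z := by
    intro z
    have hz : z ∈ θ.range := by
      rw [hCb.2.2.1]
      exact Subgroup.mem_top z
    obtain ⟨s, rfl⟩ := hz
    exact ⟨s, s.2, tot_coe θ s⟩
  have hpre : ∀ {X₀ : Subgroup Ω₁} {X : Subgroup Ω₂} {y : Ω}, Im X₀ aq X → (y ∈ preimageAlong θ X₀ ↔ y ∈ T ∧ a y ∈ preimageAlong θ' X) := by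
    intro X₀ X y hi
    rw [mem_pre, mem_pre]
    constructor
    · rintro ⟨hy, hz⟩
      refine ⟨hy, hI.im.1 y hy, ?_⟩
      rw [← haq y hy]
      exact hi.1 _ hz
    · rintro ⟨hy, -, hz⟩
      refine ⟨hy, ?_⟩
      rw [← haq y hy] at hz
      obtain ⟨w, hw, e⟩ := hi.2 _ hz
      rw [← hP.tr.inj w trivial _ trivial e]
      exact hw
  have himY : ∀ {X₀ : Subgroup Ω₁} {X : Subgroup Ω₂}, Im X₀ aq X → Im (preimageAlong θ X₀) a (preimageAlong θ' X) := by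
    intro X₀ X hi
    refine ⟨fun y hy => ((hpre hi).1 hy).2, fun y hy => ?_⟩
    have hyT : y ∈ T' := (mem_pre.1 hy).1
    refine ⟨b y, (hpre hi).2 ⟨hI.bmem hyT, ?_⟩, hI.ab hyT⟩
    rwa [hI.ab hyT]
  intro X f
  constructor
  · intro hf
    obtain ⟨f₁, hf₁, hf₁e⟩ := mp_fac hEb hf
    obtain ⟨Y₀, f₀, h1, h2, h3⟩ := (h _ f₁).1 hf₁
    obtain ⟨X₀, hX₀⟩ := hP.symm.tr.exists_im (le_top : X ≤ ⊤)
    have hIm : Im X₀ aq X := by
      refine ⟨fun z hz => ?_, fun y hy => ⟨bq y, hX₀.1 y hy, hP.ab trivial⟩⟩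
      obtain ⟨w, hw, rfl⟩ := hX₀.2 z hz
      rw [hP.ab trivial]
      exact hw
    have hIm₂ := himY hIm
    have hY₀T : Y₀ ≤ T := h1.le
    have hYe : Y₀ = preimageAlong θ X₀ := by
      ext y
      constructor
      · intro hy
        exact (hpre hIm).2 ⟨hY₀T hy, h2.1 y hy⟩
      · intro hy
        obtain ⟨hyT, hay⟩ := (hpre hIm).1 hy
        obtain ⟨y₀, hy₀, e⟩ := h2.2 _ hay
        rw [← hI.tr.inj y₀ (hY₀T hy₀) y hyT e]
        exact hy₀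
    subst hYe
    obtain ⟨fq, hfq, hfqe⟩ := push_fac hsc hCb le_top h1
    refine ⟨X₀, fq, hfq, hIm, fun z hz => ?_⟩
    obtain ⟨y, hyT, rfl⟩ := hsurj z
    have hy : y ∈ preimageAlong θ X₀ := mem_pre.2 ⟨hyT, hz⟩
    rw [haq y hyT, hf₁e _ (h2.1 y hy), h3 y hy, hfqe y hy, haq _ (h1.mem_S hy)]
  · rintro ⟨X₀, fq, hfq, hi, hv⟩
    obtain ⟨f₀, hf₀, hf₀e⟩ := mp_fac hCb hfq
    obtain ⟨f₁, hf₁, hf₁e⟩ := h.push hI.tr hf₀ (himY hi)
    obtain ⟨f', hf', hf'e⟩ := push_fac hsc' hEb le_top hf₁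
    refine hf'.congr (fun x hx => ?_)
    obtain ⟨z, hz, rfl⟩ := hi.2 x hx
    obtain ⟨y, hyT, rfl⟩ := hsurj z
    have hy : y ∈ preimageAlong θ X₀ := mem_pre.2 ⟨hyT, hz⟩
    rw [hv _ hz, hf₀e y hy, haq y hyT, hf'e _ ((himY hi).1 y hy), hf₁e y hy, haq _ (hf₀.mem_S hy)]

end quot

section main

variable {Ω : Type u} [Group Ω] {Ω' : Type u} [Group Ω'] {a : Ω → Ω'} {b : Ω' → Ω} {T : Subgroup Ω} {T' : Subgroup Ω'}
  {C : FusionSystem T} {E : FusionSystem T'} {p : ℕ} [Fact p.Prime]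

theorem center_sc {Ω : Type*} [Group Ω] {T : Subgroup Ω} [Finite T] (C : FusionSystem T) : C.StronglyClosed C.center := by
  refine ⟨center_le C, fun P hP φ hφ x => ?_⟩
  rw [map_of_mem_center C hφ x.2 (hP x.2)]
  exact hP x.2

/-- **Images of quasisimple systems are quasisimple.** -/
theorem quasisimple_tr [Finite T] (hT : IsPGroup p T) (hI : IsoPair a b T T') (h : ImgSys a C E) (hq : C.Quasisimple p) : E.Quasisimple p := by
  obtain ⟨hs, hyp, hsimple⟩ := hq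
  haveI hfin' : Finite T' := finite_im hI.im
  refine ⟨sat_img hT hI.tr hs h hI.im, hyp_img hI.tr hI.im h hyp, fun Eb hEb => ?_⟩
  have hK := center_im hI h
  have hsc := center_sc C
  have hsc' := center_sc E
  let π : T →* (T ⧸ C.center.subgroupOf T) := QuotientGroup.mk' (C.center.subgroupOf T)
  have hθ : ∀ s : T, π s = 1 ↔ (s : Ω) ∈ C.center := fun s => by
    show ((s : T) : T ⧸ C.center.subgroupOf T) = 1 ↔ _
    rw [QuotientGroup.eq_one_iff]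
    exact Subgroup.mem_subgroupOf
  have hr : π.range = ⊤ := MonoidHom.range_eq_top.2 (QuotientGroup.mk'_surjective _)
  obtain ⟨Cb, hCb⟩ := exists_isFactorSystem C π hsc hθ hr
  obtain ⟨aq, bq, hP, haq⟩ := exists_quot_pair hI hK (center_le C) (center_le E)
  have himg := imgSys_quot hI hCb hEb hsc hsc' h hP haq
  have hqp : IsPGroup p (T ⧸ C.center.subgroupOf T) := hT.to_quotient _
  have htop : IsPGroup p ↥(⊤ : Subgroup (T ⧸ C.center.subgroupOf T)) := fun g => by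
    obtain ⟨k, hk⟩ := hqp g.1
    exact ⟨k, Subtype.ext hk⟩
  exact simple_tr htop hP himg (hsimple Cb hCb)

end main

/-- **The image of a component under a map of the system is a component.** -/
theorem comp_img {Ω : Type u} [Group Ω] {S : Subgroup Ω} [Finite S] {p : ℕ} [Fact p.Prime] (hS : IsPGroup p S) (F : FusionSystem S)
    (hF : F.IsSaturated p) {T : Subgroup Ω} (C : FusionSystem T) (hC : C.IsComponentIn F p) (γ : T →* Ω) (hγ : γ ∈ F.Hom T)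
    (E : FusionSystem γ.range) (hE : C.IsFactorSystem ⊥ γ E) : E.IsComponentIn F p := by
  obtain ⟨hsub, hq⟩ := hC
  have hm : Mp F T (extOf γ) := mp_of_hom hγ
  have hTS : T ≤ S := hm.le
  haveI : Finite T := finite_of_le hTS
  have ht := trOn_of_mp hm
  have hE' : ImgSys (extOf γ) C E := imgSys_of_fac (fun s => (extOf_coe γ s).symm) ht hE
  have hi : Img T (extOf γ) γ.range := by
    refine ⟨fun x hx => ?_, fun y hy => ?_⟩
    · rw [extOf_of_mem γ hx]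
      exact ⟨_, rfl⟩
    · obtain ⟨x, rfl⟩ := hy
      exact ⟨x, x.2, extOf_coe γ x⟩
  refine ⟨sub_img hsub hS hF (extOf γ) hm hi E hE', ?_⟩
  obtain ⟨b, hb⟩ := exists_isoPair (a := extOf γ) ht hi
  exact quasisimple_tr (hS.to_le hTS) hb hE' hq

end Cfsg.Agent.Lib.FusionExt.Iso4
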