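import Cfsg.Agent.Lib.FusionExt.CentSys

/-!
# `p'`-automorphisms in a normal subsystem fix a normal subgroup (helper92)

For `K` normal in `F` over `T`, `Q` normal in `F`, with `Q ∩ T` central in `T` and fixed by all maps of `K`, every `p'`-automorphism
of a subgroup of `T` in `K` extends to a map on the product with `Q` fixing `Q` elementwise.
-/

set_option autoImplicit false

namespace Cfsg.Agent.Lib.FusionExt.FixQ

open Cfsg Cfsg.FusionSystem Cfsg.Agent.Lib.Fusion.Basic Cfsg.Agent.Lib.Fusion.GroupSystem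
open Cfsg.Agent.Lib.FusionExt.MapApi Cfsg.Agent.Lib.FusionExt.Basic Cfsg.Agent.Lib.FusionExt.Normal
open Cfsg.Agent.Lib.FusionExt.SatCrit1 Cfsg.Agent.Lib.FusionExt.PowerSys Cfsg.Agent.Lib.FusionExt.PowerGen
open Cfsg.Agent.Lib.FusionExt.PrimeRes1 Cfsg.Agent.Lib.Fusion.Saturation Cfsg.Agent.Lib.Fusion.Saturation2
open Cfsg.Agent.Lib.Fusion.KSystem Cfsg.Agent.Lib.FusionExt.Invariant Cfsg.Agent.Lib.FusionExt.PowerE
open Cfsg.Agent.Lib.FusionExt.LowPi Cfsg.Agent.Lib.FusionExt.CentSys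

variable {Ω : Type*} [Group Ω] {S T : Subgroup Ω} {F : FusionSystem S} {K : FusionSystem T} {p : ℕ}
variable {X Y Q R P : Subgroup Ω} {f f' g h k G : Ω → Ω}

/-- The subgroup of `N_T(Y)` acting on `Y` modulo `R`. -/
def N2 (Y R : Subgroup Ω) (hR : ∀ r ∈ R, ∀ t ∈ T, r * t = t * r) : Subgroup Ω where
  carrier := {t | t ∈ T ∧ t ∈ Subgroup.normalizer (Y : Set Ω) ∧ ∀ x ∈ Y, x⁻¹ * (t * x * t⁻¹) ∈ R}
  mul_mem' := by
    rintro t₁ t₂ ⟨h1, h2, h3⟩ ⟨h4, h5, h6⟩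
    refine ⟨T.mul_mem h1 h4, Subgroup.mul_mem _ h2 h5, fun x hx => ?_⟩
    have hr₂ := h6 x hx
    set r₂ := x⁻¹ * (t₂ * x * t₂⁻¹) with hr₂d
    have e1 : t₂ * x * t₂⁻¹ = x * r₂ := by rw [hr₂d]; group
    have e2 : t₁ * r₂ * t₁⁻¹ = r₂ := by
      rw [hR r₂ hr₂ t₁ h1 |>.symm]
      group
    have e3 : x⁻¹ * (t₁ * t₂ * x * (t₁ * t₂)⁻¹) = (x⁻¹ * (t₁ * x * t₁⁻¹)) * r₂ := by
      calc x⁻¹ * (t₁ * t₂ * x * (t₁ * t₂)⁻¹) = x⁻¹ * (t₁ * (t₂ * x * t₂⁻¹) * t₁⁻¹) := by group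
        _ = x⁻¹ * (t₁ * (x * r₂) * t₁⁻¹) := by rw [e1]
        _ = x⁻¹ * ((t₁ * x * t₁⁻¹) * (t₁ * r₂ * t₁⁻¹)) := by group
        _ = _ := by rw [e2]; group
    rw [e3]
    exact R.mul_mem (h3 x hx) hr₂
  one_mem' := ⟨T.one_mem, Subgroup.one_mem _, fun x _ => by
    have : x⁻¹ * (1 * x * 1⁻¹) = 1 := by group
    rw [this]
    exact R.one_mem⟩
  inv_mem' := by
    rintro t ⟨h1, h2, h3⟩
    refine ⟨T.inv_mem h1, Subgroup.inv_mem _ h2, fun x hx => ?_⟩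
    have hy : t⁻¹ * x * t ∈ Y := conj_inv_mem h2 hx
    have h4 := h3 _ hy
    have e1 : t * (t⁻¹ * x * t) * t⁻¹ = x := by group
    rw [e1] at h4
    have e2 : x⁻¹ * (t⁻¹ * x * t⁻¹⁻¹) = ((t⁻¹ * x * t)⁻¹ * x)⁻¹ := by group
    rw [e2]
    exact R.inv_mem h4

theorem mem_N2 {Y R : Subgroup Ω} {hR : ∀ r ∈ R, ∀ t ∈ T, r * t = t * r} {t : Ω} :
    t ∈ N2 Y R hR ↔ t ∈ T ∧ t ∈ Subgroup.normalizer (Y : Set Ω) ∧ ∀ x ∈ Y, x⁻¹ * (t * x * t⁻¹) ∈ R := Iff.rfl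

/-- Overgroups of a subgroup all of whose conjugates are self-centralizing in `T`. -/
theorem hc_up (hcR : ∀ Q', F.IsConj R Q' → zz T Q' ≤ Q') (hRY : R ≤ Y) {Q' : Subgroup Ω} (hQ' : F.IsConj Y Q') : zz T Q' ≤ Q' := by
  obtain ⟨φ', hφ', hr'⟩ := hQ'
  have hm : Mp F Y (extOf φ') := mp_of_hom hφ'
  obtain ⟨R', hR'⟩ := (hm.restrict hRY).exists_img
  have hcR' := hcR R' ((hm.restrict hRY).isConj hR')
  have hle : R' ≤ Q' := by
    intro y hy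
    obtain ⟨x, hx, rfl⟩ := hR'.2 y hy
    rw [extOf_of_mem φ' (hRY hx), ← hr']
    exact ⟨_, rfl⟩
  exact (zz_anti hle).trans (hcR'.trans hle)

section main

variable [Finite S] [Fact p.Prime]

/-- The step for a fully normalized subgroup. -/
theorem fix_step (hS : IsPGroup p S) (hK : K.IsNormalIn F p) (hQ : F.IsNormal Q)
    (hRc : ∀ r ∈ Q ⊓ T, ∀ t ∈ T, r * t = t * r) (hfix : ∀ (X : Subgroup Ω) (f : Ω → Ω), Mp K X f → ∀ x ∈ X, x ∈ Q → f x = x)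
    (hfn : F.IsFullyNormalized Y) (hYT : Y ≤ T) (hc : ∀ Q', F.IsConj Y Q' → zz T Q' ≤ Q')
    (hIH : ∀ Y' : Subgroup Ω, Y < Y' → Y' ≤ T → ∀ f', Pp K p Y' f' → ∃ g, Mp F (Y' ⊔ Q) g ∧ (∀ x ∈ Y', g x = f' x) ∧ ∀ q ∈ Q, g q = q)
    (hf : Pp K p Y f) : ∃ g, Mp F (Y ⊔ Q) g ∧ (∀ x ∈ Y, g x = f x) ∧ ∀ q ∈ Q, g q = q := by
  obtain ⟨⟨hKs, hF, hsub, hT, hInv, hFr⟩, hext⟩ := id hK
  have hSI : StrongInv F K := strong_of_inv hInv hFr
  have hTS : T ≤ S := hT.1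
  have hTp : IsPGroup p T := hS.to_le hTS
  haveI : Finite T := finite_of_le hTS
  have hYS : Y ≤ S := hYT.trans hTS
  haveI : Finite Y := finite_of_le hYS
  haveI : Finite (MulAut Y) := Cfsg.Agent.Lib.Fusion.Basic.finite_mulAut_of_finite (A := Y)
  have hYp : IsPGroup p Y := hS.to_le hYS
  have hfnK : K.IsFullyNormalized Y := fn_sub hS hF hsub hT hfn hYT
  have hFAK := isFullyAutomized_of_isFullyNormalized (F := K) hTp hKs hfnK
  have hrK := isReceptive_of_isFullyNormalized (F := K) hTp hKs hfnK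
  have hcz : zz T Y ≤ Y := hc Y (isConj_refl F hYS)
  have hQS : Q ≤ S := hQ.1
  have hQsc := isNormal_stronglyClosed F hQ
  have hRY : Q ⊓ T ≤ Y := fun r hr => hcz (mem_zz.2 ⟨hr.2, fun y hy => (hRc r hr y (hYT hy)).symm⟩)
  have hcomm : ∀ y ∈ Q, ∀ x ∈ T, x⁻¹ * (y * x * y⁻¹) ∈ Q ⊓ T := by
    intro y hy x hx
    refine ⟨?_, T.mul_mem (T.inv_mem hx) (sc_conj_mem F hT (hQS hy) hx)⟩
    have h1 : x⁻¹ * y * x ∈ Q := by
      have := sc_conj_mem F hQsc (S.inv_mem (hTS hx)) hy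
      rwa [inv_inv] at this
    have e : x⁻¹ * (y * x * y⁻¹) = (x⁻¹ * y * x) * y⁻¹ := by group
    rw [e]
    exact Q.mul_mem h1 (Q.inv_mem hy)
  have hQn : ∀ y ∈ Q, y ∈ Subgroup.normalizer (Y : Set Ω) := by
    intro y hy
    refine mem_normalizer_of_conj_le' (fun x hx => ?_)
    have e : y * x * y⁻¹ = x * (x⁻¹ * (y * x * y⁻¹)) := by group
    rw [e]
    exact Y.mul_mem hx (hRY (hcomm y hy x (hYT hx)))
  obtain ⟨a, ha, hae⟩ := hf.1.toAut hf.2.1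
  have haf : ∀ x ∈ Y, autFun a x = f x := by
    intro x hx
    rw [autFun_of_mem a hx, hae ⟨x, hx⟩]
  -- the stability group
  let S₀ : Subgroup (MulAut Y) := finSub
    { carrier := {b | b ∈ K.autGroup Y ∧ ∀ x ∈ Y, x⁻¹ * autFun b x ∈ Q ⊓ T}
      one_mem' := ⟨Subgroup.one_mem _, fun x _ => by
        rw [autFun_one_apply, inv_mul_cancel]
        exact Subgroup.one_mem _⟩
      mul_mem' := by
        rintro b₁ b₂ ⟨h1, h2⟩ ⟨h3, h4⟩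
        refine ⟨Subgroup.mul_mem _ h1 h3, fun x hx => ?_⟩
        have hr := h4 x hx
        have e : autFun b₂ x = x * (x⁻¹ * autFun b₂ x) := by group
        rw [autFun_mul_apply, e, autFun_mul b₁ hx (hRY hr), hfix Y (autFun b₁) (mp_autFun hYT h1) _ (hRY hr) hr.1, ← mul_assoc]
        exact Subgroup.mul_mem _ (h2 x hx) hr }
  have hS₀ : ∀ {b}, b ∈ S₀ ↔ b ∈ K.autGroup Y ∧ ∀ x ∈ Y, x⁻¹ * autFun b x ∈ Q ⊓ T := Iff.rfl
  have h1 : S₀ ≤ K.autGroup Y := fun b hb => hb.1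
  have h2 : IsPGroup p S₀ := by
    refine isPGroup_of_pow_eq_one (fun b hb => ?_)
    have hk0 : ∃ k : ℕ, ∀ z : Y, (z : Ω) ∈ Q ⊓ T → (b ^ p ^ k) z = z := by
      refine ⟨0, fun z hz => ?_⟩
      apply Subtype.ext
      have := hfix Y (autFun b) (mp_autFun hYT hb.1) _ z.2 hz.1
      rw [autFun_coe] at this
      simpa using this
    have hα : ∀ x : Y, (x : Ω) ∈ (Y : Subgroup Ω) → (x : Ω)⁻¹ * ((b x : Y) : Ω) ∈ Q ⊓ T := by
      intro x hx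
      rw [← autFun_coe]
      exact hb.2 x hx
    obtain ⟨k, hk⟩ := pow_fix_step hYp b (N := Q ⊓ T) (M := Y) hRY hα hk0
    exact ⟨k, MulEquiv.ext fun x => hk x x.2⟩
  have h3 : ∀ δ ∈ K.autGroup Y, ∀ w ∈ S₀, δ * w * δ⁻¹ ∈ S₀ := by
    intro δ hδ w hw
    have hδi := Subgroup.inv_mem _ hδ
    refine ⟨Subgroup.mul_mem _ (Subgroup.mul_mem _ hδ hw.1) hδi, fun x hx => ?_⟩
    have hx₀ := (img_autFun δ⁻¹).1 x hx
    have hr := hw.2 _ hx₀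
    have e : autFun w (autFun δ⁻¹ x) = autFun δ⁻¹ x * ((autFun δ⁻¹ x)⁻¹ * autFun w (autFun δ⁻¹ x)) := by group
    rw [autFun_mul_apply, autFun_mul_apply, e, autFun_mul δ hx₀ (hRY hr), autFun_apply_inv, inv_mul_cancel_left,
      hfix Y (autFun δ) (mp_autFun hYT hδ) _ (hRY hr) hr.1]
    exact hr
  have hS₀ind : S₀ ≤ autInducedBy T Y := fun b hb => opAut_le_autInducedBy hFAK (le_opAut h1 h2 h3 hb)
  -- the group `N₂`
  let N₂ : Subgroup Ω := N2 Y (Q ⊓ T) hRc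
  have hN₂ : ∀ {t}, t ∈ N₂ ↔ t ∈ T ∧ t ∈ Subgroup.normalizer (Y : Set Ω) ∧ ∀ x ∈ Y, x⁻¹ * (t * x * t⁻¹) ∈ Q ⊓ T := Iff.rfl
  have hnormS₀ : ∀ (t : Ω) (hn : t ∈ Subgroup.normalizer (Y : Set Ω)), t ∈ N₂ → normAct Y hn ∈ S₀ := by
    intro t hn ht
    refine ⟨autInducedBy_le_autGroup K hYT (normAct_mem_autInducedBy T Y hn ht.1), fun x hx => ?_⟩
    rw [autFun_of_mem _ hx]
    exact ht.2.2 x hx
  have hS₀N₂ : ∀ b ∈ S₀, ∃ t ∈ N₂, ∀ x ∈ Y, autFun b x = t * x * t⁻¹ := by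
    intro b hb
    obtain ⟨t, ht, hte⟩ := (mem_autInducedBy_iff T Y b).1 (hS₀ind hb)
    have hval : ∀ x ∈ Y, autFun b x = t * x * t⁻¹ := by
      intro x hx
      rw [autFun_of_mem b hx]
      exact hte ⟨x, hx⟩
    refine ⟨t, ⟨ht, mem_normalizer_of_conj Y b t hte, fun x hx => ?_⟩, hval⟩
    rw [← hval x hx]
    exact hb.2 x hx
  have key : ∀ t ∈ N₂, ∃ t' ∈ N₂, ∀ x ∈ Y, f (t * x * t⁻¹) = t' * f x * t'⁻¹ := by
    intro t ht
    have hn : t ∈ Subgroup.normalizer (Y : Set Ω) := ht.2.1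
    obtain ⟨t', ht', hte⟩ := hS₀N₂ _ (h3 a ha _ (hnormS₀ t hn ht))
    refine ⟨t', ht', fun x hx => ?_⟩
    have hfx : f x ∈ Y := hf.2.1.1 x hx
    have h4 := hte (f x) hfx
    rw [autFun_mul_apply, autFun_mul_apply, ← haf x hx, autFun_inv_apply, autFun_of_mem _ hx] at h4
    have h5 : ((normAct Y hn ⟨x, hx⟩ : Y) : Ω) = t * x * t⁻¹ := rfl
    rw [h5, haf _ (norm_conj hn hx)] at h4
    rw [h4, haf x hx]
  by_cases hcase : N₂ ≤ Y
  · -- no further extension is possible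
    have hfpp : Pp F p Y f := ⟨mp_sub hsub hf.1, hf.2⟩
    obtain ⟨ĝ, hĝ, hĝe, hĝc⟩ := pi_main hS hK Y hYT hc a ha
    have hĝY : ∀ x ∈ Y, ĝ x ∈ Y := fun x hx => by
      rw [hĝe x hx, haf x hx]
      exact hf.2.1.1 x hx
    have hĝR := pi_maps hcz hĝ hĝY hĝc
    have hĝi := LowPi.img_self hĝ hĝR
    have hĝYi : Img Y ĝ Y := hf.2.1.congr (fun x hx => by rw [hĝe x hx, haf x hx])
    have hRS : Y ⊔ centralizerIn S Y ≤ S := sup_le hYS inf_le_left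
    obtain ⟨β, m, hβ, hβe, hβm⟩ := pp_extend' hRS hĝ hĝi le_sup_left hfpp (fun x hx => by rw [hĝe x hx, haf x hx])
    have hβc : ∀ c ∈ centralizerIn S Y, c⁻¹ * β c ∈ zz T Y := by
      intro c hc
      rw [hβm c (Subgroup.mem_sup_right hc)]
      exact iter_zz hYT hcz hĝ hĝYi hĝc m hc
    obtain ⟨β₁, hβ₁, hβ₁e, hβ₁Q⟩ := mp_normal_ext hQ hβ.1
    have hUS : (Y ⊔ centralizerIn S Y) ⊔ Q ≤ S := sup_le hRS hQS
    have hRU : Y ⊔ centralizerIn S Y ≤ (Y ⊔ centralizerIn S Y) ⊔ Q := le_sup_left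
    have hQU : Q ≤ (Y ⊔ centralizerIn S Y) ⊔ Q := le_sup_right
    have hYR : Y ≤ Y ⊔ centralizerIn S Y := le_sup_left
    have hCR : centralizerIn S Y ≤ Y ⊔ centralizerIn S Y := le_sup_right
    have hβ₁U : ∀ x ∈ (Y ⊔ centralizerIn S Y) ⊔ Q, β₁ x ∈ (Y ⊔ centralizerIn S Y) ⊔ Q := by
      refine maps_sup hβ₁ (fun r hr => ?_) (fun q hq => hQU (hβ₁Q.1 q hq))
      rw [hβ₁e r hr]
      exact hRU (hβ.2.1.1 r hr)
    have hβ₁i := LowPi.img_self hβ₁ hβ₁U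
    obtain ⟨β₂, m₂, hβ₂, hβ₂e, hβ₂m⟩ := pp_extend' hUS hβ₁ hβ₁i le_sup_left hβ hβ₁e
    obtain ⟨hβ₂M, hβ₂i, m₀, hm₀, hβ₂o⟩ := hβ₂
    have hβ₂Y : ∀ x ∈ Y, β₂ x = f x := fun x hx => by
      rw [hβ₂e x (hYR hx), hβe x hx]
    have hβ₂Q : ∀ y ∈ Q, β₂ y ∈ Q := fun y hy => by
      rw [hβ₂m y (hQU hy)]
      exact iterate_mem hβ₁Q.1 m₂ hy
    have claim1 : ∀ y ∈ Q, β₂ y * y⁻¹ ∈ Q ⊓ (Y ⊔ centralizerIn S Y) := by
      intro y hy
      have hu : β₂ y * y⁻¹ ∈ Q := Q.mul_mem (hβ₂Q y hy) (Q.inv_mem hy)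
      refine ⟨hu, ?_⟩
      set u := β₂ y * y⁻¹ with hud
      have hyn := hQn y hy
      let cy : MulAut Y := normAct Y hyn
      have hcy : cy ∈ F.autGroup Y := autInducedBy_le_autGroup F hYS (normAct_mem_autInducedBy S Y hyn (hQS hy))
      have hcye : ∀ x ∈ Y, autFun cy x = y * x * y⁻¹ := by
        intro x hx
        rw [autFun_of_mem cy hx]
        rfl
      have hcyi : ∀ x ∈ Y, autFun cy⁻¹ (y * x * y⁻¹) = x := by
        intro x hx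
        rw [← hcye x hx, autFun_inv_apply]
      have hc' : cy * a⁻¹ * cy⁻¹ ∈ K.autGroup Y := by
        refine strong_conj_aut hSI hYT (autHom_mem F hYS hcy) (autHom_range cy) (Subgroup.inv_mem _ ha) _ (fun x h => ?_)
        show ((cy (a⁻¹ (cy⁻¹ ⟨cy x, h⟩)) : Y) : Ω) = ((cy (a⁻¹ x) : Y) : Ω)
        have e : (⟨cy x, h⟩ : Y) = cy x := rfl
        rw [e, MulAut.inv_apply_self]
      let γ : MulAut Y := a * (cy * a⁻¹ * cy⁻¹)
      have hγ : γ ∈ K.autGroup Y := Subgroup.mul_mem _ ha hc'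
      have hγe : ∀ x ∈ Y, autFun γ x = u * x * u⁻¹ := by
        intro x hx
        have hw : y⁻¹ * x * y ∈ Y := conj_inv_mem hyn hx
        have e1 : autFun cy⁻¹ x = y⁻¹ * x * y := by
          have := hcyi _ hw
          rwa [show y * (y⁻¹ * x * y) * y⁻¹ = x by group] at this
        have hvY : autFun a⁻¹ (y⁻¹ * x * y) ∈ Y := (img_autFun a⁻¹).1 _ hw
        have hfv : f (autFun a⁻¹ (y⁻¹ * x * y)) = y⁻¹ * x * y := by
          rw [← haf _ hvY, autFun_apply_inv]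
        have hyv : y * autFun a⁻¹ (y⁻¹ * x * y) * y⁻¹ ∈ Y := norm_conj hyn hvY
        have hyU : y ∈ (Y ⊔ centralizerIn S Y) ⊔ Q := hQU hy
        have hvU : autFun a⁻¹ (y⁻¹ * x * y) ∈ (Y ⊔ centralizerIn S Y) ⊔ Q := hRU (hYR hvY)
        show autFun (a * (cy * a⁻¹ * cy⁻¹)) x = _
        rw [autFun_mul_apply, autFun_mul_apply, autFun_mul_apply, e1, hcye _ hvY, haf _ hyv, ← hβ₂Y _ hyv,
          hβ₂M.map_conj hyU hvU, hβ₂Y _ hvY, hfv, hud]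
        group
      have hγS₀ : γ ∈ S₀ := by
        refine ⟨hγ, fun x hx => ?_⟩
        rw [hγe x hx]
        exact hcomm u hu x (hYT hx)
      obtain ⟨t, ht, hte⟩ := hS₀N₂ γ hγS₀
      have htY : t ∈ Y := hcase ht
      have hcen : t⁻¹ * u ∈ centralizerIn S Y := by
        refine mem_cent.2 ⟨S.mul_mem (S.inv_mem (hYS htY)) (hQS hu), fun x hx => ?_⟩
        have h6 : t * x * t⁻¹ = u * x * u⁻¹ := by rw [← hte x hx, hγe x hx]
        have h7 : t * x = u * x * u⁻¹ * t := by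
          rw [← h6]
          group
        calc x * (t⁻¹ * u) = t⁻¹ * (t * x) * (t⁻¹ * u) := by group
          _ = t⁻¹ * (u * x * u⁻¹ * t) * (t⁻¹ * u) := by rw [h7]
          _ = t⁻¹ * u * x := by group
      have e : u = t * (t⁻¹ * u) := by group
      rw [e]
      exact Subgroup.mul_mem _ (hYR htY) (hCR hcen)
    have claim2 : ∀ w ∈ Q ⊓ (Y ⊔ centralizerIn S Y), w⁻¹ * β₂ w ∈ Q ⊓ T := by
      rintro w ⟨hwQ, hwR⟩
      refine ⟨Q.mul_mem (Q.inv_mem hwQ) (hβ₂Q w hwQ), ?_⟩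
      obtain ⟨c, hc, r, hr, rfl⟩ := exists_mul_of_mem_rr hwR
      rw [hβ₂e _ hwR, hβ.1.map_mul (hCR hc) (hYR hr), hβe r hr]
      have hz := hβc c hc
      have e : (c * r)⁻¹ * (β c * f r) = r⁻¹ * (c⁻¹ * β c) * f r := by group
      rw [e]
      exact T.mul_mem (T.mul_mem (T.inv_mem (hYT hr)) (mem_zz.1 hz).1) (hYT (hf.2.1.1 r hr))
    have hβ₂R : ∀ r ∈ Q ⊓ T, β₂ r = r := by
      intro r hr
      rw [hβ₂Y r (hRY hr)]
      exact hfix Y f hf.1 r (hRY hr) hr.1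
    have hcoS : ∀ z ∈ S, (orderOf z).Coprime m₀ := by
      intro z hz
      obtain ⟨j, hj⟩ := hS ⟨z, hz⟩
      have h1 : z ^ p ^ j = 1 := congrArg Subtype.val hj
      have h2 := orderOf_dvd_of_pow_eq_one h1
      refine Nat.Coprime.coprime_dvd_left h2 ?_
      exact (Nat.Coprime.pow_right j hm₀).symm
    have hcentV : ∀ u ∈ Q ⊓ T, ∀ v ∈ Q ⊓ (Y ⊔ centralizerIn S Y), u * v = v * u := by
      rintro u hu v ⟨-, hvR⟩
      obtain ⟨c, hc, r, hr, rfl⟩ := exists_mul_of_mem_rr hvR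
      have h4 := (mem_cent.1 hc).2 u (hRY hu)
      have h5 := hRc u hu r (hYT hr)
      rw [← mul_assoc, h4, mul_assoc, h5, mul_assoc]
    have hfixQ : ∀ y ∈ Q, β₂ y = y := by
      intro y hy
      have hyU := hQU hy
      have hyiU := hQU (Q.inv_mem hy)
      have hbinv : β₂ y⁻¹ = (β₂ y)⁻¹ := hβ₂M.map_inv hyU
      have hq0 : (y⁻¹)⁻¹ * β₂ y⁻¹ ∈ Q ⊓ (Y ⊔ centralizerIn S Y) := by
        have h1 := claim1 y hy
        have e : (y⁻¹)⁻¹ * β₂ y⁻¹ = (β₂ y * y⁻¹)⁻¹ := by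
          rw [hbinv]
          group
        rw [e]
        exact Subgroup.inv_mem _ h1
      have hVS : ∀ z ∈ Q, z ∈ S := fun z hz => hQS hz
      have hq1 : (y⁻¹)⁻¹ * β₂ y⁻¹ ∈ Q ⊓ T :=
        coprime_step (F := F) hβ₂M hyiU (inf_le_left.trans hQU) (le_inf inf_le_left (hRY.trans hYR)) hq0 claim2
          (fun u hu => by rw [hβ₂R u hu]; exact hu) hcentV (hβ₂o _ hyiU) (hcoS _ (hVS _ hq0.1))
      have hq2 : (y⁻¹)⁻¹ * β₂ y⁻¹ ∈ (⊥ : Subgroup Ω) :=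
        coprime_step (F := F) hβ₂M hyiU (inf_le_left.trans hQU) bot_le hq1 (fun v hv => by
          rw [hβ₂R v hv, inv_mul_cancel]
          exact Subgroup.one_mem _) (fun u hu => by
          rw [Subgroup.mem_bot] at hu ⊢
          rw [hu]
          exact hβ₂M.map_one) (fun u hu v _ => by
          rw [Subgroup.mem_bot] at hu
          rw [hu, one_mul, mul_one]) (hβ₂o _ hyiU) (hcoS _ (hVS _ hq1.1))
      rw [Subgroup.mem_bot, hbinv] at hq2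
      have h5 : y * (β₂ y)⁻¹ = 1 := by simpa using hq2
      have h6 : y = β₂ y := mul_inv_eq_one.1 h5
      exact h6.symm
    refine ⟨β₂, hβ₂M.restrict (sup_le (hYR.trans hRU) hQU), hβ₂Y, hfixQ⟩
  · -- a proper extension exists
    have hlt : Y < Y ⊔ N₂ := by
      refine lt_of_le_of_ne le_sup_left (fun e => hcase ?_)
      rw [e]
      exact le_sup_right
    have hN₂n : N₂ ≤ Subgroup.normalizer (Y : Set Ω) := fun t ht => ht.2.1
    have hY'T : Y ⊔ N₂ ≤ T := sup_le hYT (fun t ht => ht.1)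
    obtain ⟨g₀, hg₀, hg₀e⟩ := hf.1.ext_rec hrK hf.2.1 (Y := Y ⊔ N₂) le_sup_left (fun y hy => by
      have hy' : y ∈ N₂ ⊔ Y := by
        rw [sup_comm]
        exact hy
      obtain ⟨t, ht, r, hr, rfl⟩ := exists_mul_of_mem_sup' hN₂n hy'
      obtain ⟨t', ht', hte⟩ := key t ht
      refine ⟨hY'T hy, Subgroup.mul_mem _ ht.2.1 (Subgroup.le_normalizer hr), t' * f r, T.mul_mem ht'.1 (hYT (hf.2.1.1 r hr)), fun x hx => ?_⟩
      have e1 : t * r * x * (t * r)⁻¹ = t * (r * x * r⁻¹) * t⁻¹ := by group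
      rw [e1, hte _ (Y.mul_mem (Y.mul_mem hr hx) (Y.inv_mem hr)), hf.1.map_conj hr hx]
      group)
    have hg₀Y' : ∀ x ∈ Y ⊔ N₂, g₀ x ∈ Y ⊔ N₂ := by
      refine maps_sup hg₀ (fun x hx => ?_) (fun t ht => ?_)
      · rw [hg₀e x hx]
        exact Subgroup.mem_sup_left (hf.2.1.1 x hx)
      · obtain ⟨t', ht', hte⟩ := key t ht
        have htY : t ∈ Y ⊔ N₂ := Subgroup.mem_sup_right ht
        have hz : t'⁻¹ * g₀ t ∈ zz T Y := by
          refine mem_zz.2 ⟨T.mul_mem (T.inv_mem ht'.1) (hg₀.mem_S htY), fun y hy => ?_⟩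
          obtain ⟨x, hx, rfl⟩ := hf.2.1.2 y hy
          have h6 := hg₀.map_conj htY (Subgroup.mem_sup_left hx)
          rw [hg₀e _ (norm_conj ht.2.1 hx), hg₀e x hx, hte x hx] at h6
          have h7 : t' * f x = g₀ t * f x * (g₀ t)⁻¹ * t' := by
            rw [← h6]
            group
          calc f x * (t'⁻¹ * g₀ t) = t'⁻¹ * (t' * f x) * (t'⁻¹ * g₀ t) := by group
            _ = t'⁻¹ * (g₀ t * f x * (g₀ t)⁻¹ * t') * (t'⁻¹ * g₀ t) := by rw [h7]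
            _ = t'⁻¹ * g₀ t * f x := by group
        have e : g₀ t = t' * (t'⁻¹ * g₀ t) := by group
        rw [e]
        exact Subgroup.mul_mem _ (Subgroup.mem_sup_right ht') (Subgroup.mem_sup_left (hcz hz))
    have hg₀i := LowPi.img_self hg₀ hg₀Y'
    obtain ⟨f₁, m, hf₁, hf₁e, -⟩ := pp_extend' hY'T hg₀ hg₀i le_sup_left hf hg₀e
    obtain ⟨g, hg, hge, hgq⟩ := hIH _ hlt hY'T f₁ hf₁
    refine ⟨g, hg.restrict (sup_le (le_sup_left.trans le_sup_left) le_sup_right), fun x hx => ?_, hgq⟩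
    rw [hge x (Subgroup.mem_sup_left hx), hf₁e x hx]

/-- Transport of the conclusion along a map of `F`. -/
theorem fix_transport (hQ : F.IsNormal Q) (hh : Mp F Y h) {f₀ g₀ : Ω → Ω} (hg₀ : Mp F (R ⊔ Q) g₀) (hi : Img Y h R)
    (hg₀R : ∀ x ∈ Y, g₀ (h x) = h (f x)) (hfY : ∀ x ∈ Y, f x ∈ Y) (hg₀Q : ∀ q ∈ Q, g₀ q = q) :
    ∃ g, Mp F (Y ⊔ Q) g ∧ (∀ x ∈ Y, g x = f x) ∧ ∀ q ∈ Q, g q = q := by
  obtain ⟨ĥ, hĥ, hĥe, hĥQ⟩ := mp_normal_ext hQ hh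
  have hĥm : ∀ x ∈ Y ⊔ Q, ĥ x ∈ R ⊔ Q := by
    refine maps_sup hĥ (fun y hy => ?_) (fun q hq => Subgroup.mem_sup_right (hĥQ.1 q hq))
    rw [hĥe y hy]
    exact Subgroup.mem_sup_left (hi.1 y hy)
  obtain ⟨W, hW⟩ := hĥ.exists_img
  obtain ⟨κ, hκ, hκ1, -, -⟩ := hĥ.inverse hW
  have hcomp : Mp F (Y ⊔ Q) (fun x => g₀ (ĥ x)) := hĥ.comp hĥm hg₀
  have hmW : ∀ x ∈ Y ⊔ Q, g₀ (ĥ x) ∈ W := by
    refine maps_sup hcomp (fun y hy => ?_) (fun q hq => ?_)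
    · rw [hĥe y hy, hg₀R y hy, ← hĥe _ (hfY y hy)]
      exact hW.1 _ (Subgroup.mem_sup_left (hfY y hy))
    · rw [hg₀Q _ (hĥQ.1 q hq)]
      exact hW.1 _ (Subgroup.mem_sup_right hq)
  refine ⟨fun x => κ (g₀ (ĥ x)), hcomp.comp hmW hκ, fun x hx => ?_, fun q hq => ?_⟩
  · show κ (g₀ (ĥ x)) = f x
    rw [hĥe x hx, hg₀R x hx, ← hĥe _ (hfY x hx), hκ1 _ (Subgroup.mem_sup_left (hfY x hx))]
  · show κ (g₀ (ĥ q)) = q
    rw [hg₀Q _ (hĥQ.1 q hq), hκ1 _ (Subgroup.mem_sup_right hq)]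

/-- Conjugating a `p'`-automorphism by a map of `F`. -/
theorem pp_conj (hSI : StrongInv F K) (hYT : Y ≤ T) (hf : Pp K p Y f) (hh : Mp F Y h) (hi : Img Y h R) :
    ∃ h₀, Pp K p R h₀ ∧ ∀ x ∈ Y, h₀ (h x) = h (f x) := by
  obtain ⟨h₁, h₂, m, hm, h₃⟩ := hf
  obtain ⟨h₀, hh₀, hh₀e⟩ := sI_mp hSI (le_refl Y) hYT h₁ h₂.1 hh hi
  refine ⟨h₀, ⟨hh₀, ⟨fun y hy => ?_, fun y hy => ?_⟩, m, hm, fun y hy => ?_⟩, hh₀e⟩
  · obtain ⟨x, hx, rfl⟩ := hi.2 y hy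
    rw [hh₀e x hx]
    exact hi.1 _ (h₂.1 x hx)
  · obtain ⟨x, hx, rfl⟩ := hi.2 y hy
    obtain ⟨u, hu, rfl⟩ := h₂.2 x hx
    exact ⟨h u, hi.1 u hu, hh₀e u hu⟩
  · obtain ⟨x, hx, rfl⟩ := hi.2 y hy
    have key : ∀ n : ℕ, h₀^[n] (h x) = h (f^[n] x) := by
      intro n
      induction n with
      | zero => rfl
      | succ n ih =>
        rw [Function.iterate_succ_apply', ih, hh₀e _ (iterate_mem h₂.1 n hx), Function.iterate_succ_apply']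
    rw [key, h₃ x hx]

/-- **The main statement for subgroups all of whose conjugates are self-centralizing in `T`.** -/
theorem fix_all (hS : IsPGroup p S) (hK : K.IsNormalIn F p) (hQ : F.IsNormal Q)
    (hRc : ∀ r ∈ Q ⊓ T, ∀ t ∈ T, r * t = t * r) (hfix : ∀ (X : Subgroup Ω) (f : Ω → Ω), Mp K X f → ∀ x ∈ X, x ∈ Q → f x = x) :
    ∀ (d : ℕ) (Y : Subgroup Ω), Nat.card T - Nat.card Y = d → Y ≤ T → (∀ Q', F.IsConj Y Q' → zz T Q' ≤ Q') →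
      ∀ f, Pp K p Y f → ∃ g, Mp F (Y ⊔ Q) g ∧ (∀ x ∈ Y, g x = f x) ∧ ∀ q ∈ Q, g q = q := by
  obtain ⟨⟨hKs, hF, hsub, hT, hInv, hFr⟩, hext⟩ := id hK
  have hSI : StrongInv F K := strong_of_inv hInv hFr
  have hTS : T ≤ S := hT.1
  haveI : Finite T := finite_of_le hTS
  intro d
  induction d using Nat.strong_induction_on with
  | _ d ih =>
  intro Y hd hYT hc f hf
  have hYS : Y ≤ S := hYT.trans hTS
  haveI : Finite Y := finite_of_le hYS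
  obtain ⟨R, hYR, hfn⟩ := exists_isFullyNormalized F hYS
  obtain ⟨φ, hφ, hφr⟩ := id hYR
  have hRT : R ≤ T := by
    rw [← hφr]
    rintro _ ⟨x, rfl⟩
    exact hT.2 Y hYT φ hφ x
  have hcR : ∀ Q', F.IsConj R Q' → zz T Q' ≤ Q' := fun Q' hQ' => hc Q' (isConj_trans F hYR hQ')
  have hcard : Nat.card R = Nat.card Y := (isConj_card_eq F hYR).symm
  have himg : Img Y (extOf φ) R := by
    refine ⟨fun x hx => ?_, fun y hy => ?_⟩
    · rw [extOf_of_mem φ hx, ← hφr]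
      exact ⟨_, rfl⟩
    · rw [← hφr] at hy
      obtain ⟨x, rfl⟩ := hy
      exact ⟨x, x.2, extOf_coe φ x⟩
  obtain ⟨h₀, hh₀, hh₀e⟩ := pp_conj hSI hYT hf (mp_of_hom hφ) himg
  have hIH : ∀ Y' : Subgroup Ω, R < Y' → Y' ≤ T → ∀ f', Pp K p Y' f' →
      ∃ g, Mp F (Y' ⊔ Q) g ∧ (∀ x ∈ Y', g x = f' x) ∧ ∀ q ∈ Q, g q = q := by
    intro Y' hlt hY'T f' hf'
    have hc1 : Nat.card R < Nat.card Y' := by
      haveI : Finite Y' := finite_of_le (hY'T.trans hTS)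
      refine lt_of_le_of_ne (Subgroup.card_le_of_le hlt.le) (fun e => hlt.ne ?_)
      exact Subgroup.eq_of_le_of_card_ge hlt.le e.ge
    have hc2 : Nat.card Y' ≤ Nat.card T := Subgroup.card_le_of_le hY'T
    exact ih _ (by omega) Y' rfl hY'T (fun Q' hQ' => hc_up hcR hlt.le hQ') f' hf'
  obtain ⟨g₀, hg₀, hg₀e, hg₀q⟩ := fix_step hS hK hQ hRc hfix hfn hRT hcR hIH hh₀
  refine fix_transport (f₀ := h₀) hQ (mp_of_hom hφ) hg₀ himg (fun x hx => ?_) hf.2.1.1 hg₀q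
  rw [hg₀e _ (himg.1 x hx), hh₀e x hx]

/-- The centralizing extension of a fully normalized subgroup is self-centralizing with all its conjugates. -/
theorem hc_plus (hS : IsPGroup p S) (hF : F.IsSaturated p) (hT : F.StronglyClosed T) (hfn : F.IsFullyNormalized R) (hRT : R ≤ T)
    {Q' : Subgroup Ω} (hQ' : F.IsConj (R ⊔ centralizerIn T R) Q') : zz T Q' ≤ Q' := by
  have hTS : T ≤ S := hT.1
  have hRS : R ≤ S := hRT.trans hTS
  have hCT : centralizerIn T R ≤ T := inf_le_left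
  have hUT : R ⊔ centralizerIn T R ≤ T := sup_le hRT hCT
  have hrec := isReceptive_of_isFullyNormalized F hS hF hfn
  obtain ⟨ψ, hψ, hψr⟩ := hQ'
  have hm : Mp F (R ⊔ centralizerIn T R) (extOf ψ) := mp_of_hom hψ
  have hRU : R ≤ R ⊔ centralizerIn T R := le_sup_left
  have hCU : centralizerIn T R ≤ R ⊔ centralizerIn T R := le_sup_right
  obtain ⟨R', hR'⟩ := (hm.restrict hRU).exists_img
  obtain ⟨k₀, hk₀, hk1, hk2, hk3⟩ := (hm.restrict hRU).inverse hR'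
  obtain ⟨χ, hχ, hχe⟩ := ext_cent hrec hk₀ hk3
  have hR'C : R' ≤ R' ⊔ centralizerIn S R' := le_sup_left
  have hCC : centralizerIn S R' ≤ R' ⊔ centralizerIn S R' := le_sup_right
  -- images of `C_T(R)` centralize `R'`
  have hcimg : ∀ c ∈ centralizerIn T R, extOf ψ c ∈ centralizerIn S R' := by
    intro c hc
    refine mem_cent.2 ⟨hm.mem_S (hCU hc), fun y hy => ?_⟩
    obtain ⟨x, hx, rfl⟩ := hR'.2 y hy
    rw [← hm.map_mul (hRU hx) (hCU hc), ← hm.map_mul (hCU hc) (hRU hx), (mem_cent.1 hc).2 x hx]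
  have hQ'le : ∀ y ∈ R ⊔ centralizerIn T R, extOf ψ y ∈ R' ⊔ centralizerIn S R' := by
    refine maps_sup hm (fun a ha => hR'C (hR'.1 a ha)) (fun c hc => hCC (hcimg c hc))
  have hcomp : Mp F (R ⊔ centralizerIn T R) (fun x => χ (extOf ψ x)) := hm.comp hQ'le hχ
  have hχR : ∀ x ∈ R, χ (extOf ψ x) = x := by
    intro x hx
    rw [hχe _ (hR'.1 x hx), hk1 x hx]
  have hξU : ∀ x ∈ R ⊔ centralizerIn T R, χ (extOf ψ x) ∈ R ⊔ centralizerIn T R := by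
    refine maps_sup hcomp (fun a ha => ?_) (fun c hc => ?_)
    · rw [hχR a ha]
      exact hRU ha
    · refine hCU (mem_cent.2 ⟨?_, fun y hy => ?_⟩)
      · exact sc_mp hT hcomp hUT (hCU hc)
      · rw [← hχR y hy]
        have h1 := hcomp.map_mul (hRU hy) (hCU hc)
        have h2 := hcomp.map_mul (hCU hc) (hRU hy)
        rw [← h1, ← h2, (mem_cent.1 hc).2 y hy]
  have hξi := LowPi.img_self hcomp hξU
  intro z hz
  have hzT := (mem_zz.1 hz).1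
  have hzC : z ∈ centralizerIn S R' := by
    refine mem_cent.2 ⟨hTS hzT, fun y hy => ?_⟩
    obtain ⟨x, hx, rfl⟩ := hR'.2 y hy
    refine (mem_zz.1 hz).2 _ ?_
    rw [extOf_of_mem ψ (hRU hx), ← hψr]
    exact ⟨_, rfl⟩
  have hzU : z ∈ R' ⊔ centralizerIn S R' := hCC hzC
  have hχz : χ z ∈ T := by
    have hX : (R' ⊔ centralizerIn S R') ⊓ T ≤ R' ⊔ centralizerIn S R' := inf_le_left
    exact sc_mp hT (hχ.restrict hX) inf_le_right (Subgroup.mem_inf.2 ⟨hzU, hzT⟩)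
  have hψQ : ∀ v ∈ R ⊔ centralizerIn T R, extOf ψ v ∈ (ψ.range : Subgroup Ω) := by
    intro v hv
    rw [extOf_of_mem ψ hv]
    exact ⟨_, rfl⟩
  have hcomm : ∀ u ∈ R ⊔ centralizerIn T R, u * χ z = χ z * u := by
    intro u hu
    obtain ⟨v, hv, rfl⟩ := hξi.2 u hu
    have hy : extOf ψ v ∈ R' ⊔ centralizerIn S R' := hQ'le v hv
    rw [← hχ.map_mul hy hzU, ← hχ.map_mul hzU hy]
    have : z ∈ zz T (ψ.range : Subgroup Ω) := by rw [hψr]; exact hz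
    rw [(mem_zz.1 this).2 _ (hψQ v hv)]
  have hin : χ z ∈ R ⊔ centralizerIn T R := by
    refine hCU (mem_cent.2 ⟨hχz, fun y hy => hcomm y (hRU hy)⟩)
  obtain ⟨v, hv, hve⟩ := hξi.2 _ hin
  have : extOf ψ v = z := hχ.inj (hQ'le v hv) hzU hve
  rw [← this, ← hψr]
  exact hψQ v hv

/-- `p'`-automorphisms of subgroups of `T` in `K` extend to maps fixing `Q`. -/
theorem fix_any (hS : IsPGroup p S) (hK : K.IsNormalIn F p) (hQ : F.IsNormal Q)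
    (hRc : ∀ r ∈ Q ⊓ T, ∀ t ∈ T, r * t = t * r) (hfix : ∀ (X : Subgroup Ω) (f : Ω → Ω), Mp K X f → ∀ x ∈ X, x ∈ Q → f x = x)
    (hPT : P ≤ T) (hf : Pp K p P f) : ∃ g, Mp F (P ⊔ Q) g ∧ (∀ x ∈ P, g x = f x) ∧ ∀ q ∈ Q, g q = q := by
  obtain ⟨⟨hKs, hF, hsub, hT, hInv, hFr⟩, hext⟩ := id hK
  have hSI : StrongInv F K := strong_of_inv hInv hFr
  have hTS : T ≤ S := hT.1
  have hTp : IsPGroup p T := hS.to_le hTS
  haveI : Finite T := finite_of_le hTS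
  obtain ⟨R, hPR, hfn⟩ := exists_isFullyNormalized F (hPT.trans hTS)
  obtain ⟨φ, hφ, hφr⟩ := id hPR
  have hRT : R ≤ T := by
    rw [← hφr]
    rintro _ ⟨x, rfl⟩
    exact hT.2 P hPT φ hφ x
  have himg : Img P (extOf φ) R := by
    refine ⟨fun x hx => ?_, fun y hy => ?_⟩
    · rw [extOf_of_mem φ hx, ← hφr]
      exact ⟨_, rfl⟩
    · rw [← hφr] at hy
      obtain ⟨x, rfl⟩ := hy
      exact ⟨x, x.2, extOf_coe φ x⟩
  obtain ⟨h₀, hh₀, hh₀e⟩ := pp_conj hSI hPT hf (mp_of_hom hφ) himg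
  have hfnK : K.IsFullyNormalized R := fn_sub hS hF hsub hT hfn hRT
  have hrK := isReceptive_of_isFullyNormalized (F := K) hTp hKs hfnK
  obtain ⟨b, hb, hbe⟩ := ext_cent hrK hh₀.1 hh₀.2.1
  have hRU : R ≤ R ⊔ centralizerIn T R := le_sup_left
  have hCU : centralizerIn T R ≤ R ⊔ centralizerIn T R := le_sup_right
  have hUT : R ⊔ centralizerIn T R ≤ T := sup_le hRT inf_le_left
  have hbU : ∀ x ∈ R ⊔ centralizerIn T R, b x ∈ R ⊔ centralizerIn T R := by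
    refine maps_sup hb (fun a ha => ?_) (fun c hc => ?_)
    · rw [hbe a ha]
      exact hRU (hh₀.2.1.1 a ha)
    · refine hCU (map_cent hb (fun y hy => ?_) hc)
      obtain ⟨x, hx, e⟩ := hh₀.2.1.2 y hy
      exact ⟨x, hx, by rw [hbe x hx, e]⟩
  have hbi := LowPi.img_self hb hbU
  obtain ⟨f', m, hf', hf'R, hf'U⟩ := pp_extend' hUT hb hbi hRU hh₀ hbe
  obtain ⟨g₁, hg₁, hg₁e, hg₁q⟩ := fix_all hS hK hQ hRc hfix _ (R ⊔ centralizerIn T R) rfl hUT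
    (fun Q' hQ' => hc_plus hS hF hT hfn hRT hQ') f' hf'
  have hle : R ⊔ Q ≤ (R ⊔ centralizerIn T R) ⊔ Q := sup_le_sup_right hRU Q
  refine fix_transport (f₀ := h₀) hQ (mp_of_hom hφ) (hg₁.restrict hle) himg (fun x hx => ?_) hf.2.1.1 hg₁q
  have hy := himg.1 x hx
  rw [hg₁e _ (hRU hy), hf'R _ hy, hh₀e x hx]

end main

end Cfsg.Agent.Lib.FusionExt.FixQ
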