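import Cfsg.Agent.Lib.FusionExt.PrimeRes2
import Cfsg.Agent.Lib.FusionExt.FixQ

/-!
# The `p'`-residual subsystem of a normal subsystem lies in every normal subsystem over the same group (helper92)
-/

set_option autoImplicit false

namespace Cfsg.Agent.Lib.FusionExt.PPrimeMin

open Cfsg Cfsg.FusionSystem Cfsg.Agent.Lib.Fusion.Basic Cfsg.Agent.Lib.Fusion.GroupSystem
open Cfsg.Agent.Lib.FusionExt.MapApi Cfsg.Agent.Lib.FusionExt.PowerSys Cfsg.Agent.Lib.FusionExt.PowerGen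
open Cfsg.Agent.Lib.FusionExt.PrimeRes1 Cfsg.Agent.Lib.FusionExt.PrimeRes2 Cfsg.Agent.Lib.Fusion.Saturation
open Cfsg.Agent.Lib.Fusion.Saturation2 Cfsg.Agent.Lib.FusionExt.SatCrit1 Cfsg.Agent.Lib.FusionExt.Invariant
open Cfsg.Agent.Lib.FusionExt.PowerE Cfsg.Agent.Lib.FusionExt.LowPi Cfsg.Agent.Lib.FusionExt.CentSys
open Cfsg.Agent.Lib.FusionExt.FixQ

universe u

variable {Ω : Type u} [Group Ω] {S T : Subgroup Ω} {F : FusionSystem S} {D E : FusionSystem T} {p : ℕ}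
variable {X Y Q R : Subgroup Ω} {f g h k : Ω → Ω}

/-- Conjugating a map of an invariant subsystem by a global automorphism. -/
theorem tw_sI (hT : T ≤ S) (hSI : StrongInv F D) {a : MulAut T} (ha : a ∈ F.autGroup T) (hf : Mp D X f) :
    Mp D (cjB a X) (twB a f) := by
  have hXT : X ≤ T := hf.le
  have hinv : Mp F T (autFun a⁻¹) := mp_autFun hT (Subgroup.inv_mem _ ha)
  have hi : Img X (autFun a⁻¹) (cjB a X) := by
    refine ⟨fun x hx => mem_cjB_of a hXT hx, fun y hy => ⟨_, hy.2, autFun_inv_apply a y⟩⟩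
  obtain ⟨h, hh, he⟩ := sI_mp hSI hXT le_rfl hf (fun x hx => hf.mem_S hx) hinv hi
  refine hh.congr (fun y hy => ?_)
  have e : autFun a⁻¹ (autFun a y) = y := autFun_inv_apply a y
  have := he (autFun a y) hy.2
  rw [e] at this
  exact this

theorem Mp.iter {M : Subgroup Ω} (hf : Mp D M f) (hm : ∀ x ∈ M, f x ∈ M) (k : ℕ) : Mp D M f^[k] := by
  induction k with
  | zero => exact Mp.refl hf.le
  | succ k ih =>
    refine (hf.comp hm ih).congr (fun x _ => ?_)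
    rfl

section main

variable [Finite S] [Fact p.Prime]

/-- A `p'`-automorphism of `T` in `F` restricting to a map of an invariant subsystem on a centric subgroup is a map of the subsystem. -/
theorem lemma_KK (hS : IsPGroup p S) (hTS : T ≤ S) (hD : D.IsSaturated p) (hsub : D.IsSubsystemOf F) (hSI : StrongInv F D)
    {a : MulAut T} (ha : a ∈ F.autGroup T) {n : ℕ} (hn : n.Coprime p) (hord : a ^ n = 1) :
    ∀ (d : ℕ) (Q : Subgroup Ω), Nat.card T - Nat.card Q = d → Q ≤ T → (∀ Q₂, F.IsConj Q Q₂ → zz T Q₂ ≤ Q₂) →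
      Mp D Q (autFun a) → a ∈ D.autGroup T := by
  have hTp : IsPGroup p T := hS.to_le hTS
  haveI : Finite T := finite_of_le hTS
  intro d
  induction d using Nat.strong_induction_on with
  | _ d ih =>
  intro Q hd hQT hc hb
  by_cases hQe : Q = T
  · subst hQe
    exact (mem_autGroup_iff D le_rfl a).2 (hom_of_mp hb)
  set N := normalizerIn T Q with hN
  have hQN : Q ≤ N := fun x hx => ⟨hQT hx, Subgroup.le_normalizer hx⟩
  have hNT : N ≤ T := inf_le_left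
  have hlt : Nat.card Q < Nat.card N := by
    obtain ⟨y, hyS, hyQ, hyN⟩ := exists_normalizing hTp hQT hQe le_rfl
    refine card_lt_of_lt hQN (fun e => hyQ ?_) hNT
    rw [e]
    exact ⟨hyS, hyN⟩
  suffices hbN : Mp D N (autFun a) by
    have h1 : Nat.card N ≤ Nat.card T := card_le_S hNT
    exact ih _ (by omega) N rfl hNT (fun Q₂ h => hc_up hc hQN h) hbN
  set Q' := cjB a⁻¹ Q with hQ'
  have hiQ' : Img Q (autFun a) Q' := by
    refine ⟨fun x hx => ⟨autFun_mem a (hQT hx), by rwa [autFun_inv_apply]⟩, fun y hy => ⟨_, hy.2, autFun_apply_inv a y⟩⟩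
  have hQ'S : Q' ≤ T := fun y hy => hy.1
  have haN : ∀ y ∈ N, autFun a y ∈ normalizerIn T Q' := by
    intro y hy
    rw [hQ', normalizerIn_cjB a⁻¹ hQT]
    refine ⟨autFun_mem a (hNT hy), ?_⟩
    rwa [autFun_inv_apply]
  obtain ⟨R₀, hQ'R₀, hfn⟩ := exists_isFullyNormalized D hQ'S
  have hAD := isFullyAutomized_of_isFullyNormalized D hTp hD hfn
  have hrD := isReceptive_of_isFullyNormalized D hTp hD hfn
  obtain ⟨μ, hμ, hμv, hμr⟩ := exists_normalizer_map D hTp hAD hrD hQ'R₀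
  have hQ'N : Q' ≤ normalizerIn T Q' := fun x hx => ⟨hQ'S hx, Subgroup.le_normalizer hx⟩
  have him := img_of_normalizer_map hQ'N μ hμr
  have hm := mp_of_hom hμ
  set m := extOf μ with hmdef
  have hfQ : Mp D Q (fun x => m (autFun a x)) := hb.comp hiQ'.1 (hm.restrict hQ'N)
  have hiR : Img Q (fun x => m (autFun a x)) R₀ := hiQ'.comp him
  obtain ⟨g₀, hg₀, hge⟩ := hfQ.ext_rec hrD hiR hQN (fun y hy => by
    have h1 : y ∈ T := hy.1
    have h2 : y ∈ Subgroup.normalizer (Q : Set Ω) := hy.2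
    refine ⟨h1, h2, m (autFun a y), hm.mem_S (haN y hy), fun x hx => ?_⟩
    have hx' : y * x * y⁻¹ ∈ Q := (Subgroup.mem_normalizer_iff.1 h2 x).1 hx
    have hxS := hQT hx
    show m (autFun a (y * x * y⁻¹)) = m (autFun a y) * m (autFun a x) * (m (autFun a y))⁻¹
    rw [autFun_mul a (T.mul_mem h1 hxS) (T.inv_mem h1), autFun_mul a h1 hxS, autFun_inv' a h1]
    exact hm.map_conj (haN y hy) (hQ'N (hiQ'.1 x hx)))
  have hbF : Mp F N (autFun a) := (mp_autFun hTS ha).restrict hNT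
  have hmF : Mp F (normalizerIn T Q') m := mp_sub hsub hm
  have hhF : Mp F N (fun x => m (autFun a x)) := hbF.comp haN hmF
  obtain ⟨M, hM⟩ := hhF.exists_img
  obtain ⟨κ, hκ, k1, k2, k3⟩ := hhF.inverse hM
  have hg₀F := mp_sub hsub hg₀
  have hψF : Mp F M (fun y => g₀ (κ y)) := hκ.comp k3.1 hg₀F
  have hRM : R₀ ≤ M := by
    intro r hr
    obtain ⟨x, hx, rfl⟩ := hiR.2 r hr
    exact hM.1 x (hQN hx)
  have hMT : M ≤ T := by
    intro y hy
    obtain ⟨x, hx, rfl⟩ := hM.2 y hy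
    exact hm.mem_S (haN x hx)
  have hψR : ∀ r ∈ R₀, g₀ (κ r) = r := by
    intro r hr
    obtain ⟨x, hx, rfl⟩ := hiR.2 r hr
    show g₀ (κ (m (autFun a x))) = m (autFun a x)
    have := k1 x (hQN hx)
    rw [this, hge x hx]
  have hR₀cz : zz T R₀ ≤ R₀ := hc R₀ ((mp_sub hsub hfQ).isConj hiR)
  have hz : ∀ y ∈ M, y⁻¹ * g₀ (κ y) ∈ R₀ := by
    intro y hy
    obtain ⟨n, hn, rfl⟩ := hM.2 y hy
    have e1 := k1 n hn
    show (m (autFun a n))⁻¹ * g₀ (κ (m (autFun a n))) ∈ R₀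
    rw [e1]
    apply hR₀cz
    refine mem_zz.2 ⟨T.mul_mem (T.inv_mem (hMT (hM.1 n hn))) (hg₀.mem_S hn), fun r hr => ?_⟩
    obtain ⟨x, hx, rfl⟩ := hiR.2 r hr
    have hnN : n ∈ Subgroup.normalizer (Q : Set Ω) := hn.2
    have hx' : n * x * n⁻¹ ∈ Q := (Subgroup.mem_normalizer_iff.1 hnN x).1 hx
    have h1 := hge _ hx'
    rw [hg₀.map_conj hn (hQN hx), hge x hx] at h1
    have h2 := hhF.map_conj hn (hQN hx)
    have h3 : g₀ n * m (autFun a x) * (g₀ n)⁻¹ = m (autFun a n) * m (autFun a x) * (m (autFun a n))⁻¹ := h1.trans h2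
    set r₀ := m (autFun a x) with hr₀
    set h₁ := m (autFun a n) with hh₁
    set g₁ := g₀ n with hg₁
    show r₀ * (h₁⁻¹ * g₁) = h₁⁻¹ * g₁ * r₀
    have h4 : g₁ * r₀ = h₁ * r₀ * h₁⁻¹ * g₁ := by
      rw [← h3]
      group
    calc r₀ * (h₁⁻¹ * g₁) = h₁⁻¹ * (h₁ * r₀ * h₁⁻¹ * g₁) := by group
      _ = h₁⁻¹ * (g₁ * r₀) := by rw [h4]
      _ = h₁⁻¹ * g₁ * r₀ := by group
  haveI : Finite R₀ := finite_of_le hrD.1
  have hR₀p : IsPGroup p R₀ := hTp.to_le hrD.1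
  obtain ⟨j, hj⟩ := IsPGroup.iff_card.1 hR₀p
  have hψmul : ∀ {y c : Ω}, y ∈ M → c ∈ R₀ → g₀ (κ (y * c)) = g₀ (κ y) * c := by
    intro y c hy hc
    rw [hψF.map_mul hy (hRM hc), hψR c hc]
  have hψM : ∀ y ∈ M, g₀ (κ y) ∈ M := by
    intro y hy
    have h1 := M.mul_mem hy (hRM (hz y hy))
    rwa [mul_inv_cancel_left] at h1
  have hIter : ∀ (n : ℕ) (y : Ω), y ∈ M → (fun y => g₀ (κ y))^[n] y = y * (y⁻¹ * g₀ (κ y)) ^ n := by
    intro n y hy
    induction n with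
    | zero => simp
    | succ n ih =>
      rw [Function.iterate_succ_apply', ih]
      show g₀ (κ (y * (y⁻¹ * g₀ (κ y)) ^ n)) = _
      rw [hψmul hy (Subgroup.pow_mem _ (hz y hy) n), pow_succ', ← mul_assoc, mul_inv_cancel_left]
  have hImg : Img M (fun y => g₀ (κ y)) M := by
    refine ⟨hψM, fun y hy => ?_⟩
    have hc := hz y hy
    refine ⟨y * (y⁻¹ * g₀ (κ y))⁻¹, M.mul_mem hy (hRM (R₀.inv_mem hc)), ?_⟩
    show g₀ (κ (y * (y⁻¹ * g₀ (κ y))⁻¹)) = y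
    rw [hψmul hy (R₀.inv_mem hc)]
    group
  have hper : ∀ y ∈ M, (fun y => g₀ (κ y))^[p ^ j] y = y := by
    intro y hy
    rw [hIter _ y hy]
    have h1 : (⟨y⁻¹ * g₀ (κ y), hz y hy⟩ : R₀) ^ (p ^ j) = 1 := by
      rw [← hj]
      exact pow_card_eq_one'
    have h2 : (y⁻¹ * g₀ (κ y)) ^ (p ^ j) = 1 := congrArg Subtype.val h1
    rw [h2, mul_one]
  -- the twisted form
  obtain ⟨W, hW⟩ := hm.exists_img
  obtain ⟨m', hm', d1, -, -⟩ := hm.inverse hW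
  have hMW : M ≤ W := by
    intro y hy
    obtain ⟨x, hx, rfl⟩ := hM.2 y hy
    exact hW.1 _ (haN x hx)
  have hgM : ∀ n ∈ N, g₀ n ∈ M := by
    intro n hn
    have h1 := hψM _ (hM.1 n hn)
    have h2 := k1 n hn
    rwa [show g₀ (κ ((fun x => m (autFun a x)) n)) = g₀ n from by
      show g₀ (κ (m (autFun a n))) = g₀ n
      rw [h2]] at h1
  have hδ : Mp D (cjB a M) (twB a m') := (tw_sI hTS hSI ha hm').restrict (fun x hx => ⟨hx.1, hMW hx.2⟩)
  have hδv : ∀ x ∈ cjB a M, ∃ n ∈ N, autFun a x = m (autFun a n) ∧ twB a m' x = n := by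
    intro x hx
    obtain ⟨n, hn, e⟩ := hM.2 _ hx.2
    refine ⟨n, hn, e.symm, ?_⟩
    show autFun a⁻¹ (m' (autFun a x)) = n
    rw [← e]
    show autFun a⁻¹ (m' (m (autFun a n))) = n
    rw [d1 _ (haN n hn), autFun_inv_apply]
  have hξ : Mp D (cjB a M) (fun x => g₀ (twB a m' x)) := by
    refine hδ.comp (fun x hx => ?_) hg₀
    obtain ⟨n, hn, -, e⟩ := hδv x hx
    rw [e]
    exact hn
  have hξM : ∀ x ∈ cjB a M, g₀ (twB a m' x) ∈ M := by
    intro x hx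
    obtain ⟨n, hn, -, e⟩ := hδv x hx
    rw [e]
    exact hgM n hn
  have hψξ : ∀ y ∈ M, g₀ (κ y) = g₀ (twB a m' (autFun a⁻¹ y)) := by
    intro y hy
    have hx : autFun a⁻¹ y ∈ cjB a M :=
      ⟨autFun_mem a⁻¹ (hMT hy), by rwa [autFun_apply_inv]⟩
    obtain ⟨n, hn, e1, e2⟩ := hδv _ hx
    rw [e2]
    rw [autFun_apply_inv] at e1
    rw [e1]
    show g₀ (κ (m (autFun a n))) = g₀ n
    rw [k1 n hn]
  -- iterates
  have hit : ∀ k : ℕ, ∃ ξ, Mp D (cjB (a ^ k) M) ξ ∧ ∀ y ∈ M, (fun y => g₀ (κ y))^[k] y = ξ (autFun (a ^ k)⁻¹ y) := by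
    intro k
    induction k with
    | zero =>
      refine ⟨fun x => x, Mp.refl (fun y hy => hy.1), fun y _ => ?_⟩
      rw [pow_zero, inv_one, autFun_one_apply]
      rfl
    | succ k ih =>
      obtain ⟨ξ, hξk, eξ⟩ := ih
      have hak : a ^ k ∈ F.autGroup T := Subgroup.pow_mem _ ha k
      have hζ := tw_sI hTS hSI hak hξ
      have hle : cjB (a ^ (k + 1)) M ≤ cjB (a ^ k) (cjB a M) := by
        intro x hx
        refine ⟨hx.1, autFun_mem _ hx.1, ?_⟩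
        have := hx.2
        rw [pow_succ', autFun_mul_apply] at this
        exact this
      have hζ' := hζ.restrict hle
      refine ⟨fun x => ξ (twB (a ^ k) (fun x => g₀ (twB a m' x)) x), hζ'.comp (fun x hx => ?_) hξk, fun y hy => ?_⟩
      · have hx' := hle hx
        refine ⟨hζ'.mem_S hx, ?_⟩
        rw [apply_twB]
        exact hξM _ hx'.2
      · rw [Function.iterate_succ_apply, eξ _ (hψM y hy), hψξ y hy]
        show ξ _ = ξ (autFun (a ^ k)⁻¹ (g₀ (twB a m' (autFun (a ^ k) (autFun (a ^ (k + 1))⁻¹ y)))))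
        congr 2
        congr 2
        rw [pow_succ', mul_inv_rev, autFun_mul_apply, autFun_apply_inv]
  obtain ⟨ξ, hξn, eξ⟩ := hit n
  rw [hord] at hξn eξ
  have hn1 : Mp D M ((fun y => g₀ (κ y))^[n]) := by
    refine (hξn.restrict (fun y hy => ⟨hMT hy, ?_⟩)).congr (fun y hy => ?_)
    · rwa [autFun_one_apply]
    · rw [eξ y hy, inv_one, autFun_one_apply]
  have hψ1 : ∀ x ∈ M, (fun y => g₀ (κ y))^[n] x ∈ M := fun x hx => iterate_mem hψM n hx
  have hco : n.Coprime (p ^ j) := Nat.Coprime.pow_right j hn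
  obtain ⟨c, hc0, hc1⟩ := Nat.chineseRemainder hco 0 1
  obtain ⟨u, rfl⟩ := (Nat.modEq_zero_iff_dvd.1 hc0)
  have hψD : Mp D M (fun y => g₀ (κ y)) := by
    refine (Mp.iter hn1 hψ1 u).congr (fun y hy => ?_)
    rw [← Function.iterate_mul]
    exact iterate_modEq hψM hper hc1 hy
  obtain ⟨ψ', hψ', c1, -, -⟩ := hψD.inverse hImg
  have h5 : Mp D N (fun n => ψ' (g₀ n)) := hg₀.comp hgM hψ'
  have h6 : Mp D N (fun n => m (autFun a n)) := by
    refine h5.congr (fun n hn => ?_)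
    have h1 := c1 _ (hM.1 n hn)
    show ψ' (g₀ n) = m (autFun a n)
    have h2 : g₀ (κ (m (autFun a n))) = g₀ n := by rw [k1 n hn]
    rw [← h2]
    exact h1
  have h7 : Mp D N (fun n => m' (m (autFun a n))) := h6.comp (fun n hn => hW.1 _ (haN n hn)) hm'
  exact h7.congr (fun n hn => d1 _ (haN n hn))

theorem aut_conj (hTS : T ≤ S) (hRT : R ≤ T) (hSI : StrongInv F D) {b c : MulAut R} (hb : b ∈ F.autGroup R)
    (hc : c ∈ D.autGroup R) : b * c * b⁻¹ ∈ D.autGroup R := by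
  obtain ⟨h, hh, he⟩ := sI_mp hSI (le_refl R) hRT (mp_autFun hRT hc) (fun x hx => (img_autFun c).1 x hx)
    (mp_autFun (hRT.trans hTS) hb) (img_autFun b)
  refine (mem_autGroup_iff D hRT _).2 (hom_of_mp (hh.congr (fun y hy => ?_)))
  have e := he _ ((img_autFun b⁻¹).1 y hy)
  have e1 : autFun b (autFun b⁻¹ y) = y := by
    rw [autFun_of_mem _ hy, autFun_of_mem _ (b⁻¹ ⟨y, hy⟩).2]
    simp
  rw [e1] at e
  rw [e]
  have e2 : autFun c (autFun b⁻¹ y) = ((c (b⁻¹ ⟨y, hy⟩) : R) : Ω) := by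
    rw [autFun_of_mem _ hy, autFun_of_mem _ (b⁻¹ ⟨y, hy⟩).2]
  rw [e2, autFun_of_mem _ (c (b⁻¹ ⟨y, hy⟩)).2]
  show _ = autFun (b * c * b⁻¹) y
  rw [autFun_of_mem _ hy]
  rfl

/-- `p`-automorphisms of a weakly normal subsystem lie in every invariant subsystem. -/
theorem pq_mem (hS : IsPGroup p S) (hTS : T ≤ S) (hE : E.IsSaturated p) (hEsub : E.IsSubsystemOf F) (hSI : StrongInv F D)
    (hf : Pq E p Q f) : Mp D Q f := by
  have hTp : IsPGroup p T := hS.to_le hTS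
  haveI : Finite T := finite_of_le hTS
  have hQT : Q ≤ T := hf.1.le
  obtain ⟨R, hQR, hfn⟩ := exists_isFullyNormalized E hQT
  obtain ⟨ν, hν, hi⟩ := (id hQR : ∃ φ ∈ E.Hom Q, φ.range = R)
  have hm : Mp E Q (extOf ν) := mp_of_hom hν
  have himg : Img Q (extOf ν) R := by
    refine ⟨fun x hx => ?_, fun y hy => ?_⟩
    · rw [extOf_of_mem ν hx, ← hi]
      exact ⟨_, rfl⟩
    · rw [← hi] at hy
      obtain ⟨x, rfl⟩ := hy
      exact ⟨x, x.2, extOf_coe ν x⟩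
  obtain ⟨μ, hμ, a1, a2, a3⟩ := hm.inverse himg
  have hf' := Pq.conj_iso hf hm himg hμ a1 a2 a3.1
  obtain ⟨hf1, hf2, j, hf3⟩ := id hf'
  have hRT : R ≤ T := hfn.1
  haveI : Finite R := finite_of_le hRT
  haveI : Finite (MulAut R) := Cfsg.Agent.Lib.Fusion.Basic.finite_mulAut_of_finite (A := R)
  obtain ⟨a', ha', hae⟩ := hf1.toAut hf2
  have hpow : a' ^ p ^ j = 1 := by
    ext x
    have h1 := hf3 x x.2
    rw [iterate_congr hf2.1 (fun y hy => ?_) (p ^ j) x.2] at h1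
    · rw [show ((x : R) : Ω) = _ from rfl, iterate_autFun] at h1
      exact h1
    · rw [autFun_of_mem _ hy]
      exact (hae ⟨y, hy⟩).symm
  have hA := isFullyAutomized_of_isFullyNormalized E hTp hE hfn
  have hSy : IsSylowIn p (autInducedBy T R) (E.autGroup R) := hA.2
  have hCp : IsPGroup p (Subgroup.zpowers a') := by
    rintro ⟨c, n, rfl⟩
    refine ⟨j, Subtype.ext ?_⟩
    show (a' ^ n) ^ p ^ j = 1
    rw [← zpow_natCast, ← zpow_mul, mul_comm, zpow_mul, zpow_natCast, hpow, one_zpow]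
  obtain ⟨b, hb, hbc⟩ := hSy.exists_conj (C := Subgroup.zpowers a') ((Subgroup.zpowers_le).2 ha') hCp
  have hc := hbc a' (Subgroup.mem_zpowers a')
  have hcD : b * a' * b⁻¹ ∈ D.autGroup R := autInducedBy_le_autGroup D hRT hc
  have hbF : b⁻¹ ∈ F.autGroup R := by
    have h1 : b⁻¹ ∈ E.autGroup R := Subgroup.inv_mem _ hb
    exact (mem_autGroup_iff F (hRT.trans hTS) _).2 (hEsub R (autHom_mem E hRT h1))
  have hD1 := aut_conj hTS hRT hSI hbF hcD
  have e : b⁻¹ * (b * a' * b⁻¹) * b⁻¹⁻¹ = a' := by group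
  rw [e] at hD1
  have hDR : Mp D R (fun y => extOf ν (f (μ y))) := (mp_autFun hRT hD1).congr (fun y hy => by
    rw [autFun_of_mem _ hy]
    exact hae ⟨y, hy⟩)
  obtain ⟨h, hh, he⟩ := sI_mp hSI (le_refl R) hRT hDR (fun x hx => hf2.1 x hx) (mp_sub hEsub hμ) a3
  refine hh.congr (fun y hy => ?_)
  have e1 := he (extOf ν y) (himg.1 y hy)
  rw [a1 y hy] at e1
  rw [e1]
  exact a1 _ (hf.2.1.1 y hy)

/-- Centric in a weakly normal subsystem: all conjugates are centric in `T`. -/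
theorem hc_of_centric (hFr : ∀ (P : Subgroup Ω), P ≤ T → ∀ (φ : P →* Ω), φ ∈ F.Hom P →
      ∃ α ∈ F.autGroup T, ∃ φ₀ ∈ E.Hom P, ∀ (x : P) (hx : φ₀ x ∈ T), φ x = ((α ⟨φ₀ x, hx⟩ : T) : Ω))
    (hQ : E.IsCentric Q) {Q₂ : Subgroup Ω} (hQ₂ : F.IsConj Q Q₂) : zz T Q₂ ≤ Q₂ := by
  obtain ⟨φ, hφ, hr⟩ := hQ₂
  obtain ⟨α, hα, φ₀, hφ₀, e⟩ := hFr Q hQ.1 φ hφ
  have hc := hQ.2 φ₀.range ⟨φ₀, hφ₀, rfl⟩
  intro z hz
  have hzT : z ∈ T := (mem_zz.1 hz).1
  have hv : ∀ x : Q, φ₀ x ∈ T := (E.le_of_mem hφ₀).2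
  have hz1 : ((α⁻¹ ⟨z, hzT⟩ : T) : Ω) ∈ φ₀.range := by
    apply hc
    refine mem_cent.2 ⟨(α⁻¹ ⟨z, hzT⟩).2, ?_⟩
    rintro _ ⟨x, rfl⟩
    have h1 : φ x ∈ Q₂ := by
      rw [← hr]
      exact ⟨x, rfl⟩
    have h2 := (mem_zz.1 hz).2 _ h1
    rw [e x (hv x)] at h2
    have h3 : α ⟨φ₀ x, hv x⟩ * ⟨z, hzT⟩ = ⟨z, hzT⟩ * α ⟨φ₀ x, hv x⟩ := Subtype.ext h2
    have h4 : ⟨φ₀ x, hv x⟩ * α⁻¹ ⟨z, hzT⟩ = α⁻¹ ⟨z, hzT⟩ * ⟨φ₀ x, hv x⟩ := by
      apply α.injective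
      rw [map_mul, map_mul]
      simpa using h3
    exact congrArg Subtype.val h4
  obtain ⟨x, hx⟩ := hz1
  have h5 := e x (hv x)
  have h6 : (⟨φ₀ x, hv x⟩ : T) = α⁻¹ ⟨z, hzT⟩ := Subtype.ext hx
  rw [h6] at h5
  simp only [MulAut.apply_inv_self] at h5
  rw [← hr]
  exact ⟨x, h5⟩

/-- The intersection of two systems over the same group. -/
theorem interAx : SysAx T (fun X f => Mp E X f ∧ Mp D X f) := by
  refine ⟨?_, ?_, ?_, ?_, ?_, ?_, ?_, ?_⟩
  · rintro X f g ⟨h1, h2⟩ e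
    exact ⟨h1.congr e, h2.congr e⟩
  · rintro X f ⟨h1, -⟩
    exact h1.le
  · rintro X f x ⟨h1, -⟩ hx
    exact h1.mem_S hx
  · rintro X f x y ⟨h1, -⟩ hx hy
    exact h1.map_mul hx hy
  · rintro X f x y ⟨h1, -⟩ hx hy e
    exact h1.inj hx hy e
  · intro X a hX ha
    exact ⟨Mp.conj hX ha, Mp.conj hX ha⟩
  · rintro X Y f g ⟨h1, h2⟩ hm ⟨h3, h4⟩
    exact ⟨h1.comp hm h3, h2.comp hm h4⟩
  · rintro X Y f ⟨h1, h2⟩ hi
    obtain ⟨k, hk, a1, -, -⟩ := h1.inverse hi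
    obtain ⟨k', hk', b1, -, -⟩ := h2.inverse hi
    refine ⟨k, ⟨hk, hk'.congr (fun y hy => ?_)⟩, a1⟩
    obtain ⟨x, hx, rfl⟩ := hi.2 y hy
    rw [a1 x hx, b1 x hx]

noncomputable def interSys (E D : FusionSystem T) : FusionSystem T := mkSys (interAx (E := E) (D := D))

theorem pow_mp (hTS : T ≤ S) (hSI : StrongInv F D) {a : MulAut T} (ha : a ∈ F.autGroup T) (hb : Mp D Q (autFun a)) (k : ℕ) :
    Mp D Q (autFun (a ^ k)) := by
  have hQT : Q ≤ T := hb.le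
  induction k with
  | zero =>
    refine (Mp.refl hQT).congr (fun x _ => ?_)
    rw [pow_zero, autFun_one_apply]
  | succ k ih =>
    have hinv : (a ^ k)⁻¹ ∈ F.autGroup T := Subgroup.inv_mem _ (Subgroup.pow_mem _ ha k)
    have h1 := tw_sI hTS hSI hinv hb
    have hm : ∀ x ∈ Q, autFun (a ^ k) x ∈ cjB (a ^ k)⁻¹ Q := by
      intro x hx
      refine ⟨autFun_mem _ (hQT hx), ?_⟩
      rw [autFun_inv_apply]
      exact hx
    refine (ih.comp hm h1).congr (fun x hx => ?_)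
    show twB (a ^ k)⁻¹ (autFun a) (autFun (a ^ k) x) = autFun (a ^ (k + 1)) x
    show autFun (a ^ k)⁻¹⁻¹ (autFun a (autFun (a ^ k)⁻¹ (autFun (a ^ k) x))) = _
    rw [autFun_inv_apply, inv_inv, ← autFun_mul_apply, ← pow_succ]

/-- **The `p'`-residual subsystem lies in every normal subsystem over the same group.** -/
theorem e1_le (hS : IsPGroup p S) (hE : E.IsNormalIn F p) (hD : D.IsNormalIn F p) : (e1 E p).IsSubsystemOf D := by
  obtain ⟨⟨hEs, hF, hEsub, hT, hEinv, hEfr⟩, -⟩ := hE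
  obtain ⟨⟨hDs, -, hDsub, -, hDinv, hDfr⟩, -⟩ := hD
  have hTS : T ≤ S := hT.1
  haveI : Finite T := finite_of_le hTS
  haveI : Finite (MulAut T) := Cfsg.Agent.Lib.Fusion.Basic.finite_mulAut_of_finite (A := T)
  have hSID : StrongInv F D := strong_of_inv hDinv hDfr
  have hfam : InFamQ E p (interSys E D) := by
    refine ⟨fun P φ hφ => ?_, fun Q _ f hf => ?_⟩
    · exact hom_of_mp ((mp_mkSys _).1 (mp_of_hom hφ)).1
    · exact (mp_mkSys _).2 ⟨hf.1, pq_mem hS hTS hEs hEsub hSID hf⟩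
  have he0 : ∀ {X : Subgroup Ω} {f : Ω → Ω}, Mp (e0 E p) X f → Mp D X f := fun h =>
    ((mp_mkSys _).1 (e0_min hfam h)).2
  have hF' : ∀ {a : MulAut T}, a ∈ E.autGroup T → a ∈ F.autGroup T := fun {a} h =>
    (mem_autGroup_iff F hTS a).2 (hEsub T (autHom_mem E le_rfl h))
  have hH : HH E p ≤ D.autGroup T := by
    apply (Subgroup.closure_le _).2
    rintro a ⟨ha, Q, hQ, hm⟩
    have hb := he0 hm
    obtain ⟨u, v, e, ⟨k, hk⟩, q, hq, hqv⟩ := exists_parts (p := p) a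
    have h1 : a ^ u ∈ D.autGroup T := by
      have h2 : Pq E p T (autFun (a ^ u)) := Pq.of_aut le_rfl (Subgroup.pow_mem _ ha u) hk
      exact (mem_autGroup_iff D le_rfl _).2 (hom_of_mp (he0 (e0_inFam.2 T le_rfl _ h2)))
    have h3 : a ^ v ∈ D.autGroup T :=
      lemma_KK hS hTS hDs hDsub hSID (Subgroup.pow_mem _ (hF' ha) v) hq hqv _ Q rfl hQ.1
        (fun Q₂ h => hc_of_centric hEfr hQ h) (pow_mp hTS hSID (hF' ha) hb v)
    show a ∈ D.autGroup T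
    rw [e]
    exact Subgroup.mul_mem _ h1 h3
  intro P φ hφ
  obtain ⟨c, hc, u, hu, eu⟩ := mp_e1.1 (mp_of_hom hφ)
  have h1 := he0 hu
  have h2 : Mp D T (autFun c) := mp_autFun le_rfl (hH hc)
  exact hom_of_mp ((h1.comp (Y := T) (fun x hx => h1.mem_S hx) h2).congr (fun x hx => (eu x hx).symm))

end main

end Cfsg.Agent.Lib.FusionExt.PPrimeMin
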