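import Cfsg.Agent.Lib.FusionExt.Meet8
import Cfsg.Agent.Lib.FusionExt.Iso4
import Cfsg.Agent.Lib.FusionExt.PPrimeMin
import Cfsg.Agent.Lib.FusionExt.Solvable

/-!
# Normal subsystems of a quasisimple system over the whole group; the layer (helper92)
-/

set_option autoImplicit false
set_option linter.unusedSectionVars false

namespace Cfsg.Agent.Lib.FusionExt.QS1

open Cfsg Cfsg.FusionSystem Cfsg.Agent.Lib.Fusion.Basic Cfsg.Agent.Lib.Fusion.GroupSystem
open Cfsg.Agent.Lib.FusionExt.MapApi Cfsg.Agent.Lib.FusionExt.Basic Cfsg.Agent.Lib.FusionExt.Normal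
open Cfsg.Agent.Lib.FusionExt.PowerE Cfsg.Agent.Lib.FusionExt.Invariant
open Cfsg.Agent.Lib.FusionExt.CentSys Cfsg.Agent.Lib.FusionExt.Factor Cfsg.Agent.Lib.FusionExt.FactorExt
open Cfsg.Agent.Lib.FusionExt.FactorSat Cfsg.Agent.Lib.FusionExt.PrimeRes1
open Cfsg.Agent.Lib.FusionExt.Comp1 Cfsg.Agent.Lib.FusionExt.PowerSys
open Cfsg.Agent.Lib.FusionExt.LiftA Cfsg.Agent.Lib.Fusion.Center Cfsg.Agent.Lib.FusionExt.Iso4
open Cfsg.Agent.Lib.FusionExt.PPrimeMin

universe u v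

section same

variable {Ω : Type u} [Group Ω] {S : Subgroup Ω} {F E : FusionSystem S} {p : ℕ} [Fact p.Prime]

/-- A weakly normal subsystem over the whole group is normal. -/
theorem normal_of_same [Finite S] (hw : E.IsWeaklyNormalIn F p) : E.IsNormalIn F p := by
  refine ⟨hw, fun α hα' => ?_⟩
  have hα : α ∈ F.autGroup S := by
    have h1 := autHom_mem E le_rfl hα'
    exact (mem_autGroup_iff F le_rfl α).2 (hw.2.2.1 S h1)
  have hCS : centralizerIn S S ≤ S := inf_le_left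
  have e : S ⊔ centralizerIn S S = S := sup_eq_left.2 hCS
  have hm : Mp F (S ⊔ centralizerIn S S) (autFun α) := by
    rw [e]
    exact mp_autFun le_rfl hα
  have hi : Img (S ⊔ centralizerIn S S) (autFun α) (S ⊔ centralizerIn S S) := by
    rw [e]
    exact img_autFun α
  obtain ⟨β, hβ, hβe⟩ := hm.toAut hi
  refine ⟨β, hβ, fun x => ?_, fun c hc => ?_⟩
  · have := hβe (Subgroup.inclusion le_sup_left x)
    refine this.trans ?_
    show autFun α x = _
    rw [autFun_of_mem α x.2]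
  · rw [hβe c]
    have hcS : (c : Ω) ∈ S := hCS hc
    rw [autFun_of_mem α hcS]
    have hcen : ∀ y ∈ S, ∀ a : S, y = (a : Ω) → ((α a : S) : Ω) * ((α ⟨c, hcS⟩ : S) : Ω) = ((α ⟨c, hcS⟩ : S) : Ω) * ((α a : S) : Ω) := by
      intro y _ a _
      have h1 : a * ⟨c, hcS⟩ = ⟨c, hcS⟩ * a := Subtype.ext ((LowPi.mem_cent.1 hc).2 a a.2)
      have h2 := congrArg α h1
      rw [map_mul, map_mul] at h2
      exact congrArg Subtype.val h2
    have hv : ((α ⟨c, hcS⟩ : S) : Ω) ∈ Subgroup.centralizer (S : Set Ω) := by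
      rw [Subgroup.mem_centralizer_iff]
      intro y hy
      have hs : y = ((α (α⁻¹ ⟨y, hy⟩) : S) : Ω) := by simp
      rw [hs]
      exact hcen _ (α⁻¹ ⟨y, hy⟩).2 _ rfl
    have hc' : (c : Ω) ∈ Subgroup.centralizer (S : Set Ω) := (LowPi.mem_cent.1 hc).2
    refine ⟨S.mul_mem (S.inv_mem hcS) (α ⟨c, hcS⟩).2, Subgroup.mul_mem _ (Subgroup.inv_mem _ hc') hv⟩

end same

section image

variable {Ω : Type u} [Group Ω] {Ω' : Type v} [Group Ω'] {S K : Subgroup Ω} {S' : Subgroup Ω'} {θ : S →* Ω'}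
  {X Y : FusionSystem S} {X' Y' : FusionSystem S'} {p : ℕ} [Fact p.Prime]

/-- The image of a normal subsystem over the whole group in a factor system is normal. -/
theorem image_normal_same [Finite S] (hS : IsPGroup p S) (hYX : Y.IsNormalIn X p) (hK : X.StronglyClosed K)
    (hX' : X.IsFactorSystem K θ X') (hY' : Y.IsFactorSystem K θ Y') : Y'.IsNormalIn X' p := by
  have hXs : X.IsSaturated p := hYX.1.2.1
  have hYs : Y.IsSaturated p := hYX.1.1
  have hinv := hYX.1.2.2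
  have hsub : Y.IsSubsystemOf X := hinv.1
  have hKY : Y.StronglyClosed K := ⟨hK.1, fun R hR φ hφ x => hK.2 R hR φ (hsub R hφ) x⟩
  have hSI : StrongInv X Y := (isInvariantIn_iff hS hXs hsub hinv.2.1).1 hinv
  have hr : θ.range = S' := hX'.2.2.1
  have hθ : ∀ s : S, θ s = 1 ↔ (s : Ω) ∈ K := hX'.2.1
  haveI hS'fin : Finite S' := Cfsg.Agent.Lib.FusionExt.Solvable.range_finite hr
  have hS'p : IsPGroup p S' := Cfsg.Agent.Lib.FusionExt.Solvable.range_isPGroup hS hr
  have hX's : X'.IsSaturated p := image_isSaturated θ X X' hS hXs (isSurjectiveMorphism_of_isFactorSystem X θ hS hXs hK hX')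
  have hY's : Y'.IsSaturated p := image_isSaturated θ Y Y' hS hYs (isSurjectiveMorphism_of_isFactorSystem Y θ hS hYs hKY hY')
  have hsub' : Y'.IsSubsystemOf X' := by
    intro P' φ' hφ'
    obtain ⟨hP', φ, hφ, hind⟩ := (hY'.2.2.2 P' φ').1 hφ'
    exact (hX'.2.2.2 P' φ').2 ⟨hP', φ, hsub _ hφ, hind⟩
  have hsc' : X'.StronglyClosed S' := ⟨le_rfl, fun _ _ φ hφ x => val_mem X' hφ x⟩
  have hSI' : StrongInv X' Y' := by
    refine strongInv_of_mp (fun P Q' W f g hPQ hQ'S hf hfQ hg hi => ?_)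
    obtain ⟨f₀, hf₀, he⟩ := mp_fac hY' hf
    obtain ⟨g₀, hg₀, hge⟩ := mp_fac hX' hg
    have hpreS : ∀ {A : Subgroup Ω'}, preimageAlong θ A ≤ S := fun {A} => preimageAlong_le θ A
    have hle : preimageAlong θ P ≤ preimageAlong θ Q' := by
      intro y hy
      exact mem_pre.2 ⟨(mem_pre.1 hy).1, hPQ (mem_pre.1 hy).2⟩
    have hf₀m : ∀ x ∈ preimageAlong θ P, f₀ x ∈ preimageAlong θ Q' := by
      intro y hy
      refine mem_pre.2 ⟨hf₀.mem_S hy, ?_⟩
      rw [← he y hy]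
      exact hfQ _ (mem_pre.1 hy).2
    obtain ⟨W₀, hi₀⟩ := (hg₀.restrict hle).exists_img
    obtain ⟨h₀, hh₀, hh₀e⟩ := sI_mp hSI hle hpreS hf₀ hf₀m hg₀ hi₀
    have hWS' : W ≤ S' := by
      intro y hy
      obtain ⟨x, hx, rfl⟩ := hi.2 y hy
      exact hg.mem_S (hPQ hx)
    have htS : ∀ y ∈ S, tot θ y ∈ S' := by
      intro y hy
      rw [← hr, tot_of_mem θ hy]
      exact ⟨_, rfl⟩
    have hsurj : ∀ z ∈ S', ∃ y ∈ S, tot θ y = z := by
      intro z hz
      rw [← hr] at hz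
      obtain ⟨s, rfl⟩ := hz
      exact ⟨s, s.2, tot_coe θ s⟩
    have hprW : preimageAlong θ W ≤ W₀ := by
      intro y hy
      obtain ⟨hyS, hyW⟩ := mem_pre.1 hy
      obtain ⟨u, hu, hue⟩ := hi.2 _ hyW
      obtain ⟨x, hxS, rfl⟩ := hsurj u (hPQ.trans hg.le |>.trans le_rfl hu)
      have hxP : x ∈ preimageAlong θ P := mem_pre.2 ⟨hxS, hu⟩
      have h1 := hge x (hle hxP)
      have hgx : g₀ x ∈ S := hg₀.mem_S (hle hxP)
      -- `y = g₀ x * k`
      have h2 : (g₀ x)⁻¹ * y ∈ K := by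
        refine (tot_eq_iff θ hθ hgx hyS).1 ?_
        rw [← h1, hue]
      -- surjectivity of `g₀` on `K`
      have hKle : K ≤ preimageAlong θ P := le_preimageAlong θ hθ hK.1 P
      have hKm : ∀ k ∈ K, g₀ k ∈ K := by
        intro k hk
        exact sc_mp hK (hg₀.restrict (hKle.trans hle)) le_rfl hk
      have hKs : ∀ k ∈ K, ∃ k₀ ∈ K, g₀ k₀ = k := by
        haveI : Finite K := finite_of_le hK.1
        have hinj : Function.Injective (fun k : K => (⟨g₀ k, hKm k k.2⟩ : K)) := by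
          intro a b e
          exact Subtype.ext (hg₀.inj (hle (hKle a.2)) (hle (hKle b.2)) (congrArg Subtype.val e))
        have hs := Finite.injective_iff_surjective.1 hinj
        intro k hk
        obtain ⟨a, ha⟩ := hs ⟨k, hk⟩
        exact ⟨a, a.2, congrArg Subtype.val ha⟩
      obtain ⟨k₀, hk₀, hk₀e⟩ := hKs _ h2
      refine (hi₀.1 (x * k₀) (Subgroup.mul_mem _ hxP (hKle hk₀))) |> fun h => ?_
      have e : g₀ (x * k₀) = y := by
        rw [hg₀.map_mul (hle hxP) (hle (hKle hk₀)), hk₀e]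
        group
      rwa [e] at h
    obtain ⟨h', hh', hh'e⟩ := push_fac hKY hY' hWS' (hh₀.restrict hprW)
    refine ⟨h', hh', fun x hx => ?_⟩
    obtain ⟨x₀, hx₀S, rfl⟩ := hsurj x (hPQ.trans hg.le |>.trans le_rfl hx)
    have hx₀P : x₀ ∈ preimageAlong θ P := mem_pre.2 ⟨hx₀S, hx⟩
    have hgx₀ : g₀ x₀ ∈ preimageAlong θ W := by
      refine mem_pre.2 ⟨hg₀.mem_S (hle hx₀P), ?_⟩
      rw [← hge x₀ (hle hx₀P)]
      exact hi.1 _ hx
    rw [hge x₀ (hle hx₀P), hh'e _ hgx₀, hh₀e x₀ hx₀P, ← hge _ (hf₀m x₀ hx₀P), ← he x₀ hx₀P]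
  exact Cfsg.Agent.Lib.FusionExt.QS1.normal_of_same
    ⟨hY's, hX's, (isInvariantIn_iff hS'p hX's hsub' hsc').2 hSI'⟩

end image

section key

variable {Ω : Type u} [Group Ω] {T : Subgroup Ω} {C N : FusionSystem T} {p : ℕ} [Fact p.Prime]

/-- **A normal subsystem of a quasisimple system over the whole group is everything.** -/
theorem quasi_le [Finite T] (hT : IsPGroup p T) (hC : C.Quasisimple p) (hN : N.IsNormalIn C p) : C.IsSubsystemOf N := by
  obtain ⟨hCs, hyp, hsimple⟩ := hC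
  have hZU : C.center ≤ T := center_le C
  have hZsc : C.StronglyClosed C.center := by
    refine ⟨hZU, fun P hP φ hφ x => ?_⟩
    rw [map_of_mem_center C hφ x.2 (hP x.2)]
    exact hP x.2
  let θ : T →* (T ⧸ C.center.subgroupOf T) := QuotientGroup.mk' (C.center.subgroupOf T)
  have hθ : ∀ s : T, θ s = 1 ↔ (s : Ω) ∈ C.center := fun s => by
    show ((s : T) : T ⧸ C.center.subgroupOf T) = 1 ↔ _
    rw [QuotientGroup.eq_one_iff, Subgroup.mem_subgroupOf]
  have hr : θ.range = ⊤ := MonoidHom.range_eq_top.2 (QuotientGroup.mk'_surjective _)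
  obtain ⟨E, hE⟩ := exists_isFactorSystem C θ hZsc hθ hr
  obtain ⟨hEs, hne, hEsimple⟩ := hsimple E hE
  have hsub : N.IsSubsystemOf C := hN.1.2.2.1
  have hSI : StrongInv C N := (isInvariantIn_iff hT hCs hsub hN.1.2.2.2.1).1 hN.1.2.2
  have hZscN : N.StronglyClosed C.center := ⟨hZU, fun R hR φ hφ x => hZsc.2 R hR φ (hsub R hφ) x⟩
  obtain ⟨E₀, hE₀⟩ := exists_isFactorSystem N θ hZscN hθ hr
  have hn := image_normal_same hT hN hZsc hE hE₀
  have h2 : ∀ P : Subgroup (T ⧸ C.center.subgroupOf T), E₀.Hom P = E.Hom P := by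
    rcases hEsimple _ E₀ hn with h | ⟨-, h2⟩
    · exact absurd h hne
    · exact h2
  have hfix : ∀ {X : Subgroup Ω} {f : Ω → Ω}, Mp C X f → ∀ z ∈ X, z ∈ C.center → f z = z := by
    rintro X f ⟨φ, hφ, e⟩ z hz hzZ
    rw [← e ⟨z, hz⟩]
    exact map_of_mem_center C hφ hz hzZ
  have main : ∀ {P : Subgroup Ω} {f : Ω → Ω}, Mp C P f → Mp N P f := by
    rintro P f ⟨φ, hφ, e⟩
    obtain ⟨ψ, hψ, he1, he2⟩ := (isCentral_center C).2 P φ hφ
    have hg : Mp C (P ⊔ C.center) (extOf ψ) := mp_of_hom hψ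
    have hRT : P ⊔ C.center ≤ T := hg.le
    have hgP : ∀ x ∈ P, extOf ψ x = f x := by
      intro x hx
      rw [extOf_of_mem ψ (Subgroup.mem_sup_left hx), ← e ⟨x, hx⟩]
      exact he1 ⟨x, hx⟩
    -- the preimage of the image
    have hpre : preimageAlong θ (imageAlong θ (P ⊔ C.center)) = P ⊔ C.center := by
      apply le_antisymm
      · have h1 := preimage_imageAlong_le θ hZU hθ (sc_le_normalizer C hZsc) hRT
        rwa [sup_eq_left.2 (le_sup_right : C.center ≤ P ⊔ C.center)] at h1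
      · intro x hx
        exact mem_preimageAlong.2 ⟨hRT hx, ⟨⟨x, hRT hx⟩, hx, rfl⟩⟩
    have hg' : Mp C (preimageAlong θ (imageAlong θ (P ⊔ C.center))) (extOf ψ) := by
      rw [hpre]
      exact hg
    obtain ⟨gb, hgb, hgbe⟩ := push_fac hZsc hE le_top hg'
    have hgb0 : Mp E₀ (imageAlong θ (P ⊔ C.center)) gb := by
      obtain ⟨φ', hφ', e'⟩ := hgb
      exact ⟨φ', (h2 _).symm ▸ hφ', e'⟩
    obtain ⟨h₀, hh₀', hh₀e'⟩ := mp_fac hE₀ hgb0
    rw [hpre] at hh₀' hh₀e' hgbe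
    have hh₀ : Mp C (P ⊔ C.center) h₀ := mp_sub hsub hh₀'
    have hrel : ∀ y ∈ P ⊔ C.center, (h₀ y)⁻¹ * extOf ψ y ∈ C.center := by
      intro y hy
      refine (tot_eq_iff θ hθ (hh₀.mem_S hy) (hg.mem_S hy)).1 ?_
      rw [← hh₀e' y hy, hgbe y hy]
    obtain ⟨R₁, hi⟩ := hh₀'.exists_img
    obtain ⟨k, hk, a1, a2, a3⟩ := hh₀'.inverse hi
    have hkC : Mp C R₁ k := mp_sub hsub hk
    have hZR : ∀ z ∈ C.center, z ∈ P ⊔ C.center := fun z hz => Subgroup.mem_sup_right hz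
    have hZR₁ : ∀ z ∈ C.center, z ∈ R₁ := by
      intro z hz
      have := hi.1 z (hZR z hz)
      rwa [hfix hh₀ z (hZR z hz) hz] at this
    have hβ : Mp C R₁ (fun y => extOf ψ (k y)) := hkC.comp (fun y hy => a3.1 y hy) hg
    have hrelβ : ∀ y ∈ R₁, y⁻¹ * extOf ψ (k y) ∈ C.center := by
      intro y hy
      have := hrel (k y) (a3.1 y hy)
      rwa [a2 y hy] at this
    have hβm : ∀ y ∈ R₁, extOf ψ (k y) ∈ R₁ := by
      intro y hy
      have e3 : extOf ψ (k y) = y * (y⁻¹ * extOf ψ (k y)) := by group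
      rw [e3]
      exact R₁.mul_mem hy (hZR₁ _ (hrelβ y hy))
    have hβi : Img R₁ (fun y => extOf ψ (k y)) R₁ := by
      refine ⟨hβm, fun y hy => ?_⟩
      haveI : Finite R₁ := finite_of_le hβ.le
      have hinj : Function.Injective (fun a : R₁ => (⟨extOf ψ (k a), hβm a a.2⟩ : R₁)) := by
        intro a b e3
        exact Subtype.ext (hβ.inj a.2 b.2 (congrArg Subtype.val e3))
      obtain ⟨a, ha⟩ := (Finite.injective_iff_surjective.1 hinj) ⟨y, hy⟩
      exact ⟨a, a.2, congrArg Subtype.val ha⟩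
    have hiter : ∀ (n : ℕ), ∀ y ∈ R₁, (fun y => extOf ψ (k y))^[n] y = y * (y⁻¹ * extOf ψ (k y)) ^ n := by
      intro n y hy
      have hz := hrelβ y hy
      induction n with
      | zero => simp
      | succ n ih =>
        rw [Function.iterate_succ_apply', ih]
        show extOf ψ (k (y * (y⁻¹ * extOf ψ (k y)) ^ n)) = _
        have hzn : (y⁻¹ * extOf ψ (k y)) ^ n ∈ C.center := Subgroup.pow_mem _ hz n
        have h1 := hβ.map_mul hy (hZR₁ _ hzn)
        have h2' : (fun y => extOf ψ (k y)) ((y⁻¹ * extOf ψ (k y)) ^ n) = (y⁻¹ * extOf ψ (k y)) ^ n :=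
          hfix hβ _ (hZR₁ _ hzn) hzn
        simp only at h1 h2'
        rw [h1, h2', pow_succ', ← mul_assoc, mul_inv_cancel_left]
    obtain ⟨m, hm⟩ := IsPGroup.iff_card.1 hT
    have hpq : Pq C p R₁ (fun y => extOf ψ (k y)) := by
      refine ⟨hβ, hβi, m, fun y hy => ?_⟩
      rw [hiter _ y hy]
      have hz := hrelβ y hy
      have hzT : y⁻¹ * extOf ψ (k y) ∈ T := hZU hz
      have h1 : (⟨_, hzT⟩ : T) ^ p ^ m = 1 := by
        rw [← hm]
        exact pow_card_eq_one'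
      have h3 : (y⁻¹ * extOf ψ (k y)) ^ p ^ m = 1 := congrArg Subtype.val h1
      rw [h3, mul_one]
    have hβN : Mp N R₁ (fun y => extOf ψ (k y)) :=
      pq_mem (F := C) (E := C) (D := N) hT le_rfl hCs (fun _ _ h => h) hSI hpq
    have hgN : Mp N (P ⊔ C.center) (fun x => extOf ψ (k (h₀ x))) := hh₀'.comp hi.1 hβN
    have hgN' : Mp N (P ⊔ C.center) (extOf ψ) := hgN.congr (fun x hx => by
      show extOf ψ (k (h₀ x)) = _
      rw [a1 x hx])
    exact (hgN'.restrict le_sup_left).congr hgP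
  intro P φ hφ
  exact hom_of_mp (main (mp_of_hom hφ))

end key

section layer

variable {Ω : Type u} [Group Ω] {p : ℕ} [Fact p.Prime]

/-- Descending a subnormal chain with meets. -/
theorem reach {U S : Subgroup Ω} {C : FusionSystem U} {X : FusionSystem S} {q : ℕ} (h : C.IsSubnormalIn X q) :
    Fact q.Prime → Finite S → IsPGroup q S → ∀ {T : Subgroup Ω} (M : FusionSystem T), M.IsNormalIn X q → U ≤ T →
      ∃ N₀ : FusionSystem U, N₀.IsNormalIn C q ∧ N₀.IsSubsystemOf M := by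
  induction h with
  | refl F q =>
    intro _ _ _ T M hM hUT
    obtain rfl : T = _ := le_antisymm hM.1.2.2.2.1.1 hUT
    exact ⟨M, hM, fun _ _ h => h⟩
  | @step T' S C D F q hsub' hDF ih =>
    intro hq hfin hS T M hM hUT
    haveI := hfin
    haveI := hq
    have hTS : T' ≤ S := hDF.1.2.2.2.1.1
    have hCD := subnormal_sub hsub'
    have hUT' : U ≤ T' := (D.le_of_mem (hCD U (subtype_mem C le_rfl))).1
    obtain ⟨D', ⟨-, hD'D, hD'M⟩, -⟩ := Cfsg.Agent.Lib.FusionExt.Meet8.meet_main hS hDF hM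
    obtain ⟨N₀, hN₀, hN₀s⟩ := ih hq (finite_of_le hTS) (hS.to_le hTS) D' hD'D (le_inf hUT' hUT)
    exact ⟨N₀, hN₀, fun P _ h => hD'M.1.2.2.1 P (hN₀s P h)⟩

/-- A component contained in a normal subsystem... is contained in every normal subsystem over a larger group. -/
theorem comp_le_of_normal {U S T : Subgroup Ω} {C : FusionSystem U} {X : FusionSystem S} {M : FusionSystem T} [Finite S]
    (hS : IsPGroup p S) (hC : C.IsComponentIn X p) (hM : M.IsNormalIn X p) (hUT : U ≤ T) : C.IsSubsystemOf M := by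
  obtain ⟨N₀, hN₀, hN₀s⟩ := reach hC.1 inferInstance inferInstance hS M hM hUT
  have hUS : U ≤ S := hUT.trans hM.1.2.2.2.1.1
  haveI : Finite U := finite_of_le hUS
  exact fun P _ h => hN₀s P (quasi_le (hS.to_le hUS) hC.2 hN₀ P h)

/-- The graph of a map. -/
def gph {P : Subgroup Ω} (φ : P →* Ω) : Set (Ω × Ω) := {q | ∃ x : P, q = ((x : Ω), φ x)}

/-- The set of graphs of all maps of a system. -/
def gset {R : Subgroup Ω} (D : FusionSystem R) : Set (Set (Ω × Ω)) :=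
  {G | ∃ (P : Subgroup Ω) (φ : P →* Ω), φ ∈ D.Hom P ∧ G = gph φ}

theorem gset_mono {R R' : Subgroup Ω} {D : FusionSystem R} {D' : FusionSystem R'} (h : D.IsSubsystemOf D') :
    gset D ⊆ gset D' := by
  rintro _ ⟨P, φ, hφ, rfl⟩
  exact ⟨P, φ, h P hφ, rfl⟩

theorem le_of_gset {R R' : Subgroup Ω} {D : FusionSystem R} {D' : FusionSystem R'} (h : gset D ⊆ gset D') :
    D.IsSubsystemOf D' := by
  intro P φ hφ
  obtain ⟨P', φ', hφ', e⟩ := h ⟨P, φ, hφ, rfl⟩
  have hP : P = P' := by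
    ext x
    constructor
    · intro hx
      have : ((x, φ ⟨x, hx⟩) : Ω × Ω) ∈ gph φ := ⟨⟨x, hx⟩, rfl⟩
      rw [e] at this
      obtain ⟨y, hy⟩ := this
      have : x = y := congrArg Prod.fst hy
      rw [this]
      exact y.2
    · intro hx
      have : ((x, φ' ⟨x, hx⟩) : Ω × Ω) ∈ gph φ' := ⟨⟨x, hx⟩, rfl⟩
      rw [← e] at this
      obtain ⟨y, hy⟩ := this
      have : x = y := congrArg Prod.fst hy
      rw [this]
      exact y.2
  subst hP
  have : φ = φ' := by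
    ext x
    have h1 : (((x : Ω), φ x) : Ω × Ω) ∈ gph φ := ⟨x, rfl⟩
    rw [e] at h1
    obtain ⟨y, hy⟩ := h1
    have h2 : (x : Ω) = y := congrArg Prod.fst hy
    have h3 : φ x = φ' y := congrArg Prod.snd hy
    have h4 : x = y := Subtype.ext h2
    rw [h3, h4]
  rw [this]
  exact hφ'

theorem gset_finite {S R : Subgroup Ω} [Finite S] {D : FusionSystem R} (hR : R ≤ S) : (gset D).Finite := by
  have hfin : (S ×ˢ S : Set (Ω × Ω)).Finite := by
    have : (S : Set Ω).Finite := Set.toFinite _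
    exact this.prod this
  refine (hfin.finite_subsets).subset ?_
  rintro _ ⟨P, φ, hφ, rfl⟩
  rintro _ ⟨x, rfl⟩
  have hP := (D.le_of_mem hφ).1
  exact ⟨hR (hP x.2), hR (val_mem D hφ x)⟩

/-- **The layer exists.** -/
theorem exists_layer {S : Subgroup Ω} [Finite S] (hS : IsPGroup p S) {F : FusionSystem S} (hF : F.IsSaturated p) :
    ∃ (T : Subgroup Ω) (E : FusionSystem T), E.IsLayerOf F p := by
  classical
  let Nn : (R : Subgroup Ω) → FusionSystem R → Prop := fun R D =>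
    D.IsNormalIn F p ∧ ∀ (U : Subgroup Ω) (C : FusionSystem U), C.IsComponentIn F p → C.IsSubsystemOf D
  have hne : ∃ n : ℕ, ∃ (R : Subgroup Ω) (D : FusionSystem R), Nn R D ∧ (gset D).ncard = n :=
    ⟨_, S, F, ⟨isNormalIn_self hS hF, fun U C hC => subnormal_sub hC.1⟩, rfl⟩
  obtain ⟨R, D, hD, hn⟩ := Nat.find_spec hne
  have hmin := fun m (hm : m < Nat.find hne) => Nat.find_min hne hm
  refine ⟨R, D, hD.1, hD.2, fun R' D' hD' hc => ?_⟩
  obtain ⟨M, ⟨hM, hMD, hMD'⟩, -⟩ := Cfsg.Agent.Lib.FusionExt.Meet8.meet_main hS hD.1 hD'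
  have hMc : Nn _ M := by
    refine ⟨hM, fun U C hC => ?_⟩
    have h1 := hD.2 U C hC
    have h2 := hc U C hC
    have hU1 : U ≤ R := (D.le_of_mem (h1 U (subtype_mem C le_rfl))).1
    have hU2 : U ≤ R' := (D'.le_of_mem (h2 U (subtype_mem C le_rfl))).1
    exact comp_le_of_normal hS hC hM (le_inf hU1 hU2)
  have hRS : R ≤ S := hD.1.1.2.2.2.1.1
  have hMDsub : M.IsSubsystemOf D := hMD.1.2.2.1
  have hsubs : gset M ⊆ gset D := gset_mono hMDsub
  have hle : (gset M).ncard ≤ (gset D).ncard := Set.ncard_le_ncard hsubs (gset_finite hRS)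
  have hge : (gset D).ncard ≤ (gset M).ncard := by
    by_contra hlt
    have hlt' : (gset M).ncard < Nat.find hne := by
      rw [← hn]
      omega
    exact hmin _ hlt' ⟨_, M, hMc, rfl⟩
  have heq : gset M = gset D := Set.eq_of_subset_of_ncard_le hsubs hge (gset_finite hRS)
  have hDM : D.IsSubsystemOf M := le_of_gset heq.ge
  exact fun P _ h => hMD'.1.2.2.1 P (hDM P h)

end layer

end Cfsg.Agent.Lib.FusionExt.QS1
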