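import Cfsg.Agent.Lib.FusionExt.FixS
import Cfsg.Agent.Lib.FusionExt.QS1
import Cfsg.Agent.Lib.FusionExt.Comp2
import Cfsg.Agent.Lib.FusionExt.CentE4

/-!
# Subnormal systems equal to their hyperfocal subgroup centralize strongly closed subgroups (helper92)
-/

set_option autoImplicit false
set_option linter.unusedSectionVars false

namespace Cfsg.Agent.Lib.FusionExt.CenB

open Cfsg Cfsg.FusionSystem Cfsg.Agent.Lib.Fusion.Basic Cfsg.Agent.Lib.Fusion.GroupSystem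
open Cfsg.Agent.Lib.FusionExt.MapApi Cfsg.Agent.Lib.FusionExt.Basic Cfsg.Agent.Lib.FusionExt.Normal
open Cfsg.Agent.Lib.FusionExt.PowerSys Cfsg.Agent.Lib.FusionExt.PrimeRes1
open Cfsg.Agent.Lib.FusionExt.PowerE Cfsg.Agent.Lib.FusionExt.LowPi Cfsg.Agent.Lib.FusionExt.Invariant
open Cfsg.Agent.Lib.FusionExt.PowerGen Cfsg.Agent.Lib.FusionExt.CentE4
open Cfsg.Agent.Lib.FusionExt.Comp1 Cfsg.Agent.Lib.FusionExt.Comp2 Cfsg.Agent.Lib.FusionExt.FixS
open Cfsg.Agent.Lib.FusionExt.PowerDet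

universe u

variable {Ω : Type u} [Group Ω]

section gen

variable {S U Q : Subgroup Ω} {F : FusionSystem S} {C : FusionSystem U} {p : ℕ} [Finite S] [Fact p.Prime]

/-- From the `p'`-automorphisms to all maps. -/
theorem cen_of_fix (hS : IsPGroup p S) (hUS : U ≤ S) (hQsc : F.StronglyClosed Q) (hC : C.IsSaturated p) (hU : C.hyperfocalSubgroup p = U)
    (hA : ∀ P, P ≤ U → ∀ f, Pp C p P f → ∃ g, Mp F (P ⊔ Q) g ∧ (∀ x ∈ P, g x = f x) ∧ ∀ q ∈ Q, g q = q) : Cen F C Q := by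
  have hUp : IsPGroup p U := hS.to_le hUS
  haveI : Finite U := finite_of_le hUS
  have hQS : Q ≤ S := hQsc.1
  have hcen : U ≤ Subgroup.centralizer (Q : Set Ω) := by
    have hle := hyperfocal_le_of_gen (F := C) (p := p) (Z := Subgroup.centralizer (Q : Set Ω)) ?_
    · rwa [hU] at hle
    intro P hPU f hf x hx
    obtain ⟨g, hg, hgf, hgq⟩ := hA P hPU f hf
    rw [Subgroup.mem_centralizer_iff]
    intro q hq
    have hxS : x ∈ S := hUS (hPU hx)
    have hq' : x * q * x⁻¹ ∈ Q := sc_conj_mem F hQsc hxS hq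
    have hxU : x ∈ P ⊔ Q := Subgroup.mem_sup_left hx
    have hqU : q ∈ P ⊔ Q := Subgroup.mem_sup_right hq
    have h1 := hg.map_conj hxU hqU
    rw [hgq _ hq', hgq q hq, hgf x hx] at h1
    have h2 : f x * q = x * q * x⁻¹ * f x := by rw [h1]; group
    calc q * (x⁻¹ * f x) = x⁻¹ * (x * q * x⁻¹ * f x) := by group
      _ = x⁻¹ * (f x * q) := by rw [h2]
      _ = x⁻¹ * f x * q := by group
  refine ⟨hcen, fun X f hf => ?_⟩
  have hsc : C.StronglyClosed U := ⟨le_rfl, fun P _ φ hφ x => val_mem C hφ x⟩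
  have hXU : X ≤ U := hf.le
  obtain ⟨s, hs, g, hg, hge⟩ := frat' (hTS := le_rfl) (fun g hg x hx => U.mul_mem (U.mul_mem hg hx) (U.inv_mem hg)) hUp hC hsc hXU hf
  let D : FusionSystem U := mkSys (genAx (F := F) (C := C) hUS hQS hcen)
  have hD : InFam C p D := by
    refine ⟨fun P φ hφ => ?_, fun Q' hQ' f' hf' => ?_⟩
    · exact hom_of_mp (mp_mkSys _ |>.1 (mp_of_hom hφ)).2.1
    · refine (mp_mkSys _).2 ⟨hQ', hf'.1, fun x hx => hQ' (hf'.2.1.1 x hx), hA Q' hQ' f' hf'⟩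
  have hgD := eS_min hD hg
  have hfD : Mp D X (fun x => s * g x * s⁻¹) := hgD.comp (fun x hx => hgD.mem_S hx) (Mp.conj le_rfl hs)
  have hfD' : Mp D X f := hfD.congr (fun x hx => (hge x hx).symm)
  exact ((mp_mkSys _).1 hfD').2.2.2

end gen

/-- **Subnormal systems equal to their hyperfocal subgroup centralize the strongly closed subgroups meeting them centrally.** -/
theorem cen_chain {U S : Subgroup Ω} {C : FusionSystem U} {F : FusionSystem S} {q : ℕ} (h : C.IsSubnormalIn F q) :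
    Fact q.Prime → Finite S → IsPGroup q S → C.IsSaturated q → C.hyperfocalSubgroup q = U →
      ∀ Q, F.StronglyClosed Q → Q ⊓ U ≤ C.center → Cen F C Q := by
  induction h with
  | refl F q =>
    intro _ _ _ _ _ Q hQ hZ
    have hle : Q ≤ _ := hQ.1
    exact cen_of_le_center ((le_inf le_rfl hle).trans hZ)
  | @step T' S C D F q hsub' hDF ih =>
    intro hq hfin hS hCs hyp Q hQsc hZ
    haveI := hfin
    haveI := hq
    have hTS : T' ≤ S := hDF.1.2.2.2.1.1
    have hCD := subnormal_sub hsub'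
    have hUT' : U ≤ T' := (D.le_of_mem (hCD U (subtype_mem C le_rfl))).1
    have hDsub : D.IsSubsystemOf F := hDF.1.2.2.1
    have hQ₁ : D.StronglyClosed (Q ⊓ T') := by
      refine ⟨inf_le_right, fun R hR φ hφ x => ⟨?_, val_mem D hφ x⟩⟩
      exact hQsc.2 R (hR.trans inf_le_left) φ (hDsub R hφ) x
    have hZ₁ : (Q ⊓ T') ⊓ U ≤ C.center := fun z hz => hZ ⟨hz.1.1, hz.2⟩
    obtain ⟨hc1, hc2⟩ := ih hq (finite_of_le hTS) (hS.to_le hTS) hCs hyp (Q ⊓ T') hQ₁ hZ₁
    refine cen_of_fix hS (hUT'.trans hTS) hQsc hCs hyp (fun P hPU f hf => ?_)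
    obtain ⟨ĝ, hĝ, hĝP, hĝZ⟩ := hc2 P f hf.1
    haveI : Finite T' := finite_of_le hTS
    have hPhT : P ⊔ (Q ⊓ T') ≤ T' := sup_le (hPU.trans hUT') inf_le_right
    have hmaps : ∀ x ∈ P ⊔ (Q ⊓ T'), ĝ x ∈ P ⊔ (Q ⊓ T') :=
      maps_sup hĝ (fun a ha => by rw [hĝP a ha]; exact Subgroup.mem_sup_left (hf.2.1.1 a ha))
        (fun z hz => by rw [hĝZ z hz]; exact Subgroup.mem_sup_right hz)
    have hi := LowPi.img_self hĝ hmaps
    obtain ⟨-, -, m, hm, hper⟩ := id hf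
    have hpp : Pp D q (P ⊔ (Q ⊓ T')) ĝ := by
      refine ⟨hĝ, hi, m, hm, fun x hx => ?_⟩
      have h1 := PPrimeMin.Mp.iter hĝ hmaps m
      have hP : ∀ n, ∀ a ∈ P, ĝ^[n] a = f^[n] a := by
        intro n a ha
        exact (iterate_congr hf.2.1.1 (fun y hy => (hĝP y hy).symm) n ha).symm
      have hZ' : ∀ n, ∀ z ∈ Q ⊓ T', ĝ^[n] z = z := by
        intro n z hz
        induction n with
        | zero => rfl
        | succ n ih' => rw [Function.iterate_succ_apply', ih', hĝZ z hz]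
      exact eq_on_sup h1 (Mp.refl hĝ.le) (fun a ha => by rw [hP m a ha, hper a ha]) (fun z hz => hZ' m z hz) x hx
    obtain ⟨g, hg, hgP, hgQ⟩ := fs_any hS hDF hQsc hPhT le_sup_right hpp hĝZ
    refine ⟨g, hg.restrict (sup_le (le_sup_left.trans le_sup_left) le_sup_right), fun x hx => ?_, hgQ⟩
    rw [hgP x (Subgroup.mem_sup_left hx), hĝP x hx]

end Cfsg.Agent.Lib.FusionExt.CenB
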