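import Cfsg.Agent.Lib.FusionExt.Meet2
import Cfsg.Agent.Lib.FusionExt.Comp1

/-!
# `p'`-automorphisms in a normal subsystem fix a strongly closed subgroup (helper92)

For `K` normal in `F` over `T`, `Q` strongly closed in `F`, a `p'`-automorphism of a subgroup `Y ≥ Q ∩ T` of `T` in `K` that fixes
`Q ∩ T` elementwise extends to a map on the product with `Q` fixing `Q` elementwise.
-/

set_option autoImplicit false
set_option linter.unusedSectionVars false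

namespace Cfsg.Agent.Lib.FusionExt.FixS

open Cfsg Cfsg.FusionSystem Cfsg.Agent.Lib.Fusion.Basic Cfsg.Agent.Lib.Fusion.GroupSystem
open Cfsg.Agent.Lib.FusionExt.MapApi Cfsg.Agent.Lib.FusionExt.Basic Cfsg.Agent.Lib.FusionExt.Normal
open Cfsg.Agent.Lib.FusionExt.SatCrit1 Cfsg.Agent.Lib.FusionExt.PowerSys Cfsg.Agent.Lib.FusionExt.PowerGen
open Cfsg.Agent.Lib.FusionExt.PrimeRes1 Cfsg.Agent.Lib.Fusion.Saturation Cfsg.Agent.Lib.Fusion.Saturation2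
open Cfsg.Agent.Lib.Fusion.KSystem Cfsg.Agent.Lib.FusionExt.Invariant Cfsg.Agent.Lib.FusionExt.PowerE
open Cfsg.Agent.Lib.FusionExt.LowPi Cfsg.Agent.Lib.FusionExt.CentSys Cfsg.Agent.Lib.FusionExt.FixQ
open Cfsg.Agent.Lib.FusionExt.Meet1

universe u

variable {Ω : Type u} [Group Ω] {S T : Subgroup Ω} {F : FusionSystem S} {K : FusionSystem T} {p : ℕ}
variable {X Y Q R P : Subgroup Ω} {f f' g h k G : Ω → Ω}

/-- The subgroup of `N_T(Y)` acting on `Y` modulo `R` and fixing `R`. -/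
def N3 (T Y R : Subgroup Ω) : Subgroup Ω where
  carrier := {t | t ∈ T ∧ t ∈ Subgroup.normalizer (Y : Set Ω) ∧ (∀ x ∈ Y, x⁻¹ * (t * x * t⁻¹) ∈ R) ∧ ∀ z ∈ R, t * z * t⁻¹ = z}
  mul_mem' := by
    rintro t₁ t₂ ⟨h1, h2, h3, h3'⟩ ⟨h4, h5, h6, h6'⟩
    refine ⟨T.mul_mem h1 h4, Subgroup.mul_mem _ h2 h5, fun x hx => ?_, fun z hz => ?_⟩
    · have hr₂ := h6 x hx
      set r₂ := x⁻¹ * (t₂ * x * t₂⁻¹) with hr₂d
      have e1 : t₂ * x * t₂⁻¹ = x * r₂ := by rw [hr₂d]; group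
      have e2 : t₁ * r₂ * t₁⁻¹ = r₂ := h3' r₂ hr₂
      have e3 : x⁻¹ * (t₁ * t₂ * x * (t₁ * t₂)⁻¹) = (x⁻¹ * (t₁ * x * t₁⁻¹)) * r₂ := by
        calc x⁻¹ * (t₁ * t₂ * x * (t₁ * t₂)⁻¹) = x⁻¹ * (t₁ * (t₂ * x * t₂⁻¹) * t₁⁻¹) := by group
          _ = x⁻¹ * (t₁ * (x * r₂) * t₁⁻¹) := by rw [e1]
          _ = x⁻¹ * ((t₁ * x * t₁⁻¹) * (t₁ * r₂ * t₁⁻¹)) := by group
          _ = _ := by rw [e2]; group
      rw [e3]
      exact R.mul_mem (h3 x hx) hr₂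
    · have e : t₁ * t₂ * z * (t₁ * t₂)⁻¹ = t₁ * (t₂ * z * t₂⁻¹) * t₁⁻¹ := by group
      rw [e, h6' z hz, h3' z hz]
  one_mem' := ⟨T.one_mem, Subgroup.one_mem _, fun x _ => by
    have : x⁻¹ * (1 * x * 1⁻¹) = 1 := by group
    rw [this]
    exact R.one_mem, fun z _ => by group⟩
  inv_mem' := by
    rintro t ⟨h1, h2, h3, h3'⟩
    refine ⟨T.inv_mem h1, Subgroup.inv_mem _ h2, fun x hx => ?_, fun z hz => ?_⟩
    · have hy : t⁻¹ * x * t ∈ Y := conj_inv_mem h2 hx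
      have h4 := h3 _ hy
      have e1 : t * (t⁻¹ * x * t) * t⁻¹ = x := by group
      rw [e1] at h4
      have e2 : x⁻¹ * (t⁻¹ * x * t⁻¹⁻¹) = ((t⁻¹ * x * t)⁻¹ * x)⁻¹ := by group
      rw [e2]
      exact R.inv_mem h4
    · have h4 := h3' z hz
      calc t⁻¹ * z * t⁻¹⁻¹ = t⁻¹ * (t * z * t⁻¹) * t⁻¹⁻¹ := by rw [h4]
        _ = z := by group

theorem mem_N3 {T Y R : Subgroup Ω} {t : Ω} :
    t ∈ N3 T Y R ↔ t ∈ T ∧ t ∈ Subgroup.normalizer (Y : Set Ω) ∧ (∀ x ∈ Y, x⁻¹ * (t * x * t⁻¹) ∈ R) ∧ ∀ z ∈ R, t * z * t⁻¹ = z := Iff.rfl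

/-- A coprime argument, with a normal subgroup instead of a central one. -/
theorem coprime_step' [Finite S] {W V Z : Subgroup Ω} {c : Ω} {m : ℕ} (hf : Mp F W f) (hcW : c ∈ W) (hVW : V ≤ W) (hZV : Z ≤ V)
    (hfc : c⁻¹ * f c ∈ V) (hV : ∀ v ∈ V, v⁻¹ * f v ∈ Z) (hZ : ∀ u ∈ Z, f u ∈ Z) (hZn : ∀ v ∈ V, ∀ u ∈ Z, v * u * v⁻¹ ∈ Z)
    (hm : f^[m] c = c) (hco : (orderOf (c⁻¹ * f c)).Coprime m) : c⁻¹ * f c ∈ Z := by
  set y := c⁻¹ * f c with hy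
  have hu : y⁻¹ * f y ∈ Z := hV y hfc
  set u := y⁻¹ * f y with hu'
  have hfy : f y = y * u := by rw [hu']; group
  have hfc' : f c = c * y := by rw [hy]; group
  have hpow : ∀ k : ℕ, ∃ w ∈ Z, (y * u) ^ k = y ^ k * w := by
    intro k
    induction k with
    | zero => exact ⟨1, Z.one_mem, by simp⟩
    | succ k ih =>
      obtain ⟨w, hw, e⟩ := ih
      refine ⟨y⁻¹ * w * y * u, Z.mul_mem ?_ hu, ?_⟩
      · have := hZn _ (V.inv_mem hfc) w hw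
        rwa [inv_inv] at this
      · rw [pow_succ, e, pow_succ]
        group
  have key : ∀ k : ℕ, ∃ w ∈ Z, f^[k] c = c * y ^ k * w := by
    intro k
    induction k with
    | zero => exact ⟨1, Z.one_mem, by simp⟩
    | succ k ih =>
      obtain ⟨w, hw, e⟩ := ih
      obtain ⟨w', hw', e'⟩ := hpow k
      refine ⟨w' * f w, Z.mul_mem hw' (hZ w hw), ?_⟩
      rw [Function.iterate_succ_apply', e, hf.map_mul (W.mul_mem hcW (W.pow_mem (hVW hfc) k)) (hVW (hZV hw)),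
        hf.map_mul hcW (W.pow_mem (hVW hfc) k), hfc', mp_pow hf (hVW hfc) k, hfy, e']
      simp only [pow_succ', mul_assoc]
  obtain ⟨w, hw, e⟩ := key m
  rw [hm] at e
  have h1 : y ^ m = w⁻¹ := by
    have h2 : c * (y ^ m * w) = c * 1 := by
      rw [mul_one, ← mul_assoc]
      exact e.symm
    have h3 := mul_left_cancel h2
    exact eq_inv_of_mul_eq_one_left h3
  exact mem_of_pow_mem_coprime hco (by rw [h1]; exact Z.inv_mem hw)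

section main

variable [Finite S] [Fact p.Prime]

/-- The step for a fully normalized subgroup. -/
theorem fs_step (hS : IsPGroup p S) (hK : K.IsNormalIn F p) (hQsc : F.StronglyClosed Q)
    (hfn : F.IsFullyNormalized Y) (hYT : Y ≤ T) (hc : ∀ Q', F.IsConj Y Q' → zz T Q' ≤ Q') (hRY : Q ⊓ T ≤ Y)
    (hIH : ∀ Y' : Subgroup Ω, Y < Y' → Y' ≤ T → ∀ f', Pp K p Y' f' → (∀ z ∈ Q ⊓ T, f' z = z) →
      ∃ g, Mp F (Y' ⊔ Q) g ∧ (∀ x ∈ Y', g x = f' x) ∧ ∀ q ∈ Q, g q = q)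
    (hf : Pp K p Y f) (hfz : ∀ z ∈ Q ⊓ T, f z = z) : ∃ g, Mp F (Y ⊔ Q) g ∧ (∀ x ∈ Y, g x = f x) ∧ ∀ q ∈ Q, g q = q := by
  obtain ⟨⟨hKs, hF, hsub, hT, hInv, hFr⟩, hext⟩ := id hK
  have hSI : StrongInv F K := strong_of_inv hInv hFr
  have hTS : T ≤ S := hT.1
  have hTp : IsPGroup p T := hS.to_le hTS
  haveI : Finite T := finite_of_le hTS
  have hYS : Y ≤ S := hYT.trans hTS
  haveI : Finite Y := finite_of_le hYS
  haveI : Finite (MulAut Y) := Cfsg.Agent.Lib.Fusion.Basic.finite_mulAut_of_finite (A := Y)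
  have hYp : IsPGroup p Y := hS.to_le hYS
  have hfnK : K.IsFullyNormalized Y := fn_sub hS hF hsub hT hfn hYT
  have hFAK := isFullyAutomized_of_isFullyNormalized (F := K) hTp hKs hfnK
  have hrK := isReceptive_of_isFullyNormalized (F := K) hTp hKs hfnK
  have hcz : zz T Y ≤ Y := hc Y (isConj_refl F hYS)
  have hQS : Q ≤ S := hQsc.1
  have hZ₀sc : F.StronglyClosed (Q ⊓ T) := Cfsg.Agent.Lib.FusionExt.Comp1.sc_inf hQsc hT
  have hcomm : ∀ y ∈ Q, ∀ x ∈ T, x⁻¹ * (y * x * y⁻¹) ∈ Q ⊓ T := by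
    intro y hy x hx
    refine ⟨?_, T.mul_mem (T.inv_mem hx) (sc_conj_mem F hT (hQS hy) hx)⟩
    have h1 : x⁻¹ * y * x ∈ Q := by
      have := sc_conj_mem F hQsc (S.inv_mem (hTS hx)) hy
      rwa [inv_inv] at this
    have e : x⁻¹ * (y * x * y⁻¹) = (x⁻¹ * y * x) * y⁻¹ := by group
    rw [e]
    exact Q.mul_mem h1 (Q.inv_mem hy)
  have hQn : ∀ y ∈ Q, y ∈ Subgroup.normalizer (Y : Set Ω) := by
    intro y hy
    refine mem_normalizer_of_conj_le' (fun x hx => ?_)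
    have e : y * x * y⁻¹ = x * (x⁻¹ * (y * x * y⁻¹)) := by group
    rw [e]
    exact Y.mul_mem hx (hRY (hcomm y hy x (hYT hx)))
  obtain ⟨a, ha, hae⟩ := hf.1.toAut hf.2.1
  have haf : ∀ x ∈ Y, autFun a x = f x := by
    intro x hx
    rw [autFun_of_mem a hx, hae ⟨x, hx⟩]
  have hZ₀maps : ∀ δ ∈ K.autGroup Y, ∀ r ∈ Q ⊓ T, autFun δ r ∈ Q ⊓ T := fun δ hδ r hr =>
    sc_mp hZ₀sc (((mp_sub hsub (mp_autFun hYT hδ))).restrict hRY) le_rfl hr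
  -- the stability group
  let S₀ : Subgroup (MulAut Y) := finSub
    { carrier := {b | b ∈ K.autGroup Y ∧ (∀ x ∈ Y, x⁻¹ * autFun b x ∈ Q ⊓ T) ∧ ∀ z ∈ Q ⊓ T, autFun b z = z}
      one_mem' := ⟨Subgroup.one_mem _, fun x _ => by
        rw [autFun_one_apply, inv_mul_cancel]
        exact Subgroup.one_mem _, fun z _ => autFun_one_apply z⟩
      mul_mem' := by
        rintro b₁ b₂ ⟨h1, h2, h2'⟩ ⟨h3, h4, h4'⟩
        refine ⟨Subgroup.mul_mem _ h1 h3, fun x hx => ?_, fun z hz => ?_⟩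
        · have hr := h4 x hx
          have e : autFun b₂ x = x * (x⁻¹ * autFun b₂ x) := by group
          rw [autFun_mul_apply, e, autFun_mul b₁ hx (hRY hr), h2' _ hr, ← mul_assoc]
          exact Subgroup.mul_mem _ (h2 x hx) hr
        · rw [autFun_mul_apply, h4' z hz, h2' z hz] }
  have hS₀ : ∀ {b}, b ∈ S₀ ↔ b ∈ K.autGroup Y ∧ (∀ x ∈ Y, x⁻¹ * autFun b x ∈ Q ⊓ T) ∧ ∀ z ∈ Q ⊓ T, autFun b z = z := Iff.rfl
  have h1 : S₀ ≤ K.autGroup Y := fun b hb => hb.1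
  have h2 : IsPGroup p S₀ := by
    refine isPGroup_of_pow_eq_one (fun b hb => ?_)
    have hk0 : ∃ k : ℕ, ∀ z : Y, (z : Ω) ∈ Q ⊓ T → (b ^ p ^ k) z = z := by
      refine ⟨0, fun z hz => ?_⟩
      apply Subtype.ext
      have := hb.2.2 _ hz
      rw [autFun_coe] at this
      simpa using this
    have hα : ∀ x : Y, (x : Ω) ∈ (Y : Subgroup Ω) → (x : Ω)⁻¹ * ((b x : Y) : Ω) ∈ Q ⊓ T := by
      intro x hx
      rw [← autFun_coe]
      exact hb.2.1 x hx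
    obtain ⟨k, hk⟩ := pow_fix_step hYp b (N := Q ⊓ T) (M := Y) hRY hα hk0
    exact ⟨k, MulEquiv.ext fun x => hk x x.2⟩
  have h3 : ∀ δ ∈ K.autGroup Y, ∀ w ∈ S₀, δ * w * δ⁻¹ ∈ S₀ := by
    intro δ hδ w hw
    have hδi := Subgroup.inv_mem _ hδ
    refine ⟨Subgroup.mul_mem _ (Subgroup.mul_mem _ hδ hw.1) hδi, fun x hx => ?_, fun z hz => ?_⟩
    · have hx₀ := (img_autFun δ⁻¹).1 x hx
      have hr := hw.2.1 _ hx₀
      have e : autFun w (autFun δ⁻¹ x) = autFun δ⁻¹ x * ((autFun δ⁻¹ x)⁻¹ * autFun w (autFun δ⁻¹ x)) := by group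
      rw [autFun_mul_apply, autFun_mul_apply, e, autFun_mul δ hx₀ (hRY hr), autFun_apply_inv, inv_mul_cancel_left]
      exact hZ₀maps δ hδ _ hr
    · rw [autFun_mul_apply, autFun_mul_apply, hw.2.2 _ (hZ₀maps _ hδi z hz), autFun_apply_inv]
  have hS₀ind : S₀ ≤ autInducedBy T Y := fun b hb => opAut_le_autInducedBy hFAK (le_opAut h1 h2 h3 hb)
  -- the group `N₂`
  let N₂ : Subgroup Ω := N3 T Y (Q ⊓ T)
  have hN₂ : ∀ {t}, t ∈ N₂ ↔ t ∈ T ∧ t ∈ Subgroup.normalizer (Y : Set Ω) ∧ (∀ x ∈ Y, x⁻¹ * (t * x * t⁻¹) ∈ Q ⊓ T) ∧ ∀ z ∈ Q ⊓ T, t * z * t⁻¹ = z := Iff.rfl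
  have hnormS₀ : ∀ (t : Ω) (hn : t ∈ Subgroup.normalizer (Y : Set Ω)), t ∈ N₂ → normAct Y hn ∈ S₀ := by
    intro t hn ht
    refine ⟨autInducedBy_le_autGroup K hYT (normAct_mem_autInducedBy T Y hn ht.1), fun x hx => ?_, fun z hz => ?_⟩
    · rw [autFun_of_mem _ hx]
      exact ht.2.2.1 x hx
    · rw [autFun_of_mem _ (hRY hz)]
      exact ht.2.2.2 z hz
  have hS₀N₂ : ∀ b ∈ S₀, ∃ t ∈ N₂, ∀ x ∈ Y, autFun b x = t * x * t⁻¹ := by
    intro b hb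
    obtain ⟨t, ht, hte⟩ := (mem_autInducedBy_iff T Y b).1 (hS₀ind hb)
    have hval : ∀ x ∈ Y, autFun b x = t * x * t⁻¹ := by
      intro x hx
      rw [autFun_of_mem b hx]
      exact hte ⟨x, hx⟩
    refine ⟨t, ⟨ht, mem_normalizer_of_conj Y b t hte, fun x hx => ?_, fun z hz => ?_⟩, hval⟩
    · rw [← hval x hx]
      exact hb.2.1 x hx
    · rw [← hval z (hRY hz)]
      exact hb.2.2 z hz
  have key : ∀ t ∈ N₂, ∃ t' ∈ N₂, ∀ x ∈ Y, f (t * x * t⁻¹) = t' * f x * t'⁻¹ := by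
    intro t ht
    have hn : t ∈ Subgroup.normalizer (Y : Set Ω) := ht.2.1
    obtain ⟨t', ht', hte⟩ := hS₀N₂ _ (h3 a ha _ (hnormS₀ t hn ht))
    refine ⟨t', ht', fun x hx => ?_⟩
    have hfx : f x ∈ Y := hf.2.1.1 x hx
    have h4 := hte (f x) hfx
    rw [autFun_mul_apply, autFun_mul_apply, ← haf x hx, autFun_inv_apply, autFun_of_mem _ hx] at h4
    have h5 : ((normAct Y hn ⟨x, hx⟩ : Y) : Ω) = t * x * t⁻¹ := rfl
    rw [h5, haf _ (norm_conj hn hx)] at h4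
    rw [h4, haf x hx]
  -- elements of `Q`
  have hfix_a : ∀ z ∈ Q ⊓ T, autFun a z = z := fun z hz => by rw [haf z (hRY hz), hfz z hz]
  have hfix_ai : ∀ z ∈ Q ⊓ T, autFun a⁻¹ z = z := fun z hz => by
    have := autFun_inv_apply a z
    rwa [hfix_a z hz] at this
  have hrel_y : ∀ y ∈ Q, ∃ t ∈ N₂, ∀ w ∈ Y, f (y * w * y⁻¹) = (t * y) * f w * (t * y)⁻¹ := by
    intro y hy
    have hyn := hQn y hy
    let cy : MulAut Y := normAct Y hyn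
    have hcy : cy ∈ F.autGroup Y := autInducedBy_le_autGroup F hYS (normAct_mem_autInducedBy S Y hyn (hQS hy))
    have hcye : ∀ x ∈ Y, autFun cy x = y * x * y⁻¹ := by
      intro x hx
      rw [autFun_of_mem cy hx]
      rfl
    have hcyi : ∀ x ∈ Y, autFun cy⁻¹ (y * x * y⁻¹) = x := by
      intro x hx
      rw [← hcye x hx, autFun_inv_apply]
    have e1 : ∀ x ∈ Y, autFun cy⁻¹ x = y⁻¹ * x * y := by
      intro x hx
      have hw : y⁻¹ * x * y ∈ Y := conj_inv_mem hyn hx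
      have := hcyi _ hw
      rwa [show y * (y⁻¹ * x * y) * y⁻¹ = x by group] at this
    have hc' : cy * a⁻¹ * cy⁻¹ ∈ K.autGroup Y := by
      refine strong_conj_aut hSI hYT (autHom_mem F hYS hcy) (autHom_range cy) (Subgroup.inv_mem _ ha) _ (fun x h => ?_)
      show ((cy (a⁻¹ (cy⁻¹ ⟨cy x, h⟩)) : Y) : Ω) = ((cy (a⁻¹ x) : Y) : Ω)
      have e : (⟨cy x, h⟩ : Y) = cy x := rfl
      rw [e, MulAut.inv_apply_self]
    let γ : MulAut Y := a * (cy * a⁻¹ * cy⁻¹)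
    have hγ : γ ∈ K.autGroup Y := Subgroup.mul_mem _ ha hc'
    have hγf : ∀ x ∈ Y, autFun γ x = autFun a (y * autFun a⁻¹ (y⁻¹ * x * y) * y⁻¹) := by
      intro x hx
      show autFun (a * (cy * a⁻¹ * cy⁻¹)) x = _
      have hw : y⁻¹ * x * y ∈ Y := conj_inv_mem hyn hx
      rw [autFun_mul_apply, autFun_mul_apply, autFun_mul_apply, e1 x hx, hcye _ ((img_autFun a⁻¹).1 _ hw)]
    have hZ₀c : ∀ s ∈ S, ∀ r ∈ Q ⊓ T, s * r * s⁻¹ ∈ Q ⊓ T := fun s hs r hr => sc_conj_mem F hZ₀sc hs hr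
    have hγS₀ : γ ∈ S₀ := by
      refine ⟨hγ, fun x hx => ?_, fun z hz => ?_⟩
      · rw [hγf x hx]
        have hw : y⁻¹ * x * y ∈ Y := conj_inv_mem hyn hx
        have hr₁ : x⁻¹ * (y⁻¹ * x * y) ∈ Q ⊓ T := by
          have := hcomm y⁻¹ (Q.inv_mem hy) x (hYT hx)
          rwa [inv_inv] at this
        have hv₀ : autFun a⁻¹ x ∈ Y := (img_autFun a⁻¹).1 x hx
        have e2 : y⁻¹ * x * y = x * (x⁻¹ * (y⁻¹ * x * y)) := by group
        have e3 : autFun a⁻¹ (y⁻¹ * x * y) = autFun a⁻¹ x * (x⁻¹ * (y⁻¹ * x * y)) := by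
          conv_lhs => rw [e2]
          rw [autFun_mul a⁻¹ hx (hRY hr₁), hfix_ai _ hr₁]
        rw [e3]
        set r₁ := x⁻¹ * (y⁻¹ * x * y) with hr₁d
        set v₀ := autFun a⁻¹ x with hv₀d
        have hr₂ : v₀⁻¹ * (y * v₀ * y⁻¹) ∈ Q ⊓ T := hcomm y hy v₀ (hYT hv₀)
        have hr₃ : y * r₁ * y⁻¹ ∈ Q ⊓ T := hZ₀c y (hQS hy) r₁ hr₁
        have e4 : y * (v₀ * r₁) * y⁻¹ = v₀ * ((v₀⁻¹ * (y * v₀ * y⁻¹)) * (y * r₁ * y⁻¹)) := by group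
        rw [e4, autFun_mul a hv₀ (hRY (Subgroup.mul_mem _ hr₂ hr₃)), hfix_a _ (Subgroup.mul_mem _ hr₂ hr₃), hv₀d, autFun_apply_inv,
          inv_mul_cancel_left]
        exact Subgroup.mul_mem _ hr₂ hr₃
      · rw [hγf z (hRY hz)]
        have hw : y⁻¹ * z * y ∈ Q ⊓ T := by
          have := hZ₀c y⁻¹ (S.inv_mem (hQS hy)) z hz
          rwa [inv_inv] at this
        rw [hfix_ai _ hw, show y * (y⁻¹ * z * y) * y⁻¹ = z by group, hfix_a z hz]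
    obtain ⟨t, ht, hte⟩ := hS₀N₂ γ hγS₀
    refine ⟨t, ht, fun w hw => ?_⟩
    have hfw : f w ∈ Y := hf.2.1.1 w hw
    have hx : y * f w * y⁻¹ ∈ Y := norm_conj hyn hfw
    have h4 := hte _ hx
    rw [hγf _ hx, show y⁻¹ * (y * f w * y⁻¹) * y = f w by group, ← haf w hw, autFun_inv_apply, haf _ (norm_conj hyn hw)] at h4
    rw [h4, ← haf w hw]
    group
  by_cases hcase : N₂ ≤ Y
  · -- no further extension is possible
    have hfpp : Pp F p Y f := ⟨mp_sub hsub hf.1, hf.2⟩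
    obtain ⟨ĝ, hĝ, hĝe, hĝc⟩ := pi_main hS hK Y hYT hc a ha
    have hĝY : ∀ x ∈ Y, ĝ x ∈ Y := fun x hx => by
      rw [hĝe x hx, haf x hx]
      exact hf.2.1.1 x hx
    have hĝR := pi_maps hcz hĝ hĝY hĝc
    have hĝi := LowPi.img_self hĝ hĝR
    have hĝYi : Img Y ĝ Y := hf.2.1.congr (fun x hx => by rw [hĝe x hx, haf x hx])
    have hRS : Y ⊔ centralizerIn S Y ≤ S := sup_le hYS inf_le_left
    obtain ⟨β, m, hβ, hβe, hβm⟩ := pp_extend' hRS hĝ hĝi le_sup_left hfpp (fun x hx => by rw [hĝe x hx, haf x hx])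
    have hβc : ∀ c ∈ centralizerIn S Y, c⁻¹ * β c ∈ zz T Y := by
      intro c hc
      rw [hβm c (Subgroup.mem_sup_right hc)]
      exact iter_zz hYT hcz hĝ hĝYi hĝc m hc
    have hUS : (Y ⊔ centralizerIn S Y) ⊔ Q ≤ S := sup_le hRS hQS
    have hRU : Y ⊔ centralizerIn S Y ≤ (Y ⊔ centralizerIn S Y) ⊔ Q := le_sup_left
    have hQU : Q ≤ (Y ⊔ centralizerIn S Y) ⊔ Q := le_sup_right
    have hYR : Y ≤ Y ⊔ centralizerIn S Y := le_sup_left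
    have hCR : centralizerIn S Y ≤ Y ⊔ centralizerIn S Y := le_sup_right
    have hβi : Img Y β Y := hf.2.1.congr (fun x hx => (hβe x hx).symm)
    have hNt : ∀ {t}, t ∈ N₂ → t ∈ normalizerIn T Y := fun {t} ht => ⟨ht.1, ht.2.1⟩
    have hQex : Q ≤ exS S Y β := by
      intro y hy
      obtain ⟨t, ht, hrel⟩ := hrel_y y hy
      have hyN : y ∈ normalizerIn S Y := ⟨hQS hy, hQn y hy⟩
      have hy' : t * y ∈ normalizerIn S Y := Subgroup.mul_mem _ ⟨hTS ht.1, ht.2.1⟩ hyN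
      have hrelβ : ∀ w ∈ Y, β (y * w * y⁻¹) = (t * y) * β w * (t * y)⁻¹ := by
        intro w hw
        rw [hβe _ (norm_conj hyN.2 hw), hβe w hw]
        exact hrel w hw
      have hv : ∀ e ∈ centralizerIn S Y, e⁻¹ * ((y * (t * y)⁻¹) * e * (y * (t * y)⁻¹)⁻¹) ∈ zz T Y := by
        intro e he
        have e1 : y * (t * y)⁻¹ = t⁻¹ := by group
        rw [e1]
        exact conj_stable hT (Subgroup.inv_mem _ (hNt ht)) e he
      have hst := hst_of_stable hβ.1 hβi hYT hcz hT hβc hyN hy' hv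
      obtain ⟨c₀, hc₀, e⟩ := ext_step hS hF hT hfn hYT hcz hβ.1 hβi hyN hy' hrelβ hst
      exact mem_exS.2 ⟨hyN, c₀ * (t * y), Subgroup.mul_mem _ (cent_le_norm hc₀) hy', e⟩
    obtain ⟨β₁, hβ₁, hβ₁e, -⟩ := ext_over hS hF hfn hβ.1 hβi hRU (sup_le (wt_le_exS hYS hβ.1 hβi) hQex)
    have hβ₁Q : ∀ q ∈ Q, β₁ q ∈ Q := fun q hq => sc_mp hQsc (hβ₁.restrict hQU) le_rfl hq
    have hβ₁U : ∀ x ∈ (Y ⊔ centralizerIn S Y) ⊔ Q, β₁ x ∈ (Y ⊔ centralizerIn S Y) ⊔ Q := by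
      refine maps_sup hβ₁ (fun r hr => ?_) (fun q hq => hQU (hβ₁Q q hq))
      rw [hβ₁e r hr]
      exact hRU (hβ.2.1.1 r hr)
    have hβ₁i := LowPi.img_self hβ₁ hβ₁U
    obtain ⟨β₂, m₂, hβ₂, hβ₂e, hβ₂m⟩ := pp_extend' hUS hβ₁ hβ₁i le_sup_left hβ hβ₁e
    obtain ⟨hβ₂M, hβ₂i, m₀, hm₀, hβ₂o⟩ := hβ₂
    have hβ₂Y : ∀ x ∈ Y, β₂ x = f x := fun x hx => by
      rw [hβ₂e x (hYR hx), hβe x hx]
    have hβ₂Q : ∀ y ∈ Q, β₂ y ∈ Q := fun y hy => sc_mp hQsc (hβ₂M.restrict hQU) le_rfl hy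
    have claim1 : ∀ y ∈ Q, β₂ y * y⁻¹ ∈ Q ⊓ (Y ⊔ centralizerIn S Y) := by
      intro y hy
      have hu : β₂ y * y⁻¹ ∈ Q := Q.mul_mem (hβ₂Q y hy) (Q.inv_mem hy)
      refine ⟨hu, ?_⟩
      set u := β₂ y * y⁻¹ with hud
      have hyn := hQn y hy
      obtain ⟨t, ht, hrel⟩ := hrel_y y hy
      have htY : t ∈ Y := hcase ht
      have h6 : ∀ x ∈ Y, t * x * t⁻¹ = u * x * u⁻¹ := by
        intro x hx
        have hw : y⁻¹ * x * y ∈ Y := conj_inv_mem hyn hx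
        obtain ⟨x₀, hx₀, e0⟩ := hf.2.1.2 _ hw
        have h7 := hrel x₀ hx₀
        have hyU : y ∈ (Y ⊔ centralizerIn S Y) ⊔ Q := hQU hy
        have hx₀U : x₀ ∈ (Y ⊔ centralizerIn S Y) ⊔ Q := hRU (hYR hx₀)
        have h8 := hβ₂M.map_conj hyU hx₀U
        rw [hβ₂Y _ (norm_conj hyn hx₀), hβ₂Y _ hx₀, e0] at h8
        rw [h7, e0] at h8
        have e5 : t * y * (y⁻¹ * x * y) * (t * y)⁻¹ = t * x * t⁻¹ := by group
        rw [e5] at h8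
        rw [h8, hud]
        group
      have hcen : t⁻¹ * u ∈ centralizerIn S Y := by
        refine mem_cent.2 ⟨S.mul_mem (S.inv_mem (hYS htY)) (hQS hu), fun x hx => ?_⟩
        have h6' := h6 x hx
        have h7 : t * x = u * x * u⁻¹ * t := by
          rw [← h6']
          group
        calc x * (t⁻¹ * u) = t⁻¹ * (t * x) * (t⁻¹ * u) := by group
          _ = t⁻¹ * (u * x * u⁻¹ * t) * (t⁻¹ * u) := by rw [h7]
          _ = t⁻¹ * u * x := by group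
      have e : u = t * (t⁻¹ * u) := by group
      rw [e]
      exact Subgroup.mul_mem _ (hYR htY) (hCR hcen)
    have claim2 : ∀ w ∈ Q ⊓ (Y ⊔ centralizerIn S Y), w⁻¹ * β₂ w ∈ Q ⊓ T := by
      rintro w ⟨hwQ, hwR⟩
      refine ⟨Q.mul_mem (Q.inv_mem hwQ) (hβ₂Q w hwQ), ?_⟩
      obtain ⟨c, hc, r, hr, rfl⟩ := exists_mul_of_mem_rr hwR
      rw [hβ₂e _ hwR, hβ.1.map_mul (hCR hc) (hYR hr), hβe r hr]
      have hz := hβc c hc
      have e : (c * r)⁻¹ * (β c * f r) = r⁻¹ * (c⁻¹ * β c) * f r := by group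
      rw [e]
      exact T.mul_mem (T.mul_mem (T.inv_mem (hYT hr)) (mem_zz.1 hz).1) (hYT (hf.2.1.1 r hr))
    have hβ₂R : ∀ r ∈ Q ⊓ T, β₂ r = r := by
      intro r hr
      rw [hβ₂Y r (hRY hr)]
      exact hfz r hr
    have hcoS : ∀ z ∈ S, (orderOf z).Coprime m₀ := by
      intro z hz
      obtain ⟨j, hj⟩ := hS ⟨z, hz⟩
      have h1 : z ^ p ^ j = 1 := congrArg Subtype.val hj
      have h2 := orderOf_dvd_of_pow_eq_one h1
      refine Nat.Coprime.coprime_dvd_left h2 ?_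
      exact (Nat.Coprime.pow_right j hm₀).symm
    have hnormV : ∀ v ∈ Q ⊓ (Y ⊔ centralizerIn S Y), ∀ u ∈ Q ⊓ T, v * u * v⁻¹ ∈ Q ⊓ T := by
      rintro v ⟨hvQ, -⟩ u hu
      exact sc_conj_mem F hZ₀sc (hQS hvQ) hu
    have hfixQ : ∀ y ∈ Q, β₂ y = y := by
      intro y hy
      have hyU := hQU hy
      have hyiU := hQU (Q.inv_mem hy)
      have hbinv : β₂ y⁻¹ = (β₂ y)⁻¹ := hβ₂M.map_inv hyU
      have hq0 : (y⁻¹)⁻¹ * β₂ y⁻¹ ∈ Q ⊓ (Y ⊔ centralizerIn S Y) := by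
        have h1 := claim1 y hy
        have e : (y⁻¹)⁻¹ * β₂ y⁻¹ = (β₂ y * y⁻¹)⁻¹ := by
          rw [hbinv]
          group
        rw [e]
        exact Subgroup.inv_mem _ h1
      have hVS : ∀ z ∈ Q, z ∈ S := fun z hz => hQS hz
      have hq1 : (y⁻¹)⁻¹ * β₂ y⁻¹ ∈ Q ⊓ T :=
        coprime_step' (F := F) hβ₂M hyiU (inf_le_left.trans hQU) (le_inf inf_le_left (hRY.trans hYR)) hq0 claim2
          (fun u hu => by rw [hβ₂R u hu]; exact hu) hnormV (hβ₂o _ hyiU) (hcoS _ (hVS _ hq0.1))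
      have hq2 : (y⁻¹)⁻¹ * β₂ y⁻¹ ∈ (⊥ : Subgroup Ω) :=
        coprime_step (F := F) hβ₂M hyiU (inf_le_left.trans hQU) bot_le hq1 (fun v hv => by
          rw [hβ₂R v hv, inv_mul_cancel]
          exact Subgroup.one_mem _) (fun u hu => by
          rw [Subgroup.mem_bot] at hu ⊢
          rw [hu]
          exact hβ₂M.map_one) (fun u hu v _ => by
          rw [Subgroup.mem_bot] at hu
          rw [hu, one_mul, mul_one]) (hβ₂o _ hyiU) (hcoS _ (hVS _ hq1.1))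
      rw [Subgroup.mem_bot, hbinv] at hq2
      have h5 : y * (β₂ y)⁻¹ = 1 := by simpa using hq2
      have h6 : y = β₂ y := mul_inv_eq_one.1 h5
      exact h6.symm
    exact ⟨β₂, hβ₂M.restrict (sup_le (hYR.trans hRU) hQU), hβ₂Y, hfixQ⟩
  · -- a proper extension exists
    have hlt : Y < Y ⊔ N₂ := by
      refine lt_of_le_of_ne le_sup_left (fun e => hcase ?_)
      rw [e]
      exact le_sup_right
    have hN₂n : N₂ ≤ Subgroup.normalizer (Y : Set Ω) := fun t ht => ht.2.1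
    have hY'T : Y ⊔ N₂ ≤ T := sup_le hYT (fun t ht => ht.1)
    obtain ⟨g₀, hg₀, hg₀e⟩ := hf.1.ext_rec hrK hf.2.1 (Y := Y ⊔ N₂) le_sup_left (fun y hy => by
      have hy' : y ∈ N₂ ⊔ Y := by
        rw [sup_comm]
        exact hy
      obtain ⟨t, ht, r, hr, rfl⟩ := exists_mul_of_mem_sup' hN₂n hy'
      obtain ⟨t', ht', hte⟩ := key t ht
      refine ⟨hY'T hy, Subgroup.mul_mem _ ht.2.1 (Subgroup.le_normalizer hr), t' * f r, T.mul_mem ht'.1 (hYT (hf.2.1.1 r hr)), fun x hx => ?_⟩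
      have e1 : t * r * x * (t * r)⁻¹ = t * (r * x * r⁻¹) * t⁻¹ := by group
      rw [e1, hte _ (Y.mul_mem (Y.mul_mem hr hx) (Y.inv_mem hr)), hf.1.map_conj hr hx]
      group)
    have hg₀Y' : ∀ x ∈ Y ⊔ N₂, g₀ x ∈ Y ⊔ N₂ := by
      refine maps_sup hg₀ (fun x hx => ?_) (fun t ht => ?_)
      · rw [hg₀e x hx]
        exact Subgroup.mem_sup_left (hf.2.1.1 x hx)
      · obtain ⟨t', ht', hte⟩ := key t ht
        have htY : t ∈ Y ⊔ N₂ := Subgroup.mem_sup_right ht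
        have hz : t'⁻¹ * g₀ t ∈ zz T Y := by
          refine mem_zz.2 ⟨T.mul_mem (T.inv_mem ht'.1) (hg₀.mem_S htY), fun y hy => ?_⟩
          obtain ⟨x, hx, rfl⟩ := hf.2.1.2 y hy
          have h6 := hg₀.map_conj htY (Subgroup.mem_sup_left hx)
          rw [hg₀e _ (norm_conj ht.2.1 hx), hg₀e x hx, hte x hx] at h6
          have h7 : t' * f x = g₀ t * f x * (g₀ t)⁻¹ * t' := by
            rw [← h6]
            group
          calc f x * (t'⁻¹ * g₀ t) = t'⁻¹ * (t' * f x) * (t'⁻¹ * g₀ t) := by group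
            _ = t'⁻¹ * (g₀ t * f x * (g₀ t)⁻¹ * t') * (t'⁻¹ * g₀ t) := by rw [h7]
            _ = t'⁻¹ * g₀ t * f x := by group
        have e : g₀ t = t' * (t'⁻¹ * g₀ t) := by group
        rw [e]
        exact Subgroup.mul_mem _ (Subgroup.mem_sup_right ht') (Subgroup.mem_sup_left (hcz hz))
    have hg₀i := LowPi.img_self hg₀ hg₀Y'
    obtain ⟨f₁, m, hf₁, hf₁e, -⟩ := pp_extend' hY'T hg₀ hg₀i le_sup_left hf hg₀e
    obtain ⟨g, hg, hge, hgq⟩ := hIH _ hlt hY'T f₁ hf₁ (fun z hz => by rw [hf₁e z (hRY hz), hfz z hz])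
    refine ⟨g, hg.restrict (sup_le (le_sup_left.trans le_sup_left) le_sup_right), fun x hx => ?_, hgq⟩
    rw [hge x (Subgroup.mem_sup_left hx), hf₁e x hx]

/-- Transport of the conclusion along a map of `F` on the product with `Q`. -/
theorem fs_transport (hQsc : F.StronglyClosed Q) (hĥ : Mp F (Y ⊔ Q) h) {f₀ g₀ : Ω → Ω} (hg₀ : Mp F (R ⊔ Q) g₀) (hi : Img Y h R)
    (hg₀R : ∀ x ∈ Y, g₀ (h x) = h (f x)) (hfY : ∀ x ∈ Y, f x ∈ Y) (hg₀Q : ∀ q ∈ Q, g₀ q = q) :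
    ∃ g, Mp F (Y ⊔ Q) g ∧ (∀ x ∈ Y, g x = f x) ∧ ∀ q ∈ Q, g q = q := by
  have hĥQ : ∀ q ∈ Q, h q ∈ Q := fun q hq => sc_mp hQsc (hĥ.restrict le_sup_right) le_rfl hq
  have hĥm : ∀ x ∈ Y ⊔ Q, h x ∈ R ⊔ Q := by
    refine maps_sup hĥ (fun y hy => Subgroup.mem_sup_left (hi.1 y hy)) (fun q hq => Subgroup.mem_sup_right (hĥQ q hq))
  obtain ⟨W, hW⟩ := hĥ.exists_img
  obtain ⟨κ, hκ, hκ1, -, -⟩ := hĥ.inverse hW
  have hcomp : Mp F (Y ⊔ Q) (fun x => g₀ (h x)) := hĥ.comp hĥm hg₀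
  have hmW : ∀ x ∈ Y ⊔ Q, g₀ (h x) ∈ W := by
    refine maps_sup hcomp (fun y hy => ?_) (fun q hq => ?_)
    · rw [hg₀R y hy]
      exact hW.1 _ (Subgroup.mem_sup_left (hfY y hy))
    · rw [hg₀Q _ (hĥQ q hq)]
      exact hW.1 _ (Subgroup.mem_sup_right hq)
  refine ⟨fun x => κ (g₀ (h x)), hcomp.comp hmW hκ, fun x hx => ?_, fun q hq => ?_⟩
  · show κ (g₀ (h x)) = f x
    rw [hg₀R x hx, hκ1 _ (Subgroup.mem_sup_left (hfY x hx))]
  · show κ (g₀ (h q)) = q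
    rw [hg₀Q _ (hĥQ q hq), hκ1 _ (Subgroup.mem_sup_right hq)]

/-- Conjugation to a fully normalized subgroup, on the product with `Q`. -/
theorem exists_conj_fn (hS : IsPGroup p S) (hF : F.IsSaturated p) (hT : F.StronglyClosed T) (hQsc : F.StronglyClosed Q)
    (hYT : Y ≤ T) (hRY : Q ⊓ T ≤ Y) :
    ∃ (R : Subgroup Ω) (h : Ω → Ω), F.IsFullyNormalized R ∧ R ≤ T ∧ Q ⊓ T ≤ R ∧ Mp F (Y ⊔ Q) h ∧ Img Y h R ∧ F.IsConj Y R ∧
      (∀ z ∈ Q ⊓ T, ∃ z₀ ∈ Q ⊓ T, h z₀ = z) := by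
  have hTS : T ≤ S := hT.1
  have hYS : Y ≤ S := hYT.trans hTS
  have hQS : Q ≤ S := hQsc.1
  have hZ₀sc : F.StronglyClosed (Q ⊓ T) := Cfsg.Agent.Lib.FusionExt.Comp1.sc_inf hQsc hT
  obtain ⟨R, hYR, hfn⟩ := exists_isFullyNormalized F hYS
  have hA := isFullyAutomized_of_isFullyNormalized F hS hF hfn
  have hrec := isReceptive_of_isFullyNormalized F hS hF hfn
  obtain ⟨φ, hφ, -, hφr⟩ := exists_normalizer_map F hS hA hrec hYR
  have hm : Mp F (normalizerIn S Y) (extOf φ) := mp_of_hom hφ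
  have hcomm : ∀ y ∈ Q, ∀ x ∈ T, x⁻¹ * (y * x * y⁻¹) ∈ Q ⊓ T := by
    intro y hy x hx
    refine ⟨?_, T.mul_mem (T.inv_mem hx) (sc_conj_mem F hT (hQS hy) hx)⟩
    have h1 : x⁻¹ * y * x ∈ Q := by
      have := sc_conj_mem F hQsc (S.inv_mem (hTS hx)) hy
      rwa [inv_inv] at this
    have e : x⁻¹ * (y * x * y⁻¹) = (x⁻¹ * y * x) * y⁻¹ := by group
    rw [e]
    exact Q.mul_mem h1 (Q.inv_mem hy)
  haveI : Finite Y := finite_of_le hYS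
  have hQn : ∀ y ∈ Q, y ∈ Subgroup.normalizer (Y : Set Ω) := by
    intro y hy
    refine mem_normalizer_of_conj_le' (fun x hx => ?_)
    have e : y * x * y⁻¹ = x * (x⁻¹ * (y * x * y⁻¹)) := by group
    rw [e]
    exact Y.mul_mem hx (hRY (hcomm y hy x (hYT hx)))
  have hle : Y ⊔ Q ≤ normalizerIn S Y := sup_le (le_normalizerIn hYS) (fun y hy => ⟨hQS hy, hQn y hy⟩)
  have hYN : Y ≤ normalizerIn S Y := le_normalizerIn hYS
  have himg : Img Y (extOf φ) R := by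
    refine ⟨fun x hx => ?_, fun y hy => ?_⟩
    · rw [← hφr]
      exact ⟨⟨x, hYN hx⟩, hx, (extOf_of_mem φ (hYN hx)).symm⟩
    · rw [← hφr] at hy
      obtain ⟨x, hx, rfl⟩ := hy
      exact ⟨x, hx, extOf_coe φ x⟩
  have hmY := hm.restrict hYN
  have hRT : R ≤ T := by
    intro y hy
    obtain ⟨x, hx, rfl⟩ := himg.2 y hy
    exact sc_mp hT hmY hYT hx
  have hZ₀i : Img (Q ⊓ T) (extOf φ) (Q ⊓ T) :=
    LowPi.img_self (hmY.restrict hRY) (fun x hx => sc_mp hZ₀sc (hmY.restrict hRY) le_rfl hx)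
  refine ⟨R, extOf φ, hfn, hRT, ?_, hm.restrict hle, himg, hYR, hZ₀i.2⟩
  intro z hz
  obtain ⟨z₀, hz₀, rfl⟩ := hZ₀i.2 z hz
  exact himg.1 _ (hRY hz₀)

/-- **The main statement for subgroups all of whose conjugates are self-centralizing in `T`.** -/
theorem fs_all (hS : IsPGroup p S) (hK : K.IsNormalIn F p) (hQsc : F.StronglyClosed Q) :
    ∀ (d : ℕ) (Y : Subgroup Ω), Nat.card T - Nat.card Y = d → Y ≤ T → Q ⊓ T ≤ Y → (∀ Q', F.IsConj Y Q' → zz T Q' ≤ Q') →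
      ∀ f, Pp K p Y f → (∀ z ∈ Q ⊓ T, f z = z) → ∃ g, Mp F (Y ⊔ Q) g ∧ (∀ x ∈ Y, g x = f x) ∧ ∀ q ∈ Q, g q = q := by
  obtain ⟨⟨hKs, hF, hsub, hT, hInv, hFr⟩, hext⟩ := id hK
  have hSI : StrongInv F K := strong_of_inv hInv hFr
  have hTS : T ≤ S := hT.1
  haveI : Finite T := finite_of_le hTS
  intro d
  induction d using Nat.strong_induction_on with
  | _ d ih =>
  intro Y hd hYT hRY hc f hf hfz
  have hYS : Y ≤ S := hYT.trans hTS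
  haveI : Finite Y := finite_of_le hYS
  obtain ⟨R, h, hfn, hRT, hRZ, hĥ, himg, hYR, hZs⟩ := exists_conj_fn hS hF hT hQsc hYT hRY
  have hcR : ∀ Q', F.IsConj R Q' → zz T Q' ≤ Q' := fun Q' hQ' => hc Q' (isConj_trans F hYR hQ')
  have hcard : Nat.card R = Nat.card Y := (isConj_card_eq F hYR).symm
  obtain ⟨h₀, hh₀, hh₀e⟩ := pp_conj hSI hYT hf (hĥ.restrict le_sup_left) himg
  have hIH : ∀ Y' : Subgroup Ω, R < Y' → Y' ≤ T → ∀ f', Pp K p Y' f' → (∀ z ∈ Q ⊓ T, f' z = z) →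
      ∃ g, Mp F (Y' ⊔ Q) g ∧ (∀ x ∈ Y', g x = f' x) ∧ ∀ q ∈ Q, g q = q := by
    intro Y' hlt hY'T f' hf' hf'z
    have hc1 : Nat.card R < Nat.card Y' := by
      haveI : Finite Y' := finite_of_le (hY'T.trans hTS)
      refine lt_of_le_of_ne (Subgroup.card_le_of_le hlt.le) (fun e => hlt.ne ?_)
      exact Subgroup.eq_of_le_of_card_ge hlt.le e.ge
    have hc2 : Nat.card Y' ≤ Nat.card T := Subgroup.card_le_of_le hY'T
    exact ih _ (by omega) Y' rfl hY'T (hRZ.trans hlt.le) (fun Q' hQ' => hc_up hcR hlt.le hQ') f' hf' hf'z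
  have hh₀z : ∀ z ∈ Q ⊓ T, h₀ z = z := by
    intro z hz
    obtain ⟨z₀, hz₀, rfl⟩ := hZs z hz
    rw [hh₀e z₀ (hRY hz₀), hfz z₀ hz₀]
  obtain ⟨g₀, hg₀, hg₀e, hg₀q⟩ := fs_step hS hK hQsc hfn hRT hcR hRZ hIH hh₀ hh₀z
  refine fs_transport (f₀ := h₀) hQsc hĥ hg₀ himg (fun x hx => ?_) hf.2.1.1 hg₀q
  rw [hg₀e _ (himg.1 x hx), hh₀e x hx]

/-- **`p'`-automorphisms fixing `Q ∩ T` extend to maps fixing `Q`.** -/
theorem fs_any (hS : IsPGroup p S) (hK : K.IsNormalIn F p) (hQsc : F.StronglyClosed Q)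
    (hPT : P ≤ T) (hPZ : Q ⊓ T ≤ P) (hf : Pp K p P f) (hfz : ∀ z ∈ Q ⊓ T, f z = z) :
    ∃ g, Mp F (P ⊔ Q) g ∧ (∀ x ∈ P, g x = f x) ∧ ∀ q ∈ Q, g q = q := by
  obtain ⟨⟨hKs, hF, hsub, hT, hInv, hFr⟩, hext⟩ := id hK
  have hSI : StrongInv F K := strong_of_inv hInv hFr
  have hTS : T ≤ S := hT.1
  have hTp : IsPGroup p T := hS.to_le hTS
  haveI : Finite T := finite_of_le hTS
  obtain ⟨R, h, hfn, hRT, hRZ, hĥ, himg, hYR, hZs⟩ := exists_conj_fn hS hF hT hQsc hPT hPZ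
  obtain ⟨h₀, hh₀, hh₀e⟩ := pp_conj hSI hPT hf (hĥ.restrict le_sup_left) himg
  have hh₀z : ∀ z ∈ Q ⊓ T, h₀ z = z := by
    intro z hz
    obtain ⟨z₀, hz₀, rfl⟩ := hZs z hz
    rw [hh₀e z₀ (hPZ hz₀), hfz z₀ hz₀]
  have hfnK : K.IsFullyNormalized R := fn_sub hS hF hsub hT hfn hRT
  have hrK := isReceptive_of_isFullyNormalized (F := K) hTp hKs hfnK
  obtain ⟨b, hb, hbe⟩ := ext_cent hrK hh₀.1 hh₀.2.1
  have hRU : R ≤ R ⊔ centralizerIn T R := le_sup_left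
  have hCU : centralizerIn T R ≤ R ⊔ centralizerIn T R := le_sup_right
  have hUT : R ⊔ centralizerIn T R ≤ T := sup_le hRT inf_le_left
  have hbU : ∀ x ∈ R ⊔ centralizerIn T R, b x ∈ R ⊔ centralizerIn T R := by
    refine maps_sup hb (fun a ha => ?_) (fun c hc => ?_)
    · rw [hbe a ha]
      exact hRU (hh₀.2.1.1 a ha)
    · refine hCU (map_cent hb (fun y hy => ?_) hc)
      obtain ⟨x, hx, e⟩ := hh₀.2.1.2 y hy
      exact ⟨x, hx, by rw [hbe x hx, e]⟩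
  have hbi := LowPi.img_self hb hbU
  obtain ⟨f', m, hf', hf'R, hf'U⟩ := pp_extend' hUT hb hbi hRU hh₀ hbe
  obtain ⟨g₁, hg₁, hg₁e, hg₁q⟩ := fs_all hS hK hQsc _ (R ⊔ centralizerIn T R) rfl hUT (hRZ.trans hRU)
    (fun Q' hQ' => hc_plus hS hF hT hfn hRT hQ') f' hf' (fun z hz => by rw [hf'R z (hRZ hz), hh₀z z hz])
  have hle : R ⊔ Q ≤ (R ⊔ centralizerIn T R) ⊔ Q := sup_le_sup_right hRU Q
  refine fs_transport (f₀ := h₀) hQsc hĥ (hg₁.restrict hle) himg (fun x hx => ?_) hf.2.1.1 hg₁q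
  have hy := himg.1 x hx
  rw [hg₁e _ (hRU hy), hf'R _ hy, hh₀e x hx]

end main

end Cfsg.Agent.Lib.FusionExt.FixS
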