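import Cfsg.Agent.Lib.FusionExt.QS1
import Cfsg.Agent.Lib.FusionExt.FixS
import Cfsg.Agent.Lib.FusionExt.CentE

/-!
# Images of normal subsystems in a quotient by a central subgroup (helper92)
-/

set_option autoImplicit false
set_option linter.unusedSectionVars false

namespace Cfsg.Agent.Lib.FusionExt.CenQ

open Cfsg Cfsg.FusionSystem Cfsg.Agent.Lib.Fusion.Basic Cfsg.Agent.Lib.Fusion.GroupSystem
open Cfsg.Agent.Lib.FusionExt.MapApi Cfsg.Agent.Lib.FusionExt.Basic Cfsg.Agent.Lib.FusionExt.Normal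
open Cfsg.Agent.Lib.FusionExt.SatCrit1 Cfsg.Agent.Lib.FusionExt.PowerSys Cfsg.Agent.Lib.FusionExt.PowerGen
open Cfsg.Agent.Lib.FusionExt.PrimeRes1 Cfsg.Agent.Lib.Fusion.Saturation Cfsg.Agent.Lib.Fusion.Saturation2
open Cfsg.Agent.Lib.FusionExt.Invariant Cfsg.Agent.Lib.FusionExt.PowerE
open Cfsg.Agent.Lib.FusionExt.LowPi Cfsg.Agent.Lib.FusionExt.CentSys
open Cfsg.Agent.Lib.FusionExt.Meet1 Cfsg.Agent.Lib.FusionExt.FixS

universe u v

section central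

variable {Ω : Type u} [Group Ω] {S Z P N W : Subgroup Ω} {F : FusionSystem S} {f : Ω → Ω}

theorem ext_central (hZ : F.IsCentral Z) (hf : Mp F P f) :
    ∃ g, Mp F (P ⊔ Z) g ∧ (∀ x ∈ P, g x = f x) ∧ ∀ z ∈ Z, g z = z := by
  obtain ⟨φ, hφ, e⟩ := hf
  obtain ⟨ψ, hψ, h1, h2⟩ := hZ.2 P φ hφ
  refine ⟨extOf ψ, mp_of_hom hψ, fun x hx => ?_, fun z hz => ?_⟩
  · rw [extOf_of_mem ψ (Subgroup.mem_sup_left hx), ← e ⟨x, hx⟩]
    exact h1 ⟨x, hx⟩
  · rw [extOf_of_mem ψ (Subgroup.mem_sup_right hz)]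
    exact h2 ⟨z, hz⟩

theorem fix_central (hZ : F.IsCentral Z) (hf : Mp F P f) {z : Ω} (hzP : z ∈ P) (hzZ : z ∈ Z) : f z = z := by
  obtain ⟨g, -, h1, h2⟩ := ext_central hZ hf
  rw [← h1 z hzP, h2 z hzZ]

theorem sc_central (hZ : F.IsCentral Z) : F.StronglyClosed Z := by
  refine ⟨hZ.1, fun R hR φ hφ x => ?_⟩
  have h1 := fix_central hZ (mp_of_hom hφ) x.2 (hR x.2)
  rw [extOf_coe] at h1
  rw [h1]
  exact hR x.2

theorem comm_central (hZ : F.IsCentral Z) {u z : Ω} (hu : u ∈ S) (hz : z ∈ Z) : u * z * u⁻¹ = z :=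
  fix_central hZ (Mp.conj le_rfl hu) (hZ.1 hz) hz

/-- Iterates of a map move an element by elements of an invariant subgroup. -/
theorem iter_mod (hf : Mp F W f) (hfW : ∀ x ∈ W, f x ∈ W) (hNW : N ≤ W) (hfN : ∀ x ∈ N, f x ∈ N) {x : Ω} (hx : x ∈ W)
    (h : x⁻¹ * f x ∈ N) (n : ℕ) : x⁻¹ * f^[n] x ∈ N := by
  induction n with
  | zero => simp [N.one_mem]
  | succ n ih =>
    rw [Function.iterate_succ_apply']
    have e : f^[n] x = x * (x⁻¹ * f^[n] x) := by group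
    rw [e, hf.map_mul hx (hNW ih), ← mul_assoc]
    exact N.mul_mem h (hfN _ ih)

end central

section stb

variable {Ω : Type u} [Group Ω] {T Z : Subgroup Ω} {p : ℕ} [Fact p.Prime]

/-- Automorphisms of `T` trivial modulo `Z` and on `Z ⊓ T`. -/
def stb (T Z : Subgroup Ω) : Submonoid (MulAut T) where
  carrier := {b | (∀ t : T, (t : Ω)⁻¹ * (b t : T) ∈ Z) ∧ ∀ t : T, (t : Ω) ∈ Z → ((b t : T) : Ω) = t}
  one_mem' := ⟨fun t => by simp [Z.one_mem], fun t _ => rfl⟩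
  mul_mem' := by
    rintro b₁ b₂ ⟨h1, h2⟩ ⟨h3, h4⟩
    refine ⟨fun t => ?_, fun t ht => ?_⟩
    · set τ : T := t⁻¹ * b₂ t with hτ
      have hτZ : (τ : Ω) ∈ Z := by
        have := h3 t
        simpa [hτ] using this
      have e1 : b₂ t = t * τ := by rw [hτ]; group
      have e2 : ((b₁ * b₂) t : T) = b₁ t * b₁ τ := by
        rw [MulAut.mul_apply, e1, map_mul]
      have e3 : ((b₁ τ : T) : Ω) = τ := h2 τ hτZ
      rw [e2, Subgroup.coe_mul, e3, ← mul_assoc]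
      exact Z.mul_mem (h1 t) hτZ
    · have e : ((b₂ t : T) : Ω) = t := h4 t ht
      have e' : b₂ t = t := Subtype.ext e
      rw [MulAut.mul_apply, e']
      exact h2 t ht

theorem mem_stb {b : MulAut T} : b ∈ stb T Z ↔ (∀ t : T, (t : Ω)⁻¹ * (b t : T) ∈ Z) ∧ ∀ t : T, (t : Ω) ∈ Z → ((b t : T) : Ω) = t := Iff.rfl

/-- Elements of `stb` have `p`-power order. -/
theorem stb_pow [Finite T] (hT : IsPGroup p T) {b : MulAut T} (hb : b ∈ stb T Z) : ∃ k : ℕ, b ^ (p ^ k) = 1 := by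
  obtain ⟨e, he⟩ := IsPGroup.iff_card.1 hT
  refine ⟨e, ?_⟩
  have key : ∀ (n : ℕ) (t : T), (b ^ n) t = t * (t⁻¹ * b t) ^ n := by
    intro n t
    induction n with
    | zero => simp
    | succ n ih =>
      have hτZ : (((t⁻¹ * b t : T)) : Ω) ∈ Z := by
        have := hb.1 t
        simpa using this
      have h1 : ∀ k : ℕ, b ((t⁻¹ * b t) ^ k) = (t⁻¹ * b t) ^ k := by
        intro k
        refine Subtype.ext (hb.2 _ ?_)
        rw [Subgroup.coe_pow]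
        exact Z.pow_mem hτZ k
      rw [pow_succ', MulAut.mul_apply, ih, map_mul, h1, pow_succ', ← mul_assoc]
      congr 1
      group
  ext t
  have h := key (p ^ e) t
  rw [h, ← he]
  have : (t⁻¹ * b t) ^ Nat.card T = 1 := pow_card_eq_one'
  rw [this]
  simp

theorem stb_conj {b d : MulAut T} (hb : b ∈ stb T Z) (hd : ∀ t : T, (t : Ω) ∈ Z → ((d t : T) : Ω) = t) : d * b * d⁻¹ ∈ stb T Z := by
  have hd' : ∀ t : T, (t : Ω) ∈ Z → d t = t := fun t ht => Subtype.ext (hd t ht)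
  have hdi : ∀ t : T, (t : Ω) ∈ Z → d⁻¹ t = t := by
    intro t ht
    calc d⁻¹ t = d⁻¹ (d t) := by rw [hd' t ht]
      _ = t := by simp
  refine ⟨fun t => ?_, fun t ht => ?_⟩
  · set s : T := d⁻¹ t with hs
    have ht : t = d s := by rw [hs]; simp
    set τ : T := s⁻¹ * b s with hτ
    have hτZ : (τ : Ω) ∈ Z := by
      have := hb.1 s
      simpa [hτ] using this
    have e1 : b s = s * τ := by rw [hτ]; group
    have e2 : (d * b * d⁻¹) t = t * τ := by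
      rw [MulAut.mul_apply, MulAut.mul_apply, ← hs, e1, map_mul, hd' τ hτZ, ← ht]
    rw [e2, Subgroup.coe_mul, inv_mul_cancel_left]
    exact hτZ
  · rw [MulAut.mul_apply, MulAut.mul_apply, hdi t ht, Subtype.ext (hb.2 t ht), hd' t ht]

end stb

section pstep

variable {Ω : Type u} [Group Ω] {U T Z Y₁ : Subgroup Ω} {C : FusionSystem U} {X : FusionSystem T} {p : ℕ} [Fact p.Prime] [Finite U]

/-- The crucial commutator: for a `p`-local automorphism `a` and `y` acting trivially mod `Z`,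
`[a, c_y]` is inner. -/
theorem comm_inner (hU : IsPGroup p U) (hN : X.IsNormalIn C p) (hZ : C.IsCentral Z) {y : Ω} (hyU : y ∈ U)
    (hy : ∀ t ∈ T, t⁻¹ * (y * t * y⁻¹) ∈ Z) {a : MulAut T} (ha : a ∈ X.autGroup T) :
    ∃ t₀ ∈ T, ∀ w ∈ T, autFun a (y * w * y⁻¹) = (t₀ * y) * autFun a w * (t₀ * y)⁻¹ := by
  obtain ⟨⟨hXs, hCs, hsub, hT, hInv, hFr⟩, hext⟩ := id hN
  have hSI : StrongInv C X := strong_of_inv hInv hFr
  have hTU : T ≤ U := hT.1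
  haveI : Finite T := finite_of_le hTU
  have hTp : IsPGroup p T := hU.to_le hTU
  haveI : Finite (MulAut T) := Cfsg.Agent.Lib.Fusion.Basic.finite_mulAut_of_finite (A := T)
  have hyN : y ∈ Subgroup.normalizer (T : Set Ω) := sc_le_normalizer C hT hyU
  let cy : MulAut T := normAct T hyN
  have hcyC : cy ∈ C.autGroup T := autInducedBy_le_autGroup C hTU (normAct_mem_autInducedBy U T hyN hyU)
  let K : Subgroup (MulAut T) := finSub (stb T Z)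
  have hfixd : ∀ d ∈ X.autGroup T, ∀ t : T, (t : Ω) ∈ Z → ((d t : T) : Ω) = t := by
    intro d hd t ht
    have h1 := fix_central hZ (mp_sub hsub (mp_autFun le_rfl hd)) t.2 ht
    rwa [autFun_coe] at h1
  have hcy : cy ∈ K := by
    refine ⟨fun t => hy t t.2, fun t ht => ?_⟩
    exact comm_central hZ hyU ht
  -- the conjugate of `a⁻¹` by `c_y`
  have hc2 : cy * a⁻¹ * cy⁻¹ ∈ X.autGroup T := by
    refine strong_conj_aut hSI (P := T) (Q := T) le_rfl (ψ := autHom cy) (autHom_mem C hTU hcyC) ?_ (Subgroup.inv_mem _ ha) _ ?_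
    · ext x
      constructor
      · rintro ⟨u, rfl⟩
        exact (cy u).2
      · intro hx
        exact ⟨cy⁻¹ ⟨x, hx⟩, by simp [autHom]⟩
    · intro x h
      simp [autHom]
  set γ : MulAut T := a * cy * a⁻¹ * cy⁻¹ with hγ
  have hγX : γ ∈ X.autGroup T := by
    have e : γ = a * (cy * a⁻¹ * cy⁻¹) := by rw [hγ]; group
    rw [e]
    exact Subgroup.mul_mem _ ha hc2
  have hγK : γ ∈ K := by
    have h1 : a * cy * a⁻¹ ∈ K := stb_conj hcy (hfixd a ha)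
    exact Subgroup.mul_mem _ h1 (Subgroup.inv_mem _ hcy)
  have hW : K ⊓ X.autGroup T ≤ opAut X p T := by
    refine le_opAut inf_le_right ?_ ?_
    · intro b
      obtain ⟨k, hk⟩ := stb_pow hTp (show (b : MulAut T) ∈ stb T Z from b.2.1)
      exact ⟨k, Subtype.ext hk⟩
    · rintro d hd w ⟨hw1, hw2⟩
      exact ⟨stb_conj hw1 (hfixd d hd), Subgroup.mul_mem _ (Subgroup.mul_mem _ hd hw2) (Subgroup.inv_mem _ hd)⟩
  have hfn : X.IsFullyNormalized T := isFullyNormalized_top X hTp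
  have hFA := isFullyAutomized_of_isFullyNormalized X hTp hXs hfn
  have hin := opAut_le_autInducedBy hFA (hW ⟨hγK, hγX⟩)
  obtain ⟨t₀, ht₀, ht₀e⟩ := (mem_autInducedBy_iff T T γ).1 hin
  refine ⟨t₀, ht₀, fun w hw => ?_⟩
  have hyw : y * w * y⁻¹ ∈ T := sc_conj_mem C hT hyU hw
  rw [autFun_of_mem a hyw, autFun_of_mem a hw]
  have e1 : a * cy = γ * cy * a := by rw [hγ]; group
  have e2 := congrArg (fun b : MulAut T => ((b ⟨w, hw⟩ : T) : Ω)) e1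
  simp only [MulAut.mul_apply] at e2
  have e3 : cy ⟨w, hw⟩ = ⟨y * w * y⁻¹, hyw⟩ := rfl
  rw [e3] at e2
  rw [e2, ht₀e, normAct_apply]
  group

theorem pp_good (hU : IsPGroup p U) (hN : X.IsNormalIn C p) (hZ : C.IsCentral Z)
    (hY₁U : Y₁ ≤ U) (hY₁ : ∀ y ∈ Y₁, ∀ t ∈ T, t⁻¹ * (y * t * y⁻¹) ∈ Z) (hCY : centralizerIn U T ≤ Y₁)
    {a : MulAut T} (ha : a ∈ X.autGroup T) (hq : (orderOf a).Coprime p) :
    ∃ β, Mp C (T ⊔ Y₁) β ∧ (∀ t ∈ T, β t = autFun a t) ∧ ∀ y ∈ Y₁, y⁻¹ * β y ∈ T := by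
  obtain ⟨⟨hXs, hCs, hsub, hT, hInv, hFr⟩, hext⟩ := id hN
  have hTU : T ≤ U := hT.1
  haveI : Finite T := finite_of_le hTU
  have hTp : IsPGroup p T := hU.to_le hTU
  have hfn : C.IsFullyNormalized T := Cfsg.Agent.Lib.FusionExt.PPowerNormal.isFullyNormalized_of_stronglyClosed hT
  have hcz : zz T T ≤ T := inf_le_left
  obtain ⟨β₀, hβ₀, hβ₁, hβ₂⟩ := hext a ha
  have hVU : T ⊔ centralizerIn U T ≤ U := sup_le hTU inf_le_left
  have hVY : T ⊔ centralizerIn U T ≤ T ⊔ Y₁ := sup_le_sup_left hCY T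
  let h := autFun β₀
  have hh : Mp C (T ⊔ centralizerIn U T) h := mp_autFun hVU hβ₀
  have hhT : ∀ x ∈ T, h x = autFun a x := fun x hx => by
    show autFun β₀ x = _
    rw [autFun_of_mem β₀ (Subgroup.mem_sup_left hx), autFun_of_mem a hx]
    exact hβ₁ ⟨x, hx⟩
  have hiT : Img T h T := (img_autFun a).congr (fun x hx => (hhT x hx).symm)
  have hhC : ∀ c ∈ centralizerIn U T, c⁻¹ * h c ∈ zz T T := fun c hc => by
    show c⁻¹ * autFun β₀ c ∈ _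
    rw [autFun_of_mem β₀ (Subgroup.mem_sup_right hc)]
    exact hβ₂ ⟨c, Subgroup.mem_sup_right hc⟩ hc
  have hrel : ∀ y ∈ Y₁, ∃ t₀ ∈ T, ∀ w ∈ T, h (y * w * y⁻¹) = (t₀ * y) * h w * (t₀ * y)⁻¹ := by
    intro y hy
    obtain ⟨t₀, ht₀, e⟩ := comm_inner hU hN hZ (hY₁U hy) (hY₁ y hy) ha
    refine ⟨t₀, ht₀, fun w hw => ?_⟩
    have hyw := sc_conj_mem C hT (hY₁U hy) hw
    rw [hhT _ hyw, hhT _ hw]
    exact e w hw
  have hnorm : ∀ y ∈ U, y ∈ normalizerIn U T := fun y hy => ⟨hy, sc_le_normalizer C hT hy⟩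
  have hex : Y₁ ≤ exS U T h := by
    intro y hy
    obtain ⟨t₀, ht₀, e⟩ := hrel y hy
    have hyU := hY₁U hy
    have hy' : t₀ * y ∈ U := U.mul_mem (hTU ht₀) hyU
    have hst := hst_of_stable hh hiT le_rfl hcz hT hhC (hnorm y hyU) (hnorm _ hy') (fun e' he' => by
      have e2 : y * (t₀ * y)⁻¹ = t₀⁻¹ := by group
      rw [e2]
      exact conj_stable hT (t := t₀⁻¹) ⟨T.inv_mem ht₀, Subgroup.le_normalizer (T.inv_mem ht₀)⟩ e' he')
    obtain ⟨c₀, hc₀, hc₀e⟩ := ext_step hU hCs hT hfn le_rfl hcz hh hiT (hnorm y hyU) (hnorm _ hy') e hst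
    exact mem_exS.2 ⟨hnorm y hyU, c₀ * (t₀ * y), hnorm _ (U.mul_mem hc₀.1 hy'), hc₀e⟩
  have hYex : T ⊔ Y₁ ≤ exS U T h := sup_le ((le_sup_left).trans (wt_le_exS hTU hh hiT)) hex
  obtain ⟨ĥ, hĥ, hĥe, -⟩ := ext_over hU hCs hfn hh hiT hVY hYex
  have hT_Y : T ≤ T ⊔ Y₁ := le_sup_left
  have hY₁_Y : Y₁ ≤ T ⊔ Y₁ := le_sup_right
  have hĥT : ∀ x ∈ T, ĥ x = autFun a x := fun x hx => by rw [hĥe x (Subgroup.mem_sup_left hx), hhT x hx]
  have hĥTm : ∀ x ∈ T, ĥ x ∈ T := fun x hx => by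
    rw [hĥT x hx]
    exact (img_autFun a).1 x hx
  have hform : ∀ y ∈ Y₁, y⁻¹ * ĥ y ∈ T ⊔ centralizerIn U T ∧ ĥ y ∈ T ⊔ Y₁ := by
    intro y hy
    obtain ⟨t₀, ht₀, e⟩ := hrel y hy
    have hyU := hY₁U hy
    have hcU : (t₀ * y)⁻¹ * ĥ y ∈ U := U.mul_mem (U.inv_mem (U.mul_mem (hTU ht₀) hyU)) (hĥ.mem_S (hY₁_Y hy))
    have hc : (t₀ * y)⁻¹ * ĥ y ∈ centralizerIn U T := by
      refine mem_cent.2 ⟨hcU, fun w hw => ?_⟩
      obtain ⟨w', hw', rfl⟩ := (img_autFun a).2 w hw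
      have hyw := sc_conj_mem C hT hyU hw'
      have h1 : ĥ (y * w' * y⁻¹) = ĥ y * autFun a w' * (ĥ y)⁻¹ := by
        rw [hĥ.map_conj (hY₁_Y hy) (hT_Y hw'), hĥT w' hw']
      have h2 := e w' hw'
      rw [← hĥe _ (Subgroup.mem_sup_left hyw), h1, hhT w' hw'] at h2
      generalize autFun a w' = A at h2 ⊢
      have h3 : ((t₀ * y)⁻¹ * ĥ y) * A * ((t₀ * y)⁻¹ * ĥ y)⁻¹ = A := by
        calc ((t₀ * y)⁻¹ * ĥ y) * A * ((t₀ * y)⁻¹ * ĥ y)⁻¹ = (t₀ * y)⁻¹ * (ĥ y * A * (ĥ y)⁻¹) * (t₀ * y) := by group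
          _ = (t₀ * y)⁻¹ * ((t₀ * y) * A * (t₀ * y)⁻¹) * (t₀ * y) := by rw [h2]
          _ = A := by group
      calc A * ((t₀ * y)⁻¹ * ĥ y) = (((t₀ * y)⁻¹ * ĥ y) * A * ((t₀ * y)⁻¹ * ĥ y)⁻¹) * ((t₀ * y)⁻¹ * ĥ y) := by rw [h3]
        _ = ((t₀ * y)⁻¹ * ĥ y) * A := by group
    have e1 : ĥ y = t₀ * y * ((t₀ * y)⁻¹ * ĥ y) := by group
    constructor
    · have e2 : y⁻¹ * ĥ y = (y⁻¹ * t₀ * y⁻¹⁻¹) * ((t₀ * y)⁻¹ * ĥ y) := by group
      rw [e2]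
      exact Subgroup.mul_mem _ (Subgroup.mem_sup_left (sc_conj_mem C hT (U.inv_mem hyU) ht₀)) (Subgroup.mem_sup_right hc)
    · rw [e1]
      exact Subgroup.mul_mem _ (Subgroup.mul_mem _ (hT_Y ht₀) (hY₁_Y hy)) (hY₁_Y (hCY hc))
  have hmaps : ∀ x ∈ T ⊔ Y₁, ĥ x ∈ T ⊔ Y₁ := maps_sup hĥ (fun x hx => hT_Y (hĥTm x hx)) (fun y hy => (hform y hy).2)
  have hi := LowPi.img_self hĥ hmaps
  have hpp : Pp C p T (autFun a) := by
    have h0 := Pp.of_aut le_rfl ha hq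
    exact ⟨mp_sub hsub h0.1, h0.2⟩
  obtain ⟨f', m, hf', hf'T, hf'm⟩ := pp_extend' (sup_le hTU hY₁U) hĥ hi le_sup_left hpp hĥT
  refine ⟨f', hf'.1, hf'T, fun y hy => ?_⟩
  obtain ⟨-, -, m', hm', hper⟩ := id hf'
  have hVm : ∀ x ∈ T ⊔ centralizerIn U T, ĥ x ∈ T ⊔ centralizerIn U T := by
    intro x hx
    rw [hĥe x hx]
    exact (wt_maps hh hiT).1 x hx
  have hcoS : ∀ z ∈ U, (orderOf z).Coprime m' := by
    intro z hz
    obtain ⟨j, hj⟩ := hU ⟨z, hz⟩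
    have h1 : z ^ p ^ j = 1 := congrArg Subtype.val hj
    have h2 := orderOf_dvd_of_pow_eq_one h1
    refine Nat.Coprime.coprime_dvd_left h2 ?_
    exact (Nat.Coprime.pow_right j hm').symm
  have hfc : y⁻¹ * f' y ∈ T ⊔ centralizerIn U T := by
    rw [hf'm y (hY₁_Y hy)]
    exact iter_mod hĥ hmaps hVY hVm (hY₁_Y hy) (hform y hy).1 m
  have hV1 : ∀ v ∈ T ⊔ centralizerIn U T, v⁻¹ * ĥ v ∈ T := by
    intro v hv
    rw [sup_comm] at hv
    obtain ⟨c, hc, t, ht, rfl⟩ := exists_mul_of_mem_sup' (A := centralizerIn U T) (B := T) ((cent_le_norm).trans inf_le_right) hv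
    have hcY : c ∈ T ⊔ Y₁ := hY₁_Y (hCY hc)
    rw [hĥ.map_mul hcY (hT_Y ht)]
    have e : (c * t)⁻¹ * (ĥ c * ĥ t) = t⁻¹ * (c⁻¹ * ĥ c) * ĥ t := by group
    rw [e, hĥe c (Subgroup.mem_sup_right hc)]
    exact T.mul_mem (T.mul_mem (T.inv_mem ht) (hcz (hhC c hc))) (hĥTm t ht)
  have hV2 : ∀ v ∈ T ⊔ centralizerIn U T, v⁻¹ * f' v ∈ T := fun v hv => by
    rw [hf'm v (hVY hv)]
    exact iter_mod hĥ hmaps le_sup_left hĥTm (hVY hv) (hV1 v hv) m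
  have hTm' : ∀ u ∈ T, f' u ∈ T := fun u hu => by
    rw [hf'T u hu]
    exact (img_autFun a).1 u hu
  exact coprime_step' hf'.1 (hY₁_Y hy) hVY le_sup_left hfc hV2 hTm'
    (fun v hv u hu => sc_conj_mem C hT (hVU hv) hu) (hper y (hY₁_Y hy)) (hcoS _ (U.mul_mem (U.inv_mem (hY₁U hy)) (hf'.1.mem_S (hY₁_Y hy))))

theorem good_all (hU : IsPGroup p U) (hN : X.IsNormalIn C p) (hZ : C.IsCentral Z)
    (hY₁U : Y₁ ≤ U) (hY₁ : ∀ y ∈ Y₁, ∀ t ∈ T, t⁻¹ * (y * t * y⁻¹) ∈ Z) (hCY : centralizerIn U T ≤ Y₁)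
    {a : MulAut T} (ha : a ∈ X.autGroup T) :
    ∃ β, Mp C (T ⊔ Y₁) β ∧ (∀ t ∈ T, β t = autFun a t) ∧ ∀ y ∈ Y₁, y⁻¹ * β y ∈ T := by
  obtain ⟨⟨hXs, hCs, hsub, hT, hInv, hFr⟩, hext⟩ := id hN
  have hTU : T ≤ U := hT.1
  haveI : Finite T := finite_of_le hTU
  have hTp : IsPGroup p T := hU.to_le hTU
  haveI : Finite (MulAut T) := Cfsg.Agent.Lib.Fusion.Basic.finite_mulAut_of_finite (A := T)
  have hYU : T ⊔ Y₁ ≤ U := sup_le hTU hY₁U
  let s : Submonoid (MulAut T) :=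
    { carrier := {b | b ∈ X.autGroup T ∧ ∃ β, Mp C (T ⊔ Y₁) β ∧ (∀ t ∈ T, β t = autFun b t) ∧ ∀ y ∈ Y₁, y⁻¹ * β y ∈ T}
      one_mem' := ⟨Subgroup.one_mem _, fun x => x, Mp.refl hYU, fun t _ => (autFun_one_apply t).symm, fun y _ => by simp [T.one_mem]⟩
      mul_mem' := by
        rintro b₁ b₂ ⟨h1, β₁, hβ₁, hβ₁T, hβ₁Y⟩ ⟨h2, β₂, hβ₂, hβ₂T, hβ₂Y⟩
        have hb₁T : ∀ t ∈ T, β₁ t ∈ T := fun t ht => by
          rw [hβ₁T t ht]
          exact (img_autFun b₁).1 t ht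
        have hb₂T : ∀ t ∈ T, β₂ t ∈ T := fun t ht => by
          rw [hβ₂T t ht]
          exact (img_autFun b₂).1 t ht
        have hm : ∀ x ∈ T ⊔ Y₁, β₂ x ∈ T ⊔ Y₁ := maps_sup hβ₂ (fun x hx => Subgroup.mem_sup_left (hb₂T x hx)) (fun y hy => by
          have e : β₂ y = y * (y⁻¹ * β₂ y) := by group
          rw [e]
          exact Subgroup.mul_mem _ (Subgroup.mem_sup_right hy) (Subgroup.mem_sup_left (hβ₂Y y hy)))
        refine ⟨Subgroup.mul_mem _ h1 h2, fun x => β₁ (β₂ x), hβ₂.comp hm hβ₁, fun t ht => ?_, fun y hy => ?_⟩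
        · show β₁ (β₂ t) = _
          rw [autFun_mul_apply, hβ₂T t ht, hβ₁T _ ((img_autFun b₂).1 t ht)]
        · show y⁻¹ * β₁ (β₂ y) ∈ T
          have e : β₂ y = y * (y⁻¹ * β₂ y) := by group
          rw [e, hβ₁.map_mul (Subgroup.mem_sup_right hy) (Subgroup.mem_sup_left (hβ₂Y y hy)), ← mul_assoc]
          exact T.mul_mem (hβ₁Y y hy) (hb₁T _ (hβ₂Y y hy)) }
  let K : Subgroup (MulAut T) := finSub s
  have hfn : X.IsFullyNormalized T := isFullyNormalized_top X hTp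
  have hA : IsSylowIn p (autInducedBy T T) (X.autGroup T) := (isFullyAutomized_of_isFullyNormalized X hTp hXs hfn).2
  have hKH : K ≤ X.autGroup T := fun b hb => hb.1
  have hAK : autInducedBy T T ≤ K := by
    intro b hb
    obtain ⟨t, ht, e⟩ := (mem_autInducedBy_iff T T b).1 hb
    refine ⟨autInducedBy_le_autGroup X le_rfl hb, fun x => t * x * t⁻¹, Mp.conj hYU (hTU ht), fun x hx => ?_, fun y hy => ?_⟩
    · rw [autFun_of_mem b hx]
      exact (e ⟨x, hx⟩).symm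
    · have e1 : y⁻¹ * (t * y * t⁻¹) = (y⁻¹ * t * y⁻¹⁻¹) * t⁻¹ := by group
      rw [e1]
      exact T.mul_mem (sc_conj_mem C hT (U.inv_mem (hY₁U hy)) ht) (T.inv_mem ht)
  have hK : K = X.autGroup T := Cfsg.Agent.Lib.FusionExt.CentE.eq_of_sylow_pprime hA hAK hKH (fun b hb ⟨q, hq, hqe⟩ =>
    ⟨hb, pp_good hU hN hZ hY₁U hY₁ hCY hb (Nat.Coprime.coprime_dvd_left (orderOf_dvd_of_pow_eq_one hqe) hq)⟩)
  have : a ∈ K := by
    rw [hK]
    exact ha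
  exact this.2

end pstep

section img

open Cfsg.Agent.Lib.FusionExt.Factor Cfsg.Agent.Lib.FusionExt.FactorExt Cfsg.Agent.Lib.FusionExt.FactorSat
open Cfsg.Agent.Lib.FusionExt.LiftA Cfsg.Agent.Lib.FusionExt.Iso4

variable {Ω : Type u} [Group Ω] {Ω' : Type v} [Group Ω'] {U T Z : Subgroup Ω} {U' T' : Subgroup Ω'}
  {C : FusionSystem U} {X : FusionSystem T} {C' : FusionSystem U'} {X' : FusionSystem T'}
  {θ : U →* Ω'} {θ₀ : T →* Ω'} {p : ℕ} [Fact p.Prime]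

/-- **The image of a normal subsystem in the quotient by a central subgroup is normal.** -/
theorem image_central [Finite U] (hU : IsPGroup p U) (hN : X.IsNormalIn C p) (hZ : C.IsCentral Z)
    (hC' : C.IsFactorSystem Z θ C') (hX' : X.IsFactorSystem (Z ⊓ T) θ₀ X') (hθ₀ : ∀ x ∈ T, tot θ₀ x = tot θ x) :
    X'.IsNormalIn C' p := by
  obtain ⟨⟨hXs, hCs, hsub, hT, hInv, hFr⟩, hext⟩ := id hN
  have hTU : T ≤ U := hT.1
  haveI : Finite T := finite_of_le hTU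
  have hTp : IsPGroup p T := hU.to_le hTU
  have hZU : Z ≤ U := hZ.1
  have hZsc : C.StronglyClosed Z := sc_central hZ
  have hKsc : X.StronglyClosed (Z ⊓ T) := by
    refine ⟨inf_le_right, fun R hR φ hφ x => ?_⟩
    have h1 := fix_central hZ (mp_of_hom (hsub R hφ)) x.2 (hR x.2).1
    rw [extOf_coe] at h1
    rw [h1]
    exact hR x.2
  have hrU : θ.range = U' := hC'.2.2.1
  have hrT : θ₀.range = T' := hX'.2.2.1
  have hθU : ∀ s : U, θ s = 1 ↔ (s : Ω) ∈ Z := hC'.2.1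
  have hθT : ∀ s : T, θ₀ s = 1 ↔ (s : Ω) ∈ Z ⊓ T := hX'.2.1
  haveI : Finite U' := Cfsg.Agent.Lib.FusionExt.Solvable.range_finite hrU
  haveI : Finite T' := Cfsg.Agent.Lib.FusionExt.Solvable.range_finite hrT
  have hU'p : IsPGroup p U' := Cfsg.Agent.Lib.FusionExt.Solvable.range_isPGroup hU hrU
  have hT'p : IsPGroup p T' := Cfsg.Agent.Lib.FusionExt.Solvable.range_isPGroup hTp hrT
  have hC's : C'.IsSaturated p := image_isSaturated θ C C' hU hCs (isSurjectiveMorphism_of_isFactorSystem C θ hU hCs hZsc hC')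
  have hX's : X'.IsSaturated p := image_isSaturated θ₀ X X' hTp hXs (isSurjectiveMorphism_of_isFactorSystem X θ₀ hTp hXs hKsc hX')
  have htU : ∀ y ∈ U, tot θ y ∈ U' := by
    intro y hy
    rw [← hrU, tot_of_mem θ hy]
    exact ⟨_, rfl⟩
  have htT : ∀ y ∈ T, tot θ y ∈ T' := by
    intro y hy
    rw [← hθ₀ y hy, ← hrT, tot_of_mem θ₀ hy]
    exact ⟨_, rfl⟩
  have hsU : ∀ z ∈ U', ∃ y ∈ U, tot θ y = z := by
    intro z hz
    rw [← hrU] at hz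
    obtain ⟨s, rfl⟩ := hz
    exact ⟨s, s.2, tot_coe θ s⟩
  have hsT : ∀ z ∈ T', ∃ y ∈ T, tot θ y = z := by
    intro z hz
    rw [← hrT] at hz
    obtain ⟨s, rfl⟩ := hz
    exact ⟨s, s.2, by rw [← hθ₀ _ s.2]; exact tot_coe θ₀ s⟩
  have hT'U' : T' ≤ U' := by
    intro z hz
    obtain ⟨y, hy, rfl⟩ := hsT z hz
    exact htU y (hTU hy)
  have hpre : ∀ {A : Subgroup Ω'}, preimageAlong θ₀ A ≤ preimageAlong θ A := by
    intro A y hy
    obtain ⟨h1, h2⟩ := mem_pre.1 hy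
    exact mem_pre.2 ⟨hTU h1, by rwa [← hθ₀ y h1]⟩
  have hpreT : ∀ {A : Subgroup Ω'}, preimageAlong θ₀ A ≤ T := fun {A} => preimageAlong_le θ₀ A
  have hpre2 : ∀ {A : Subgroup Ω'}, A ≤ T' → preimageAlong θ A ≤ preimageAlong θ₀ A ⊔ Z := by
    intro A hA y hy
    obtain ⟨h1, h2⟩ := mem_pre.1 hy
    obtain ⟨t, ht, hte⟩ := hsT _ (hA h2)
    have hz : t⁻¹ * y ∈ Z := (tot_eq_iff θ hθU (hTU ht) h1).1 hte
    have ht' : t ∈ preimageAlong θ₀ A := mem_pre.2 ⟨ht, by rw [hθ₀ t ht, hte]; exact h2⟩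
    have e : y = t * (t⁻¹ * y) := by group
    rw [e]
    exact Subgroup.mul_mem _ (Subgroup.mem_sup_left ht') (Subgroup.mem_sup_right hz)
  -- lifting maps on the preimage in `T`
  have hlift : ∀ (A : Subgroup Ω') (g : Ω → Ω), A ≤ T' → Mp C (preimageAlong θ₀ A) g →
      ∃ f, Mp C' A f ∧ ∀ y ∈ preimageAlong θ₀ A, f (tot θ y) = tot θ (g y) := by
    intro A g hA hg
    obtain ⟨g', hg', h1, -⟩ := ext_central hZ hg
    obtain ⟨f, hf, hfe⟩ := push_fac hZsc hC' (hA.trans hT'U') (hg'.restrict (hpre2 hA))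
    refine ⟨f, hf, fun y hy => ?_⟩
    rw [hfe y (hpre hy), h1 y hy]
  have hsubmp : ∀ (A : Subgroup Ω') (f : Ω' → Ω'), Mp X' A f → Mp C' A f := by
    intro A f hf
    have hA : A ≤ T' := hf.le
    obtain ⟨f₀, hf₀, he⟩ := mp_fac hX' hf
    obtain ⟨f', hf', hfe⟩ := hlift A f₀ hA (mp_sub hsub hf₀)
    refine hf'.congr (fun z hz => ?_)
    obtain ⟨y, hy, rfl⟩ := hsT z (hA hz)
    have hy' : y ∈ preimageAlong θ₀ A := mem_pre.2 ⟨hy, by rw [hθ₀ y hy]; exact hz⟩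
    rw [hfe y hy', ← hθ₀ _ (hf₀.mem_S hy'), ← he y hy', hθ₀ y hy]
  have hsub' : X'.IsSubsystemOf C' := by
    intro P' φ' hφ'
    exact hom_of_mp (hsubmp P' _ (mp_of_hom hφ'))
  have hsc' : C'.StronglyClosed T' := by
    refine ⟨hT'U', fun R' hR' φ' hφ' x => ?_⟩
    obtain ⟨f₀, hf₀, he⟩ := mp_fac hC' (mp_of_hom hφ')
    obtain ⟨t, ht, hte⟩ := hsT _ (hR' x.2)
    have ht' : t ∈ preimageAlong θ₀ R' := mem_pre.2 ⟨ht, by rw [hθ₀ t ht, hte]; exact x.2⟩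
    have h1 := he t (hpre ht')
    rw [hte, extOf_coe] at h1
    rw [h1]
    exact htT _ (sc_mp hT (hf₀.restrict hpre) hpreT ht')
  have hSI : StrongInv C X := strong_of_inv hInv hFr
  have hSI' : StrongInv C' X' := by
    refine strongInv_of_mp (fun P Q' W f g hPQ hQ'T hf hfQ hg hi => ?_)
    obtain ⟨f₀, hf₀, he⟩ := mp_fac hX' hf
    obtain ⟨g₀, hg₀, hge⟩ := mp_fac hC' hg
    have hle : preimageAlong θ₀ P ≤ preimageAlong θ₀ Q' := by
      intro y hy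
      exact mem_pre.2 ⟨(mem_pre.1 hy).1, hPQ (mem_pre.1 hy).2⟩
    have hf₀m : ∀ x ∈ preimageAlong θ₀ P, f₀ x ∈ preimageAlong θ₀ Q' := by
      intro y hy
      refine mem_pre.2 ⟨hf₀.mem_S hy, ?_⟩
      rw [← he y hy]
      exact hfQ _ (mem_pre.1 hy).2
    have hg₀' : Mp C (preimageAlong θ₀ Q') g₀ := hg₀.restrict hpre
    obtain ⟨W₀, hi₀⟩ := (hg₀'.restrict hle).exists_img
    obtain ⟨h₀, hh₀, hh₀e⟩ := sI_mp hSI hle hpreT hf₀ hf₀m hg₀' hi₀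
    have hWT' : W ≤ T' := by
      intro y hy
      obtain ⟨x, hx, rfl⟩ := hi.2 y hy
      exact sc_mp hsc' (hg.restrict hPQ) (hPQ.trans hQ'T) hx
    have hgT : ∀ x ∈ preimageAlong θ₀ Q', g₀ x ∈ T := fun x hx => sc_mp hT hg₀' hpreT hx
    have hprW : preimageAlong θ₀ W ≤ W₀ := by
      intro y hy
      obtain ⟨hyT, hyW⟩ := mem_pre.1 hy
      obtain ⟨u, hu, hue⟩ := hi.2 _ hyW
      obtain ⟨x, hxT, rfl⟩ := hsT u ((hPQ.trans hQ'T) hu)
      have hxP : x ∈ preimageAlong θ₀ P := mem_pre.2 ⟨hxT, by rw [hθ₀ x hxT]; exact hu⟩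
      have h1 := hge x (hpre (hle hxP))
      have hgx : g₀ x ∈ T := hgT x (hle hxP)
      have h2 : (g₀ x)⁻¹ * y ∈ Z ⊓ T := by
        refine (tot_eq_iff θ₀ hθT hgx hyT).1 ?_
        rw [hθ₀ _ hgx, ← h1, hue]
      have hKP : (g₀ x)⁻¹ * y ∈ preimageAlong θ₀ P := le_preimageAlong θ₀ hθT inf_le_right P h2
      have hfix : g₀ ((g₀ x)⁻¹ * y) = (g₀ x)⁻¹ * y :=
        fix_central hZ hg₀ (hpre (hle hKP)) h2.1
      have h3 := hi₀.1 (x * ((g₀ x)⁻¹ * y)) (Subgroup.mul_mem _ hxP hKP)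
      rw [hg₀.map_mul (hpre (hle hxP)) (hpre (hle hKP)), hfix] at h3
      have e : g₀ x * ((g₀ x)⁻¹ * y) = y := by group
      rwa [e] at h3
    obtain ⟨h', hh', hh'e⟩ := push_fac hKsc hX' hWT' (hh₀.restrict hprW)
    refine ⟨h', hh', fun x hx => ?_⟩
    obtain ⟨x₀, hx₀T, rfl⟩ := hsT x ((hPQ.trans hQ'T) hx)
    have hx₀P : x₀ ∈ preimageAlong θ₀ P := mem_pre.2 ⟨hx₀T, by rw [hθ₀ x₀ hx₀T]; exact hx⟩
    have hgx₀T : g₀ x₀ ∈ T := hgT x₀ (hle hx₀P)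
    have hgx₀ : g₀ x₀ ∈ preimageAlong θ₀ W := by
      refine mem_pre.2 ⟨hgx₀T, ?_⟩
      rw [hθ₀ _ hgx₀T, ← hge x₀ (hpre (hle hx₀P))]
      exact hi.1 _ hx
    have hf₀x := hf₀m x₀ hx₀P
    rw [hge x₀ (hpre (hle hx₀P)), ← hθ₀ _ hgx₀T, hh'e _ hgx₀, hh₀e x₀ hx₀P, hθ₀ _ (hgT _ hf₀x), ← hge _ (hpre hf₀x),
      ← hθ₀ _ (mem_pre.1 hf₀x).1, ← he x₀ hx₀P, hθ₀ x₀ hx₀T]
  have hCU' : ∀ c ∈ centralizerIn U' T', ∀ x ∈ T', x * c = c * x := fun c hc x hx => (mem_cent.1 hc).2 x hx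
  have hext' : ∀ α ∈ X'.autGroup T', ∃ β ∈ C'.autGroup (T' ⊔ centralizerIn U' T'),
      (∀ x : T', ((β (Subgroup.inclusion le_sup_left x) : ↥(T' ⊔ centralizerIn U' T')) : Ω') = ((α x : T') : Ω')) ∧
      ∀ c : ↥(T' ⊔ centralizerIn U' T'), (c : Ω') ∈ centralizerIn U' T' →
        (c : Ω')⁻¹ * ((β c : ↥(T' ⊔ centralizerIn U' T')) : Ω') ∈ T' ⊓ Subgroup.centralizer (T' : Set Ω') := by
    intro α hα
    obtain ⟨a₀, ha₀, ha₀e⟩ := mp_fac hX' (mp_autFun le_rfl hα)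
    have hpT : preimageAlong θ₀ T' = T := by
      refine le_antisymm hpreT (fun y hy => mem_pre.2 ⟨hy, ?_⟩)
      rw [hθ₀ y hy]
      exact htT y hy
    rw [hpT] at ha₀ ha₀e
    obtain ⟨a, ha, hae⟩ := ha₀.toAut (LowPi.img_self ha₀ (fun x hx => ha₀.mem_S hx))
    have haf : ∀ t ∈ T, autFun a t = a₀ t := fun t ht => by
      rw [autFun_of_mem a ht]
      exact hae ⟨t, ht⟩
    have hY₁U : preimageAlong θ (centralizerIn U' T') ≤ U := preimageAlong_le θ _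
    have hY₁ : ∀ y ∈ preimageAlong θ (centralizerIn U' T'), ∀ t ∈ T, t⁻¹ * (y * t * y⁻¹) ∈ Z := by
      intro y hy t ht
      obtain ⟨h1, h2⟩ := mem_pre.1 hy
      have htU' := hTU ht
      rw [← tot_eq_one_iff θ hθU (U.mul_mem (U.inv_mem htU') (U.mul_mem (U.mul_mem h1 htU') (U.inv_mem h1))),
        tot_mul θ (U.inv_mem htU') (U.mul_mem (U.mul_mem h1 htU') (U.inv_mem h1)), tot_inv θ htU', tot_conj θ h1 htU']
      have h3 := hCU' _ h2 _ (htT t ht)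
      rw [← h3]
      group
    have hCY : centralizerIn U T ≤ preimageAlong θ (centralizerIn U' T') := by
      intro c hc
      have hcU := (mem_cent.1 hc).1
      refine mem_pre.2 ⟨hcU, mem_cent.2 ⟨htU c hcU, fun x hx => ?_⟩⟩
      obtain ⟨t, ht, rfl⟩ := hsT x hx
      rw [← tot_mul θ (hTU ht) hcU, ← tot_mul θ hcU (hTU ht), (mem_cent.1 hc).2 t ht]
    obtain ⟨β, hβ, hβT, hβY⟩ := good_all hU hN hZ hY₁U hY₁ hCY ha
    have hpreY : preimageAlong θ (T' ⊔ centralizerIn U' T') ≤ T ⊔ preimageAlong θ (centralizerIn U' T') := by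
      intro y hy
      obtain ⟨h1, h2⟩ := mem_pre.1 hy
      rw [sup_comm] at h2
      obtain ⟨c', hc', t', ht', e⟩ := exists_mul_of_mem_sup' (A := centralizerIn U' T') (B := T') ((cent_le_norm).trans inf_le_right) h2
      obtain ⟨t, ht, rfl⟩ := hsT t' ht'
      have hy1 : y * t⁻¹ ∈ preimageAlong θ (centralizerIn U' T') := by
        refine mem_pre.2 ⟨U.mul_mem h1 (U.inv_mem (hTU ht)), ?_⟩
        rw [tot_mul θ h1 (U.inv_mem (hTU ht)), tot_inv θ (hTU ht), e]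
        simpa using hc'
      have e2 : y = (y * t⁻¹) * t := by group
      rw [e2]
      exact Subgroup.mul_mem _ (Subgroup.mem_sup_right hy1) (Subgroup.mem_sup_left ht)
    have hY'U' : T' ⊔ centralizerIn U' T' ≤ U' := sup_le hT'U' inf_le_left
    obtain ⟨β', hβ', hβ'e⟩ := push_fac hZsc hC' hY'U' (hβ.restrict hpreY)
    have hTpre : ∀ t ∈ T, t ∈ preimageAlong θ (T' ⊔ centralizerIn U' T') := fun t ht =>
      mem_pre.2 ⟨hTU ht, Subgroup.mem_sup_left (htT t ht)⟩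
    have hβ'T : ∀ t ∈ T, β' (tot θ t) = autFun α (tot θ t) := by
      intro t ht
      rw [hβ'e t (hTpre t ht), hβT t ht, haf t ht, ← hθ₀ _ (ha₀.mem_S ht), ← ha₀e t ht, hθ₀ t ht]
    have hβ'C : ∀ y ∈ preimageAlong θ (centralizerIn U' T'), β' (tot θ y) = tot θ y * tot θ (y⁻¹ * β y) := by
      intro y hy
      have hyU := hY₁U hy
      have hyp : y ∈ preimageAlong θ (T' ⊔ centralizerIn U' T') :=
        mem_pre.2 ⟨hyU, Subgroup.mem_sup_right (mem_pre.1 hy).2⟩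
      rw [hβ'e y hyp, ← tot_mul θ hyU (U.mul_mem (U.inv_mem hyU) (hβ.mem_S (Subgroup.mem_sup_right hy)))]
      congr 1
      group
    have hsC : ∀ c ∈ centralizerIn U' T', ∃ y ∈ preimageAlong θ (centralizerIn U' T'), tot θ y = c := by
      intro c hc
      obtain ⟨y, hy, rfl⟩ := hsU c (mem_cent.1 hc).1
      exact ⟨y, mem_pre.2 ⟨hy, hc⟩, rfl⟩
    have hm : ∀ x ∈ T' ⊔ centralizerIn U' T', β' x ∈ T' ⊔ centralizerIn U' T' := by
      refine maps_sup hβ' (fun x hx => ?_) (fun c hc => ?_)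
      · obtain ⟨t, ht, rfl⟩ := hsT x hx
        rw [hβ'T t ht]
        exact Subgroup.mem_sup_left ((img_autFun α).1 _ hx)
      · obtain ⟨y, hy, rfl⟩ := hsC c hc
        rw [hβ'C y hy]
        exact Subgroup.mul_mem _ (Subgroup.mem_sup_right hc) (Subgroup.mem_sup_left (htT _ (hβY y hy)))
    obtain ⟨b, hb, hbe⟩ := hβ'.toAut (LowPi.img_self hβ' hm)
    refine ⟨b, hb, fun x => ?_, fun c hc => ?_⟩
    · rw [hbe]
      obtain ⟨t, ht, hte⟩ := hsT x x.2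
      show β' (x : Ω') = _
      rw [← hte, hβ'T t ht, hte, autFun_coe]
    · have hcmem : (c : Ω') ∈ centralizerIn U' T' := hc
      obtain ⟨y, hy, hye⟩ := hsC _ hcmem
      rw [hbe, ← hye, hβ'C y hy, inv_mul_cancel_left]
      refine ⟨htT _ (hβY y hy), ?_⟩
      -- the commutator lies in the centralizer
      have hi' : ∀ z ∈ T', ∃ x ∈ T', β' x = z := by
        intro z hz
        obtain ⟨x, hx, rfl⟩ := (img_autFun α).2 z hz
        obtain ⟨t, ht, rfl⟩ := hsT x hx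
        exact ⟨_, hx, hβ'T t ht⟩
      have h1 := map_cent hβ' hi' hcmem
      have h2 := hβ'C y hy
      rw [hye] at h2
      rw [h2] at h1
      have h3 : tot θ (y⁻¹ * β y) = (c : Ω')⁻¹ * ((c : Ω') * tot θ (y⁻¹ * β y)) := by group
      rw [h3]
      exact Subgroup.mul_mem _ (Subgroup.inv_mem _ hcmem.2) h1.2
  exact ⟨⟨hX's, hC's, (isInvariantIn_iff hU'p hC's hsub' hsc').2 hSI'⟩, hext'⟩

end img

end Cfsg.Agent.Lib.FusionExt.CenQ
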