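import Cfsg.Agent.Lib.FusionExt.CentE

/-!
# The largest subgroup of `C_S(T)` centralized by a normal subsystem is strongly closed (helper92)
-/

set_option autoImplicit false

namespace Cfsg.Agent.Lib.FusionExt.CentE2

open Cfsg Cfsg.FusionSystem Cfsg.Agent.Lib.Fusion.Basic Cfsg.Agent.Lib.Fusion.GroupSystem
open Cfsg.Agent.Lib.FusionExt.MapApi Cfsg.Agent.Lib.FusionExt.PowerSys Cfsg.Agent.Lib.FusionExt.PowerGen
open Cfsg.Agent.Lib.FusionExt.PrimeRes1 Cfsg.Agent.Lib.FusionExt.PrimeRes2 Cfsg.Agent.Lib.Fusion.Saturation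
open Cfsg.Agent.Lib.Fusion.Saturation2 Cfsg.Agent.Lib.FusionExt.SatCrit1 Cfsg.Agent.Lib.FusionExt.Invariant
open Cfsg.Agent.Lib.FusionExt.PowerE Cfsg.Agent.Lib.FusionExt.LowPi Cfsg.Agent.Lib.FusionExt.CentSys
open Cfsg.Agent.Lib.FusionExt.FixQ Cfsg.Agent.Lib.FusionExt.PPrimeMin Cfsg.Agent.Lib.Fusion.KSystem
open Cfsg.Agent.Lib.FusionExt.Basic Cfsg.Agent.Lib.FusionExt.Normal Cfsg.Agent.Lib.FusionExt.CentE

universe u

variable {Ω : Type u} [Group Ω] {S T : Subgroup Ω} {F : FusionSystem S} {E : FusionSystem T} {p : ℕ}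
variable {X Y Q R P B : Subgroup Ω} {f g h k b : Ω → Ω} {y : Ω}

theorem zp_img (hh : Mp F (Subgroup.zpowers y) h) : Img (Subgroup.zpowers y) h (Subgroup.zpowers (h y)) := by
  have hy : y ∈ Subgroup.zpowers y := Subgroup.mem_zpowers y
  refine ⟨?_, ?_⟩
  · rintro _ ⟨k, rfl⟩
    show h (y ^ k) ∈ _
    rw [mp_zpow hh hy k]
    exact Subgroup.zpow_mem _ (Subgroup.mem_zpowers _) k
  · rintro _ ⟨k, rfl⟩
    refine ⟨y ^ k, Subgroup.zpow_mem _ hy k, ?_⟩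
    exact mp_zpow hh hy k

theorem comm_zp {z : Ω} (hz : z * y = y * z) : ∀ u ∈ Subgroup.zpowers y, u * z = z * u := by
  rintro _ ⟨k, rfl⟩
  have : Commute z y := hz
  exact ((this.zpow_right k).eq).symm

theorem mem_zz_zp {z : Ω} : z ∈ zz T (Subgroup.zpowers y) ↔ z ∈ T ∧ z * y = y * z := by
  constructor
  · intro hz
    exact ⟨(mem_zz.1 hz).1, ((mem_zz.1 hz).2 y (Subgroup.mem_zpowers y)).symm⟩
  · rintro ⟨h1, h2⟩
    exact mem_zz.2 ⟨h1, comm_zp h2⟩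

theorem le_cent_zp (hTS : T ≤ S) {c : Ω} (hc : c ∈ centralizerIn S T) : T ≤ centralizerIn S (Subgroup.zpowers c) := by
  intro t ht
  exact mem_cent.2 ⟨hTS ht, comm_zp ((mem_cent.1 hc).2 t ht)⟩

/-- `y` is conjugate to an element with the property `Fx`. -/
def Cj (F : FusionSystem S) (E : FusionSystem T) (y : Ω) : Prop :=
  ∃ c h, Fx F E c ∧ Mp F (Subgroup.zpowers c) h ∧ h c = y

theorem Cj.of_fx (hx : Fx F E y) : Cj F E y :=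
  ⟨y, fun x => x, hx, Mp.refl ((Subgroup.zpowers_le).2 (mem_cent.1 hx.1).1), rfl⟩

theorem Cj.comp (hy : Cj F E y) {h' : Ω → Ω} (hh : Mp F (Subgroup.zpowers y) h') : Cj F E (h' y) := by
  obtain ⟨c, h₀, hc, hh₀, rfl⟩ := hy
  exact ⟨c, fun x => h' (h₀ x), hc, hh₀.comp (zp_img hh₀).1 hh, rfl⟩

theorem Cj.mem_S (hy : Cj F E y) : y ∈ S := by
  obtain ⟨c, h₀, hc, hh₀, rfl⟩ := hy
  exact hh₀.mem_S (Subgroup.mem_zpowers c)

/-- An extension by one element, by receptivity. -/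
theorem ext_elt {Z : Subgroup Ω} (hQ : F.IsReceptive Q) (hf : Mp F X f) (hi : Img X f Q) {t a : Ω} (ht : t ∈ S)
    (htn : t ∈ Subgroup.normalizer (X : Set Ω)) (ha : a ∈ S) (he : ∀ x ∈ X, f (t * x * t⁻¹) = a * f x * a⁻¹)
    (hZ : Z = X ⊔ Subgroup.zpowers t) : ∃ g, Mp F Z g ∧ ∀ x ∈ X, g x = f x := by
  subst hZ
  obtain ⟨φ, hφ, e⟩ := hf
  have hr : φ.range = Q := Mp.range_eq e hi
  have hT : X ⊔ Subgroup.zpowers t ≤ extender S X φ := sup_le (le_extender F hφ) ((Subgroup.zpowers_le).2 (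
    mem_extender_of φ ht htn ha (fun x => by
      rw [e, e]
      exact he x x.2)))
  obtain ⟨ψ, hψ, hext⟩ := IsReceptive.exists_extension F hQ hφ hr hT le_sup_left
  refine ⟨extOf ψ, mp_of_hom hψ, fun x hx => ?_⟩
  rw [extOf_of_mem ψ (Subgroup.mem_sup_left hx), ← e ⟨x, hx⟩]
  exact hext ⟨x, hx⟩

section main

variable [Finite S] [Fact p.Prime]

theorem cj_fn (hS : IsPGroup p S) (hF : F.IsSaturated p) (hT : F.StronglyClosed T) (hSI : StrongInv F E) (hy : Cj F E y)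
    (hfn : F.IsFullyNormalized (Subgroup.zpowers y)) : Fx F E y := by
  obtain ⟨c, h₀, hc, hh₀, rfl⟩ := hy
  have hrc := isReceptive_of_isFullyNormalized F hS hF hfn
  obtain ⟨G, hG, hGe⟩ := ext_cent hrc hh₀ (zp_img hh₀)
  have hd : T ⊔ Subgroup.zpowers c ≤ Subgroup.zpowers c ⊔ centralizerIn S (Subgroup.zpowers c) :=
    sup_le ((le_cent_zp hT.1 hc.1).trans le_sup_right) le_sup_left
  have := fx_transport hT hSI hc (hG.restrict hd)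
  rwa [hGe c (Subgroup.mem_zpowers c)] at this

/-- The normal form of a conjugate. -/
theorem cj_form (hS : IsPGroup p S) (hN : E.IsNormalIn F p) (hy : Cj F E y) {T₀ : Subgroup Ω} (hT₀ : T₀ ≤ T)
    (hcomm : ∀ t ∈ T₀, t * y = y * t) :
    ∃ g w, Mp F (T₀ ⊔ Subgroup.zpowers y) g ∧ (∀ x ∈ T₀, g x = x) ∧ g y = w ∧ Fx F E w := by
  obtain ⟨⟨hEs, hF, hsub, hT, hInv, hFr⟩, hext⟩ := id hN
  have hSI : StrongInv F E := strong_of_inv hInv hFr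
  have hTS : T ≤ S := hT.1
  have hyS : y ∈ S := hy.mem_S
  have hyle : Subgroup.zpowers y ≤ S := (Subgroup.zpowers_le).2 hyS
  have hyy : y ∈ Subgroup.zpowers y := Subgroup.mem_zpowers y
  obtain ⟨W, hyW, hfnW⟩ := exists_isFullyNormalized F hyle
  obtain ⟨φ, hφ, hφr⟩ := id hyW
  have hi₁ : Img (Subgroup.zpowers y) (extOf φ) W := img_of_range hφr
  have hrW := isReceptive_of_isFullyNormalized F hS hF hfnW
  obtain ⟨ψ, hψ, hψe⟩ := ext_cent hrW (mp_of_hom hφ) hi₁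
  have hWe : W = Subgroup.zpowers (extOf φ y) := hi₁.unique (zp_img (mp_of_hom hφ))
  rw [hWe] at hfnW
  have hFw : Fx F E (extOf φ y) := cj_fn hS hF hT hSI (hy.comp (mp_of_hom hφ)) hfnW
  have hψy : ψ y = extOf φ y := hψe y hyy
  have hT₀C : T₀ ≤ centralizerIn S (Subgroup.zpowers y) := fun t ht =>
    mem_cent.2 ⟨hTS (hT₀ ht), comm_zp (hcomm t ht)⟩
  have hAle : T₀ ⊔ Subgroup.zpowers y ≤ Subgroup.zpowers y ⊔ centralizerIn S (Subgroup.zpowers y) :=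
    sup_le (hT₀C.trans le_sup_right) le_sup_left
  have hψA := hψ.restrict hAle
  obtain ⟨ρ, hρ, eρ⟩ := hψ.restrict (hT₀C.trans le_sup_right)
  obtain ⟨a, ha, φ₀, hφ₀, e⟩ := hFr T₀ hT₀ ρ hρ
  have hv : ∀ x : T₀, φ₀ x ∈ T := fun x => val_mem E hφ₀ x
  have hval : ∀ x ∈ T₀, ψ x = autFun a (extOf φ₀ x) := by
    intro x hx
    rw [extOf_of_mem φ₀ hx, autFun_of_mem a (hv _), ← eρ ⟨x, hx⟩]
    exact e ⟨x, hx⟩ (hv _)
  have hε := mp_of_hom hφ₀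
  have hεi : Img T₀ (extOf φ₀) φ₀.range := img_of_range rfl
  obtain ⟨εi, hεim, e1, e2, e3⟩ := hε.inverse hεi
  have hrT := isReceptive_of_isFullyNormalized F hS hF (Cfsg.Agent.Lib.FusionExt.PPowerNormal.isFullyNormalized_of_stronglyClosed hT)
  have hai : a⁻¹ ∈ F.autGroup T := Subgroup.inv_mem _ ha
  obtain ⟨H₂, hH₂, hH₂e⟩ := ext_cent hrT (mp_autFun hTS hai) (img_autFun a⁻¹)
  have hd : T ⊔ Subgroup.zpowers (extOf φ y) ≤ T ⊔ centralizerIn S T :=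
    sup_le le_sup_left ((Subgroup.zpowers_le).2 (Subgroup.mem_sup_right hFw.1))
  have hFw₃ : Fx F E (H₂ (extOf φ y)) := fx_transport hT hSI hFw (hH₂.restrict hd)
  obtain ⟨g₀, hg₀, g₁, g₂⟩ := hFw₃.2 φ₀.range εi hεim
  have hT₀A : T₀ ≤ T₀ ⊔ Subgroup.zpowers y := le_sup_left
  have hyA : y ∈ T₀ ⊔ Subgroup.zpowers y := Subgroup.mem_sup_right hyy
  have m1 : ∀ x ∈ T₀ ⊔ Subgroup.zpowers y, ψ x ∈ T ⊔ Subgroup.zpowers (extOf φ y) :=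
    maps_sup_z hψA (fun x hx => Subgroup.mem_sup_left (by
      rw [hval x hx]
      exact autFun_mem a (hε.mem_S hx))) (by
      rw [hψy]
      exact Subgroup.mem_sup_right (Subgroup.mem_zpowers _))
  have hG : Mp F (T₀ ⊔ Subgroup.zpowers y) (fun x => H₂ (ψ x)) := hψA.comp m1 (hH₂.restrict hd)
  have hGT : ∀ x ∈ T₀, H₂ (ψ x) = extOf φ₀ x := by
    intro x hx
    rw [hval x hx, hH₂e _ (autFun_mem a (hε.mem_S hx)), autFun_inv_apply]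
  have m2 : ∀ x ∈ T₀ ⊔ Subgroup.zpowers y, H₂ (ψ x) ∈ φ₀.range ⊔ Subgroup.zpowers (H₂ (extOf φ y)) :=
    maps_sup_z hG (fun x hx => Subgroup.mem_sup_left (by
      show H₂ (ψ x) ∈ _
      rw [hGT x hx]
      exact hεi.1 x hx)) (by
      show H₂ (ψ y) ∈ _
      rw [hψy]
      exact Subgroup.mem_sup_right (Subgroup.mem_zpowers _))
  refine ⟨fun x => g₀ (H₂ (ψ x)), H₂ (extOf φ y), hG.comp m2 hg₀, fun x hx => ?_, ?_, hFw₃⟩
  · show g₀ (H₂ (ψ x)) = x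
    rw [hGT x hx, g₁ _ (hεi.1 x hx), e1 x hx]
  · show g₀ (H₂ (ψ y)) = _
    rw [hψy, g₂]

/-- **Conjugates of elements with the property `Fx` centralize `T`.** -/
theorem cj_cent (hS : IsPGroup p S) (hN : E.IsNormalIn F p) :
    ∀ (k : ℕ) (y : Ω), Nat.card T - Nat.card (zz T (Subgroup.zpowers y)) = k → Cj F E y → y ∈ centralizerIn S T := by
  obtain ⟨⟨hEs, hF, hsub, hT, hInv, hFr⟩, hext⟩ := id hN
  have hTS : T ≤ S := hT.1
  have hTp : IsPGroup p T := hS.to_le hTS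
  haveI : Finite T := finite_of_le hTS
  intro k
  induction k using Nat.strong_induction_on with
  | _ k ih =>
  intro y hk hy
  by_contra hyC
  have hyS : y ∈ S := hy.mem_S
  have hT₀T : zz T (Subgroup.zpowers y) ≤ T := inf_le_left
  have hT₀c : ∀ t ∈ zz T (Subgroup.zpowers y), t * y = y * t := fun t ht => (mem_zz_zp.1 ht).2
  have hne : zz T (Subgroup.zpowers y) ≠ T := by
    intro e
    apply hyC
    refine mem_cent.2 ⟨hyS, fun t ht => ?_⟩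
    rw [← e] at ht
    exact hT₀c t ht
  obtain ⟨g, w₃, hg, hgT₀, hgy, hFx⟩ := cj_form hS hN hy hT₀T hT₀c
  set T₀ := zz T (Subgroup.zpowers y) with hT₀def
  haveI : Finite T₀ := finite_of_le (hT₀T.trans hTS)
  have hyy : y ∈ Subgroup.zpowers y := Subgroup.mem_zpowers y
  have hT₀A : T₀ ≤ T₀ ⊔ Subgroup.zpowers y := le_sup_left
  have hyA : y ∈ T₀ ⊔ Subgroup.zpowers y := Subgroup.mem_sup_right hyy
  have hAS : T₀ ⊔ Subgroup.zpowers y ≤ S := sup_le (hT₀T.trans hTS) ((Subgroup.zpowers_le).2 hyS)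
  have hyCT₀ : y ∈ Subgroup.centralizer (T₀ : Set Ω) := Subgroup.mem_centralizer_iff.2 (fun t ht => hT₀c t ht)
  have hyNT₀ : Subgroup.zpowers y ≤ Subgroup.normalizer (T₀ : Set Ω) :=
    (Subgroup.zpowers_le).2 (Subgroup.centralizer_le_normalizer _ hyCT₀)
  have hAT : ∀ x ∈ T₀ ⊔ Subgroup.zpowers y, x ∈ T → x ∈ T₀ := by
    intro x hx hxT
    rw [sup_comm] at hx
    obtain ⟨d, ⟨n, rfl⟩, r, hr, rfl⟩ := exists_mul_of_mem_sup' hyNT₀ hx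
    have h1 : y ^ n ∈ T := by
      have := T.mul_mem hxT (T.inv_mem (hT₀T hr))
      simpa using this
    have h2 : y ^ n ∈ T₀ := mem_zz_zp.2 ⟨h1, (Commute.refl y).zpow_left n⟩
    exact T₀.mul_mem h2 hr
  have hyNT : y ∈ Subgroup.normalizer (T : Set Ω) := mem_normalizer_of_conj_le' (fun x hx => sc_conj_mem F hT hyS hx)
  have hŴS : T ⊔ Subgroup.zpowers y ≤ S := sup_le hTS ((Subgroup.zpowers_le).2 hyS)
  have hAŴ : T₀ ⊔ Subgroup.zpowers y ≤ T ⊔ Subgroup.zpowers y := sup_le (hT₀T.trans le_sup_left) le_sup_right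
  have hAne : T₀ ⊔ Subgroup.zpowers y ≠ T ⊔ Subgroup.zpowers y := by
    intro e
    apply hne
    apply le_antisymm hT₀T
    intro t ht
    exact hAT t (by rw [e]; exact Subgroup.mem_sup_left ht) ht
  obtain ⟨u, huŴ, huA, huN⟩ := exists_normalizing hS hAŴ hAne hŴS
  rw [sup_comm] at huŴ
  obtain ⟨d, ⟨n, rfl⟩, t, htT, rfl⟩ := exists_mul_of_mem_sup' ((Subgroup.zpowers_le).2 hyNT) huŴ
  have hdA : y ^ n ∈ T₀ ⊔ Subgroup.zpowers y := Subgroup.zpow_mem _ hyA n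
  have htA : t ∉ T₀ ⊔ Subgroup.zpowers y := fun h => huA (Subgroup.mul_mem _ hdA h)
  have htN : t ∈ Subgroup.normalizer ((T₀ ⊔ Subgroup.zpowers y : Subgroup Ω) : Set Ω) := by
    have := Subgroup.mul_mem _ (Subgroup.inv_mem _ (Subgroup.le_normalizer hdA)) huN
    simpa using this
  have htS : t ∈ S := hTS htT
  have htT₀ : t ∉ T₀ := fun h => htA (hT₀A h)
  have ht₀ : ∀ r ∈ T₀, t * r * t⁻¹ ∈ T₀ := fun r hr =>
    hAT _ (norm_conj htN (hT₀A hr)) (T.mul_mem (T.mul_mem htT (hT₀T hr)) (T.inv_mem htT))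
  have ht₀i : ∀ r ∈ T₀, t⁻¹ * r * t ∈ T₀ := fun r hr =>
    hAT _ (conj_inv_mem htN (hT₀A hr)) (T.mul_mem (T.mul_mem (T.inv_mem htT) (hT₀T hr)) htT)
  have htNT₀ : t ∈ Subgroup.normalizer (T₀ : Set Ω) := mem_normalizer_of_conj_le' ht₀
  have hr₁ : t * y * t⁻¹ * y⁻¹ ∈ T₀ := by
    refine hAT _ (Subgroup.mul_mem _ (norm_conj htN hyA) (Subgroup.inv_mem _ hyA)) ?_
    have e : t * y * t⁻¹ * y⁻¹ = t * (y * t⁻¹ * y⁻¹) := by group
    rw [e]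
    exact T.mul_mem htT (sc_conj_mem F hT hyS (T.inv_mem htT))
  have hw₃C := hFx.1
  have hw₃S : w₃ ∈ S := (mem_cent.1 hw₃C).1
  have hwB : w₃ ∈ T₀ ⊔ Subgroup.zpowers w₃ := Subgroup.mem_sup_right (Subgroup.mem_zpowers w₃)
  have hT₀B : T₀ ≤ T₀ ⊔ Subgroup.zpowers w₃ := le_sup_left
  have hBS : T₀ ⊔ Subgroup.zpowers w₃ ≤ S := sup_le (hT₀T.trans hTS) ((Subgroup.zpowers_le).2 hw₃S)
  haveI : Finite ↥(T₀ ⊔ Subgroup.zpowers w₃) := finite_of_le hBS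
  have hgB : ∀ x ∈ T₀ ⊔ Subgroup.zpowers y, g x ∈ T₀ ⊔ Subgroup.zpowers w₃ :=
    maps_sup_z hg (fun x hx => by rw [hgT₀ x hx]; exact hT₀B hx) (by rw [hgy]; exact hwB)
  obtain ⟨B', hB'⟩ := hg.exists_img
  have hBB' : T₀ ⊔ Subgroup.zpowers w₃ ≤ B' := sup_le
    (fun r hr => by
      have := hB'.1 r (hT₀A hr)
      rwa [hgT₀ r hr] at this)
    ((Subgroup.zpowers_le).2 (by
      have := hB'.1 y hyA
      rwa [hgy] at this))
  have hgi : Img (T₀ ⊔ Subgroup.zpowers y) g (T₀ ⊔ Subgroup.zpowers w₃) :=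
    ⟨hgB, fun z hz => hB'.2 z (hBB' hz)⟩
  -- `N_T(T₀)` normalizes `B`
  have hnB : ∀ n ∈ normalizerIn T T₀, n ∈ normalizerIn S (T₀ ⊔ Subgroup.zpowers w₃) := by
    intro n hn
    refine ⟨hTS hn.1, mem_normalizer_of_conj_le' (fun x hx => ?_)⟩
    have hle : T₀ ⊔ Subgroup.zpowers w₃ ≤ (T₀ ⊔ Subgroup.zpowers w₃).comap (MulAut.conj n).toMonoidHom := by
      refine sup_le (fun r hr => hT₀B (norm_conj hn.2 hr)) ((Subgroup.zpowers_le).2 ?_)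
      show n * w₃ * n⁻¹ ∈ (T₀ ⊔ Subgroup.zpowers w₃ : Subgroup Ω)
      rw [(mem_cent.1 hw₃C).2 n hn.1, mul_inv_cancel_right]
      exact hwB
    exact hle hx
  have hT₀N₀ : T₀ ≤ normalizerIn T T₀ := le_normalizerIn hT₀T
  have htN₀ : t ∈ normalizerIn T T₀ := ⟨htT, htNT₀⟩
  obtain ⟨B₁, hBB₁, hfn₁⟩ := exists_isFullyNormalized F hBS
  have hFA₁ := isFullyAutomized_of_isFullyNormalized F hS hF hfn₁
  have hrc₁ := isReceptive_of_isFullyNormalized F hS hF hfn₁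
  obtain ⟨ζ', hζ', hζv, hζr⟩ := exists_normalizer_map F hS hFA₁ hrc₁ hBB₁
  have hBN : T₀ ⊔ Subgroup.zpowers w₃ ≤ normalizerIn S (T₀ ⊔ Subgroup.zpowers w₃) := le_normalizerIn hBS
  have hζ := mp_of_hom hζ'
  have hζi : Img (T₀ ⊔ Subgroup.zpowers w₃) (extOf ζ') B₁ := img_of_normalizer_map hBN ζ' hζr
  set ζ := extOf ζ' with hζdef
  have hζv' : ∀ x ∈ normalizerIn S (T₀ ⊔ Subgroup.zpowers w₃), ζ x ∈ normalizerIn S B₁ := by
    intro x hx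
    rw [hζdef, extOf_of_mem ζ' hx]
    exact hζv _
  have hG₂ : Mp F (T₀ ⊔ Subgroup.zpowers y) (fun x => ζ (g x)) := hg.comp (fun x hx => hBN (hgB x hx)) hζ
  have hG₂i : Img (T₀ ⊔ Subgroup.zpowers y) (fun x => ζ (g x)) B₁ := hgi.comp hζi
  obtain ⟨Gi, hGi, i1, i2, i3⟩ := hG₂.inverse hG₂i
  have hT₀N : T₀ ≤ normalizerIn S (T₀ ⊔ Subgroup.zpowers w₃) := hT₀B.trans hBN
  obtain ⟨V₁, hV₁⟩ := (hζ.restrict hT₀N).exists_img
  have hV₁T : V₁ ≤ T := fun v hv => by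
    obtain ⟨r, hr, rfl⟩ := hV₁.2 v hv
    exact sc_mp hT (hζ.restrict hT₀N) hT₀T hr
  have hV₁B₁ : V₁ ≤ B₁ := fun v hv => by
    obtain ⟨r, hr, rfl⟩ := hV₁.2 v hv
    exact hζi.1 r (hT₀B hr)
  have hB₁T : ∀ u ∈ B₁, u ∈ T → u ∈ V₁ := by
    intro u hu huT
    have h1 := sc_mp hT (hGi.restrict (inf_le_left : B₁ ⊓ T ≤ B₁)) inf_le_right (⟨hu, huT⟩ : u ∈ B₁ ⊓ T)
    have h2 := hAT _ (i3.1 u hu) h1
    have h3 := i2 u hu
    show u ∈ V₁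
    rw [← h3]
    show ζ (g (Gi u)) ∈ V₁
    rw [hgT₀ _ h2]
    exact hV₁.1 _ h2
  have hpV : ∀ a' ∈ F.autGroup B₁, ∀ x ∈ V₁, autFun a' x ∈ V₁ := by
    intro a' ha' x hx
    refine hB₁T _ ((img_autFun a').1 x (hV₁B₁ hx)) ?_
    exact sc_mp hT ((mp_autFun hfn₁.1 ha').restrict (inf_le_left : B₁ ⊓ T ≤ B₁)) inf_le_right (⟨hV₁B₁ hx, hV₁T hx⟩ : x ∈ B₁ ⊓ T)
  have htNB := hnB t htN₀
  have ht₂T : ζ t ∈ T :=
    sc_mp hT (hζ.restrict ((Subgroup.zpowers_le).2 htNB)) ((Subgroup.zpowers_le).2 htT) (Subgroup.mem_zpowers t)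
  have ht₂N := hζv' t htNB
  have ht₂S : ζ t ∈ S := hTS ht₂T
  have hc₂ : ∀ u ∈ B₁, (ζ t)⁻¹ * u * (ζ t) ∈ B₁ := fun u hu => conj_inv_mem ht₂N.2 hu
  have hc₁ : ∀ a ∈ T₀ ⊔ Subgroup.zpowers y, t * a * t⁻¹ ∈ T₀ ⊔ Subgroup.zpowers y := fun a ha => norm_conj htN ha
  have hconj₂ : Mp F B₁ (fun u => (ζ t)⁻¹ * u * (ζ t)) :=
    (Mp.conj (F := F) hfn₁.1 (S.inv_mem ht₂S)).congr (fun x _ => by
      show (ζ t)⁻¹ * x * ((ζ t)⁻¹)⁻¹ = _
      rw [inv_inv])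
  have hconj₁ : Mp F (T₀ ⊔ Subgroup.zpowers y) (fun a => t * a * t⁻¹) := Mp.conj hAS htS
  have hv₁ : Mp F B₁ (fun u => ζ (g (t * Gi ((ζ t)⁻¹ * u * (ζ t)) * t⁻¹))) :=
    ((hconj₂.comp hc₂ hGi).comp (fun u hu => i3.1 _ (hc₂ u hu)) hconj₁).comp
      (fun u hu => hc₁ _ (i3.1 _ (hc₂ u hu))) hG₂
  have hv₁m : ∀ u ∈ B₁, ζ (g (t * Gi ((ζ t)⁻¹ * u * (ζ t)) * t⁻¹)) ∈ B₁ :=
    fun u hu => hG₂i.1 _ (hc₁ _ (i3.1 _ (hc₂ u hu)))
  have hv₁i := LowPi.img_self hv₁ hv₁m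
  obtain ⟨a₁, ha₁, ha₁e⟩ := hv₁.toAut hv₁i
  have haf : ∀ u ∈ B₁, autFun a₁ u = ζ (g (t * Gi ((ζ t)⁻¹ * u * (ζ t)) * t⁻¹)) := by
    intro u hu
    rw [autFun_of_mem a₁ hu]
    exact ha₁e ⟨u, hu⟩
  have hvA : ∀ r ∈ V₁, autFun a₁ r = r := by
    intro r hr
    rw [haf r (hV₁B₁ hr)]
    obtain ⟨r₀, hr₀, rfl⟩ := hV₁.2 r hr
    have hr₁ := ht₀i r₀ hr₀
    have e1 : (ζ t)⁻¹ * ζ r₀ * (ζ t) = ζ (t⁻¹ * r₀ * t) := by
      rw [hζ.map_mul (Subgroup.mul_mem _ (Subgroup.inv_mem _ htNB) (hT₀N hr₀)) htNB,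
        hζ.map_mul (Subgroup.inv_mem _ htNB) (hT₀N hr₀), hζ.map_inv htNB]
    have e2 : Gi (ζ (t⁻¹ * r₀ * t)) = t⁻¹ * r₀ * t := by
      have := i1 _ (hT₀A hr₁)
      simp only [hgT₀ _ hr₁] at this
      exact this
    rw [e1, e2]
    have e3 : t * (t⁻¹ * r₀ * t) * t⁻¹ = r₀ := by group
    rw [e3, hgT₀ r₀ hr₀]
  have hvB : ∀ u ∈ B₁, u⁻¹ * autFun a₁ u ∈ V₁ := by
    intro u hu
    rw [haf u hu]
    refine hB₁T _ (Subgroup.mul_mem _ (Subgroup.inv_mem _ hu) (hv₁m u hu)) ?_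
    have ha := i3.1 _ (hc₂ u hu)
    set a := Gi ((ζ t)⁻¹ * u * (ζ t)) with hadef
    have haS := hAS ha
    have hcA : a⁻¹ * (t * a * t⁻¹) ∈ T₀ ⊔ Subgroup.zpowers y := Subgroup.mul_mem _ (Subgroup.inv_mem _ ha) (hc₁ a ha)
    have hcT : a⁻¹ * (t * a * t⁻¹) ∈ T := by
      have e : a⁻¹ * (t * a * t⁻¹) = (a⁻¹ * t * a⁻¹⁻¹) * t⁻¹ := by group
      rw [e]
      exact T.mul_mem (sc_conj_mem F hT (S.inv_mem haS) htT) (T.inv_mem htT)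
    have hc₀ := hAT _ hcA hcT
    have e4 : t * a * t⁻¹ = a * (a⁻¹ * (t * a * t⁻¹)) := by group
    rw [e4, hg.map_mul ha hcA, hgT₀ _ hc₀, hζ.map_mul (hBN (hgB a ha)) (hT₀N hc₀)]
    have e5 : ζ (g a) = (ζ t)⁻¹ * u * (ζ t) := i2 _ (hc₂ u hu)
    rw [e5]
    have huS : u ∈ S := hfn₁.1 hu
    have e6 : u⁻¹ * ((ζ t)⁻¹ * u * ζ t * ζ (a⁻¹ * (t * a * t⁻¹))) =
        (u⁻¹ * (ζ t)⁻¹ * u⁻¹⁻¹) * (ζ t) * ζ (a⁻¹ * (t * a * t⁻¹)) := by group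
    rw [e6]
    exact T.mul_mem (T.mul_mem (sc_conj_mem F hT (S.inv_mem huS) (T.inv_mem ht₂T)) ht₂T) (hV₁T (hV₁.1 _ hc₀))
  have hind : a₁ ∈ autInducedBy S B₁ := v_stab hS hfn₁.1 hFA₁ le_rfl hV₁B₁ hpV hpV ha₁ hvA hvB
  obtain ⟨s, hs, hse⟩ := (mem_autInducedBy_iff S B₁ a₁).1 hind
  have hse' : ∀ u ∈ B₁, autFun a₁ u = s * u * s⁻¹ := by
    intro u hu
    rw [autFun_of_mem a₁ hu]
    exact hse ⟨u, hu⟩
  have key : ∀ x ∈ T₀ ⊔ Subgroup.zpowers y, ζ (g (t * x * t⁻¹)) = (s * ζ t) * ζ (g x) * (s * ζ t)⁻¹ := by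
    intro x hx
    have hu : ζ t * ζ (g x) * (ζ t)⁻¹ ∈ B₁ := norm_conj ht₂N.2 (hG₂i.1 x hx)
    have h1 := hse' _ hu
    rw [haf _ hu] at h1
    have e1 : (ζ t)⁻¹ * (ζ t * ζ (g x) * (ζ t)⁻¹) * ζ t = ζ (g x) := by group
    have e2 : Gi (ζ (g x)) = x := i1 x hx
    rw [e1, e2] at h1
    rw [h1]
    group
  obtain ⟨σ, hσ, hσe⟩ := ext_elt (Z := (T₀ ⊔ Subgroup.zpowers y) ⊔ Subgroup.zpowers t) hrc₁ hG₂ hG₂i htS htN (S.mul_mem hs ht₂S) key rfl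
  have hAZ : T₀ ⊔ Subgroup.zpowers y ≤ (T₀ ⊔ Subgroup.zpowers y) ⊔ Subgroup.zpowers t := le_sup_left
  have htZ : t ∈ (T₀ ⊔ Subgroup.zpowers y) ⊔ Subgroup.zpowers t := Subgroup.mem_sup_right (Subgroup.mem_zpowers t)
  have hyZ := hAZ hyA
  have ht₃ : σ t ∈ T := by
    have hd : Subgroup.zpowers t ≤ (T₀ ⊔ Subgroup.zpowers y) ⊔ Subgroup.zpowers t := le_sup_right
    exact sc_mp hT (hσ.restrict hd) ((Subgroup.zpowers_le).2 htT) (Subgroup.mem_zpowers t)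
  have hσy : σ y = ζ w₃ := by
    rw [hσe y hyA]
    show ζ (g y) = _
    rw [hgy]
  have hCjw : Cj F E (ζ w₃) := by
    have hd : Subgroup.zpowers y ≤ (T₀ ⊔ Subgroup.zpowers y) ⊔ Subgroup.zpowers t := (Subgroup.zpowers_le).2 hyZ
    have := hy.comp (hσ.restrict hd)
    rwa [hσy] at this
  -- cardinalities
  have hT₀lt : T₀ < T := lt_of_le_of_ne hT₀T hne
  have hNlt := lt_normalizerIn hTp hT₀lt
  have hN₀S : normalizerIn T T₀ ≤ S := (normalizerIn_le_left T T₀).trans hTS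
  have hc1 : Nat.card T₀ < Nat.card (normalizerIn T T₀) := card_lt_of_lt hNlt.le hNlt.ne hN₀S
  have hN₀N : normalizerIn T T₀ ≤ normalizerIn S (T₀ ⊔ Subgroup.zpowers w₃) := fun n hn => hnB n hn
  obtain ⟨N₁, hN₁⟩ := (hζ.restrict hN₀N).exists_img
  have hcN₁ : Nat.card N₁ = Nat.card (normalizerIn T T₀) := (hζ.restrict hN₀N).card_img hN₁
  have hw₃N : w₃ ∈ normalizerIn S (T₀ ⊔ Subgroup.zpowers w₃) := hBN hwB
  have hN₁le : N₁ ≤ zz T (Subgroup.zpowers (ζ w₃)) := by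
    intro v hv
    obtain ⟨n, hn, rfl⟩ := hN₁.2 v hv
    refine mem_zz_zp.2 ⟨sc_mp hT (hζ.restrict hN₀N) (normalizerIn_le_left T T₀) hn, ?_⟩
    rw [← hζ.map_mul (hN₀N hn) hw₃N, ← hζ.map_mul hw₃N (hN₀N hn), (mem_cent.1 hw₃C).2 n hn.1]
  haveI : Finite (zz T (Subgroup.zpowers (ζ w₃))) := finite_of_le ((inf_le_left : zz T (Subgroup.zpowers (ζ w₃)) ≤ T).trans hTS)
  have hc2 : Nat.card N₁ ≤ Nat.card (zz T (Subgroup.zpowers (ζ w₃))) := Subgroup.card_le_of_le hN₁le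
  have hc3 : Nat.card (zz T (Subgroup.zpowers (ζ w₃))) ≤ Nat.card T := Subgroup.card_le_of_le inf_le_left
  have hw₂C : ζ w₃ ∈ centralizerIn S T := ih _ (by omega) (ζ w₃) rfl hCjw
  -- the contradiction
  have hcomm := (mem_cent.1 hw₂C).2 _ ht₃
  have hσr : σ (t * y * t⁻¹ * y⁻¹) = 1 := by
    rw [hσ.map_mul (Subgroup.mul_mem _ (Subgroup.mul_mem _ htZ hyZ) (Subgroup.inv_mem _ htZ)) (Subgroup.inv_mem _ hyZ),
      hσ.map_mul (Subgroup.mul_mem _ htZ hyZ) (Subgroup.inv_mem _ htZ), hσ.map_mul htZ hyZ, hσ.map_inv htZ, hσ.map_inv hyZ, hσy, hcomm]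
    group
  have hr₁' : t * y * t⁻¹ * y⁻¹ = 1 :=
    hσ.inj (Subgroup.mul_mem _ (Subgroup.mul_mem _ (Subgroup.mul_mem _ htZ hyZ) (Subgroup.inv_mem _ htZ)) (Subgroup.inv_mem _ hyZ))
      (Subgroup.one_mem _) (by rw [hσr, hσ.map_one])
  apply htT₀
  refine mem_zz_zp.2 ⟨htT, ?_⟩
  have e : t * y = (t * y * t⁻¹ * y⁻¹) * (y * t) := by group
  rw [e, hr₁', one_mul]

/-- Conjugates of elements with the property `Fx` have the property `Fx`. -/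
theorem cj_fx (hS : IsPGroup p S) (hN : E.IsNormalIn F p) (hy : Cj F E y) : Fx F E y := by
  obtain ⟨⟨hEs, hF, hsub, hT, hInv, hFr⟩, hext⟩ := id hN
  have hSI : StrongInv F E := strong_of_inv hInv hFr
  have hTS : T ≤ S := hT.1
  have hyC := cj_cent hS hN _ y rfl hy
  have hyS : y ∈ S := hy.mem_S
  have hyle : Subgroup.zpowers y ≤ S := (Subgroup.zpowers_le).2 hyS
  have hyy : y ∈ Subgroup.zpowers y := Subgroup.mem_zpowers y
  obtain ⟨W, hyW, hfnW⟩ := exists_isFullyNormalized F hyle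
  obtain ⟨φ, hφ, hφr⟩ := id hyW
  have hi₁ : Img (Subgroup.zpowers y) (extOf φ) W := img_of_range hφr
  have hrW := isReceptive_of_isFullyNormalized F hS hF hfnW
  obtain ⟨ψ₀, hψ₀, hψ₀e⟩ := ext_cent hrW (mp_of_hom hφ) hi₁
  have hWe : W = Subgroup.zpowers (extOf φ y) := hi₁.unique (zp_img (mp_of_hom hφ))
  rw [hWe] at hfnW
  have hFw : Fx F E (extOf φ y) := cj_fn hS hF hT hSI (hy.comp (mp_of_hom hφ)) hfnW
  have hψy : ψ₀ y = extOf φ y := hψ₀e y hyy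
  have hd : T ⊔ Subgroup.zpowers y ≤ Subgroup.zpowers y ⊔ centralizerIn S (Subgroup.zpowers y) :=
    sup_le ((le_cent_zp hTS hyC).trans le_sup_right) le_sup_left
  have hψ := hψ₀.restrict hd
  have hTW : T ≤ T ⊔ Subgroup.zpowers y := le_sup_left
  have hyW' : y ∈ T ⊔ Subgroup.zpowers y := Subgroup.mem_sup_right hyy
  have hψT : Img T ψ₀ T := LowPi.img_self (hψ.restrict hTW) (fun t ht => sc_mp hT (hψ.restrict hTW) le_rfl ht)
  obtain ⟨W₁, hW₁⟩ := hψ.exists_img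
  obtain ⟨ψi, hψi, i1, i2, i3⟩ := hψ.inverse hW₁
  have hd' : T ⊔ Subgroup.zpowers (extOf φ y) ≤ W₁ := sup_le
    (fun t ht => by
      obtain ⟨t₀, h0, rfl⟩ := hψT.2 t ht
      exact hW₁.1 _ (hTW h0))
    ((Subgroup.zpowers_le).2 (by
      rw [← hψy]
      exact hW₁.1 y hyW'))
  have := fx_transport hT hSI hFw (hψi.restrict hd')
  rw [← hψy, i1 y hyW'] at this
  exact this

/-- **The largest subgroup of `C_S(T)` centralized by `E`.** -/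
theorem main' (hS : IsPGroup p S) (hN : E.IsNormalIn F p) : CC F E ≤ centralizerIn S T ∧
    (∀ P : Subgroup Ω, E.Hom P ⊆ F.centralizerHom (CC F E) P) ∧
    (∀ Y : Subgroup Ω, Y ≤ centralizerIn S T → (∀ P : Subgroup Ω, E.Hom P ⊆ F.centralizerHom Y P) → Y ≤ CC F E) ∧
    F.StronglyClosed (CC F E) := by
  obtain ⟨⟨hEs, hF, hsub, hT, hInv, hFr⟩, hext⟩ := id hN
  have hTS : T ≤ S := hT.1
  refine ⟨CC_le, fun P φ hφ => ?_, fun Y hY h => ?_, CC_le.trans inf_le_left, fun R hR φ hφ x => ?_⟩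
  · obtain ⟨g, hg, h1, h2⟩ := dm_all (CC_good hS hN) hS hN P _ (mp_of_hom hφ)
    obtain ⟨ψ, hψ, eψ⟩ := hg
    have hPT : P ≤ T := le_of_mem E hφ
    refine ⟨hsub P hφ, fun t ht => ?_, fun x => ?_, ψ, hψ, fun x => ?_, fun x => ?_⟩
    · exact mem_cent.2 ⟨hTS (hPT ht), fun c hc => ((mem_cent.1 (CC_le hc)).2 t (hPT ht)).symm⟩
    · have hxT : φ x ∈ T := val_mem E hφ x
      exact mem_cent.2 ⟨hTS hxT, fun c hc => ((mem_cent.1 (CC_le hc)).2 _ hxT).symm⟩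
    · rw [eψ]
      have := h1 x x.2
      rw [extOf_coe] at this
      exact this
    · rw [eψ]
      exact h2 x x.2
  · intro y hy
    apply Subgroup.subset_closure
    refine ⟨hY hy, fun P f hf => ?_⟩
    obtain ⟨φ, hφ, e⟩ := hf
    obtain ⟨-, -, -, ψ, hψ, h1, h2⟩ := h P hφ
    refine ⟨extOf ψ, (mp_of_hom hψ).restrict (sup_le_sup_left ((Subgroup.zpowers_le).2 hy) _), fun x hx => ?_, ?_⟩
    · rw [extOf_of_mem ψ (Subgroup.mem_sup_left hx), ← e ⟨x, hx⟩]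
      exact h1 ⟨x, hx⟩
    · rw [extOf_of_mem ψ (Subgroup.mem_sup_right hy)]
      exact h2 ⟨y, hy⟩
  · have hx : (x : Ω) ∈ CC F E := hR x.2
    have hxF := fx_of_mem hS hN hx
    have hd : Subgroup.zpowers (x : Ω) ≤ R := (Subgroup.zpowers_le).2 x.2
    have hCj : Cj F E (extOf φ (x : Ω)) := (Cj.of_fx hxF).comp ((mp_of_hom hφ).restrict hd)
    have := cj_fx hS hN hCj
    rw [extOf_coe] at this
    exact Subgroup.subset_closure this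

/-- **The largest subgroup of `C_S(T)` centralized by `E`.** -/
theorem main (hS : IsPGroup p S) (hN : E.IsNormalIn F p) : ∃ C : Subgroup Ω, C ≤ centralizerIn S T ∧
    (∀ P : Subgroup Ω, E.Hom P ⊆ F.centralizerHom C P) ∧
    (∀ Y : Subgroup Ω, Y ≤ centralizerIn S T → (∀ P : Subgroup Ω, E.Hom P ⊆ F.centralizerHom Y P) → Y ≤ C) ∧
    F.StronglyClosed C :=
  ⟨CC F E, main' hS hN⟩

end main

end Cfsg.Agent.Lib.FusionExt.CentE2
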