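import Cfsg.Agent.Lib.FusionExt.QS3
import Cfsg.Agent.Lib.Fusion.GenFit

/-!
# Normal subsystems of a central factor (helper92)
-/

set_option autoImplicit false
set_option linter.unusedSectionVars false

namespace Cfsg.Agent.Lib.FusionExt.CentP

open Cfsg Cfsg.FusionSystem Cfsg.Agent.Lib.Fusion.Basic Cfsg.Agent.Lib.Fusion.GroupSystem
open Cfsg.Agent.Lib.FusionExt.MapApi Cfsg.Agent.Lib.FusionExt.Basic Cfsg.Agent.Lib.FusionExt.Normal
open Cfsg.Agent.Lib.FusionExt.PowerE Cfsg.Agent.Lib.FusionExt.Invariant Cfsg.Agent.Lib.FusionExt.LowPi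
open Cfsg.Agent.Lib.FusionExt.CentSys Cfsg.Agent.Lib.FusionExt.PrimeRes1
open Cfsg.Agent.Lib.FusionExt.CProd1 Cfsg.Agent.Lib.FusionExt.CProd3 Cfsg.Agent.Lib.FusionExt.Comp1 Cfsg.Agent.Lib.FusionExt.Comp2
open Cfsg.Agent.Lib.Fusion.Center Cfsg.Agent.Lib.Fusion.GenFit

universe u

variable {Ω : Type u} [Group Ω] {S T T₁ T₂ U X : Subgroup Ω} {p : ℕ} [Fact p.Prime]
variable {E₁ : FusionSystem T₁} {E₂ : FusionSystem T₂} {D : FusionSystem T} {C : FusionSystem U} {f : Ω → Ω}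

section cp

variable (h : IsCentralProductOf E₁ E₂ D)

include h

theorem cp_mp_left (hf : Mp D X f) (hX : X ≤ T₁) : Mp E₁ X f := by
  obtain ⟨hc, hT, hZ, hfac⟩ := cp_factor h
  subst hT
  have hc' := hc
  obtain ⟨-, f₁, f₂, h₁, h₂, he⟩ := mp_D_decomp (hc := hc) (hX.trans Subgroup.le_normalizer) (hX.trans (le_norm_of_comm hc')) hfac hf
  have hle : X ≤ e2 T₂ T₁ X := fun x hx => ⟨Subgroup.mem_sup_left hx, hX hx⟩
  refine (h₁.restrict hle).congr (fun x hx => ?_)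
  have h3 := he x (hle hx) 1 (Subgroup.one_mem _) (by simpa using hx)
  rw [mul_one, h₂.map_one, mul_one] at h3
  exact h3.symm

theorem cp_mp_right (hf : Mp D X f) (hX : X ≤ T₂) : Mp E₂ X f := by
  obtain ⟨hc, hT, hZ, hfac⟩ := cp_factor h
  subst hT
  have hc' : ∀ b ∈ T₂, ∀ a ∈ T₁, b * a = a * b := fun b hb a ha => (hc a ha b hb).symm
  obtain ⟨-, f₁, f₂, h₁, h₂, he⟩ := mp_D_decomp (hc := hc) (hX.trans (le_norm_of_comm hc')) (hX.trans Subgroup.le_normalizer) hfac hf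
  have hle : X ≤ e2 T₁ T₂ X := fun x hx => ⟨Subgroup.mem_sup_left hx, hX hx⟩
  refine (h₂.restrict hle).congr (fun x hx => ?_)
  have h3 := he 1 (Subgroup.one_mem _) x (hle hx) (by simpa using hx)
  rw [one_mul, h₁.map_one, one_mul] at h3
  exact h3.symm

theorem cp_ext_left [Finite T₁] [Finite T₂] (hf : Mp E₁ X f) : ∃ g, Mp D (X ⊔ T₂) g ∧ (∀ x ∈ X, g x = f x) ∧ ∀ t ∈ T₂, g t = t := by
  have hZ₁ := cp_center_left h
  obtain ⟨hc, hT, hZ, hfac⟩ := cp_factor h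
  subst hT
  haveI := prod_finite (T₁ := T₁) (T₂ := T₂)
  have hsc : (Cfsg.Agent.Lib.FusionExt.Product.productSystem E₁ E₂).StronglyClosed (antiZ hc) := by
    refine ⟨hfac.1, fun P hP φ hφ x => ?_⟩
    rw [map_of_mem_center _ hφ x.2 (hZ (hP x.2))]
    exact hP x.2
  obtain ⟨-, hcen⟩ := cen_of_le_center (C := E₁) hZ₁
  obtain ⟨g₁, hg₁, hg₁e, hg₁q⟩ := hcen _ _ hf
  have h₂ : Mp E₂ T₂ (fun x => x) := Mp.refl le_rfl
  obtain ⟨g, hg, hge⟩ := exists_mp_D (X := X ⊔ T₂) hfac hsc (hg₁.le) le_rfl le_sup_right inf_le_right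
    (sup_le_sup_right le_sup_left _) hg₁ h₂
  refine ⟨g, hg, fun x hx => ?_, fun t ht => ?_⟩
  · have h3 := hge x (Subgroup.mem_sup_left hx) 1 (Subgroup.one_mem _) (by simpa using Subgroup.mem_sup_left hx)
    rw [mul_one, mul_one] at h3
    rw [h3, hg₁e x hx]
  · have h3 := hge 1 (Subgroup.one_mem _) t ht (by simpa using Subgroup.mem_sup_right ht)
    rw [one_mul, hg₁.map_one, one_mul] at h3
    exact h3

theorem cp_ext_right [Finite T₁] [Finite T₂] (hf : Mp E₂ X f) : ∃ g, Mp D (X ⊔ T₁) g ∧ (∀ x ∈ X, g x = f x) ∧ ∀ t ∈ T₁, g t = t := by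
  have hZ₂ := cp_center_right h
  obtain ⟨hc, hT, hZ, hfac⟩ := cp_factor h
  subst hT
  haveI := prod_finite (T₁ := T₁) (T₂ := T₂)
  have hsc : (Cfsg.Agent.Lib.FusionExt.Product.productSystem E₁ E₂).StronglyClosed (antiZ hc) := by
    refine ⟨hfac.1, fun P hP φ hφ x => ?_⟩
    rw [map_of_mem_center _ hφ x.2 (hZ (hP x.2))]
    exact hP x.2
  obtain ⟨-, hcen⟩ := cen_of_le_center (C := E₂) hZ₂
  obtain ⟨g₂, hg₂, hg₂e, hg₂q⟩ := hcen _ _ hf
  have h₁ : Mp E₁ T₁ (fun x => x) := Mp.refl le_rfl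
  obtain ⟨g, hg, hge⟩ := exists_mp_D (X := X ⊔ T₁) hfac hsc le_rfl (hg₂.le) inf_le_left le_sup_right
    (by rw [sup_comm]; exact sup_le_sup_left le_sup_left _) h₁ hg₂
  refine ⟨g, hg, fun x hx => ?_, fun t ht => ?_⟩
  · have h3 := hge 1 (Subgroup.one_mem _) x (Subgroup.mem_sup_left hx) (by simpa using Subgroup.mem_sup_left hx)
    rw [one_mul, one_mul] at h3
    rw [h3, hg₂e x hx]
  · have h3 := hge t ht 1 (Subgroup.one_mem _) (by simpa using Subgroup.mem_sup_right ht)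
    rw [mul_one, hg₂.map_one, mul_one] at h3
    exact h3

end cp

/-- **A normal subsystem of a central factor is normal (abstract form).** -/
theorem normal_of_factor {A : FusionSystem T₁} [Finite T] (hTp : IsPGroup p T) (hD : D.IsSaturated p) (hCA : C.IsNormalIn A p)
    (hT : T = T₁ ⊔ T₂) (hcomm : ∀ a ∈ T₁, ∀ b ∈ T₂, a * b = b * a)
    (H1 : ∀ (X : Subgroup Ω) (f : Ω → Ω), Mp D X f → X ≤ T₁ → Mp A X f)
    (H2 : ∀ (X : Subgroup Ω) (f : Ω → Ω), Mp A X f → ∃ g, Mp D (X ⊔ T₂) g ∧ (∀ x ∈ X, g x = f x) ∧ ∀ t ∈ T₂, g t = t) :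
    C.IsNormalIn D p := by
  subst hT
  obtain ⟨⟨hCs, hAs, hsub, hU, hInv, hFr⟩, hext⟩ := id hCA
  have hUT₁ : U ≤ T₁ := hU.1
  have hT₁T : T₁ ≤ T₁ ⊔ T₂ := le_sup_left
  have hUT : U ≤ T₁ ⊔ T₂ := hUT₁.trans hT₁T
  haveI : Finite T₁ := finite_of_le hT₁T
  have hAp : IsPGroup p T₁ := hTp.to_le hT₁T
  have hSI : StrongInv A C := strong_of_inv hInv hFr
  have hsub' : C.IsSubsystemOf D := by
    intro P φ hφ
    apply hom_of_mp
    obtain ⟨g, hg, hge, -⟩ := H2 P _ (mp_sub hsub (mp_of_hom hφ))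
    exact (hg.restrict le_sup_left).congr hge
  have hsc : D.StronglyClosed U := by
    refine ⟨hUT, fun R hR φ hφ x => ?_⟩
    have h1 := sc_mp hU (H1 R _ (mp_of_hom hφ) (hR.trans hUT₁)) hR x.2
    rwa [extOf_coe] at h1
  have hSI' : StrongInv D C :=
    strongInv_of_mp (fun P Q' W f g hPQ hQ'U hf hfQ hg hi =>
      sI_mp hSI hPQ hQ'U hf hfQ (H1 _ _ hg (hQ'U.trans hUT₁)) hi)
  have hext' : ∀ α ∈ C.autGroup U, ∃ β ∈ D.autGroup (U ⊔ centralizerIn (T₁ ⊔ T₂) U),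
      (∀ x : U, ((β (Subgroup.inclusion le_sup_left x) : ↥(U ⊔ centralizerIn (T₁ ⊔ T₂) U)) : Ω) = ((α x : U) : Ω)) ∧
      ∀ c : ↥(U ⊔ centralizerIn (T₁ ⊔ T₂) U), (c : Ω) ∈ centralizerIn (T₁ ⊔ T₂) U →
        (c : Ω)⁻¹ * ((β c : ↥(U ⊔ centralizerIn (T₁ ⊔ T₂) U)) : Ω) ∈ U ⊓ Subgroup.centralizer (U : Set Ω) := by
    intro α hα
    obtain ⟨β₀, hβ₀, hβ₁, hβ₂⟩ := hext α hα
    have hVT₁ : U ⊔ centralizerIn T₁ U ≤ T₁ := sup_le hUT₁ inf_le_left
    have hβ₀m : Mp A (U ⊔ centralizerIn T₁ U) (autFun β₀) := mp_autFun hVT₁ hβ₀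
    obtain ⟨g, hg, hge, hgq⟩ := H2 _ _ hβ₀m
    have hdec : ∀ c ∈ centralizerIn (T₁ ⊔ T₂) U, ∃ a ∈ centralizerIn T₁ U, ∃ b ∈ T₂, c = a * b := by
      intro c hc
      obtain ⟨hc1, hc2⟩ := mem_cent.1 hc
      obtain ⟨a, ha, b, hb, rfl⟩ := exists_mul_of_mem_sup' (le_norm_of_comm hcomm) hc1
      refine ⟨a, mem_cent.2 ⟨ha, fun y hy => ?_⟩, b, hb, rfl⟩
      have h1 := hc2 y hy
      have h2 := hcomm y (hUT₁ hy) b hb
      have h3 : y * a * b = a * y * b := by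
        calc y * a * b = y * (a * b) := by group
          _ = a * b * y := h1
          _ = a * (b * y) := by group
          _ = a * (y * b) := by rw [h2]
          _ = a * y * b := by group
      exact mul_right_cancel h3
    have hle : U ⊔ centralizerIn (T₁ ⊔ T₂) U ≤ (U ⊔ centralizerIn T₁ U) ⊔ T₂ := by
      refine sup_le (le_sup_left.trans le_sup_left) (fun c hc => ?_)
      obtain ⟨a, ha, b, hb, rfl⟩ := hdec c hc
      exact Subgroup.mul_mem _ (Subgroup.mem_sup_left (Subgroup.mem_sup_right ha)) (Subgroup.mem_sup_right hb)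
    have hgU : ∀ x ∈ U, g x = autFun α x := by
      intro x hx
      rw [hge x (Subgroup.mem_sup_left hx), autFun_of_mem β₀ (Subgroup.mem_sup_left hx), autFun_of_mem α hx]
      exact hβ₁ ⟨x, hx⟩
    have hgc : ∀ c ∈ centralizerIn (T₁ ⊔ T₂) U, c⁻¹ * g c ∈ U ⊓ Subgroup.centralizer (U : Set Ω) := by
      intro c hc
      obtain ⟨a, ha, b, hb, rfl⟩ := hdec c hc
      have haV : a ∈ (U ⊔ centralizerIn T₁ U) ⊔ T₂ := Subgroup.mem_sup_left (Subgroup.mem_sup_right ha)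
      have hbV : b ∈ (U ⊔ centralizerIn T₁ U) ⊔ T₂ := Subgroup.mem_sup_right hb
      have haz : a⁻¹ * autFun β₀ a ∈ U ⊓ Subgroup.centralizer (U : Set Ω) := by
        rw [autFun_of_mem β₀ (Subgroup.mem_sup_right ha)]
        exact hβ₂ ⟨a, Subgroup.mem_sup_right ha⟩ ha
      rw [hg.map_mul haV hbV, hge a (Subgroup.mem_sup_right ha), hgq b hb]
      have h1 := hcomm _ (hUT₁ haz.1) b hb
      have e : (a * b)⁻¹ * (autFun β₀ a * b) = b⁻¹ * ((a⁻¹ * autFun β₀ a) * b) := by group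
      rw [e, h1]
      have e2 : b⁻¹ * (b * (a⁻¹ * autFun β₀ a)) = a⁻¹ * autFun β₀ a := by group
      rw [e2]
      exact haz
    have hm : ∀ x ∈ U ⊔ centralizerIn (T₁ ⊔ T₂) U, g x ∈ U ⊔ centralizerIn (T₁ ⊔ T₂) U := by
      refine maps_sup (hg.restrict hle) (fun x hx => ?_) (fun c hc => ?_)
      · rw [hgU x hx]
        exact Subgroup.mem_sup_left ((img_autFun α).1 x hx)
      · have e : g c = c * (c⁻¹ * g c) := by group
        rw [e]
        exact Subgroup.mul_mem _ (Subgroup.mem_sup_right hc) (Subgroup.mem_sup_left (hgc c hc).1)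
    obtain ⟨b, hb, hbe⟩ := (hg.restrict hle).toAut (LowPi.img_self (hg.restrict hle) hm)
    refine ⟨b, hb, fun x => ?_, fun c hc => ?_⟩
    · rw [hbe]
      exact (hgU x x.2).trans (autFun_coe α x)
    · rw [hbe]
      exact hgc c hc
  exact ⟨⟨hCs, hD, (isInvariantIn_iff hTp hD hsub' hsc).2 hSI'⟩, hext'⟩

/-- **A normal subsystem of the left factor of a central product is normal.** -/
theorem normal_left [Finite T] (hTp : IsPGroup p T) (hD : D.IsSaturated p) (h : IsCentralProductOf E₁ E₂ D) (hC : C.IsNormalIn E₁ p) : C.IsNormalIn D p := by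
  obtain ⟨hc, hT, -, -⟩ := cp_factor h
  have hT₁T : T₁ ≤ T := hT ▸ le_sup_left
  have hT₂T : T₂ ≤ T := hT ▸ le_sup_right
  haveI : Finite T₁ := finite_of_le hT₁T
  haveI : Finite T₂ := finite_of_le hT₂T
  exact normal_of_factor hTp hD hC hT hc (fun X f hf hX => cp_mp_left h hf hX) (fun X f hf => cp_ext_left h hf)

/-- **A normal subsystem of the right factor of a central product is normal.** -/
theorem normal_right [Finite T] (hTp : IsPGroup p T) (hD : D.IsSaturated p) (h : IsCentralProductOf E₁ E₂ D) (hC : C.IsNormalIn E₂ p) : C.IsNormalIn D p := by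
  obtain ⟨hc, hT, -, -⟩ := cp_factor h
  have hT₁T : T₁ ≤ T := hT ▸ le_sup_left
  have hT₂T : T₂ ≤ T := hT ▸ le_sup_right
  haveI : Finite T₁ := finite_of_le hT₁T
  haveI : Finite T₂ := finite_of_le hT₂T
  exact normal_of_factor hTp hD hC (by rw [hT, sup_comm]) (fun b hb a ha => (hc a ha b hb).symm)
    (fun X f hf hX => cp_mp_right h hf hX) (fun X f hf => cp_ext_right h hf)

end Cfsg.Agent.Lib.FusionExt.CentP
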