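import Cfsg.Agent.Lib.FusionExt.LowPi2
import Cfsg.Agent.Lib.FusionExt.FactorExt

/-!
# Centralizer systems of normal subgroups in normal subsystems are normal (helper92)
-/

set_option autoImplicit false

namespace Cfsg.Agent.Lib.FusionExt.CentSys

open Cfsg Cfsg.FusionSystem Cfsg.Agent.Lib.Fusion.Basic Cfsg.Agent.Lib.Fusion.GroupSystem
open Cfsg.Agent.Lib.FusionExt.MapApi Cfsg.Agent.Lib.FusionExt.Basic Cfsg.Agent.Lib.FusionExt.Normal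
open Cfsg.Agent.Lib.FusionExt.SatCrit1 Cfsg.Agent.Lib.FusionExt.PowerSys Cfsg.Agent.Lib.FusionExt.PowerGen
open Cfsg.Agent.Lib.FusionExt.PrimeRes1 Cfsg.Agent.Lib.Fusion.Saturation Cfsg.Agent.Lib.Fusion.Saturation2
open Cfsg.Agent.Lib.Fusion.KSystem Cfsg.Agent.Lib.FusionExt.Invariant Cfsg.Agent.Lib.FusionExt.PowerE
open Cfsg.Agent.Lib.FusionExt.LowPi

variable {Ω : Type*} [Group Ω] {S T : Subgroup Ω} {F : FusionSystem S} {E D : FusionSystem T} {p : ℕ}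
variable {X Y Q R P A : Subgroup Ω} {f f' g h k G : Ω → Ω}

/-- The extension over a normal subgroup, as a function. -/
theorem mp_normal_ext (hQ : F.IsNormal Q) (hf : Mp F X f) :
    ∃ g, Mp F (X ⊔ Q) g ∧ (∀ x ∈ X, g x = f x) ∧ Img Q g Q := by
  obtain ⟨φ, hφ, e⟩ := hf
  obtain ⟨ψ, hψ, h1, h2⟩ := hQ.2 X φ hφ
  refine ⟨extOf ψ, mp_of_hom hψ, fun x hx => ?_, fun x hx => ?_, fun y hy => ?_⟩
  · rw [extOf_of_mem ψ (Subgroup.mem_sup_left hx), ← e ⟨x, hx⟩]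
    exact h1 ⟨x, hx⟩
  · rw [extOf_of_mem ψ (Subgroup.mem_sup_right hx)]
    exact h2.le ⟨⟨x, Subgroup.mem_sup_right hx⟩, hx, rfl⟩
  · rw [← h2] at hy
    obtain ⟨x, hx, rfl⟩ := hy
    exact ⟨x, hx, extOf_coe ψ x⟩

/-- Maps of a centralizer system. -/
theorem mp_centSys {hQ : Q ≤ T} : Mp (centralizerSystem D Q hQ) X f ↔ X ≤ centralizerIn T Q ∧
    (∀ x ∈ X, f x ∈ centralizerIn T Q) ∧ ∃ g, Mp D (X ⊔ Q) g ∧ (∀ x ∈ X, g x = f x) ∧ ∀ q ∈ Q, g q = q := by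
  constructor
  · rintro ⟨φ, ⟨hφ, h1, h2, ψ, hψ, h3, h4⟩, e⟩
    refine ⟨h1, fun x hx => ?_, extOf ψ, mp_of_hom hψ, fun x hx => ?_, fun q hq => ?_⟩
    · rw [← e ⟨x, hx⟩]
      exact h2 ⟨x, hx⟩
    · rw [extOf_of_mem ψ (Subgroup.mem_sup_left hx), ← e ⟨x, hx⟩]
      exact h3 ⟨x, hx⟩
    · rw [extOf_of_mem ψ (Subgroup.mem_sup_right hq)]
      exact h4 ⟨q, hq⟩
  · rintro ⟨h1, h2, g, hg, h3, h4⟩
    obtain ⟨φ, hφ, e⟩ := (hg.restrict (le_sup_left : X ≤ X ⊔ Q)).congr h3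
    obtain ⟨ψ, hψ, e'⟩ := hg
    refine ⟨φ, ⟨hφ, h1, fun x => ?_, ψ, hψ, fun x => ?_, fun x => ?_⟩, e⟩
    · rw [e]
      exact h2 _ x.2
    · rw [e, ← h3 _ x.2]
      exact e' _
    · exact (e' _).trans (h4 _ x.2)

theorem fc_of_normal [Finite T] (hQ : D.IsNormal Q) : D.IsFullyCentralized Q := by
  refine ⟨hQ.1, fun Q' hQ' => ?_⟩
  have := Cfsg.Agent.Lib.FusionExt.Constrained.isConj_eq_of_isNormal D hQ hQ'
  rw [this]

/-- Strong invariance, function form. -/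
theorem sI_mp (hSI : StrongInv F E) {Q' : Subgroup Ω} (hPQ : P ≤ Q') (hQT : Q' ≤ T) (hf : Mp E P f) (hfQ : ∀ x ∈ P, f x ∈ Q')
    (hg : Mp F Q' g) (hi : Img P g X) : ∃ h, Mp E X h ∧ ∀ x ∈ P, h (g x) = g (f x) := by
  obtain ⟨φ, hφ, ef⟩ := hf
  obtain ⟨ψ, hψ, eg⟩ := hg
  obtain ⟨χ, hχ, hχv⟩ := hSI P Q' hPQ hQT φ hφ (fun x => by rw [ef]; exact hfQ _ x.2) ψ hψ
  have hi₀ : Img P g ((P.subgroupOf Q').map ψ) := by
    refine ⟨fun x hx => ⟨⟨x, hPQ hx⟩, hx, eg _⟩, fun y hy => ?_⟩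
    obtain ⟨x, hx, rfl⟩ := hy
    exact ⟨x, hx, (eg x).symm⟩
  have e : X = (P.subgroupOf Q').map ψ := hi.unique hi₀
  subst e
  refine ⟨extOf χ, mp_of_hom hχ, fun x hx => ?_⟩
  have hm : ψ (Subgroup.inclusion hPQ ⟨x, hx⟩) ∈ (P.subgroupOf Q').map ψ := ⟨⟨x, hPQ hx⟩, hx, rfl⟩
  have e1 := hχv ⟨x, hx⟩ hm
  have e2 : g x = ψ (Subgroup.inclusion hPQ ⟨x, hx⟩) := (eg ⟨x, hPQ hx⟩).symm
  rw [extOf_of_mem χ (by rw [e2]; exact hm)]
  have e3 : (⟨g x, by rw [e2]; exact hm⟩ : ↥((P.subgroupOf Q').map ψ)) = ⟨ψ (Subgroup.inclusion hPQ ⟨x, hx⟩), hm⟩ :=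
    Subtype.ext e2
  rw [e3, e1, eg]
  show g (φ ⟨x, hx⟩) = g (f x)
  rw [ef]

/-- Strong invariance from the function form. -/
theorem strongInv_of_mp (h : ∀ (P Q' X : Subgroup Ω) (f g : Ω → Ω), P ≤ Q' → Q' ≤ T → Mp E P f → (∀ x ∈ P, f x ∈ Q') →
    Mp F Q' g → Img P g X → ∃ h, Mp E X h ∧ ∀ x ∈ P, h (g x) = g (f x)) : StrongInv F E := by
  intro P Q' hPQ hQT φ hφ hφQ ψ hψ
  have hi₀ : Img P (extOf ψ) ((P.subgroupOf Q').map ψ) := by
    refine ⟨fun x hx => ?_, fun y hy => ?_⟩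
    · rw [extOf_of_mem ψ (hPQ hx)]
      exact ⟨⟨x, hPQ hx⟩, hx, rfl⟩
    · obtain ⟨x, hx, rfl⟩ := hy
      exact ⟨x, hx, extOf_coe ψ x⟩
  obtain ⟨k, hk, he⟩ := h P Q' _ (extOf φ) (extOf ψ) hPQ hQT (mp_of_hom hφ) (fun x hx => by
    rw [extOf_of_mem φ hx]
    exact hφQ ⟨x, hx⟩) (mp_of_hom hψ) hi₀
  obtain ⟨χ, hχ, e⟩ := hk
  refine ⟨χ, hχ, fun x hx => ?_⟩
  rw [e]
  have h1 := he x x.2
  rw [extOf_of_mem ψ (hPQ x.2), extOf_of_mem φ x.2, extOf_of_mem ψ (hφQ x)] at h1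
  exact h1

theorem iter_mul (hf : Mp F X f) (hm : ∀ x ∈ X, f x ∈ X) {x y : Ω} (hx : x ∈ X) (hy : y ∈ X) (n : ℕ) :
    f^[n] (x * y) = f^[n] x * f^[n] y := by
  induction n with
  | zero => rfl
  | succ n ih =>
    rw [Function.iterate_succ_apply', Function.iterate_succ_apply', Function.iterate_succ_apply', ih,
      hf.map_mul (iterate_mem hm n hx) (iterate_mem hm n hy)]

section main

variable [Finite S] [Fact p.Prime]

/-- The group `A C_S(A)` is normal in `S` for `A` strongly closed. -/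
theorem conj_cA (hA : F.StronglyClosed A) {s d : Ω} (hs : s ∈ S) (hd : d ∈ centralizerIn S A) :
    s * d * s⁻¹ ∈ centralizerIn S A := by
  refine conj_cent hs (fun y hy => ?_) hd
  have := sc_conj_mem F hA (S.inv_mem hs) hy
  rwa [inv_inv] at this

theorem conj_RA (hA : F.StronglyClosed A) {s x : Ω} (hs : s ∈ S) (hx : x ∈ A ⊔ centralizerIn S A) :
    s * x * s⁻¹ ∈ A ⊔ centralizerIn S A := by
  have hle : A ⊔ centralizerIn S A ≤ (A ⊔ centralizerIn S A).comap (MulAut.conj s).toMonoidHom := by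
    refine sup_le (fun y hy => ?_) (fun y hy => ?_)
    · exact Subgroup.mem_sup_left (sc_conj_mem F hA hs hy)
    · exact Subgroup.mem_sup_right (conj_cA hA hs hy)
  exact hle hx

theorem conj_zz (hA : F.StronglyClosed A) (hT : F.StronglyClosed T) {s z : Ω} (hs : s ∈ S) (hz : z ∈ zz T A) :
    s * z * s⁻¹ ∈ zz T A := by
  refine mem_zz.2 ⟨sc_conj_mem F hT hs (mem_zz.1 hz).1, fun y hy => ?_⟩
  have hy' : s⁻¹ * y * s ∈ A := by
    have := sc_conj_mem F hA (S.inv_mem hs) hy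
    rwa [inv_inv] at this
  have h1 := (mem_zz.1 hz).2 _ hy'
  calc y * (s * z * s⁻¹) = s * ((s⁻¹ * y * s) * z) * s⁻¹ := by group
    _ = s * (z * (s⁻¹ * y * s)) * s⁻¹ := by rw [h1]
    _ = s * z * s⁻¹ * y := by group

theorem RA_fn (hA : F.StronglyClosed A) : F.IsFullyNormalized (A ⊔ centralizerIn S A) := by
  have hRS : A ⊔ centralizerIn S A ≤ S := sup_le hA.1 inf_le_left
  haveI : Finite ↥(A ⊔ centralizerIn S A) := finite_of_le hRS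
  refine ⟨hRS, fun Q' hQ' => ?_⟩
  have e : normalizerIn S (A ⊔ centralizerIn S A) = S := by
    refine le_antisymm (normalizerIn_le_left _ _) (fun s hs => ⟨hs, ?_⟩)
    exact mem_normalizer_of_conj_le' (fun x hx => conj_RA hA hs hx)
  rw [e]
  exact Subgroup.card_le_of_le (normalizerIn_le_left _ Q')

/-- Automorphisms of `A C_S(A)`. -/
theorem RA_aut_facts (hA : F.StronglyClosed A) (hT : F.StronglyClosed T) (hAT : A ≤ T)
    {a : MulAut ↥(A ⊔ centralizerIn S A)} (ha : a ∈ F.autGroup (A ⊔ centralizerIn S A)) :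
    (∀ x ∈ A, autFun a x ∈ A) ∧ (∀ x ∈ centralizerIn S A, autFun a x ∈ centralizerIn S A) ∧
    (∀ x ∈ zz T A, x ∈ A → autFun a x ∈ zz T A) := by
  have hRS : A ⊔ centralizerIn S A ≤ S := sup_le hA.1 inf_le_left
  have hm : Mp F (A ⊔ centralizerIn S A) (autFun a) := mp_autFun hRS ha
  have hAR : A ≤ A ⊔ centralizerIn S A := le_sup_left
  have h1 : ∀ x ∈ A, autFun a x ∈ A := fun x hx => sc_mp hA (hm.restrict hAR) le_rfl hx
  have hi : Img A (autFun a) A := LowPi.img_self (hm.restrict hAR) h1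
  refine ⟨h1, fun x hx => ?_, fun x hx hxA => zz_img hm hAR hi hAT hx hxA⟩
  have hxR : x ∈ A ⊔ centralizerIn S A := Subgroup.mem_sup_right hx
  refine mem_cent.2 ⟨hm.mem_S hxR, fun y hy => ?_⟩
  obtain ⟨u, hu, rfl⟩ := hi.2 y hy
  rw [← hm.map_mul (hAR hu) hxR, ← hm.map_mul hxR (hAR hu), (mem_cent.1 hx).2 u hu]

/-- The conjugates of `G` by elements commuting with it on `A`. -/
theorem conj_R (hS : IsPGroup p S) (hF : F.IsSaturated p) (hA : F.StronglyClosed A) (hT : F.StronglyClosed T) (hAT : A ≤ T)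
    (hcz : zz T A ≤ A) (hG : Mp F (A ⊔ centralizerIn S A) G) (hGi : Img (A ⊔ centralizerIn S A) G (A ⊔ centralizerIn S A))
    (hGA : Img A G A) (hGd : ∀ d ∈ centralizerIn S A, d⁻¹ * G d ∈ zz T A) {c : Ω} (hc : c ∈ S)
    (hrel : ∀ y ∈ A, G (c * y * c⁻¹) = c * G y * c⁻¹) :
    ∃ s ∈ centralizerIn S A, ∀ x ∈ A ⊔ centralizerIn S A, G (c * x * c⁻¹) = (c * s) * G x * (c * s)⁻¹ := by
  have hRS : A ⊔ centralizerIn S A ≤ S := sup_le hA.1 inf_le_left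
  have hAR : A ≤ A ⊔ centralizerIn S A := le_sup_left
  have hCR : centralizerIn S A ≤ A ⊔ centralizerIn S A := le_sup_right
  obtain ⟨k₁, hk₁, hk1, hk2, hk3⟩ := hG.inverse hGi
  have hk₁A : Img A k₁ A := by
    refine ⟨fun y hy => ?_, fun y hy => ⟨G y, hGA.1 y hy, hk1 y (hAR hy)⟩⟩
    obtain ⟨u, hu, rfl⟩ := hGA.2 y hy
    rw [hk1 u (hAR hu)]
    exact hu
  have hk₁Z : ∀ u ∈ zz T A, k₁ u ∈ zz T A := fun u hu => zz_img hk₁ hAR hk₁A hAT hu (hcz hu)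
  have hGZ : ∀ u ∈ zz T A, G u ∈ zz T A := fun u hu => zz_img hG hAR hGA hAT hu (hcz hu)
  let v : Ω → Ω := fun x => c⁻¹ * G (c * k₁ x * c⁻¹) * c
  have hconjc : ∀ x ∈ A ⊔ centralizerIn S A, c * x * c⁻¹ ∈ A ⊔ centralizerIn S A := fun x hx => conj_RA hA hc hx
  have hconji : ∀ x ∈ A ⊔ centralizerIn S A, c⁻¹ * x * c ∈ A ⊔ centralizerIn S A := fun x hx => by
    have := conj_RA hA (S.inv_mem hc) hx
    rwa [inv_inv] at this
  have hv : Mp F (A ⊔ centralizerIn S A) v := by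
    have h1 : Mp F (A ⊔ centralizerIn S A) (fun x => c * k₁ x * c⁻¹) := hk₁.comp hk3.1 (Mp.conj hRS hc)
    have h2 : Mp F (A ⊔ centralizerIn S A) (fun x => G (c * k₁ x * c⁻¹)) := h1.comp (fun x hx => hconjc _ (hk3.1 x hx)) hG
    have h3 := h2.comp (Y := A ⊔ centralizerIn S A) (fun x hx => hGi.1 _ (hconjc _ (hk3.1 x hx))) (Mp.conj (a := c⁻¹) hRS (S.inv_mem hc))
    refine h3.congr (fun x _ => ?_)
    show c⁻¹ * G (c * k₁ x * c⁻¹) * c⁻¹⁻¹ = c⁻¹ * G (c * k₁ x * c⁻¹) * c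
    rw [inv_inv]
  have hvR : ∀ x ∈ A ⊔ centralizerIn S A, v x ∈ A ⊔ centralizerIn S A := fun x hx => hconji _ (hGi.1 _ (hconjc _ (hk3.1 x hx)))
  have hvi : Img (A ⊔ centralizerIn S A) v (A ⊔ centralizerIn S A) := LowPi.img_self hv hvR
  have hvA : ∀ x ∈ A, v x = x := by
    intro x hx
    have hkx := hk₁A.1 x hx
    show c⁻¹ * G (c * k₁ x * c⁻¹) * c = x
    rw [hrel _ hkx, hk2 x (hAR hx)]
    group
  obtain ⟨a, ha, hae⟩ := hv.toAut hvi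
  have haf : ∀ x ∈ A ⊔ centralizerIn S A, autFun a x = v x := by
    intro x hx
    rw [autFun_of_mem a hx, hae ⟨x, hx⟩]
  have hvC : ∀ d ∈ centralizerIn S A, d⁻¹ * v d ∈ zz T A := by
    intro d hd
    have hdR := hCR hd
    set z₀ := d⁻¹ * G d with hz₀
    have hz₀Z : z₀ ∈ zz T A := hGd d hd
    have hGde : G d = d * z₀ := by rw [hz₀]; group
    have hkd : k₁ d = d * (k₁ z₀)⁻¹ := by
      have h1 : k₁ (G d) = d := hk1 d hdR
      rw [hGde, hk₁.map_mul hdR (hAR (hcz hz₀Z))] at h1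
      rw [eq_mul_inv_iff_mul_eq]
      exact h1
    have hz₁ : (k₁ z₀)⁻¹ ∈ zz T A := Subgroup.inv_mem _ (hk₁Z _ hz₀Z)
    set z₁ := (k₁ z₀)⁻¹ with hz₁def
    set d' := c * d * c⁻¹ with hd'
    have hd'C : d' ∈ centralizerIn S A := conj_cA hA hc hd
    set z₁' := c * z₁ * c⁻¹ with hz₁'
    have hz₁'Z : z₁' ∈ zz T A := conj_zz hA hT hc hz₁
    have e1 : c * k₁ d * c⁻¹ = d' * z₁' := by
      rw [hkd, hd', hz₁']
      group
    have e2 : G (c * k₁ d * c⁻¹) = d' * (d'⁻¹ * G d') * G z₁' := by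
      rw [e1, hG.map_mul (hCR hd'C) (hAR (hcz hz₁'Z))]
      group
    have hz₂ : d'⁻¹ * G d' ∈ zz T A := hGd d' hd'C
    have hz₃ : (d'⁻¹ * G d') * G z₁' ∈ zz T A := Subgroup.mul_mem _ hz₂ (hGZ _ hz₁'Z)
    set z₃ := (d'⁻¹ * G d') * G z₁' with hz₃def
    have e3 : v d = c⁻¹ * (d' * z₃) * c := by
      show c⁻¹ * G (c * k₁ d * c⁻¹) * c = _
      rw [e2, hz₃def]
      group
    have e5 : d⁻¹ * v d = c⁻¹ * z₃ * c := by
      rw [e3, hd']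
      group
    rw [e5]
    have := conj_zz hA hT (S.inv_mem hc) hz₃
    rwa [inv_inv] at this
  have hfnR := RA_fn hA
  have hFA := isFullyAutomized_of_isFullyNormalized F hS hF hfnR
  have hin : a ∈ autInducedBy S (A ⊔ centralizerIn S A) := by
    refine v_induced (A := A) (D := centralizerIn S A) (Z := zz T A) hS hRS hFA hcz ?_ ?_ ?_ ?_ ?_ ha ?_ ?_
    · exact fun d hd => cent_le_normalizer hd
    · intro u hu x hx
      exact (mem_zz.1 hu).2 x hx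
    · exact fun b hb => (RA_aut_facts hA hT hAT hb).1
    · exact fun b hb => (RA_aut_facts hA hT hAT hb).2.1
    · exact fun b hb x hx => (RA_aut_facts hA hT hAT hb).2.2 x hx (hcz hx)
    · intro x hx
      rw [haf x (hAR hx), hvA x hx]
    · intro d hd
      rw [haf d (hCR hd)]
      exact hvC d hd
  obtain ⟨s, hsS, hse⟩ := (mem_autInducedBy_iff _ _ a).1 hin
  have hsv : ∀ x ∈ A ⊔ centralizerIn S A, v x = s * x * s⁻¹ := by
    intro x hx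
    rw [← haf x hx, autFun_of_mem a hx]
    exact hse ⟨x, hx⟩
  have hsC : s ∈ centralizerIn S A := by
    refine mem_cent.2 ⟨hsS, fun y hy => ?_⟩
    have h1 := hsv y (hAR hy)
    rw [hvA y hy] at h1
    calc y * s = s * y * s⁻¹ * s := by rw [← h1]
      _ = s * y := by group
  refine ⟨s, hsC, fun x hx => ?_⟩
  have hGx := hGi.1 x hx
  have h1 := hsv _ hGx
  have h2 : v (G x) = c⁻¹ * G (c * x * c⁻¹) * c := by
    show c⁻¹ * G (c * k₁ (G x) * c⁻¹) * c = _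
    rw [hk1 x hx]
  rw [h2] at h1
  have h3 : G (c * x * c⁻¹) = c * (s * G x * s⁻¹) * c⁻¹ := by
    rw [← h1]
    group
  rw [h3]
  group

/-- **Extension over further elements.** A `p'`-automorphism of `A C_S(A)` with the extension property that commutes on `A` with
the elements of a subgroup extends over it, with the extension property. -/
theorem ext_over (hS : IsPGroup p S) (hF : F.IsSaturated p) (hA : F.StronglyClosed A) (hT : F.StronglyClosed T) (hAT : A ≤ T)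
    (hcz : zz T A ≤ A) (hG : Pp F p (A ⊔ centralizerIn S A) G) (hGA : Img A G A)
    (hGd : ∀ d ∈ centralizerIn S A, d⁻¹ * G d ∈ zz T A) {C : Subgroup Ω} (hCS : C ≤ S)
    (hrel : ∀ c ∈ C, ∀ y ∈ A, G (c * y * c⁻¹) = c * G y * c⁻¹) :
    ∃ Γ, Pp F p ((A ⊔ centralizerIn S A) ⊔ C) Γ ∧ (∀ x ∈ A ⊔ centralizerIn S A, Γ x = G x) ∧
      ∀ c ∈ C, c⁻¹ * Γ c ∈ zz T A := by
  have hRS : A ⊔ centralizerIn S A ≤ S := sup_le hA.1 inf_le_left
  have hAR : A ≤ A ⊔ centralizerIn S A := le_sup_left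
  have hCR : centralizerIn S A ≤ A ⊔ centralizerIn S A := le_sup_right
  have hWS : (A ⊔ centralizerIn S A) ⊔ C ≤ S := sup_le hRS hCS
  have hRW : A ⊔ centralizerIn S A ≤ (A ⊔ centralizerIn S A) ⊔ C := le_sup_left
  have hCW : C ≤ (A ⊔ centralizerIn S A) ⊔ C := le_sup_right
  haveI : Finite ↥(A ⊔ centralizerIn S A) := finite_of_le hRS
  obtain ⟨hGM, hGi, hGo⟩ := id hG
  have hfnR := RA_fn hA
  have hrec := isReceptive_of_isFullyNormalized F hS hF hfnR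
  have hCn : C ≤ Subgroup.normalizer ((A ⊔ centralizerIn S A : Subgroup Ω) : Set Ω) := fun c hc =>
    mem_normalizer_of_conj_le' (fun x hx => conj_RA hA (hCS hc) hx)
  obtain ⟨Γ, hΓ, hΓe⟩ := hGM.ext_rec hrec hGi (Y := (A ⊔ centralizerIn S A) ⊔ C) le_sup_left (fun y hy => by
    have hy' : y ∈ C ⊔ (A ⊔ centralizerIn S A) := by
      rw [sup_comm]
      exact hy
    obtain ⟨c, hc, r, hr, rfl⟩ := exists_mul_of_mem_sup' hCn hy'
    obtain ⟨s, hs, hse⟩ := conj_R hS hF hA hT hAT hcz hGM hGi hGA hGd (hCS hc) (hrel c hc)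
    refine ⟨hWS hy, Subgroup.mul_mem _ (hCn hc) (Subgroup.le_normalizer hr), (c * s) * G r, ?_, fun x hx => ?_⟩
    · exact S.mul_mem (S.mul_mem (hCS hc) (mem_cent.1 hs).1) (hRS (hGi.1 r hr))
    · have e1 : c * r * x * (c * r)⁻¹ = c * (r * x * r⁻¹) * c⁻¹ := by group
      rw [e1, hse _ (Subgroup.mul_mem _ (Subgroup.mul_mem _ hr hx) (Subgroup.inv_mem _ hr)), hGM.map_conj hr hx]
      group)
  -- `c⁻¹ Γ(c) ∈ C_S(A)`
  have hΓc : ∀ c ∈ C, c⁻¹ * Γ c ∈ centralizerIn S A := by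
    intro c hc
    obtain ⟨s, hs, hse⟩ := conj_R hS hF hA hT hAT hcz hGM hGi hGA hGd (hCS hc) (hrel c hc)
    have hcW := hCW hc
    have hΓcS := hΓ.mem_S hcW
    have hsS := (mem_cent.1 hs).1
    have hcent : (c * s)⁻¹ * Γ c ∈ centralizerIn S A := by
      refine mem_cent.2 ⟨S.mul_mem (S.inv_mem (S.mul_mem (hCS hc) hsS)) hΓcS, fun y hy => ?_⟩
      obtain ⟨x, hx, rfl⟩ := hGi.2 y (hAR hy)
      have h1 : c * x * c⁻¹ ∈ A ⊔ centralizerIn S A := conj_RA hA (hCS hc) hx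
      have h2 := hΓ.map_conj hcW (hRW hx)
      rw [hΓe _ h1, hΓe x hx, hse x hx] at h2
      set a := c * s with ha
      have h3 : a * G x = Γ c * G x * (Γ c)⁻¹ * a := by
        rw [← h2]
        group
      calc G x * (a⁻¹ * Γ c) = a⁻¹ * (a * G x) * (a⁻¹ * Γ c) := by group
        _ = a⁻¹ * (Γ c * G x * (Γ c)⁻¹ * a) * (a⁻¹ * Γ c) := by rw [h3]
        _ = a⁻¹ * Γ c * G x := by group
    have e : c⁻¹ * Γ c = s * ((c * s)⁻¹ * Γ c) := by group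
    rw [e]
    exact Subgroup.mul_mem _ hs hcent
  have hΓW : ∀ x ∈ (A ⊔ centralizerIn S A) ⊔ C, Γ x ∈ (A ⊔ centralizerIn S A) ⊔ C := by
    refine maps_sup hΓ (fun r hr => ?_) (fun c hc => ?_)
    · rw [hΓe r hr]
      exact hRW (hGi.1 r hr)
    · have e : Γ c = c * (c⁻¹ * Γ c) := by group
      rw [e]
      exact Subgroup.mul_mem _ (hCW hc) (hRW (hCR (hΓc c hc)))
  have hΓi : Img ((A ⊔ centralizerIn S A) ⊔ C) Γ ((A ⊔ centralizerIn S A) ⊔ C) := LowPi.img_self hΓ hΓW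
  obtain ⟨Γ₂, m₂, hΓ₂, hΓ₂e, hΓ₂m⟩ := pp_extend' hWS hΓ hΓi hRW hG hΓe
  refine ⟨Γ₂, hΓ₂, hΓ₂e, fun c hc => ?_⟩
  obtain ⟨hΓ₂M, hΓ₂i, m₀, hm₀, hΓ₂o⟩ := hΓ₂
  have hcW := hCW hc
  have hzC : zz T A ≤ centralizerIn S A := by
    intro z hz
    exact mem_cent.2 ⟨hA.1 (hcz hz), (mem_zz.1 hz).2⟩
  have hGC : ∀ v ∈ centralizerIn S A, G v ∈ centralizerIn S A := by
    intro v hv
    have e : G v = v * (v⁻¹ * G v) := by group
    rw [e]
    exact Subgroup.mul_mem _ hv (hzC (hGd v hv))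
  have hiter : ∀ n : ℕ, c⁻¹ * Γ^[n] c ∈ centralizerIn S A := by
    intro n
    induction n with
    | zero =>
      show c⁻¹ * c ∈ _
      rw [inv_mul_cancel]
      exact Subgroup.one_mem _
    | succ n ih =>
      have e : Γ^[n] c = c * (c⁻¹ * Γ^[n] c) := by group
      rw [Function.iterate_succ_apply', e, hΓ.map_mul hcW (hRW (hCR ih)), ← mul_assoc]
      refine Subgroup.mul_mem _ (hΓc c hc) ?_
      rw [hΓe _ (hCR ih)]
      exact hGC _ ih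
  have hy : c⁻¹ * Γ₂ c ∈ centralizerIn S A := by
    rw [hΓ₂m c hcW]
    exact hiter m₂
  have hco : (orderOf (c⁻¹ * Γ₂ c)).Coprime m₀ := by
    have hyS : c⁻¹ * Γ₂ c ∈ S := (mem_cent.1 hy).1
    obtain ⟨j, hj⟩ := hS ⟨_, hyS⟩
    have h1 : (c⁻¹ * Γ₂ c) ^ p ^ j = 1 := congrArg Subtype.val hj
    have h2 := orderOf_dvd_of_pow_eq_one h1
    refine Nat.Coprime.coprime_dvd_left h2 ?_
    exact (Nat.Coprime.pow_right j hm₀).symm
  have hVW : centralizerIn S A ≤ (A ⊔ centralizerIn S A) ⊔ C := hCR.trans hRW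
  exact coprime_step hΓ₂M hcW hVW hzC hy (fun v hv => by
    rw [hΓ₂e v (hCR hv)]
    exact hGd v hv) (fun u hu => by
    rw [hΓ₂e u (hAR (hcz hu))]
    exact zz_img hGM hAR (hGA) hAT hu (hcz hu)) (fun u hu v hv => (mem_cent.1 hv).2 u (hcz hu)) (hΓ₂o c hcW) hco

local notation "T₁" => centralizerIn T Q
local notation "A₁" => centralizerIn T Q ⊔ Q

theorem T1_sc (hT : F.StronglyClosed T) (hQ : F.IsNormal Q) : F.StronglyClosed (T₁) := by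
  refine ⟨(inf_le_left : T₁ ≤ T).trans hT.1, fun R hR φ hφ x => ?_⟩
  obtain ⟨g, hg, hge, hgi⟩ := mp_normal_ext hQ (mp_of_hom hφ)
  have hxR : (x : Ω) ∈ R := x.2
  have hle : R ≤ R ⊔ Q := le_sup_left
  have hle' : Q ≤ R ⊔ Q := le_sup_right
  have e : φ x = g x := by
    rw [hge x hxR, extOf_coe]
  refine mem_cent.2 ⟨hT.2 R (hR.trans inf_le_left) φ hφ x, fun y hy => ?_⟩
  obtain ⟨q, hq, rfl⟩ := hgi.2 y hy
  rw [e, ← hg.map_mul (hle' hq) (hle hxR), ← hg.map_mul (hle hxR) (hle' hq), (mem_cent.1 (hR hxR)).2 q hq]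

theorem K_sub {hQT : Q ≤ T} : (centralizerSystem D Q hQT).IsSubsystemOf D := fun _ _ hφ => hφ.1

theorem K_strong (hT : F.StronglyClosed T) (hSI : StrongInv F D) (hQ : F.IsNormal Q) (hQT : Q ≤ T) :
    StrongInv F (centralizerSystem D Q hQT) := by
  have hT₁ := T1_sc hT hQ
  refine strongInv_of_mp (fun P Q' X f g hPQ hQ'T hf hfQ hg hi => ?_)
  obtain ⟨h1, h2, f₀, hf₀, hf₀e, hf₀q⟩ := mp_centSys.1 hf
  obtain ⟨g₀, hg₀, hg₀e, hg₀i⟩ := mp_normal_ext hQ hg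
  have hP₂Q₂ : P ⊔ Q ≤ Q' ⊔ Q := sup_le_sup_right hPQ Q
  have hQ₂T : Q' ⊔ Q ≤ T := sup_le (hQ'T.trans inf_le_left) hQT
  have hm : ∀ x ∈ P ⊔ Q, f₀ x ∈ Q' ⊔ Q := by
    refine maps_sup hf₀ (fun a ha => ?_) (fun b hb => ?_)
    · rw [hf₀e a ha]
      exact Subgroup.mem_sup_left (hfQ a ha)
    · rw [hf₀q b hb]
      exact Subgroup.mem_sup_right hb
  obtain ⟨X₂, hX₂⟩ := (hg₀.restrict hP₂Q₂).exists_img
  obtain ⟨h₀, hh₀, hh₀e⟩ := sI_mp hSI hP₂Q₂ hQ₂T hf₀ hm hg₀ hX₂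
  have hXX₂ : X ≤ X₂ := by
    intro y hy
    obtain ⟨x, hx, rfl⟩ := hi.2 y hy
    rw [← hg₀e x (hPQ hx)]
    exact hX₂.1 x (Subgroup.mem_sup_left hx)
  have hQX₂ : Q ≤ X₂ := by
    intro y hy
    obtain ⟨x, hx, rfl⟩ := hg₀i.2 y hy
    exact hX₂.1 x (Subgroup.mem_sup_right hx)
  have hval : ∀ x ∈ P, h₀ (g x) = g (f x) := by
    intro x hx
    have hxP : x ∈ P ⊔ Q := Subgroup.mem_sup_left hx
    have := hh₀e x hxP
    rw [hg₀e x (hPQ hx), hf₀e x hx, hg₀e _ (hfQ x hx)] at this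
    exact this
  refine ⟨h₀, mp_centSys.2 ⟨?_, fun y hy => ?_, h₀, hh₀.restrict (sup_le hXX₂ hQX₂), fun _ _ => rfl, fun q hq => ?_⟩, hval⟩
  · intro y hy
    obtain ⟨x, hx, rfl⟩ := hi.2 y hy
    exact sc_mp hT₁ hg hQ'T (hPQ hx)
  · obtain ⟨x, hx, rfl⟩ := hi.2 y hy
    rw [hval x hx]
    exact sc_mp hT₁ hg hQ'T (hfQ x hx)
  · obtain ⟨x, hx, rfl⟩ := hg₀i.2 q hq
    have hxP : x ∈ P ⊔ Q := Subgroup.mem_sup_right hx
    rw [hh₀e x hxP, hf₀q x hx]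

theorem A_cz (hQT : Q ≤ T) : zz T (A₁) ≤ A₁ := by
  intro z hz
  refine Subgroup.mem_sup_left (mem_cent.2 ⟨(mem_zz.1 hz).1, fun y hy => ?_⟩)
  exact (mem_zz.1 hz).2 y (Subgroup.mem_sup_right hy)

/-- The `p'`-lifts. -/
theorem cent_lift (hS : IsPGroup p S) (hD : D.IsNormalIn F p) (hQ : F.IsNormal Q) (hQT : Q ≤ T) {a : MulAut ↥(T₁)}
    (ha : a ∈ (centralizerSystem D Q hQT).autGroup (T₁)) {q : ℕ} (hq : q.Coprime p) (hqe : a ^ q = 1) :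
    ∃ g, Mp F (T₁ ⊔ centralizerIn S (T₁)) g ∧ (∀ x ∈ T₁, g x = autFun a x) ∧
      ∀ c ∈ centralizerIn S (T₁), c⁻¹ * g c ∈ zz (T₁) (T₁) := by
  obtain ⟨⟨hDs, hF, hsub, hT, hInv, hFr⟩, hext⟩ := id hD
  have hTS : T ≤ S := hT.1
  haveI : Finite T := finite_of_le hTS
  have hT₁T : T₁ ≤ T := inf_le_left
  have hT₁ := T1_sc hT hQ
  have hQsc := isNormal_stronglyClosed F hQ
  have hA : F.StronglyClosed (A₁) := Cfsg.Agent.Lib.FusionExt.FactorExt.stronglyClosed_sup F hS hF hT₁ hQsc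
  have hAT : A₁ ≤ T := sup_le hT₁T hQT
  have hAS : A₁ ≤ S := hAT.trans hTS
  have hcz : zz T (A₁) ≤ A₁ := A_cz hQT
  haveI : Finite ↥(A₁) := finite_of_le hAS
  have hT₁A : T₁ ≤ A₁ := le_sup_left
  have hQA : Q ≤ A₁ := le_sup_right
  have hm : Mp (centralizerSystem D Q hQT) (T₁) (autFun a) := mp_autFun le_rfl ha
  obtain ⟨-, -, g₀, hg₀, hg₀e, hg₀q⟩ := mp_centSys.1 hm
  have hg₀A : ∀ x ∈ A₁, g₀ x ∈ A₁ := by
    refine maps_sup hg₀ (fun t ht => ?_) (fun b hb => ?_)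
    · rw [hg₀e t ht]
      exact hT₁A ((img_autFun a).1 t ht)
    · rw [hg₀q b hb]
      exact hQA hb
  have hg₀i : Img (A₁) g₀ (A₁) := LowPi.img_self hg₀ hg₀A
  obtain ⟨a₁, ha₁, ha₁e⟩ := hg₀.toAut hg₀i
  have ha₁f : ∀ x ∈ A₁, autFun a₁ x = g₀ x := by
    intro x hx
    rw [autFun_of_mem a₁ hx, ha₁e ⟨x, hx⟩]
  have hc : ∀ Q', F.IsConj (A₁) Q' → zz T Q' ≤ Q' := by
    rintro Q' ⟨φ, hφ, hr⟩
    have hle : Q' ≤ A₁ := by
      rw [← hr]
      rintro _ ⟨x, rfl⟩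
      exact hA.2 _ le_rfl φ hφ x
    have hcard : Nat.card ↥(A₁) ≤ Nat.card Q' := by
      rw [← hr]
      exact (card_range F hφ).ge
    have e : Q' = A₁ := Subgroup.eq_of_le_of_card_ge hle hcard
    rw [e]
    exact hcz
  obtain ⟨g₁, hg₁, hg₁e, hg₁c⟩ := pi_main hS hD (A₁) hAT hc a₁ ha₁
  have hg₁A : ∀ x ∈ A₁, g₁ x ∈ A₁ := fun x hx => by
    rw [hg₁e x hx, ha₁f x hx]
    exact hg₀A x hx
  have hg₁R : ∀ x ∈ A₁ ⊔ centralizerIn S (A₁), g₁ x ∈ A₁ ⊔ centralizerIn S (A₁) := pi_maps hcz hg₁ hg₁A hg₁c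
  have hg₁i : Img (A₁ ⊔ centralizerIn S (A₁)) g₁ (A₁ ⊔ centralizerIn S (A₁)) := LowPi.img_self hg₁ hg₁R
  have hg₁Ai : Img (A₁) g₁ (A₁) := hg₀i.congr (fun x hx => by rw [hg₁e x hx, ha₁f x hx])
  have hRS : A₁ ⊔ centralizerIn S (A₁) ≤ S := sup_le hAS inf_le_left
  -- `g₀` has `p'`-order on `A₁`
  have hpp : Pp F p (A₁) g₀ := by
    refine ⟨mp_sub hsub hg₀, hg₀i, q, hq, fun x hx => ?_⟩
    obtain ⟨t, ht, b, hb, rfl⟩ := exists_mul_of_mem_sup' (cent_le_normalizer (S := T) (X := Q)) hx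
    rw [iter_mul hg₀ hg₀A (hT₁A ht) (hQA hb)]
    have h1 : g₀^[q] t = t := by
      have h2 := iterate_congr (f := autFun a) (g := g₀) (fun y hy => (img_autFun a).1 y hy) (fun y hy => (hg₀e y hy).symm) q ht
      rw [← h2]
      rw [show t = ((⟨t, ht⟩ : ↥(T₁)) : Ω) from rfl, iterate_autFun, hqe]
      rfl
    have h3 : ∀ n : ℕ, g₀^[n] b = b := by
      intro n
      induction n with
      | zero => rfl
      | succ n ih => rw [Function.iterate_succ_apply', ih, hg₀q b hb]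
    rw [h1, h3]
  obtain ⟨G₂, m, hG₂, hG₂e, hG₂m⟩ := pp_extend' hRS hg₁ hg₁i le_sup_left hpp (fun x hx => by rw [hg₁e x hx, ha₁f x hx])
  have hG₂d : ∀ d ∈ centralizerIn S (A₁), d⁻¹ * G₂ d ∈ zz T (A₁) := by
    intro d hd
    rw [hG₂m d (Subgroup.mem_sup_right hd)]
    exact iter_zz hAT hcz hg₁ hg₁Ai hg₁c m hd
  have hG₂A : Img (A₁) G₂ (A₁) := hg₀i.congr (fun x hx => (hG₂e x hx).symm)
  have hCS : centralizerIn S (T₁) ≤ S := inf_le_left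
  have hG₂A' : ∀ x ∈ A₁, G₂ x = g₀ x := hG₂e
  obtain ⟨Γ, hΓ, hΓe, hΓc⟩ := ext_over hS hF hA hT hAT hcz hG₂ hG₂A hG₂d hCS (fun c hc y hy => by
    obtain ⟨t, ht, b, hb, rfl⟩ := exists_mul_of_mem_sup' (cent_le_normalizer (S := T) (X := Q)) hy
    have hcT : ∀ u ∈ T₁, c * u * c⁻¹ = u := fun u hu => cent_conj_eq hc hu
    have hbQ : c * b * c⁻¹ ∈ Q := sc_conj_mem F hQsc hc.1 hb
    have hgt : g₀ t ∈ T₁ := by
      rw [hg₀e t ht]
      exact (img_autFun a).1 t ht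
    have e1 : c * (t * b) * c⁻¹ = t * (c * b * c⁻¹) := by
      have := hcT t ht
      calc c * (t * b) * c⁻¹ = (c * t * c⁻¹) * (c * b * c⁻¹) := by group
        _ = _ := by rw [this]
    have hmem : t * (c * b * c⁻¹) ∈ A₁ := Subgroup.mul_mem _ (hT₁A ht) (hQA hbQ)
    rw [e1, hG₂A' _ hmem, hG₂A' _ (Subgroup.mul_mem _ (hT₁A ht) (hQA hb)), hg₀.map_mul (Subgroup.mem_sup_left ht) (Subgroup.mem_sup_right hbQ),
      hg₀.map_mul (Subgroup.mem_sup_left ht) (Subgroup.mem_sup_right hb), hg₀q _ hbQ, hg₀q b hb]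
    have := hcT _ hgt
    calc g₀ t * (c * b * c⁻¹) = (c * g₀ t * c⁻¹) * (c * b * c⁻¹) := by rw [this]
      _ = _ := by group)
  have hle : T₁ ⊔ centralizerIn S (T₁) ≤ (A₁ ⊔ centralizerIn S (A₁)) ⊔ centralizerIn S (T₁) :=
    sup_le (hT₁A.trans (le_sup_left.trans le_sup_left)) le_sup_right
  refine ⟨Γ, hΓ.1.restrict hle, fun x hx => ?_, fun c hc => ?_⟩
  · have hxA := hT₁A hx
    rw [hΓe x (Subgroup.mem_sup_left hxA), hG₂A' x hxA, hg₀e x hx]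
  · have hz := hΓc c hc
    refine mem_zz.2 ⟨mem_cent.2 ⟨(mem_zz.1 hz).1, fun y hy => (mem_zz.1 hz).2 y (hQA hy)⟩, fun y hy => (mem_zz.1 hz).2 y (hT₁A hy)⟩

/-- **Centralizer systems of normal subgroups in normal subsystems are normal.** -/
theorem centSys_isNormal (hS : IsPGroup p S) (hD : D.IsNormalIn F p) (hQ : F.IsNormal Q) (hQT : Q ≤ T) :
    (centralizerSystem D Q hQT).IsNormalIn F p := by
  obtain ⟨⟨hDs, hF, hsub, hT, hInv, hFr⟩, hext⟩ := id hD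
  have hTS : T ≤ S := hT.1
  have hT₁T : T₁ ≤ T := inf_le_left
  have hT₁S : T₁ ≤ S := hT₁T.trans hTS
  have hTp : IsPGroup p T := hS.to_le hTS
  haveI : Finite T := finite_of_le hTS
  haveI : Finite ↥(T₁) := finite_of_le hT₁S
  have hT₁p : IsPGroup p ↥(T₁) := hS.to_le hT₁S
  have hT₁ := T1_sc hT hQ
  have hSI : StrongInv F D := strong_of_inv hInv hFr
  have hfc : D.IsFullyCentralized Q := by
    refine ⟨hQT, fun Q' hQ' => ?_⟩
    obtain ⟨φ, hφ, hr⟩ := hQ'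
    have := Cfsg.Agent.Lib.FusionExt.Constrained.isConj_eq_of_isNormal F hQ ⟨φ, hsub Q hφ, hr⟩
    rw [this]
  have hKs : (centralizerSystem D Q hQT).IsSaturated p :=
    isSaturated_centralizerSystem hTp D hDs hfc _ (fun _ => rfl)
  have hKsub : (centralizerSystem D Q hQT).IsSubsystemOf F := fun P φ hφ => hsub P (K_sub P hφ)
  have hstrong := K_strong hT hSI hQ hQT
  refine ⟨⟨hKs, hF, (isInvariantIn_iff hS hF hKsub hT₁).2 hstrong⟩, fun α hα => ?_⟩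
  obtain ⟨u, v, hαe, hu, q, hq, hv⟩ := exists_parts (p := p) α
  obtain ⟨g₀, hg₀, hg₀e, hg₀c⟩ := cent_lift hS hD hQ hQT (Subgroup.pow_mem _ hα v) hq hv
  -- the `p`-part is inner
  have hfnTop : (centralizerSystem D Q hQT).IsFullyNormalized (T₁) := by
    refine ⟨le_rfl, fun Q' hQ' => ?_⟩
    have e : normalizerIn (T₁) (T₁) = T₁ := le_antisymm (normalizerIn_le_left _ _) (le_normalizerIn le_rfl)
    rw [e]
    exact Subgroup.card_le_of_le (normalizerIn_le_left _ Q')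
  have hFA := isFullyAutomized_of_isFullyNormalized (F := centralizerSystem D Q hQT) hT₁p hKs hfnTop
  have hsyl : IsSylowIn p (autInducedBy (T₁) (T₁)) ((centralizerSystem D Q hQT).autGroup (T₁)) := hFA.2
  haveI : Finite (MulAut ↥(T₁)) := Cfsg.Agent.Lib.Fusion.Basic.finite_mulAut_of_finite (A := ↥(T₁))
  obtain ⟨k, hk⟩ := hu
  have hZp : IsPGroup p (Subgroup.zpowers (α ^ u)) := by
    rintro ⟨g, n, rfl⟩
    refine ⟨k, Subtype.ext ?_⟩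
    show ((α ^ u) ^ n) ^ p ^ k = 1
    rw [← zpow_natCast, ← zpow_mul, mul_comm, zpow_mul, zpow_natCast, hk, one_zpow]
  obtain ⟨δ, hδ, hδe⟩ := hsyl.exists_conj ((Subgroup.zpowers_le).2 (Subgroup.pow_mem _ hα u)) hZp
  obtain ⟨t₀, ht₀, ht₀e⟩ := (mem_autInducedBy_iff _ _ _).1 (hδe _ (Subgroup.mem_zpowers (α ^ u)))
  set t := δ⁻¹ ⟨t₀, ht₀⟩ with ht
  have hte : ∀ x : ↥(T₁), (((α ^ u) x : ↥(T₁)) : Ω) = (t : Ω) * x * (t : Ω)⁻¹ := by
    intro x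
    have h1 := ht₀e (δ x)
    have h2 : (δ * α ^ u * δ⁻¹) (δ x) = δ ((α ^ u) x) := by simp
    rw [h2] at h1
    have h3 : δ ((α ^ u) x) = ⟨t₀, ht₀⟩ * δ x * ⟨t₀, ht₀⟩⁻¹ := Subtype.ext h1
    have h4 : (α ^ u) x = δ⁻¹ (⟨t₀, ht₀⟩ * δ x * ⟨t₀, ht₀⟩⁻¹) := by
      rw [← h3]
      simp
    rw [h4, map_mul, map_mul, map_inv]
    have h5 : δ⁻¹ (δ x) = x := by simp
    rw [h5]
    rfl
  have htS : (t : Ω) ∈ S := hT₁S t.2
  -- the composition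
  have hWS : T₁ ⊔ centralizerIn S (T₁) ≤ S := sup_le hT₁S inf_le_left
  let g : Ω → Ω := fun x => (t : Ω) * g₀ x * (t : Ω)⁻¹
  have hg : Mp F (T₁ ⊔ centralizerIn S (T₁)) g :=
    hg₀.comp (Y := S) (fun x hx => hg₀.mem_S hx) (Mp.conj le_rfl htS)
  have hgT : ∀ x ∈ T₁, g x = autFun α x := by
    intro x hx
    show (t : Ω) * g₀ x * (t : Ω)⁻¹ = _
    rw [hg₀e x hx]
    have h1 := hte ((α ^ v) ⟨x, hx⟩)
    have h2 : autFun (α ^ v) x = (((α ^ v) ⟨x, hx⟩ : ↥(T₁)) : Ω) := autFun_of_mem _ hx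
    rw [h2, ← h1]
    rw [autFun_of_mem α hx]
    conv_rhs => rw [hαe]
    rfl
  have hgC : ∀ c ∈ centralizerIn S (T₁), c⁻¹ * g c ∈ zz (T₁) (T₁) := by
    intro c hc
    have hz := hg₀c c hc
    set z := c⁻¹ * g₀ c with hzdef
    have e : g₀ c = c * z := by rw [hzdef]; group
    have h1 := (mem_cent.1 hc).2 t t.2
    have h2 := (mem_zz.1 hz).2 t t.2
    show c⁻¹ * ((t : Ω) * g₀ c * (t : Ω)⁻¹) ∈ _
    have e2 : c⁻¹ * ((t : Ω) * g₀ c * (t : Ω)⁻¹) = z := by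
      rw [e]
      calc c⁻¹ * ((t : Ω) * (c * z) * (t : Ω)⁻¹) = c⁻¹ * (((t : Ω) * c) * z * (t : Ω)⁻¹) := by group
        _ = c⁻¹ * ((c * (t : Ω)) * z * (t : Ω)⁻¹) := by rw [h1]
        _ = (c⁻¹ * c) * (((t : Ω) * z) * (t : Ω)⁻¹) := by group
        _ = (c⁻¹ * c) * ((z * (t : Ω)) * (t : Ω)⁻¹) := by rw [h2]
        _ = z := by group
    rw [e2]
    exact hz
  have hgW : ∀ x ∈ T₁ ⊔ centralizerIn S (T₁), g x ∈ T₁ ⊔ centralizerIn S (T₁) := by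
    refine maps_sup hg (fun x hx => ?_) (fun c hc => ?_)
    · rw [hgT x hx]
      exact Subgroup.mem_sup_left ((img_autFun α).1 x hx)
    · have e : g c = c * (c⁻¹ * g c) := by group
      rw [e]
      exact Subgroup.mul_mem _ (Subgroup.mem_sup_right hc) (Subgroup.mem_sup_left (mem_zz.1 (hgC c hc)).1)
  obtain ⟨β, hβ, hβe⟩ := hg.toAut (LowPi.img_self hg hgW)
  refine ⟨β, hβ, fun x => ?_, fun c hc => ?_⟩
  · rw [hβe]
    show g x = _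
    rw [hgT x x.2, autFun_of_mem α x.2]
  · rw [hβe]
    exact hgC c hc

end main

end Cfsg.Agent.Lib.FusionExt.CentSys
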