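import Cfsg.Agent.Lib.FusionExt.QS3

/-!
# A "characteristic" subsystem of a normal subsystem is normal (helper92)
-/

set_option autoImplicit false
set_option linter.unusedSectionVars false

namespace Cfsg.Agent.Lib.FusionExt.CharN

open Cfsg Cfsg.FusionSystem Cfsg.Agent.Lib.Fusion.Basic Cfsg.Agent.Lib.Fusion.GroupSystem
open Cfsg.Agent.Lib.FusionExt.MapApi Cfsg.Agent.Lib.FusionExt.Basic Cfsg.Agent.Lib.FusionExt.Normal
open Cfsg.Agent.Lib.FusionExt.SatCrit1 Cfsg.Agent.Lib.FusionExt.PowerSys Cfsg.Agent.Lib.FusionExt.PowerGen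
open Cfsg.Agent.Lib.FusionExt.PrimeRes1 Cfsg.Agent.Lib.Fusion.Saturation Cfsg.Agent.Lib.Fusion.Saturation2
open Cfsg.Agent.Lib.FusionExt.Invariant Cfsg.Agent.Lib.FusionExt.PowerE
open Cfsg.Agent.Lib.FusionExt.LowPi Cfsg.Agent.Lib.FusionExt.CentSys
open Cfsg.Agent.Lib.FusionExt.Meet1 Cfsg.Agent.Lib.FusionExt.FixS Cfsg.Agent.Lib.FusionExt.CenQ

universe u

variable {Ω : Type u} [Group Ω] {p : ℕ} [Fact p.Prime]

theorem stb_conj' {T Z : Subgroup Ω} {b d : MulAut T} (hb : b ∈ stb T Z) (hd : ∀ t : T, (t : Ω) ∈ Z → ((d t : T) : Ω) ∈ Z)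
    (hdi : ∀ t : T, (t : Ω) ∈ Z → ((d⁻¹ t : T) : Ω) ∈ Z) : d * b * d⁻¹ ∈ stb T Z := by
  refine ⟨fun t => ?_, fun t ht => ?_⟩
  · set s : T := d⁻¹ t with hs
    have ht : t = d s := by rw [hs]; simp
    set τ : T := s⁻¹ * b s with hτ
    have hτZ : (τ : Ω) ∈ Z := by
      have := hb.1 s
      simpa [hτ] using this
    have e1 : b s = s * τ := by rw [hτ]; group
    have e2 : (d * b * d⁻¹) t = t * d τ := by
      rw [MulAut.mul_apply, MulAut.mul_apply, ← hs, e1, map_mul, ← ht]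
    rw [e2, Subgroup.coe_mul, inv_mul_cancel_left]
    exact hd τ hτZ
  · rw [MulAut.mul_apply, MulAut.mul_apply, Subtype.ext (hb.2 _ (hdi t ht))]
    simp

section good

variable {S R Y₁ : Subgroup Ω} {F : FusionSystem S} {L : FusionSystem R} [Finite S]

/-- The good automorphisms form everything once they contain the `p'`-elements. -/
theorem good_of_pp (hS : IsPGroup p S) (hR : F.StronglyClosed R) (hLs : L.IsSaturated p) (hY₁S : Y₁ ≤ S)
    (hpp : ∀ b ∈ L.autGroup R, (orderOf b).Coprime p → ∃ β, Mp F (R ⊔ Y₁) β ∧ (∀ t ∈ R, β t = autFun b t) ∧ ∀ y ∈ Y₁, y⁻¹ * β y ∈ R)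
    {a : MulAut R} (ha : a ∈ L.autGroup R) :
    ∃ β, Mp F (R ⊔ Y₁) β ∧ (∀ t ∈ R, β t = autFun a t) ∧ ∀ y ∈ Y₁, y⁻¹ * β y ∈ R := by
  have hRS : R ≤ S := hR.1
  haveI : Finite R := finite_of_le hRS
  have hRp : IsPGroup p R := hS.to_le hRS
  haveI : Finite (MulAut R) := Cfsg.Agent.Lib.Fusion.Basic.finite_mulAut_of_finite (A := R)
  have hYS : R ⊔ Y₁ ≤ S := sup_le hRS hY₁S
  let s : Submonoid (MulAut R) :=
    { carrier := {b | b ∈ L.autGroup R ∧ ∃ β, Mp F (R ⊔ Y₁) β ∧ (∀ t ∈ R, β t = autFun b t) ∧ ∀ y ∈ Y₁, y⁻¹ * β y ∈ R}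
      one_mem' := ⟨Subgroup.one_mem _, fun x => x, Mp.refl hYS, fun t _ => (autFun_one_apply t).symm, fun y _ => by simp [R.one_mem]⟩
      mul_mem' := by
        rintro b₁ b₂ ⟨h1, β₁, hβ₁, hβ₁T, hβ₁Y⟩ ⟨h2, β₂, hβ₂, hβ₂T, hβ₂Y⟩
        have hb₁T : ∀ t ∈ R, β₁ t ∈ R := fun t ht => by
          rw [hβ₁T t ht]
          exact (img_autFun b₁).1 t ht
        have hb₂T : ∀ t ∈ R, β₂ t ∈ R := fun t ht => by
          rw [hβ₂T t ht]
          exact (img_autFun b₂).1 t ht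
        have hm : ∀ x ∈ R ⊔ Y₁, β₂ x ∈ R ⊔ Y₁ := maps_sup hβ₂ (fun x hx => Subgroup.mem_sup_left (hb₂T x hx)) (fun y hy => by
          have e : β₂ y = y * (y⁻¹ * β₂ y) := by group
          rw [e]
          exact Subgroup.mul_mem _ (Subgroup.mem_sup_right hy) (Subgroup.mem_sup_left (hβ₂Y y hy)))
        refine ⟨Subgroup.mul_mem _ h1 h2, fun x => β₁ (β₂ x), hβ₂.comp hm hβ₁, fun t ht => ?_, fun y hy => ?_⟩
        · show β₁ (β₂ t) = _
          rw [autFun_mul_apply, hβ₂T t ht, hβ₁T _ ((img_autFun b₂).1 t ht)]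
        · show y⁻¹ * β₁ (β₂ y) ∈ R
          have e : β₂ y = y * (y⁻¹ * β₂ y) := by group
          rw [e, hβ₁.map_mul (Subgroup.mem_sup_right hy) (Subgroup.mem_sup_left (hβ₂Y y hy)), ← mul_assoc]
          exact R.mul_mem (hβ₁Y y hy) (hb₁T _ (hβ₂Y y hy)) }
  let K : Subgroup (MulAut R) := finSub s
  have hfn : L.IsFullyNormalized R := isFullyNormalized_top L hRp
  have hA : IsSylowIn p (autInducedBy R R) (L.autGroup R) := (isFullyAutomized_of_isFullyNormalized L hRp hLs hfn).2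
  have hKH : K ≤ L.autGroup R := fun b hb => hb.1
  have hAK : autInducedBy R R ≤ K := by
    intro b hb
    obtain ⟨t, ht, e⟩ := (mem_autInducedBy_iff R R b).1 hb
    refine ⟨autInducedBy_le_autGroup L le_rfl hb, fun x => t * x * t⁻¹, Mp.conj hYS (hRS ht), fun x hx => ?_, fun y hy => ?_⟩
    · rw [autFun_of_mem b hx]
      exact (e ⟨x, hx⟩).symm
    · have e1 : y⁻¹ * (t * y * t⁻¹) = (y⁻¹ * t * y⁻¹⁻¹) * t⁻¹ := by group
      rw [e1]
      exact R.mul_mem (sc_conj_mem F hR (S.inv_mem (hY₁S hy)) ht) (R.inv_mem ht)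
  have hK : K = L.autGroup R := Cfsg.Agent.Lib.FusionExt.CentE.eq_of_sylow_pprime hA hAK hKH (fun b hb ⟨q, hq, hqe⟩ =>
    ⟨hb, hpp b hb (Nat.Coprime.coprime_dvd_left (orderOf_dvd_of_pow_eq_one hqe) hq)⟩)
  have : a ∈ K := by
    rw [hK]
    exact ha
  exact this.2

end good

section ch

variable {S T R : Subgroup Ω} {F : FusionSystem S} {M : FusionSystem T} {L : FusionSystem R} [Finite S]

theorem conj_CT (hT : F.StronglyClosed T) {y c : Ω} (hy : y ∈ centralizerIn S R) (hc : c ∈ centralizerIn T R) :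
    y * c * y⁻¹ ∈ centralizerIn T R := by
  obtain ⟨hyS, hyc⟩ := mem_cent.1 hy
  obtain ⟨hcT, hcc⟩ := mem_cent.1 hc
  refine mem_cent.2 ⟨sc_conj_mem F hT hyS hcT, fun r hr => ?_⟩
  have h1 := hyc r hr
  have h2 := hcc r hr
  have e : y * r * y⁻¹ = r := by rw [← h1]; group
  calc r * (y * c * y⁻¹) = (y * r * y⁻¹) * (y * c * y⁻¹) := by rw [e]
    _ = y * (r * c) * y⁻¹ := by group
    _ = y * (c * r) * y⁻¹ := by rw [h2]
    _ = (y * c * y⁻¹) * (y * r * y⁻¹) := by group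
    _ = y * c * y⁻¹ * r := by rw [e]

/-- **The extension clause for a subsystem normal in a normal subsystem.** -/
theorem ch_pp (hS : IsPGroup p S) (hM : M.IsNormalIn F p) (hL : L.IsNormalIn M p) (hR : F.StronglyClosed R)
    {a : MulAut R} (ha : a ∈ L.autGroup R) (hq : (orderOf a).Coprime p) :
    ∃ β, Mp F (R ⊔ centralizerIn S R) β ∧ (∀ t ∈ R, β t = autFun a t) ∧ ∀ y ∈ centralizerIn S R, y⁻¹ * β y ∈ R := by
  obtain ⟨⟨hMs, hF, hMsub, hT, hMInv, hMFr⟩, hMext⟩ := id hM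
  obtain ⟨⟨hLs, -, hLsub, hRM, hLInv, hLFr⟩, hLext⟩ := id hL
  have hSIM : StrongInv F M := strong_of_inv hMInv hMFr
  have hTS : T ≤ S := hT.1
  have hRT : R ≤ T := hRM.1
  have hRS : R ≤ S := hRT.trans hTS
  haveI : Finite T := finite_of_le hTS
  haveI : Finite R := finite_of_le hRS
  have hTp : IsPGroup p T := hS.to_le hTS
  have hV₁T : R ⊔ centralizerIn T R ≤ T := sup_le hRT inf_le_left
  have hV₁S := hV₁T.trans hTS
  haveI : Finite ↥(R ⊔ centralizerIn T R) := finite_of_le hV₁S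
  haveI : Finite (MulAut ↥(R ⊔ centralizerIn T R)) := Cfsg.Agent.Lib.Fusion.Basic.finite_mulAut_of_finite (A := ↥(R ⊔ centralizerIn T R))
  have hRV : R ≤ R ⊔ centralizerIn T R := le_sup_left
  have hCV : centralizerIn T R ≤ R ⊔ centralizerIn T R := le_sup_right
  obtain ⟨β₀, hβ₀, hβ₁, hβ₂⟩ := hLext a ha
  have hb₁ : Mp M (R ⊔ centralizerIn T R) (autFun β₀) := mp_autFun hV₁T hβ₀
  have hb₁R : ∀ x ∈ R, autFun β₀ x = autFun a x := fun x hx => by
    rw [autFun_of_mem β₀ (hRV hx), autFun_of_mem a hx]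
    exact hβ₁ ⟨x, hx⟩
  have hb₁C : ∀ c ∈ centralizerIn T R, c⁻¹ * autFun β₀ c ∈ R := fun c hc => by
    rw [autFun_of_mem β₀ (hCV hc)]
    exact (hβ₂ ⟨c, hCV hc⟩ hc).1
  have hppL : Pp L p R (autFun a) := Pp.of_aut le_rfl ha hq
  have hppM : Pp M p R (autFun a) := ⟨mp_sub hLsub hppL.1, hppL.2⟩
  have hppF : Pp F p R (autFun a) := ⟨mp_sub hMsub hppM.1, hppM.2⟩
  have haR : ∀ x ∈ R, autFun a x ∈ R := (img_autFun a).1
  obtain ⟨f₁, m₁, hf₁, hf₁R, hf₁m⟩ := pp_extend' hV₁T hb₁ (img_autFun β₀) hRV hppM hb₁R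
  have hb₁RR : ∀ x ∈ R, autFun β₀ x ∈ R := fun x hx => by
    rw [hb₁R x hx]
    exact haR x hx
  have hb₁m : ∀ x ∈ R ⊔ centralizerIn T R, autFun β₀ x ∈ R ⊔ centralizerIn T R := (img_autFun β₀).1
  have hV₁dif : ∀ v ∈ R ⊔ centralizerIn T R, v⁻¹ * f₁ v ∈ R := by
    intro v hv
    rw [hf₁m v hv]
    refine iter_mod hb₁ hb₁m hRV hb₁RR hv ?_ m₁
    rw [sup_comm] at hv
    obtain ⟨c, hc, r, hr, rfl⟩ := exists_mul_of_mem_sup' ((cent_le_norm).trans inf_le_right) hv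
    rw [hb₁.map_mul (hCV hc) (hRV hr)]
    have e : (c * r)⁻¹ * (autFun β₀ c * autFun β₀ r) = r⁻¹ * (c⁻¹ * autFun β₀ c) * autFun β₀ r := by group
    rw [e]
    exact R.mul_mem (R.mul_mem (R.inv_mem hr) (hb₁C c hc)) (hb₁RR r hr)
  obtain ⟨a₁, ha₁, ha₁e⟩ := hf₁.1.toAut hf₁.2.1
  have ha₁f : ∀ x ∈ R ⊔ centralizerIn T R, autFun a₁ x = f₁ x := fun x hx => by
    rw [autFun_of_mem a₁ hx]
    exact ha₁e ⟨x, hx⟩
  -- `V₁` is weakly closed
  have hwc : ∀ g, Mp F (R ⊔ centralizerIn T R) g → Img (R ⊔ centralizerIn T R) g (R ⊔ centralizerIn T R) := by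
    intro g hg
    have hgR : ∀ x ∈ R, g x ∈ R := fun x hx => sc_mp hR (hg.restrict hRV) le_rfl hx
    have hgT : ∀ x ∈ R ⊔ centralizerIn T R, g x ∈ T := fun x hx => sc_mp hT hg hV₁T hx
    have hiR : Img R g R := LowPi.img_self (hg.restrict hRV) hgR
    have hgC : ∀ c ∈ centralizerIn T R, g c ∈ centralizerIn T R := by
      intro c hc
      refine mem_cent.2 ⟨hgT c (hCV hc), fun r hr => ?_⟩
      obtain ⟨r₀, hr₀, rfl⟩ := hiR.2 r hr
      rw [← hg.map_mul (hRV hr₀) (hCV hc), ← hg.map_mul (hCV hc) (hRV hr₀), (mem_cent.1 hc).2 r₀ hr₀]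
    exact LowPi.img_self hg (maps_sup hg (fun x hx => hRV (hgR x hx)) (fun c hc => hCV (hgC c hc)))
  have hconj : ∀ Q, F.IsConj (R ⊔ centralizerIn T R) Q → Q = R ⊔ centralizerIn T R := by
    rintro Q ⟨φ, hφ, hr⟩
    have hi := hwc _ (mp_of_hom hφ)
    rw [← hr]
    exact Mp.range_eq (fun x => (extOf_coe φ x).symm) hi
  have hfn : F.IsFullyNormalized (R ⊔ centralizerIn T R) := ⟨hV₁S, fun Q hQ => by rw [hconj Q hQ]⟩
  have hcz : zz T (R ⊔ centralizerIn T R) ≤ R ⊔ centralizerIn T R := fun z hz =>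
    hCV (mem_cent.2 ⟨(mem_zz.1 hz).1, fun y hy => (mem_zz.1 hz).2 y (hRV hy)⟩)
  obtain ⟨g, hg, hgV, hgC⟩ := pi_main hS hM _ hV₁T (fun Q hQ => by rw [hconj Q hQ]; exact hcz) a₁ ha₁
  have hgVf : ∀ x ∈ R ⊔ centralizerIn T R, g x = f₁ x := fun x hx => by rw [hgV x hx, ha₁f x hx]
  have hiV : Img (R ⊔ centralizerIn T R) g (R ⊔ centralizerIn T R) := hwc g (hg.restrict le_sup_left)
  have hyN : ∀ y ∈ centralizerIn S R, y ∈ normalizerIn S (R ⊔ centralizerIn T R) := by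
    intro y hy
    obtain ⟨hyS, hyc⟩ := mem_cent.1 hy
    refine ⟨hyS, mem_normalizer_of_conj_le' (U := R ⊔ centralizerIn T R) (fun x hx => ?_)⟩
    have hle : R ⊔ centralizerIn T R ≤ (R ⊔ centralizerIn T R).comap (MulAut.conj y).toMonoidHom := by
      refine sup_le (fun r hr => ?_) (fun c hc => ?_)
      · show y * r * y⁻¹ ∈ R ⊔ centralizerIn T R
        have e : y * r * y⁻¹ = r := by rw [← hyc r hr]; group
        rw [e]
        exact hRV hr
      · exact hCV (conj_CT hT hy hc)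
    exact hle hx
  -- the crucial commutator
  have key : ∀ y ∈ centralizerIn S R, ∃ t ∈ centralizerIn T R, ∀ w ∈ R ⊔ centralizerIn T R,
      g (y * w * y⁻¹) = (t * y) * g w * (t * y)⁻¹ := by
    intro y hy
    have hyN' := hyN y hy
    have hyc := (mem_cent.1 hy).2
    let cy : MulAut ↥(R ⊔ centralizerIn T R) := normAct _ hyN'.2
    have hcyF : cy ∈ F.autGroup (R ⊔ centralizerIn T R) :=
      autInducedBy_le_autGroup F hV₁S (normAct_mem_autInducedBy S _ hyN'.2 hyN'.1)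
    have hc2 : cy * a₁⁻¹ * cy⁻¹ ∈ M.autGroup (R ⊔ centralizerIn T R) := by
      refine strong_conj_aut hSIM (P := R ⊔ centralizerIn T R) (Q := R ⊔ centralizerIn T R) hV₁T (ψ := autHom cy)
        (autHom_mem F hV₁S hcyF) ?_ (Subgroup.inv_mem _ ha₁) _ ?_
      · ext x
        constructor
        · rintro ⟨u, rfl⟩
          exact (cy u).2
        · intro hx
          exact ⟨cy⁻¹ ⟨x, hx⟩, by simp [autHom]⟩
      · intro x h
        simp [autHom]
    set γ : MulAut ↥(R ⊔ centralizerIn T R) := a₁ * cy * a₁⁻¹ * cy⁻¹ with hγ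
    have hγM : γ ∈ M.autGroup (R ⊔ centralizerIn T R) := by
      have e : γ = a₁ * (cy * a₁⁻¹ * cy⁻¹) := by rw [hγ]; group
      rw [e]
      exact Subgroup.mul_mem _ ha₁ hc2
    -- action of `a₁` on `V₁/R`
    have hA : ∀ v : ↥(R ⊔ centralizerIn T R), (v : Ω)⁻¹ * ((a₁ v : ↥(R ⊔ centralizerIn T R)) : Ω) ∈ R := by
      intro v
      rw [ha₁e v]
      exact hV₁dif v v.2
    have hAi : ∀ v : ↥(R ⊔ centralizerIn T R), (v : Ω)⁻¹ * ((a₁⁻¹ v : ↥(R ⊔ centralizerIn T R)) : Ω) ∈ R := by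
      intro v
      have h1 := hA (a₁⁻¹ v)
      have e : a₁ (a₁⁻¹ v) = v := by simp
      rw [e] at h1
      have h2 := R.inv_mem h1
      simpa using h2
    have hAR : ∀ v : ↥(R ⊔ centralizerIn T R), (v : Ω) ∈ R → ((a₁ v : ↥(R ⊔ centralizerIn T R)) : Ω) ∈ R := by
      intro v hv
      rw [ha₁e v, hf₁R v hv]
      exact haR v hv
    have hARi : ∀ v : ↥(R ⊔ centralizerIn T R), (v : Ω) ∈ R → ((a₁⁻¹ v : ↥(R ⊔ centralizerIn T R)) : Ω) ∈ R := by
      intro v hv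
      have h1 := hAi v
      have h2 := R.mul_mem hv h1
      simpa using h2
    have hcyR : ∀ v : ↥(R ⊔ centralizerIn T R), (v : Ω) ∈ R → cy v = v := by
      intro v hv
      apply Subtype.ext
      show y * (v : Ω) * y⁻¹ = v
      rw [← hyc v hv]
      group
    have hcyRi : ∀ v : ↥(R ⊔ centralizerIn T R), (v : Ω) ∈ R → cy⁻¹ v = v := by
      intro v hv
      calc cy⁻¹ v = cy⁻¹ (cy v) := by rw [hcyR v hv]
        _ = v := by simp
    have hγK : γ ∈ stb (R ⊔ centralizerIn T R) R := by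
      refine ⟨fun v => ?_, fun v hv => ?_⟩
      · set s := cy⁻¹ v with hs
        set ρ : ↥(R ⊔ centralizerIn T R) := s⁻¹ * a₁⁻¹ s with hρd
        have hρ : (ρ : Ω) ∈ R := by
          have := hAi s
          simpa [hρd] using this
        have e1 : a₁⁻¹ s = s * ρ := by rw [hρd]; group
        have e2 : cy s = v := by rw [hs]; simp
        have e4 : γ v = a₁ v * a₁ ρ := by
          show a₁ (cy (a₁⁻¹ (cy⁻¹ v))) = _
          rw [← hs, e1, map_mul, e2, hcyR ρ hρ, map_mul]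
        rw [e4, Subgroup.coe_mul, ← mul_assoc]
        exact R.mul_mem (hA v) (hAR ρ hρ)
      · show ((a₁ (cy (a₁⁻¹ (cy⁻¹ v))) : ↥(R ⊔ centralizerIn T R)) : Ω) = v
        rw [hcyRi v hv, hcyR _ (hARi v hv)]
        simp
    have hW : (finSub (stb (R ⊔ centralizerIn T R) R)) ⊓ M.autGroup (R ⊔ centralizerIn T R) ≤ opAut M p (R ⊔ centralizerIn T R) := by
      refine le_opAut inf_le_right ?_ ?_
      · intro b
        obtain ⟨k, hk⟩ := stb_pow (hS.to_le hV₁S) (show (b : MulAut _) ∈ stb (R ⊔ centralizerIn T R) R from b.2.1)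
        exact ⟨k, Subtype.ext hk⟩
      · rintro d hd w ⟨hw1, hw2⟩
        refine ⟨stb_conj' hw1 (fun t ht => ?_) (fun t ht => ?_), Subgroup.mul_mem _ (Subgroup.mul_mem _ hd hw2) (Subgroup.inv_mem _ hd)⟩
        · have h1 := sc_mp hRM (mp_autFun hV₁T hd |>.restrict hRV) le_rfl ht
          rwa [autFun_coe] at h1
        · have h1 := sc_mp hRM (mp_autFun hV₁T (Subgroup.inv_mem _ hd) |>.restrict hRV) le_rfl ht
          rwa [autFun_coe] at h1
    have hfnM := fn_sub hS hF hMsub hT hfn hV₁T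
    have hFA := isFullyAutomized_of_isFullyNormalized M hTp hMs hfnM
    have hin := opAut_le_autInducedBy hFA (hW ⟨hγK, hγM⟩)
    obtain ⟨t, ht, hte⟩ := (mem_autInducedBy_iff T _ γ).1 hin
    have htc : t ∈ centralizerIn T R := by
      refine mem_cent.2 ⟨ht, fun r hr => ?_⟩
      have h1 := hγK.2 ⟨r, hRV hr⟩ hr
      rw [hte] at h1
      have h2 : t * r * t⁻¹ = r := h1
      calc r * t = t * r * t⁻¹ * t := by rw [h2]
        _ = t * r := by group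
    refine ⟨t, htc, fun w hw => ?_⟩
    have hyw : y * w * y⁻¹ ∈ R ⊔ centralizerIn T R := by
      have h1 := Subgroup.mem_normalizer_iff.1 hyN'.2 w
      exact h1.1 hw
    rw [hgV _ hyw, hgV _ hw, autFun_of_mem a₁ hyw, autFun_of_mem a₁ hw]
    have e1 : a₁ * cy = γ * cy * a₁ := by rw [hγ]; group
    have e2 := congrArg (fun b : MulAut _ => ((b ⟨w, hw⟩ : ↥(R ⊔ centralizerIn T R)) : Ω)) e1
    simp only [MulAut.mul_apply] at e2
    have e3 : cy ⟨w, hw⟩ = ⟨y * w * y⁻¹, hyw⟩ := rfl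
    rw [e3] at e2
    rw [e2, hte, normAct_apply]
    group
  have hex : centralizerIn S R ≤ exS S (R ⊔ centralizerIn T R) g := by
    intro y hy
    obtain ⟨t, ht, e⟩ := key y hy
    have hyN' := hyN y hy
    have htV : t ∈ R ⊔ centralizerIn T R := hCV ht
    have hy' : t * y ∈ normalizerIn S (R ⊔ centralizerIn T R) :=
      Subgroup.mul_mem _ (le_normalizerIn hV₁S htV) hyN'
    have hst := hst_of_stable hg hiV hV₁T hcz hT hgC hyN' hy' (fun e' he' => by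
      have e2 : y * (t * y)⁻¹ = t⁻¹ := by group
      rw [e2]
      exact conj_stable hT (t := t⁻¹) ⟨T.inv_mem (mem_cent.1 ht).1, Subgroup.inv_mem _ (Subgroup.le_normalizer htV)⟩ e' he')
    obtain ⟨c₀, hc₀, hc₀e⟩ := ext_step hS hF hT hfn hV₁T hcz hg hiV hyN' hy' e hst
    exact mem_exS.2 ⟨hyN', c₀ * (t * y), Subgroup.mul_mem _ (cent_le_norm hc₀) hy', hc₀e⟩
  have hCTS : centralizerIn T R ≤ centralizerIn S R := fun c hc => mem_cent.2 ⟨hTS (mem_cent.1 hc).1, (mem_cent.1 hc).2⟩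
  have hV₁Y : R ⊔ centralizerIn T R ≤ R ⊔ centralizerIn S R := sup_le_sup_left hCTS R
  have hCVC : centralizerIn S (R ⊔ centralizerIn T R) ≤ centralizerIn S R := cent_anti hRV
  have hV₂Y : (R ⊔ centralizerIn T R) ⊔ centralizerIn S (R ⊔ centralizerIn T R) ≤ R ⊔ centralizerIn S R :=
    sup_le hV₁Y (hCVC.trans le_sup_right)
  have hYex : R ⊔ centralizerIn S R ≤ exS S (R ⊔ centralizerIn T R) g :=
    sup_le (hRV.trans (le_sup_left.trans (wt_le_exS hV₁S hg hiV))) hex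
  obtain ⟨ĥ, hĥ, hĥe, -⟩ := ext_over hS hF hfn hg hiV hV₂Y hYex
  have hYS : R ⊔ centralizerIn S R ≤ S := sup_le hRS inf_le_left
  have hRY : R ≤ R ⊔ centralizerIn S R := le_sup_left
  have hCY : centralizerIn S R ≤ R ⊔ centralizerIn S R := le_sup_right
  have hĥV : ∀ x ∈ R ⊔ centralizerIn T R, ĥ x = g x := fun x hx => hĥe x (Subgroup.mem_sup_left hx)
  have hĥR : ∀ x ∈ R, ĥ x = autFun a x := fun x hx => by
    rw [hĥV x (hRV hx), hgVf x (hRV hx), hf₁R x hx]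
  have hĥRm : ∀ x ∈ R, ĥ x ∈ R := fun x hx => by
    rw [hĥR x hx]
    exact haR x hx
  have hform : ∀ y ∈ centralizerIn S R, y⁻¹ * ĥ y ∈ (R ⊔ centralizerIn T R) ⊔ centralizerIn S (R ⊔ centralizerIn T R) ∧
      ĥ y ∈ centralizerIn S R := by
    intro y hy
    obtain ⟨t, ht, e⟩ := key y hy
    have hyS := (mem_cent.1 hy).1
    have htS := hTS (mem_cent.1 ht).1
    have hyY := hCY hy
    have hcU : (t * y)⁻¹ * ĥ y ∈ S := S.mul_mem (S.inv_mem (S.mul_mem htS hyS)) (hĥ.mem_S hyY)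
    have hc : (t * y)⁻¹ * ĥ y ∈ centralizerIn S (R ⊔ centralizerIn T R) := by
      refine mem_cent.2 ⟨hcU, fun w hw => ?_⟩
      obtain ⟨w', hw', rfl⟩ := hiV.2 w hw
      have hyw : y * w' * y⁻¹ ∈ R ⊔ centralizerIn T R := (Subgroup.mem_normalizer_iff.1 (hyN y hy).2 w').1 hw'
      have h1 : ĥ (y * w' * y⁻¹) = ĥ y * g w' * (ĥ y)⁻¹ := by
        rw [hĥ.map_conj hyY (hV₁Y hw'), hĥV w' hw']
      have h2 := e w' hw'
      rw [← hĥV _ hyw, h1] at h2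
      generalize g w' = A at h2 ⊢
      have h3 : ((t * y)⁻¹ * ĥ y) * A * ((t * y)⁻¹ * ĥ y)⁻¹ = A := by
        calc ((t * y)⁻¹ * ĥ y) * A * ((t * y)⁻¹ * ĥ y)⁻¹ = (t * y)⁻¹ * (ĥ y * A * (ĥ y)⁻¹) * (t * y) := by group
          _ = (t * y)⁻¹ * ((t * y) * A * (t * y)⁻¹) * (t * y) := by rw [h2]
          _ = A := by group
      calc A * ((t * y)⁻¹ * ĥ y) = (((t * y)⁻¹ * ĥ y) * A * ((t * y)⁻¹ * ĥ y)⁻¹) * ((t * y)⁻¹ * ĥ y) := by rw [h3]
        _ = ((t * y)⁻¹ * ĥ y) * A := by group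
    have e1 : ĥ y = t * y * ((t * y)⁻¹ * ĥ y) := by group
    constructor
    · have e2 : y⁻¹ * ĥ y = (y⁻¹ * t * y⁻¹⁻¹) * ((t * y)⁻¹ * ĥ y) := by group
      rw [e2]
      have hyi : y⁻¹ ∈ centralizerIn S R := Subgroup.inv_mem _ hy
      exact Subgroup.mul_mem _ (Subgroup.mem_sup_left (hCV (conj_CT hT hyi ht))) (Subgroup.mem_sup_right hc)
    · rw [e1]
      exact Subgroup.mul_mem _ (Subgroup.mul_mem _ (hCTS ht) hy) (hCVC hc)
  have hYm : ∀ x ∈ R ⊔ centralizerIn S R, ĥ x ∈ R ⊔ centralizerIn S R :=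
    maps_sup hĥ (fun x hx => hRY (hĥRm x hx)) (fun y hy => hCY (hform y hy).2)
  have hi := LowPi.img_self hĥ hYm
  obtain ⟨f', m, hf', hf'R, hf'm⟩ := pp_extend' hYS hĥ hi hRY hppF hĥR
  refine ⟨f', hf'.1, hf'R, fun y hy => ?_⟩
  obtain ⟨-, -, m', hm', hper⟩ := id hf'
  have hcoS : ∀ z ∈ S, (orderOf z).Coprime m' := by
    intro z hz
    obtain ⟨j, hj⟩ := hS ⟨z, hz⟩
    have h1 : z ^ p ^ j = 1 := congrArg Subtype.val hj
    have h2 := orderOf_dvd_of_pow_eq_one h1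
    refine Nat.Coprime.coprime_dvd_left h2 ?_
    exact (Nat.Coprime.pow_right j hm').symm
  have hV₂m : ∀ x ∈ (R ⊔ centralizerIn T R) ⊔ centralizerIn S (R ⊔ centralizerIn T R),
      ĥ x ∈ (R ⊔ centralizerIn T R) ⊔ centralizerIn S (R ⊔ centralizerIn T R) := fun x hx => by
    rw [hĥe x hx]
    exact (wt_maps hg hiV).1 x hx
  have hV₁m : ∀ x ∈ R ⊔ centralizerIn T R, ĥ x ∈ R ⊔ centralizerIn T R := fun x hx => by
    rw [hĥV x hx]
    exact hiV.1 x hx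
  have hyY := hCY hy
  have hfS : y⁻¹ * f' y ∈ S := S.mul_mem (S.inv_mem (mem_cent.1 hy).1) (hf'.1.mem_S hyY)
  have hfc : y⁻¹ * f' y ∈ (R ⊔ centralizerIn T R) ⊔ centralizerIn S (R ⊔ centralizerIn T R) := by
    rw [hf'm y hyY]
    exact iter_mod hĥ hYm hV₂Y hV₂m hyY (hform y hy).1 m
  have hV₂d : ∀ v ∈ (R ⊔ centralizerIn T R) ⊔ centralizerIn S (R ⊔ centralizerIn T R), v⁻¹ * f' v ∈ R ⊔ centralizerIn T R := by
    intro v hv
    rw [hf'm v (hV₂Y hv)]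
    refine iter_mod hĥ hYm hV₁Y hV₁m (hV₂Y hv) ?_ m
    rw [sup_comm] at hv
    obtain ⟨c, hc, w, hw, rfl⟩ := exists_mul_of_mem_sup' ((cent_le_norm).trans inf_le_right) hv
    have hcY : c ∈ R ⊔ centralizerIn S R := hCY (hCVC hc)
    rw [hĥ.map_mul hcY (hV₁Y hw), hĥe c (Subgroup.mem_sup_right hc), hĥV w hw]
    have e : (c * w)⁻¹ * (g c * g w) = w⁻¹ * (c⁻¹ * g c) * g w := by group
    rw [e]
    exact Subgroup.mul_mem _ (Subgroup.mul_mem _ (Subgroup.inv_mem _ hw) (hcz (hgC c hc))) (hiV.1 w hw)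
  have hV₁m' : ∀ u ∈ R ⊔ centralizerIn T R, f' u ∈ R ⊔ centralizerIn T R := fun u hu => by
    rw [hf'm u (hV₁Y hu)]
    exact iterate_mem hV₁m m hu
  have step1 : y⁻¹ * f' y ∈ R ⊔ centralizerIn T R :=
    coprime_step' hf'.1 hyY hV₂Y le_sup_left hfc hV₂d hV₁m'
      (fun v hv u hu => norm_conj (wt_le_norm hV₁S hv).2 hu) (hper y hyY) (hcoS _ hfS)
  have hV₁d : ∀ v ∈ R ⊔ centralizerIn T R, v⁻¹ * f' v ∈ R := by
    intro v hv
    rw [hf'm v (hV₁Y hv)]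
    refine iter_mod hĥ hYm hRY hĥRm (hV₁Y hv) ?_ m
    rw [hĥV v hv, hgVf v hv]
    exact hV₁dif v hv
  have hRm' : ∀ u ∈ R, f' u ∈ R := fun u hu => by
    rw [hf'R u hu]
    exact haR u hu
  exact coprime_step' hf'.1 hyY hV₁Y hRV step1 hV₁d hRm'
    (fun v hv u hu => sc_conj_mem M hRM (hV₁T hv) hu) (hper y hyY) (hcoS _ hfS)

end ch

end Cfsg.Agent.Lib.FusionExt.CharN
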