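import Cfsg.Agent.Lib.FusionExt.CharN

/-!
# Normality of invariant subsystems of normal subsystems; the layer is characteristic (helper92)
-/

set_option autoImplicit false
set_option linter.unusedSectionVars false

namespace Cfsg.Agent.Lib.FusionExt.CharN2

open Cfsg Cfsg.FusionSystem Cfsg.Agent.Lib.Fusion.Basic Cfsg.Agent.Lib.Fusion.GroupSystem
open Cfsg.Agent.Lib.FusionExt.MapApi Cfsg.Agent.Lib.FusionExt.Basic Cfsg.Agent.Lib.FusionExt.Normal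
open Cfsg.Agent.Lib.FusionExt.PowerSys Cfsg.Agent.Lib.FusionExt.PrimeRes1
open Cfsg.Agent.Lib.FusionExt.Invariant Cfsg.Agent.Lib.FusionExt.PowerE
open Cfsg.Agent.Lib.FusionExt.LowPi Cfsg.Agent.Lib.FusionExt.CentSys
open Cfsg.Agent.Lib.FusionExt.Iso1 Cfsg.Agent.Lib.FusionExt.Iso2 Cfsg.Agent.Lib.FusionExt.Iso3 Cfsg.Agent.Lib.FusionExt.Iso4
open Cfsg.Agent.Lib.FusionExt.CharN

universe u

variable {Ω : Type u} [Group Ω] {p : ℕ} [Fact p.Prime]
variable {S T R : Subgroup Ω} {F : FusionSystem S} {M : FusionSystem T} {L : FusionSystem R} [Finite S]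

/-- **A subsystem normal in a normal subsystem and invariant under the automorphisms of its group in `F` is normal.** -/
theorem ch_normal (hS : IsPGroup p S) (hM : M.IsNormalIn F p) (hL : L.IsNormalIn M p)
    (hinv : ∀ a, Mp F T a → Img T a T → ImgSys a L L) : L.IsNormalIn F p := by
  obtain ⟨⟨hMs, hF, hMsub, hT, hMInv, hMFr⟩, hMext⟩ := id hM
  obtain ⟨⟨hLs, -, hLsub, hRM, hLInv, hLFr⟩, hLext⟩ := id hL
  have hSIM : StrongInv F M := strong_of_inv hMInv hMFr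
  have hSIL : StrongInv M L := strong_of_inv hLInv hLFr
  have hTS : T ≤ S := hT.1
  have hRT : R ≤ T := hRM.1
  have hRS : R ≤ S := hRT.trans hTS
  haveI : Finite T := finite_of_le hTS
  haveI : Finite R := finite_of_le hRS
  have hsub : L.IsSubsystemOf F := fun P φ hφ => hMsub P (hLsub P hφ)
  -- the automorphisms of `T` preserve `R`
  have hαR : ∀ α ∈ F.autGroup T, ∀ r ∈ R, autFun α r ∈ R := by
    intro α hα r hr
    have ha := mp_autFun hTS hα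
    have ht := trOn_of_mp ha
    obtain ⟨Y', hY'⟩ := ht.exists_im hRT
    obtain ⟨f, hf, -⟩ := (hinv _ ha (img_autFun α)).push (ht.mono hRT) (Mp.refl (le_rfl : R ≤ R)) hY'
    exact hf.le (hY'.1 r hr)
  have hfr : ∀ (P : Subgroup Ω) (g : Ω → Ω), P ≤ T → Mp F P g → ∃ α ∈ F.autGroup T, ∃ g₀, Mp M P g₀ ∧ ∀ x ∈ P, g x = autFun α (g₀ x) := by
    rintro P g hP ⟨φ, hφ, e⟩
    obtain ⟨α, hα, φ₀, hφ₀, hv⟩ := hMFr P hP φ hφ
    refine ⟨α, hα, extOf φ₀, mp_of_hom hφ₀, fun x hx => ?_⟩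
    have hm : φ₀ ⟨x, hx⟩ ∈ T := val_mem M hφ₀ ⟨x, hx⟩
    rw [← e ⟨x, hx⟩, hv ⟨x, hx⟩ hm, extOf_of_mem φ₀ hx, autFun_of_mem α hm]
  have hR : F.StronglyClosed R := by
    refine ⟨hRS, fun P hP φ hφ x => ?_⟩
    obtain ⟨α, hα, g₀, hg₀, he⟩ := hfr P (extOf φ) (hP.trans hRT) (mp_of_hom hφ)
    have h1 := he x x.2
    rw [extOf_coe] at h1
    rw [h1]
    exact hαR α hα _ (sc_mp hRM hg₀ hP x.2)
  have hSI' : StrongInv F L := by
    refine strongInv_of_mp (fun P Q' W f g hPQ hQ'R hf hfQ hg hi => ?_)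
    obtain ⟨α, hα, g₀, hg₀, he⟩ := hfr Q' g (hQ'R.trans hRT) hg
    obtain ⟨W₀, hi₀⟩ := (hg₀.restrict hPQ).exists_img
    obtain ⟨h₀, hh₀, hh₀e⟩ := sI_mp hSIL hPQ hQ'R hf hfQ hg₀ hi₀
    have ha := mp_autFun hTS hα
    have ht := trOn_of_mp ha
    have hIm : Im W₀ (autFun α) W := by
      refine ⟨fun x hx => ?_, fun y hy => ?_⟩
      · obtain ⟨u, hu, rfl⟩ := hi₀.2 x hx
        rw [← he u (hPQ hu)]
        exact hi.1 u hu
      · obtain ⟨u, hu, rfl⟩ := hi.2 y hy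
        exact ⟨g₀ u, hi₀.1 u hu, (he u (hPQ hu)).symm⟩
    obtain ⟨h', hh', hh'e⟩ := (hinv _ ha (img_autFun α)).push (ht.mono hRT) hh₀ hIm
    refine ⟨h', hh', fun x hx => ?_⟩
    rw [he x (hPQ hx), hh'e _ (hi₀.1 x hx), hh₀e x hx, he _ (hfQ x hx)]
  have hext' : ∀ α ∈ L.autGroup R, ∃ β ∈ F.autGroup (R ⊔ centralizerIn S R),
      (∀ x : R, ((β (Subgroup.inclusion le_sup_left x) : ↥(R ⊔ centralizerIn S R)) : Ω) = ((α x : R) : Ω)) ∧
      ∀ c : ↥(R ⊔ centralizerIn S R), (c : Ω) ∈ centralizerIn S R →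
        (c : Ω)⁻¹ * ((β c : ↥(R ⊔ centralizerIn S R)) : Ω) ∈ R ⊓ Subgroup.centralizer (R : Set Ω) := by
    intro α hα
    obtain ⟨β, hβ, hβR, hβC⟩ := good_of_pp (Y₁ := centralizerIn S R) hS hR hLs inf_le_left (fun b hb hq => ch_pp hS hM hL hR hb hq) hα
    have hm : ∀ x ∈ R ⊔ centralizerIn S R, β x ∈ R ⊔ centralizerIn S R := by
      refine maps_sup hβ (fun x hx => ?_) (fun c hc => ?_)
      · rw [hβR x hx]
        exact Subgroup.mem_sup_left ((img_autFun α).1 x hx)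
      · have e : β c = c * (c⁻¹ * β c) := by group
        rw [e]
        exact Subgroup.mul_mem _ (Subgroup.mem_sup_right hc) (Subgroup.mem_sup_left (hβC c hc))
    obtain ⟨b, hb, hbe⟩ := hβ.toAut (LowPi.img_self hβ hm)
    refine ⟨b, hb, fun x => ?_, fun c hc => ?_⟩
    · rw [hbe]
      exact (hβR x x.2).trans (autFun_coe α x)
    · rw [hbe]
      refine ⟨hβC c hc, ?_⟩
      have hi' : ∀ z ∈ R, ∃ x ∈ R, β x = z := by
        intro z hz
        obtain ⟨x, hx, rfl⟩ := (img_autFun α).2 z hz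
        exact ⟨x, hx, hβR x hx⟩
      have h1 := map_cent hβ hi' hc
      have hc' : (c : Ω) ∈ Subgroup.centralizer (R : Set Ω) := (Subgroup.mem_inf.1 hc).2
      have h1' : β c ∈ Subgroup.centralizer (R : Set Ω) := (Subgroup.mem_inf.1 h1).2
      exact Subgroup.mul_mem _ (Subgroup.inv_mem _ hc') h1'
  exact ⟨⟨hLs, hF, (isInvariantIn_iff hS hF hsub hR).2 hSI'⟩, hext'⟩

/-- The layer of a normal subsystem lies in each of its conjugates. -/
theorem layer_le_img (hS : IsPGroup p S) (hM : M.IsNormalIn F p) (hL : L.IsLayerOf M p) {c d : Ω → Ω} (hc : Mp F T c) (hci : Img T c T)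
    (hd : Mp F T d) (hdi : Img T d T) (hcd : ∀ x ∈ T, c (d x) = x) {R' : Subgroup Ω} {L' : FusionSystem R'} (hL' : ImgSys c L L')
    (hR' : Im R c R') : L.IsSubsystemOf L' := by
  obtain ⟨⟨hMs, hF, hMsub, hT, hMInv, hMFr⟩, hMext⟩ := id hM
  have hSIM : StrongInv F M := strong_of_inv hMInv hMFr
  have hTS : T ≤ S := hT.1
  haveI : Finite T := finite_of_le hTS
  have hTp : IsPGroup p T := hS.to_le hTS
  have hRT : R ≤ T := hL.1.1.2.2.2.1.1
  have hMc := imgSys_aut hSIM hc hci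
  have hMd := imgSys_aut hSIM hd hdi
  have htc := trOn_of_mp hc
  have htd := trOn_of_mp hd
  have hL'n : L'.IsNormalIn M p := tr_normal hTp htc hL.1 hL' hMc hR' hci
  refine hL.2.2 R' L' hL'n (fun U' C' hC' => ?_)
  have hU'T : U' ≤ T := (M.le_of_mem (Cfsg.Agent.Lib.FusionExt.Comp1.subnormal_sub hC'.1 U' (subtype_mem C' le_rfl))).1
  haveI : Finite U' := finite_of_le hU'T
  obtain ⟨U₀, hU₀⟩ := htd.exists_im hU'T
  obtain ⟨C₀, hC₀⟩ := exists_imgSys (htd.mono hU'T) hU₀ C'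
  have hsub₀ : C₀.IsSubnormalIn M p := chain_tr hC'.1 hTp htd hC₀ hMd hU₀ hdi
  obtain ⟨b, hb⟩ := exists_isoPair (htd.mono hU'T) hU₀
  have hq₀ := quasisimple_tr (hTp.to_le hU'T) hb hC₀ hC'.2
  have hC₀L : C₀.IsSubsystemOf L := hL.2.1 U₀ C₀ ⟨hsub₀, hq₀⟩
  intro P φ hφ
  apply hom_of_mp
  have hm := mp_of_hom hφ
  obtain ⟨P₀, hP₀⟩ := htd.exists_im (hm.le.trans hU'T)
  obtain ⟨f₀, hf₀, hf₀e⟩ := hC₀.push (htd.mono hU'T) hm hP₀
  have hf₀L : Mp L P₀ f₀ := mp_sub hC₀L hf₀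
  have hIm : Im P₀ c P := by
    refine ⟨fun x hx => ?_, fun y hy => ⟨d y, hP₀.1 y hy, hcd y (hU'T (hm.le hy))⟩⟩
    obtain ⟨u, hu, rfl⟩ := hP₀.2 x hx
    rw [hcd u (hU'T (hm.le hu))]
    exact hu
  obtain ⟨f₁, hf₁, hf₁e⟩ := hL'.push (htc.mono hRT) hf₀L hIm
  refine hf₁.congr (fun x hx => ?_)
  have h1 := hf₁e (d x) (hP₀.1 x hx)
  rw [hcd x (hU'T (hm.le hx)), hf₀e x hx, hcd _ (hU'T (hm.mem_S hx))] at h1
  exact h1

/-- **The layer of a normal subsystem is invariant.** -/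
theorem layer_inv (hS : IsPGroup p S) (hM : M.IsNormalIn F p) (hL : L.IsLayerOf M p) {a : Ω → Ω} (ha : Mp F T a) (hai : Img T a T) :
    ImgSys a L L := by
  have hRT : R ≤ T := hL.1.1.2.2.2.1.1
  have hTS : T ≤ S := hM.1.2.2.2.1.1
  haveI : Finite T := finite_of_le hTS
  haveI : Finite R := finite_of_le (hRT.trans hTS)
  obtain ⟨b, hb, h1, h2, h3⟩ := ha.inverse hai
  have hta := trOn_of_mp ha
  have htb := trOn_of_mp hb
  obtain ⟨R', hR'⟩ := hta.exists_im hRT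
  obtain ⟨L', hL'⟩ := exists_imgSys (hta.mono hRT) hR' L
  obtain ⟨R'', hR''⟩ := htb.exists_im hRT
  obtain ⟨L'', hL''⟩ := exists_imgSys (htb.mono hRT) hR'' L
  have h₁ : L.IsSubsystemOf L' := layer_le_img hS hM hL ha hai hb h3 h2 hL' hR'
  have h₂ : L.IsSubsystemOf L'' := layer_le_img hS hM hL hb h3 ha hai h1 hL'' hR''
  intro X f
  constructor
  · intro hf
    exact (hL' X f).1 (mp_sub h₁ hf)
  · rintro ⟨X₀, f₀, hf₀, hIm, he⟩
    obtain ⟨X₁, f₁, hf₁, hIm₁, he₁⟩ := (hL'' X₀ f₀).1 (mp_sub h₂ hf₀)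
    have hX₁T : X₁ ≤ T := hf₁.le.trans hRT
    have hX₀T : X₀ ≤ T := hf₀.le.trans hRT
    have hX : X₁ = X := by
      refine le_antisymm (fun x hx => ?_) (fun y hy => ?_)
      · have h4 := hIm.1 _ (hIm₁.1 x hx)
        rwa [h2 x (hX₁T hx)] at h4
      · obtain ⟨u, hu, rfl⟩ := hIm.2 y hy
        obtain ⟨v, hv, rfl⟩ := hIm₁.2 u hu
        rwa [h2 v (hX₁T hv)]
    subst hX
    refine hf₁.congr (fun x hx => ?_)
    have e1 := he (b x) (hIm₁.1 x hx)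
    have e2 := he₁ x hx
    rw [e2, h2 x (hX₁T hx), h2 _ (hRT (hf₁.mem_S hx))] at e1
    exact e1.symm

end Cfsg.Agent.Lib.FusionExt.CharN2
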