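import Cfsg.Agent.Lib.FusionExt.PPrimeMin
import Cfsg.Agent.S5145

/-!
# The largest normal subgroup of a normal subsystem is normal (helper92)
-/

set_option autoImplicit false
set_option linter.unusedSectionVars false

namespace Cfsg.Agent.Lib.FusionExt.CoreN

open Cfsg Cfsg.FusionSystem Cfsg.Agent.Lib.Fusion.Basic Cfsg.Agent.Lib.Fusion.GroupSystem
open Cfsg.Agent.Lib.FusionExt.MapApi Cfsg.Agent.Lib.FusionExt.PowerSys Cfsg.Agent.Lib.FusionExt.PowerGen
open Cfsg.Agent.Lib.FusionExt.PrimeRes1 Cfsg.Agent.Lib.FusionExt.Invariant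
open Cfsg.Agent.Lib.FusionExt.PowerE Cfsg.Agent.Lib.FusionExt.LowPi
open Cfsg.Agent.Lib.FusionExt.Normal Cfsg.Agent.Lib.FusionExt.Normal2 Cfsg.Agent.Lib.FusionExt.CentSys Cfsg.Agent.Lib.FusionExt.PPrimeMin

universe u

variable {Ω : Type u} [Group Ω] {S T : Subgroup Ω} {F : FusionSystem S} {W : FusionSystem T} {p : ℕ} {Q X : Subgroup Ω} {f g : Ω → Ω}

/-- Normality through total functions. -/
theorem isNormal_of_mp (hQS : Q ≤ S) (h : ∀ (X : Subgroup Ω) (f : Ω → Ω), Mp F X f → ∃ g, Mp F (X ⊔ Q) g ∧ (∀ x ∈ X, g x = f x) ∧ Img Q g Q) :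
    F.IsNormal Q := by
  refine ⟨hQS, fun P φ hφ => ?_⟩
  obtain ⟨g, ⟨ψ, hψ, e⟩, h1, h2⟩ := h P _ (mp_of_hom hφ)
  refine ⟨ψ, hψ, fun x => ?_, ?_⟩
  · rw [e]
    show g x = _
    rw [h1 x x.2, extOf_coe]
  · ext y
    constructor
    · rintro ⟨x, hx, rfl⟩
      rw [e]
      exact h2.1 _ hx
    · intro hy
      obtain ⟨x, hx, rfl⟩ := h2.2 y hy
      exact ⟨⟨x, Subgroup.mem_sup_right hx⟩, hx, e _⟩

/-- Normal subgroups of an invariant subsystem are permuted by `Aut_F(T)`. -/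
theorem normal_tw (hTS : T ≤ S) (hSI : StrongInv F W) {a : MulAut T} (ha : a ∈ F.autGroup T) (hQ : W.IsNormal Q) : W.IsNormal (cjB a Q) := by
  have hQT : Q ≤ T := hQ.1
  have hai : a⁻¹ ∈ F.autGroup T := Subgroup.inv_mem _ ha
  refine isNormal_of_mp (fun y hy => hy.1) (fun X f hf => ?_)
  have hXT : X ≤ T := hf.le
  have hf₁ := tw_sI hTS hSI hai hf
  obtain ⟨G, hG, hG1, hG2⟩ := mp_normal_ext hQ hf₁
  have hG' := tw_sI hTS hSI ha hG
  have hle : X ⊔ cjB a Q ≤ cjB a (cjB a⁻¹ X ⊔ Q) := by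
    refine sup_le (fun x hx => ⟨hXT hx, Subgroup.mem_sup_left ?_⟩) (fun y hy => ⟨hy.1, Subgroup.mem_sup_right hy.2⟩)
    exact ⟨autFun_mem a (hXT hx), by rw [autFun_inv_apply]; exact hx⟩
  refine ⟨twB a G, hG'.restrict hle, fun x hx => ?_, ⟨fun y hy => ?_, fun z hz => ?_⟩⟩
  · have hm : autFun a x ∈ cjB a⁻¹ X := ⟨autFun_mem a (hXT hx), by rw [autFun_inv_apply]; exact hx⟩
    show autFun a⁻¹ (G (autFun a x)) = f x
    rw [hG1 _ hm]
    show autFun a⁻¹ (autFun a⁻¹⁻¹ (f (autFun a⁻¹ (autFun a x)))) = f x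
    rw [autFun_inv_apply, inv_inv, autFun_inv_apply]
  · refine ⟨autFun_mem _ (hG.mem_S (Subgroup.mem_sup_right hy.2)), ?_⟩
    show autFun a (autFun a⁻¹ (G (autFun a y))) ∈ Q
    rw [autFun_apply_inv]
    exact hG2.1 _ hy.2
  · obtain ⟨q, hq, e⟩ := hG2.2 _ hz.2
    have hq' : autFun a⁻¹ q ∈ cjB a Q := mem_cjB_of a hQT hq
    refine ⟨_, hq', ?_⟩
    show autFun a⁻¹ (G (autFun a (autFun a⁻¹ q))) = z
    rw [autFun_apply_inv, e, autFun_inv_apply]

theorem core_aut [Finite T] (hTS : T ≤ S) (hSI : StrongInv F W) {a : MulAut T} (ha : a ∈ F.autGroup T) {x : Ω} (hx : x ∈ W.core) :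
    autFun a x ∈ W.core := by
  have hQ := Cfsg.Agent.S5145.result W
  have h := Cfsg.Agent.Lib.FusionExt.Constrained.le_core W (normal_tw hTS hSI (Subgroup.inv_mem _ ha) hQ)
  exact h ⟨autFun_mem a (hQ.1 hx), by rw [autFun_inv_apply]; exact hx⟩

theorem img_core [Finite T] (hTS : T ≤ S) (hSI : StrongInv F W) {a : MulAut T} (ha : a ∈ F.autGroup T) : Img W.core (autFun a) W.core :=
  ⟨fun x hx => core_aut hTS hSI ha hx, fun y hy => ⟨_, core_aut hTS hSI (Subgroup.inv_mem _ ha) hy, autFun_apply_inv a y⟩⟩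

/-- The upper central series of `Q`, inside the ambient group. -/
def chain (Q : Subgroup Ω) (i : ℕ) : Subgroup Ω := (Subgroup.upperCentralSeries Q i).map Q.subtype

theorem chain_le (i : ℕ) : chain Q i ≤ Q := by
  rintro _ ⟨y, -, rfl⟩
  exact y.2

theorem mp_chain {U : Subgroup Ω} {D : FusionSystem U} (hm : Mp D Q g) (hi : Img Q g Q) {i : ℕ} {x : Ω} (hx : x ∈ chain Q i) : g x ∈ chain Q i := by
  obtain ⟨a, -, ha⟩ := hm.toAut hi
  obtain ⟨y, hy, rfl⟩ := hx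
  refine ⟨a y, ?_, ha y⟩
  have h : (Subgroup.upperCentralSeries Q i).comap a.toMonoidHom = _ := Subgroup.Characteristic.fixed inferInstance a
  rw [← h] at hy
  exact hy

theorem chain_sc (hW : W.IsNormalIn F p) (hT' : Finite T) (i : ℕ) : F.StronglyClosed (chain W.core i) := by
  obtain ⟨⟨hWs, hF, hsub, hT, hInv, hFr⟩, -⟩ := hW
  have hTS : T ≤ S := hT.1
  have hSI := strong_of_inv hInv hFr
  have hQn := Cfsg.Agent.S5145.result W
  have hQT : W.core ≤ T := hQn.1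
  refine ⟨(chain_le i).trans (hQT.trans hTS), fun R hR φ hφ x => ?_⟩
  have hRQ : R ≤ W.core := hR.trans (chain_le i)
  obtain ⟨α, hα, φ₀, hφ₀, e⟩ := hFr R (hRQ.trans hQT) φ hφ
  have hv : φ₀ x ∈ T := val_mem W hφ₀ x
  rw [e x hv]
  obtain ⟨G, hG, hG1, hG2⟩ := mp_normal_ext hQn (mp_of_hom hφ₀)
  have h1 : φ₀ x ∈ chain W.core i := by
    rw [← extOf_coe φ₀ x, ← hG1 x x.2]
    exact mp_chain (hG.restrict le_sup_right) hG2 (hR x.2)
  have h2 := mp_chain (D := F) ((mp_autFun hTS hα).restrict hQT) (img_core hTS hSI hα) h1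
  rwa [autFun_of_mem α hv] at h2

/-- **The largest normal subgroup of a normal subsystem is normal.** -/
theorem core_isNormal [Finite S] [Fact p.Prime] (hS : IsPGroup p S) (hW : W.IsNormalIn F p) : F.IsNormal W.core := by
  have hF : F.IsSaturated p := hW.1.2.1
  have hTS : T ≤ S := hW.1.2.2.2.1.1
  haveI : Finite T := finite_of_le hTS
  have hQn := Cfsg.Agent.S5145.result W
  have hQS : W.core ≤ S := hQn.1.trans hTS
  haveI : Finite W.core := finite_of_le hQS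
  have hQp : IsPGroup p W.core := hS.to_le hQS
  haveI := hQp.isNilpotent
  obtain ⟨n, hn⟩ := Group.IsNilpotent.nilpotent (W.core)
  refine isNormal_of_chain F hS hF (chain W.core) (fun i => Subgroup.map_mono (Subgroup.upperCentralSeries_mono _ (Nat.le_succ i))) ?_ (n := n) ?_ (fun i _ => chain_sc hW inferInstance _) ?_
  · show (Subgroup.upperCentralSeries _ 0).map _ = ⊥
    rw [Subgroup.upperCentralSeries_zero, Subgroup.map_bot]
  · show (Subgroup.upperCentralSeries _ n).map _ = _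
    rw [hn]
    ext y
    simp
  · rintro i - x hx _ ⟨a, ha, rfl⟩
    have h1 : a⁻¹ ∈ Subgroup.upperCentralSeries W.core (i + 1) := Subgroup.inv_mem _ ha
    have h2 := (Subgroup.mem_upperCentralSeries_succ_iff).1 h1 ⟨x, hx⟩
    refine ⟨_, h2, ?_⟩
    show (a : Ω)⁻¹ * x * (a : Ω)⁻¹⁻¹ * x⁻¹ = (a : Ω)⁻¹ * (x * (a : Ω) * x⁻¹)
    group

end Cfsg.Agent.Lib.FusionExt.CoreN
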