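import Cfsg.Agent.Lib.FusionExt.Constr1

/-!
# The dichotomy: normalizers of subgroups containing a constrained centralizer's subgroup (helper92)
-/

set_option autoImplicit false
set_option linter.unusedSectionVars false

namespace Cfsg.Agent.Lib.FusionExt.Dich1

open Cfsg Cfsg.FusionSystem Cfsg.Agent.Lib.Fusion.Basic Cfsg.Agent.Lib.Fusion.GroupSystem
open Cfsg.Agent.Lib.FusionExt.MapApi Cfsg.Agent.Lib.FusionExt.PowerSys Cfsg.Agent.Lib.FusionExt.PowerGen
open Cfsg.Agent.Lib.FusionExt.PrimeRes1 Cfsg.Agent.Lib.FusionExt.Invariant Cfsg.Agent.Lib.FusionExt.Constrained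
open Cfsg.Agent.Lib.FusionExt.PowerE Cfsg.Agent.Lib.FusionExt.LowPi Cfsg.Agent.Lib.Fusion.Center
open Cfsg.Agent.Lib.FusionExt.Normal Cfsg.Agent.Lib.FusionExt.Normal2 Cfsg.Agent.Lib.FusionExt.CentSys Cfsg.Agent.Lib.FusionExt.PPrimeMin
open Cfsg.Agent.Lib.FusionExt.Basic Cfsg.Agent.Lib.FusionExt.CoreN Cfsg.Agent.Lib.FusionExt.Comp1 Cfsg.Agent.Lib.FusionExt.Comp2 Cfsg.Agent.Lib.FusionExt.Factor
open Cfsg.Agent.Lib.FusionExt.Constr1 Cfsg.Agent.Lib.Fusion.Saturation2 Cfsg.Agent.Lib.Fusion.KSystem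

universe u

variable {Ω : Type u} [Group Ω] {S T : Subgroup Ω} {D : FusionSystem T} {p : ℕ} {U R : Subgroup Ω} {H : Ω → Ω}

/-- Thompson's `A × B` lemma, in the form used. -/
theorem ab_lemma [Finite T] [Fact p.Prime] (hT : IsPGroup p T) (hUT : U ≤ T) (hH : Mp D R H)
    (hn : ∀ u ∈ U, ∀ r ∈ R, u * r * u⁻¹ ∈ R) (hmap : ∀ r ∈ R, H r ∈ R)
    (hc : ∀ u ∈ U, ∀ r ∈ R, H (u * r * u⁻¹) = u * H r * u⁻¹)
    (hUf : ∀ x ∈ U, x ∈ R → H x = x)
    (hC : ∀ r ∈ R, (∀ u ∈ U, u * r = r * u) → H r = r)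
    {m : ℕ} (hm : m.Coprime p) (hper : ∀ r ∈ R, H^[m] r = r) : ∀ r ∈ R, H r = r := by
  have hRT : R ≤ T := hH.le
  haveI : Finite R := finite_of_le hRT
  let Q : Subgroup Ω :=
    { carrier := {r | r ∈ R ∧ H r = r}
      mul_mem' := by
        rintro a b ⟨h1, h2⟩ ⟨h3, h4⟩
        exact ⟨R.mul_mem h1 h3, by rw [hH.map_mul h1 h3, h2, h4]⟩
      one_mem' := ⟨R.one_mem, hH.map_one⟩
      inv_mem' := by
        rintro a ⟨h1, h2⟩
        exact ⟨R.inv_mem h1, by rw [hH.map_inv h1, h2]⟩ }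
  have hQR : Q ≤ R := fun x hx => hx.1
  haveI : Finite Q := finite_of_le (hQR.trans hRT)
  by_contra hne
  push Not at hne
  obtain ⟨r₀, hr₀, hr₀ne⟩ := hne
  have hQU : U ≤ Subgroup.normalizer (Q : Set Ω) := by
    intro u hu
    refine mem_normalizer_of_conj_le' (fun x hx => ⟨hn u hu x hx.1, ?_⟩)
    rw [hc u hu x hx.1, hx.2]
  have hRU : U ≤ Subgroup.normalizer (R : Set Ω) := fun u hu => mem_normalizer_of_conj_le' (hn u hu)
  have hBT : U ⊔ R ≤ T := sup_le hUT hRT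
  have hBp : IsPGroup p ↥(U ⊔ R) := hT.to_le hBT
  haveI : Finite ↥(U ⊔ R) := finite_of_le hBT
  have hJR : ∀ x ∈ U ⊔ Q, x ∈ R → H x = x := by
    intro x hxJ hxR
    obtain ⟨u, hu, q, hq, rfl⟩ := exists_mul_of_mem_sup' hQU hxJ
    have huR : u ∈ R := by
      have e : u = u * q * q⁻¹ := by group
      rw [e]
      exact R.mul_mem hxR (R.inv_mem hq.1)
    rw [hH.map_mul huR hq.1, hUf u hu huR, hq.2]
  have hJB : U ⊔ Q < U ⊔ R := by
    refine lt_of_le_of_ne (sup_le_sup_left hQR U) (fun e => hr₀ne (hJR r₀ ?_ hr₀))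
    rw [e]
    exact Subgroup.mem_sup_right hr₀
  have hlt := lt_normalizerIn hBp hJB
  obtain ⟨y, hyN, hyJ⟩ := SetLike.exists_of_lt hlt
  have hyB : y ∈ U ⊔ R := hyN.1
  have hyn : y ∈ Subgroup.normalizer ((U ⊔ Q : Subgroup Ω) : Set Ω) := hyN.2
  obtain ⟨u, hu, r, hr, rfl⟩ := exists_mul_of_mem_sup' hRU hyB
  have huJ : u ∈ U ⊔ Q := Subgroup.mem_sup_left hu
  have hrn : r ∈ Subgroup.normalizer ((U ⊔ Q : Subgroup Ω) : Set Ω) := by
    have e : r = u⁻¹ * (u * r) := by group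
    rw [e]
    exact Subgroup.mul_mem _ (Subgroup.le_normalizer (Subgroup.inv_mem _ huJ)) hyn
  have hrJ : r ∉ U ⊔ Q := fun h => hyJ (Subgroup.mul_mem _ huJ h)
  apply hrJ
  apply Subgroup.mem_sup_right
  refine ⟨hr, ?_⟩
  have hHr : H r ∈ R := hmap r hr
  have hcomm : ∀ u' ∈ U, u' * ((H r)⁻¹ * r) = ((H r)⁻¹ * r) * u' := by
    intro u' hu'
    have hcJ : r * u' * r⁻¹ * u'⁻¹ ∈ U ⊔ Q :=
      Subgroup.mul_mem _ ((Subgroup.mem_normalizer_iff.1 hrn u').1 (Subgroup.mem_sup_left hu')) (Subgroup.inv_mem _ (Subgroup.mem_sup_left hu'))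
    have e0 : r * u' * r⁻¹ * u'⁻¹ = r * (u' * r⁻¹ * u'⁻¹) := by group
    have hcR : r * u' * r⁻¹ * u'⁻¹ ∈ R := by
      rw [e0]
      exact R.mul_mem hr (hn u' hu' r⁻¹ (R.inv_mem hr))
    have hfix := hJR _ hcJ hcR
    rw [e0, hH.map_mul hr (hn u' hu' r⁻¹ (R.inv_mem hr)), hc u' hu' r⁻¹ (R.inv_mem hr), hH.map_inv hr] at hfix
    have h1 : H r * u' * (H r)⁻¹ = r * u' * r⁻¹ := by
      have h2 : H r * (u' * (H r)⁻¹ * u'⁻¹) * u' = r * (u' * r⁻¹ * u'⁻¹) * u' := by rw [hfix]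
      calc H r * u' * (H r)⁻¹ = H r * (u' * (H r)⁻¹ * u'⁻¹) * u' := by group
        _ = r * (u' * r⁻¹ * u'⁻¹) * u' := h2
        _ = r * u' * r⁻¹ := by group
    calc u' * ((H r)⁻¹ * r) = (H r)⁻¹ * (H r * u' * (H r)⁻¹) * r := by group
      _ = (H r)⁻¹ * (r * u' * r⁻¹) * r := by rw [h1]
      _ = (H r)⁻¹ * r * u' := by group
  have hzR : (H r)⁻¹ * r ∈ R := R.mul_mem (R.inv_mem hHr) hr
  have hzf : H ((H r)⁻¹ * r) = (H r)⁻¹ * r := hC _ hzR hcomm
  set z := (H r)⁻¹ * r with hz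
  have hHe : H r = r * z⁻¹ := by
    rw [hz]
    group
  have hit : ∀ j : ℕ, H^[j] r = r * (z⁻¹) ^ j := by
    intro j
    induction j with
    | zero => simp
    | succ j ih =>
      have hzi : z⁻¹ ∈ R := R.inv_mem hzR
      have hzj : (z⁻¹) ^ j ∈ R := R.pow_mem hzi j
      rw [Function.iterate_succ_apply', ih, hH.map_mul hr hzj, hHe]
      have hp : H ((z⁻¹) ^ j) = (z⁻¹) ^ j := by
        clear ih
        induction j with
        | zero => simpa using hH.map_one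
        | succ j ih2 =>
          have hzj' : (z⁻¹) ^ j ∈ R := R.pow_mem hzi j
          rw [pow_succ, hH.map_mul hzj' hzi, ih2 hzj', hH.map_inv hzR, hzf]
      rw [hp, pow_succ']
      group
  have h1 := hit m
  rw [hper r hr] at h1
  have h2 : (z⁻¹) ^ m = 1 := mul_eq_left.1 h1.symm
  obtain ⟨k, hk⟩ := hT ⟨z⁻¹, hRT (R.inv_mem hzR)⟩
  have h3 : (z⁻¹) ^ p ^ k = 1 := by
    have := congrArg Subtype.val hk
    simpa using this
  have h4 := pow_gcd_eq_one.2 ⟨h2, h3⟩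
  rw [Nat.Coprime.pow_right k hm] at h4
  have h5 : z⁻¹ = 1 := by simpa using h4
  rw [hHe, h5, mul_one]

section T1

variable {F : FusionSystem S} {X : Subgroup Ω} {E : FusionSystem (normalizerIn S U)} {Y : Subgroup Ω} {f g : Ω → Ω}

/-- Maps of a normalizer system. -/
theorem mp_normSys (hE : F.IsNormalizerSystem U E) : Mp E Y f ↔ Y ≤ normalizerIn S U ∧
    (∀ x ∈ Y, f x ∈ normalizerIn S U) ∧ ∃ g, Mp F (Y ⊔ U) g ∧ (∀ x ∈ Y, g x = f x) ∧ Img U g U := by
  constructor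
  · rintro ⟨φ, hφ, e⟩
    rw [hE] at hφ
    obtain ⟨hφ, h1, h2, ψ, hψ, h3, h4⟩ := hφ
    refine ⟨h1, fun x hx => ?_, extOf ψ, mp_of_hom hψ, fun x hx => ?_, fun q hq => ?_, fun y hy => ?_⟩
    · rw [← e ⟨x, hx⟩]
      exact h2 ⟨x, hx⟩
    · rw [extOf_of_mem ψ (Subgroup.mem_sup_left hx), ← e ⟨x, hx⟩]
      exact h3 ⟨x, hx⟩
    · rw [extOf_of_mem ψ (Subgroup.mem_sup_right hq)]
      exact h4.le ⟨⟨q, Subgroup.mem_sup_right hq⟩, hq, rfl⟩
    · rw [← h4] at hy
      obtain ⟨x, hx, rfl⟩ := hy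
      exact ⟨x, hx, extOf_coe ψ x⟩
  · rintro ⟨h1, h2, g, hg, h3, h4⟩
    obtain ⟨φ, hφ, e⟩ := (hg.restrict (le_sup_left : Y ≤ Y ⊔ U)).congr h3
    obtain ⟨ψ, hψ, e'⟩ := hg
    refine ⟨φ, ?_, e⟩
    rw [hE]
    refine ⟨hφ, h1, fun x => ?_, ψ, hψ, fun x => ?_, ?_⟩
    · rw [e]
      exact h2 _ x.2
    · rw [e, ← h3 _ x.2]
      exact e' _
    · ext y
      constructor
      · rintro ⟨x, hx, rfl⟩
        rw [e']
        exact h4.1 _ hx
      · intro hy
        obtain ⟨x, hx, rfl⟩ := h4.2 y hy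
        exact ⟨⟨x, Subgroup.mem_sup_right hx⟩, hx, e' _⟩

theorem mp_E_F (hE : F.IsNormalizerSystem U E) (h : Mp E Y f) : Mp F Y f := by
  obtain ⟨-, -, g, hg, h3, -⟩ := (mp_normSys hE).1 h
  exact (hg.restrict le_sup_left).congr h3

theorem sub_E_F (hE : F.IsNormalizerSystem U E) : E.IsSubsystemOf F := fun P φ hφ =>
  hom_of_mp (mp_E_F hE (mp_of_hom hφ))

/-- An `F`-map on a group containing `U`, preserving `U`, with values in `N_S(U)` is a map of `N_F(U)`. -/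
theorem E_of_F (hE : F.IsNormalizerSystem U E) (hUY : U ≤ Y) (hY : Y ≤ normalizerIn S U) (hf : Mp F Y f) (hv : ∀ x ∈ Y, f x ∈ normalizerIn S U)
    (hi : Img U f U) : Mp E Y f :=
  (mp_normSys hE).2 ⟨hY, hv, f, hf.restrict (sup_le le_rfl hUY), fun _ _ => rfl, hi⟩

theorem U_normal (hE : F.IsNormalizerSystem U E) (hUS : U ≤ S) : E.IsNormal U := by
  have hUA : U ≤ normalizerIn S U := le_normalizerIn hUS
  refine isNormal_of_mp hUA (fun Y f hf => ?_)
  obtain ⟨h1, h2, g, hg, h3, h4⟩ := (mp_normSys hE).1 hf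
  refine ⟨g, E_of_F hE le_sup_right (sup_le h1 hUA) hg (fun x hx => maps_sup hg (fun a ha => ?_) (fun b hb => hUA (h4.1 b hb)) x hx) h4, h3, h4⟩
  rw [h3 a ha]
  exact h2 a ha

/-- A quasisimple system has a nontrivial `p'`-automorphism. -/
theorem no_qs {C : FusionSystem T} [Finite T] [Fact p.Prime] (hC : C.Quasisimple p)
    (h : ∀ P, P ≤ T → ∀ f, Pp C p P f → ∀ x ∈ P, f x = x) : False := by
  obtain ⟨hCs, hyp, hsimple⟩ := hC
  have hZU : C.center ≤ T := center_le C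
  have hZsc : C.StronglyClosed C.center := by
    refine ⟨hZU, fun P hP φ hφ x => ?_⟩
    rw [map_of_mem_center C hφ x.2 (hP x.2)]
    exact hP x.2
  let θ : T →* (T ⧸ C.center.subgroupOf T) := QuotientGroup.mk' (C.center.subgroupOf T)
  have hθ : ∀ s : T, θ s = 1 ↔ (s : Ω) ∈ C.center := fun s => by
    show ((s : T) : T ⧸ C.center.subgroupOf T) = 1 ↔ _
    rw [QuotientGroup.eq_one_iff, Subgroup.mem_subgroupOf]
  have hr : θ.range = ⊤ := MonoidHom.range_eq_top.2 (QuotientGroup.mk'_surjective _)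
  obtain ⟨E, hE⟩ := exists_isFactorSystem C θ hZsc hθ hr
  obtain ⟨hEs, hne, -⟩ := hsimple E hE
  have hle : C.hyperfocalSubgroup p ≤ ⊥ := by
    refine hyperfocal_le_of_gen (fun P hP f hf x hx => ?_)
    rw [h P hP f hf x hx]
    simp
  apply hne
  rw [eq_bot_iff]
  intro y _
  obtain ⟨s, rfl⟩ := QuotientGroup.mk'_surjective _ y
  apply (hθ s).2
  have : (s : Ω) ∈ (⊥ : Subgroup Ω) := by
    apply hle
    rw [hyp]
    exact s.2
  rw [Subgroup.mem_bot.1 this]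
  exact Subgroup.one_mem _

variable [Finite S] [Fact p.Prime]

/-- The standing hypotheses of the key step. -/
structure KD (p : ℕ) (F : FusionSystem S) (X U : Subgroup Ω) (E : FusionSystem (normalizerIn S U)) (hXS : X ≤ S) : Prop where
  hS : IsPGroup p S
  hF : F.IsSaturated p
  hfn : F.IsFullyNormalized U
  hE : F.IsNormalizerSystem U E
  hXU : X ≤ U
  hAC : normalizerIn S U ≤ Subgroup.centralizer (X : Set Ω)
  hDc : (centralizerSystem F X hXS).IsConstrained p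

namespace KD

variable {hXS : X ≤ S} (K : KD p F X U E hXS)

include K

theorem hUS : U ≤ S := K.hfn.1
theorem hAS : normalizerIn S U ≤ S := normalizerIn_le_left S U
theorem hUA : U ≤ normalizerIn S U := le_normalizerIn K.hUS
theorem hAC₁ : normalizerIn S U ≤ centralizerIn S X := le_inf K.hAS K.hAC
theorem hEs : E.IsSaturated p := isSaturated_normalizerSystem K.hS F K.hF K.hfn E K.hE
theorem hAp : IsPGroup p (normalizerIn S U) := K.hS.to_le K.hAS
theorem hC₁S : centralizerIn S X ≤ S := centralizerIn_le_left S X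
theorem hC₁p : IsPGroup p (centralizerIn S X) := K.hS.to_le K.hC₁S
theorem fA : Finite (normalizerIn S U) := finite_of_le K.hAS
theorem fC : Finite (centralizerIn S X) := finite_of_le K.hC₁S

theorem hR : (centralizerSystem F X hXS).IsNormal (centralizerSystem F X hXS).core := by
  haveI := K.fC
  exact Cfsg.Agent.S5145.result _

theorem hRc : centralizerIn (centralizerIn S X) (centralizerSystem F X hXS).core ≤ (centralizerSystem F X hXS).core := by
  haveI := K.fC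
  obtain ⟨-, Q₀, hQ₀, hc⟩ := K.hDc
  have h := isCentric_core _ hQ₀ hc
  exact h.2 _ (isConj_refl _ h.1)

/-- An `F`-map inside `N_S(U)` fixing `X` is a map of `C_F(X)`. -/
theorem D_of_F (hXY : X ≤ Y) (hY : Y ≤ normalizerIn S U) (hf : Mp F Y f) (hv : ∀ x ∈ Y, f x ∈ normalizerIn S U) (hfix : ∀ x ∈ X, f x = x) :
    Mp (centralizerSystem F X hXS) Y f :=
  mp_centSys.2 ⟨hY.trans K.hAC₁, fun x hx => K.hAC₁ (hv x hx), f, hf.restrict (sup_le le_rfl hXY), fun _ _ => rfl, hfix⟩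

/-- The centralizer of `U` in `R` is normal in `C_{N_F(U)}(U)`. -/
theorem R0_normal : (centralizerSystem E U K.hUA).IsNormal ((centralizerSystem F X hXS).core ⊓ Subgroup.centralizer (U : Set Ω)) := by
  haveI := K.fA
  haveI := K.fC
  have hE := K.hE
  have hUS := K.hUS
  have hUA := K.hUA
  have hR := K.hR
  have hRC₁ := hR.1
  have hRS : (centralizerSystem F X hXS).core ≤ S := hRC₁.trans K.hC₁S
  have hR₀A : (centralizerSystem F X hXS).core ⊓ Subgroup.centralizer (U : Set Ω) ≤ centralizerIn (normalizerIn S U) U := by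
    intro r hr
    refine ⟨⟨hRS hr.1, ?_⟩, hr.2⟩
    haveI : Finite U := finite_of_le hUS
    refine mem_normalizer_of_conj_le' (fun x hx => ?_)
    have h5 := Subgroup.mem_centralizer_iff.1 hr.2 x hx
    have e : r * x * r⁻¹ = x := by
      rw [← h5]
      group
    rw [e]
    exact hx
  refine isNormal_of_mp hR₀A (fun Y f hf => ?_)
  obtain ⟨h1, h2, g, hg, h3, h4⟩ := mp_centSys.1 hf
  have hgF : Mp F (Y ⊔ U) g := mp_E_F hE hg
  have hXYU : X ≤ Y ⊔ U := K.hXU.trans le_sup_right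
  have hYA : Y ≤ normalizerIn S U := h1.trans inf_le_left
  have hvg : ∀ x ∈ Y ⊔ U, g x ∈ normalizerIn S U := fun x hx => hg.mem_S hx
  have hgD := K.D_of_F hXYU (sup_le hYA hUA) hgF hvg (fun x hx => h4 x (K.hXU hx))
  obtain ⟨G, hG, hG1, hG2⟩ := mp_normal_ext hR hgD
  have hGF : Mp F _ G := mp_sub K_sub hG
  have hGU : ∀ u ∈ U, G u = u := fun u hu => by
    rw [hG1 u (Subgroup.mem_sup_right hu), h4 u hu]
  have hle1 : (Y ⊔ ((centralizerSystem F X hXS).core ⊓ Subgroup.centralizer (U : Set Ω))) ⊔ U ≤ ((Y ⊔ U) ⊔ (centralizerSystem F X hXS).core) := by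
    refine sup_le (sup_le ?_ ?_) ?_
    · exact le_sup_left.trans le_sup_left
    · exact inf_le_left.trans le_sup_right
    · exact le_sup_right.trans le_sup_left
  have hG₁ := hG.restrict hle1
  have hGF₁ := hGF.restrict hle1
  -- `G` carries the centralizer of `U` in `R` into itself
  have hGR₀ : ∀ r ∈ (centralizerSystem F X hXS).core ⊓ Subgroup.centralizer (U : Set Ω), G r ∈ (centralizerSystem F X hXS).core ⊓ Subgroup.centralizer (U : Set Ω) := by
    intro r hr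
    refine ⟨hG2.1 r hr.1, Subgroup.mem_centralizer_iff.2 (fun u hu => ?_)⟩
    have hu' : u ∈ (Y ⊔ U) ⊔ (centralizerSystem F X hXS).core := Subgroup.mem_sup_left (Subgroup.mem_sup_right hu)
    have hr' : r ∈ (Y ⊔ U) ⊔ (centralizerSystem F X hXS).core := Subgroup.mem_sup_right hr.1
    rw [← hGU u hu, ← hG.map_mul hu' hr', ← hG.map_mul hr' hu', Subgroup.mem_centralizer_iff.1 hr.2 u hu]
  have hvA : ∀ x ∈ (Y ⊔ ((centralizerSystem F X hXS).core ⊓ Subgroup.centralizer (U : Set Ω))) ⊔ U, G x ∈ normalizerIn S U := by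
    refine maps_sup hG₁ (fun a ha => ?_) (fun b hb => ?_)
    · have h5 := hG₁.restrict (le_sup_left : (Y ⊔ ((centralizerSystem F X hXS).core ⊓ Subgroup.centralizer (U : Set Ω))) ≤ _)
      refine maps_sup h5 (fun y hy => ?_) (fun r hr => ?_) a ha
      · rw [hG1 y (Subgroup.mem_sup_left hy), h3 y hy]
        exact (h2 y hy).1
      · exact (hR₀A (hGR₀ r hr)).1
    · rw [hGU b hb]
      exact hUA hb
  have hiU : Img U G U := ⟨fun u hu => by rw [hGU u hu]; exact hu, fun u hu => ⟨u, hu, hGU u hu⟩⟩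
  have hGE : Mp E _ G := E_of_F hE le_sup_right (sup_le (sup_le hYA (hR₀A.trans inf_le_left)) hUA) hGF₁ hvA hiU
  refine ⟨G, mp_centSys.2 ⟨sup_le h1 hR₀A, ?_, G, hGE, fun _ _ => rfl, hGU⟩, fun x hx => ?_, ?_⟩
  · have h5 := hG₁.restrict (le_sup_left : (Y ⊔ ((centralizerSystem F X hXS).core ⊓ Subgroup.centralizer (U : Set Ω))) ≤ _)
    refine maps_sup h5 (fun y hy => ?_) (fun r hr => hR₀A (hGR₀ r hr))
    rw [hG1 y (Subgroup.mem_sup_left hy), h3 y hy]
    exact h2 y hy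
  · rw [hG1 x (Subgroup.mem_sup_left hx), h3 x hx]
  · have hm : Mp F ((centralizerSystem F X hXS).core ⊓ Subgroup.centralizer (U : Set Ω)) G :=
      hGF.restrict (inf_le_left.trans le_sup_right)
    exact LowPi.img_self hm hGR₀

end KD

end T1

end Cfsg.Agent.Lib.FusionExt.Dich1
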