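import Cfsg.Agent.Lib.FusionExt.Dich1

/-!
# The dichotomy: the key step (helper92)
-/

set_option autoImplicit false
set_option linter.unusedSectionVars false

namespace Cfsg.Agent.Lib.FusionExt.Dich2

open Cfsg Cfsg.FusionSystem Cfsg.Agent.Lib.Fusion.Basic Cfsg.Agent.Lib.Fusion.GroupSystem
open Cfsg.Agent.Lib.FusionExt.MapApi Cfsg.Agent.Lib.FusionExt.PowerSys Cfsg.Agent.Lib.FusionExt.PowerGen
open Cfsg.Agent.Lib.FusionExt.PrimeRes1 Cfsg.Agent.Lib.FusionExt.Invariant Cfsg.Agent.Lib.FusionExt.Constrained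
open Cfsg.Agent.Lib.FusionExt.PowerE Cfsg.Agent.Lib.FusionExt.LowPi Cfsg.Agent.Lib.Fusion.Center
open Cfsg.Agent.Lib.FusionExt.Normal Cfsg.Agent.Lib.FusionExt.Normal2 Cfsg.Agent.Lib.FusionExt.CentSys Cfsg.Agent.Lib.FusionExt.PPrimeMin
open Cfsg.Agent.Lib.FusionExt.Basic Cfsg.Agent.Lib.FusionExt.CoreN Cfsg.Agent.Lib.FusionExt.Comp1 Cfsg.Agent.Lib.FusionExt.Comp2 Cfsg.Agent.Lib.FusionExt.Factor
open Cfsg.Agent.Lib.FusionExt.Constr1 Cfsg.Agent.Lib.Fusion.Saturation2 Cfsg.Agent.Lib.Fusion.KSystem Cfsg.Agent.Lib.FusionExt.Dich1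

universe u

variable {Ω : Type u} [Group Ω] {S T : Subgroup Ω} {p : ℕ} {U R : Subgroup Ω} {H : Ω → Ω}
variable {F : FusionSystem S} {X : Subgroup Ω} {E : FusionSystem (normalizerIn S U)} {Y : Subgroup Ω} {f g : Ω → Ω}
variable [Finite S] [Fact p.Prime] {hXS : X ≤ S} (K : KD p F X U E hXS)

include K

/-- The fixing lemma. -/
theorem fix_of {P : Subgroup Ω} (hg : Mp E (P ⊔ E.core) g) (hgP : ∀ x ∈ P, g x ∈ P) (hfixc : ∀ q ∈ E.core, g q = q)
    {m : ℕ} (hm : m.Coprime p) (hper : ∀ x ∈ P, g^[m] x = x) : ∀ x ∈ P, g x = x := by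
  haveI := K.fA
  haveI := K.fC
  have hEs := K.hEs
  have hAp := K.hAp
  have hEN : E.IsNormal E.core := Cfsg.Agent.S5145.result E
  have hUn := U_normal K.hE K.hUS
  have hUc : U ≤ E.core := le_core E hUn
  have hK₀ : (centralizerSystem E U K.hUA).IsNormalIn E p := centSys_isNormal hAp (isNormalIn_self hAp hEs) hUn K.hUA
  have hK₀c : E.IsNormal (centralizerSystem E U K.hUA).core := core_isNormal hAp hK₀
  have hR₀ : (centralizerSystem F X hXS).core ⊓ Subgroup.centralizer (U : Set Ω) ≤ E.core :=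
    (le_core _ K.R0_normal).trans (le_core E hK₀c)
  have hgF := mp_E_F K.hE hg
  have hP₁A : P ⊔ E.core ≤ normalizerIn S U := hg.le
  have hXP₁ : X ≤ P ⊔ E.core := (K.hXU.trans hUc).trans le_sup_right
  have hgD := K.D_of_F hXP₁ hP₁A hgF (fun x hx => hg.mem_S hx) (fun x hx => hfixc x (hUc (K.hXU hx)))
  have hRn := K.hR
  have hRsc := isNormal_stronglyClosed _ hRn
  obtain ⟨G, hG, hG1, hG2⟩ := mp_normal_ext hRn hgD
  have hWC₁ := hG.le
  have hgP₁ : ∀ x ∈ P ⊔ E.core, g x ∈ P ⊔ E.core := maps_sup hg (fun a ha => Subgroup.mem_sup_left (hgP a ha)) (fun q hq => by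
    rw [hfixc q hq]
    exact Subgroup.mem_sup_right hq)
  have hGW : ∀ x ∈ (P ⊔ E.core) ⊔ (centralizerSystem F X hXS).core, G x ∈ (P ⊔ E.core) ⊔ (centralizerSystem F X hXS).core :=
    maps_sup hG (fun a ha => by
      rw [hG1 a ha]
      exact Subgroup.mem_sup_left (hgP₁ a ha)) (fun r hr => Subgroup.mem_sup_right (hG2.1 r hr))
  obtain ⟨a, ha, hae⟩ := hG.toAut (LowPi.img_self hG hGW)
  have hAe : ∀ x ∈ (P ⊔ E.core) ⊔ (centralizerSystem F X hXS).core, autFun a x = G x := fun x hx => by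
    rw [autFun_of_mem a hx]
    exact hae ⟨x, hx⟩
  have hS' : (P ⊔ E.core) ⊔ (centralizerSystem F X hXS).core ≤ S := hWC₁.trans K.hC₁S
  haveI : Finite ↥((P ⊔ E.core) ⊔ (centralizerSystem F X hXS).core) := finite_of_le hS'
  haveI : Finite (MulAut ↥((P ⊔ E.core) ⊔ (centralizerSystem F X hXS).core)) := finite_mulAut_of_finite (A := _)
  have hp : p.Prime := Fact.out
  have hn := Nat.ordProj_mul_ordCompl_eq_self (orderOf a) p
  have hcop := Nat.coprime_ordCompl hp (orderOf_pos a).ne'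
  set e := (orderOf a).factorization p with he
  set o' := orderOf a / p ^ e with ho'
  have hm0 : m ≠ 0 := by
    rintro rfl
    exact hp.one_lt.ne' (Nat.coprime_zero_left p |>.1 hm)
  obtain ⟨k, hk⟩ : ∃ k, p ^ e * k ≡ 1 [MOD m] := by
    rcases (Nat.one_le_iff_ne_zero.2 hm0).lt_or_eq with h | h
    · obtain ⟨k, hk⟩ := Nat.exists_mul_mod_eq_one_of_coprime (Nat.Coprime.pow_right e hm).symm h
      refine ⟨k, ?_⟩
      rw [Nat.ModEq, hk.2, Nat.mod_eq_of_lt h]
    · rw [← h]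
      exact ⟨0, Nat.modEq_one⟩
  have hba : (a ^ (p ^ e * k)) ∈ (centralizerSystem F X hXS).autGroup ((P ⊔ E.core) ⊔ (centralizerSystem F X hXS).core) :=
    Subgroup.pow_mem _ ha _
  have hHm := mp_autFun hWC₁ hba
  have hit : ∀ x ∈ (P ⊔ E.core) ⊔ (centralizerSystem F X hXS).core, autFun (a ^ (p ^ e * k)) x = G^[p ^ e * k] x := by
    intro x hx
    have h1 := iterate_autFun (a := a) (p ^ e * k) ⟨x, hx⟩
    rw [autFun_of_mem _ hx, ← h1]
    exact iterate_congr (fun y hy => by rw [hAe y hy]; exact hGW y hy) hAe _ hx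
  have hP₁W : P ⊔ E.core ≤ (P ⊔ E.core) ⊔ (centralizerSystem F X hXS).core := le_sup_left
  have hGfix : ∀ q ∈ E.core, G q = q := fun q hq => by
    rw [hG1 q (Subgroup.mem_sup_right hq), hfixc q hq]
  have hHP : ∀ x ∈ P, autFun (a ^ (p ^ e * k)) x = g x := by
    intro x hx
    have hxP₁ : x ∈ P ⊔ E.core := Subgroup.mem_sup_left hx
    rw [hit x (hP₁W hxP₁)]
    have hGP : ∀ y ∈ P, G y ∈ P := fun y hy => by
      rw [hG1 y (Subgroup.mem_sup_left hy)]
      exact hgP y hy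
    have h1 : G^[p ^ e * k] x = g^[p ^ e * k] x := iterate_congr hGP (fun y hy => hG1 y (Subgroup.mem_sup_left hy)) _ hx
    rw [h1, iterate_modEq hgP hper hk hx]
    rfl
  have hHc : ∀ q ∈ E.core, autFun (a ^ (p ^ e * k)) q = q := by
    intro q hq
    rw [hit q (hP₁W (Subgroup.mem_sup_right hq))]
    exact Function.iterate_fixed (hGfix q hq) _
  have hHR : ∀ r ∈ (centralizerSystem F X hXS).core, autFun (a ^ (p ^ e * k)) r ∈ (centralizerSystem F X hXS).core := by
    intro r hr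
    rw [hit r (Subgroup.mem_sup_right hr)]
    exact iterate_mem hG2.1 _ hr
  have hHper : ∀ x ∈ (P ⊔ E.core) ⊔ (centralizerSystem F X hXS).core, (autFun (a ^ (p ^ e * k)))^[o'] x = x := by
    intro x hx
    have h1 := iterate_autFun (a := a ^ (p ^ e * k)) o' ⟨x, hx⟩
    have h2 : (a ^ (p ^ e * k)) ^ o' = 1 := by
      rw [← pow_mul]
      have e2 : p ^ e * k * o' = (p ^ e * o') * k := by ring
      rw [e2, hn, pow_mul, pow_orderOf_eq_one, one_pow]
    rw [h2] at h1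
    exact h1
  have hUC₁ : U ≤ centralizerIn S X := K.hUA.trans K.hAC₁
  have hUW : U ≤ (P ⊔ E.core) ⊔ (centralizerSystem F X hXS).core := (hUc.trans le_sup_right).trans hP₁W
  have hfixR := ab_lemma K.hC₁p hUC₁ (hHm.restrict (le_sup_right : (centralizerSystem F X hXS).core ≤ (P ⊔ E.core) ⊔ (centralizerSystem F X hXS).core))
    (fun u hu r hr => sc_conj_mem _ hRsc (hUC₁ hu) hr) hHR
    (fun u hu r hr => by
      rw [hHm.map_conj (hUW hu) (Subgroup.mem_sup_right hr), hHc u (hUc hu)])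
    (fun x hx _ => hHc x (hUc hx))
    (fun r hr hc => hHc r (hR₀ ⟨hr, Subgroup.mem_centralizer_iff.2 (fun u hu => (hc u hu))⟩))
    hcop.symm (fun r hr => hHper r (Subgroup.mem_sup_right hr))
  have hRc := K.hRc
  have hC₁p := K.hC₁p
  intro x hx
  have hxW : x ∈ (P ⊔ E.core) ⊔ (centralizerSystem F X hXS).core := hP₁W (Subgroup.mem_sup_left hx)
  rw [← hHP x hx]
  set H := autFun (a ^ (p ^ e * k)) with hH
  have hHxW : H x ∈ (P ⊔ E.core) ⊔ (centralizerSystem F X hXS).core := autFun_mem _ hxW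
  have hcC : x⁻¹ * H x ∈ centralizerIn (centralizerIn S X) (centralizerSystem F X hXS).core := by
    refine mem_cent.2 ⟨Subgroup.mul_mem _ (Subgroup.inv_mem _ (hWC₁ hxW)) (hWC₁ hHxW), fun r hr => ?_⟩
    have h1 : x * r * x⁻¹ ∈ (centralizerSystem F X hXS).core := sc_conj_mem _ hRsc (hWC₁ hxW) hr
    have h2 := hfixR _ h1
    rw [hHm.map_conj hxW (Subgroup.mem_sup_right hr), hfixR r hr] at h2
    have h3 : r * (x⁻¹ * H x) = x⁻¹ * (x * r * x⁻¹) * H x := by group
    have h4 : x⁻¹ * H x * r = x⁻¹ * (H x * r * (H x)⁻¹) * H x := by group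
    rw [h3, h4, h2]
  have hcR := hRc hcC
  have hHc' := hfixR _ hcR
  set z := x⁻¹ * H x with hz
  have hHe : H x = x * z := by
    rw [hz]
    group
  have hfz : ∀ j : ℕ, H (z ^ j) = z ^ j := by
    intro j
    induction j with
    | zero => simpa using hHm.map_one
    | succ j ih =>
      rw [pow_succ, hHm.map_mul (Subgroup.mem_sup_right (Subgroup.pow_mem _ hcR j)) (Subgroup.mem_sup_right hcR), ih, hHc']
  have hiter : ∀ j : ℕ, H^[j] x = x * z ^ j := by
    intro j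
    induction j with
    | zero => simp
    | succ j ih =>
      rw [Function.iterate_succ_apply', ih, hHm.map_mul hxW (Subgroup.mem_sup_right (Subgroup.pow_mem _ hcR j)), hHe, hfz, pow_succ']
      group
  have h1 := hiter o'
  rw [hHper x hxW] at h1
  have h2 : z ^ o' = 1 := mul_eq_left.1 h1.symm
  obtain ⟨l, hl⟩ := K.hS ⟨z, hWC₁.trans K.hC₁S ((Subgroup.mem_sup_right hcR))⟩
  have h3 : z ^ p ^ l = 1 := by
    have := congrArg Subtype.val hl
    simpa using this
  have h4 := pow_gcd_eq_one.2 ⟨h2, h3⟩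
  rw [Nat.Coprime.pow_right l hcop.symm] at h4
  have h5 : z = 1 := by simpa using h4
  rw [hHe, h5, mul_one]

/-- **The key step.** -/
theorem constrained : E.IsConstrained p := by
  by_contra hnc
  haveI := K.fA
  obtain ⟨T, C, hC⟩ := exists_comp _ (normalizerIn S U) E le_rfl K.hAp K.hEs hnc
  have hCF := subnormal_sub hC.1
  have hTA : T ≤ normalizerIn S U := (E.le_of_mem (hCF T (subtype_mem C le_rfl))).1
  haveI : Finite T := finite_of_le hTA
  obtain ⟨h1, h2⟩ := comp_cen K.hAp K.hEs hC (Cfsg.Agent.S5145.result E)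
  refine no_qs hC.2 (fun P hP f hf x hx => ?_)
  obtain ⟨hm, hi, m, hcop, hper⟩ := hf
  obtain ⟨g, hg, hgf, hgq⟩ := h2 P f hm
  have hgP : ∀ y ∈ P, g y ∈ P := fun y hy => by
    rw [hgf y hy]
    exact hi.1 y hy
  rw [← hgf x hx]
  refine fix_of K hg hgP hgq hcop (fun y hy => ?_) x hx
  rw [iterate_congr hgP hgf m hy]
  exact hper y hy

end Cfsg.Agent.Lib.FusionExt.Dich2
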