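import Cfsg.Agent.Lib.FusionExt.Dich2
import Cfsg.Agent.Lib.PGroups.Basic

/-!
# The dichotomy: transport and the main theorem (helper92)
-/

set_option autoImplicit false
set_option linter.unusedSectionVars false

namespace Cfsg.Agent.Lib.FusionExt.Dich3

open Cfsg Cfsg.FusionSystem Cfsg.Agent.Lib.Fusion.Basic Cfsg.Agent.Lib.Fusion.GroupSystem
open Cfsg.Agent.Lib.FusionExt.MapApi Cfsg.Agent.Lib.FusionExt.PowerSys Cfsg.Agent.Lib.FusionExt.PowerGen
open Cfsg.Agent.Lib.FusionExt.PrimeRes1 Cfsg.Agent.Lib.FusionExt.Invariant Cfsg.Agent.Lib.FusionExt.Constrained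
open Cfsg.Agent.Lib.FusionExt.PowerE Cfsg.Agent.Lib.FusionExt.LowPi Cfsg.Agent.Lib.Fusion.Center
open Cfsg.Agent.Lib.FusionExt.Normal Cfsg.Agent.Lib.FusionExt.Normal2 Cfsg.Agent.Lib.FusionExt.CentSys Cfsg.Agent.Lib.FusionExt.PPrimeMin
open Cfsg.Agent.Lib.FusionExt.Basic Cfsg.Agent.Lib.FusionExt.CoreN Cfsg.Agent.Lib.FusionExt.Comp1 Cfsg.Agent.Lib.FusionExt.Comp2 Cfsg.Agent.Lib.FusionExt.Factor
open Cfsg.Agent.Lib.FusionExt.Constr1 Cfsg.Agent.Lib.Fusion.Saturation2 Cfsg.Agent.Lib.Fusion.KSystem Cfsg.Agent.Lib.FusionExt.Dich1 Cfsg.Agent.Lib.FusionExt.Dich2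
open Cfsg.Agent.Lib.Fusion.Saturation Cfsg.Agent.Lib.FusionExt.CentE

universe u

variable {Ω : Type u} [Group Ω] {S : Subgroup Ω} {p : ℕ} {U U₁ : Subgroup Ω}
variable {F : FusionSystem S} {E : FusionSystem (normalizerIn S U)} {E₁ : FusionSystem (normalizerIn S U₁)} {Y Y₁ : Subgroup Ω} {f g k : Ω → Ω}

/-- Transport of the maps of a normalizer system along an `F`-isomorphism of the normalizers. -/
theorem tr_E (hUS : U ≤ S) (hU₁S : U₁ ≤ S) (hE : F.IsNormalizerSystem U E) (hE₁ : F.IsNormalizerSystem U₁ E₁) (hg : Mp F (normalizerIn S U) g)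
    (hi : Img (normalizerIn S U) g (normalizerIn S U₁)) (hU : Img U g U₁) (hk : Mp F (normalizerIn S U₁) k)
    (hk1 : ∀ x ∈ normalizerIn S U, k (g x) = x) (hk2 : ∀ y ∈ normalizerIn S U₁, g (k y) = y) (hf : Mp E Y f) (hY : Img Y g Y₁) :
    Mp E₁ Y₁ (fun y => g (f (k y))) := by
  have hUA : U ≤ normalizerIn S U := le_normalizerIn hUS
  have hU₁A : U₁ ≤ normalizerIn S U₁ := le_normalizerIn hU₁S
  obtain ⟨hYA, hv, G, hG, e1, e2⟩ := (mp_normSys hE).1 hf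
  have hY₁A : Y₁ ≤ normalizerIn S U₁ := fun y hy => by
    obtain ⟨x, hx, rfl⟩ := hY.2 y hy
    exact hi.1 x (hYA hx)
  have hkY : ∀ y ∈ Y₁, k y ∈ Y := fun y hy => by
    obtain ⟨x, hx, rfl⟩ := hY.2 y hy
    rw [hk1 x (hYA hx)]
    exact hx
  have hkU : ∀ y ∈ U₁, k y ∈ U := fun y hy => by
    obtain ⟨x, hx, rfl⟩ := hU.2 y hy
    rw [hk1 x (hUA hx)]
    exact hx
  have hkm : Mp F (Y₁ ⊔ U₁) k := hk.restrict (sup_le hY₁A hU₁A)
  have hkS : ∀ y ∈ Y₁ ⊔ U₁, k y ∈ Y ⊔ U := maps_sup hkm (fun a ha => Subgroup.mem_sup_left (hkY a ha)) (fun b hb => Subgroup.mem_sup_right (hkU b hb))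
  have hGA : ∀ x ∈ Y ⊔ U, G x ∈ normalizerIn S U := maps_sup hG (fun a ha => by
    rw [e1 a ha]
    exact hv a ha) (fun b hb => hUA (e2.1 b hb))
  refine (mp_normSys hE₁).2 ⟨hY₁A, fun y hy => ?_, fun y => g (G (k y)), (hkm.comp hkS hG).comp (fun y hy => hGA _ (hkS y hy)) hg, fun y hy => ?_, ?_, ?_⟩
  · exact hi.1 _ (hv _ (hkY y hy))
  · show g (G (k y)) = g (f (k y))
    rw [e1 _ (hkY y hy)]
  · intro y hy
    obtain ⟨x, hx, rfl⟩ := hU.2 y hy
    show g (G (k (g x))) ∈ U₁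
    rw [hk1 x (hUA hx)]
    exact hU.1 _ (e2.1 x hx)
  · intro z hz
    obtain ⟨u', hu', rfl⟩ := hU.2 z hz
    obtain ⟨u, hu, rfl⟩ := e2.2 u' hu'
    refine ⟨g u, hU.1 u hu, ?_⟩
    show g (G (k (g u))) = _
    rw [hk1 u (hUA hu)]

/-- Constrainedness is transported along an `F`-isomorphism of the normalizers. -/
theorem tr_constrained [Finite S] (hEs : E.IsSaturated p) (hUS : U ≤ S) (hU₁S : U₁ ≤ S) (hE : F.IsNormalizerSystem U E) (hE₁ : F.IsNormalizerSystem U₁ E₁)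
    (hg : Mp F (normalizerIn S U) g) (hi : Img (normalizerIn S U) g (normalizerIn S U₁)) (hU : Img U g U₁) (hc : E₁.IsConstrained p) : E.IsConstrained p := by
  obtain ⟨k, hk, hk1, hk2, hki⟩ := hg.inverse hi
  have hkU : Img U₁ k U := by
    have hUA : U ≤ normalizerIn S U := le_normalizerIn hUS
    refine ⟨fun y hy => ?_, fun x hx => ⟨g x, hU.1 x hx, hk1 x (hUA hx)⟩⟩
    obtain ⟨x, hx, rfl⟩ := hU.2 y hy
    rw [hk1 x (hUA hx)]
    exact hx
  obtain ⟨-, R₁, hR₁, hR₁c⟩ := hc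
  have hR₁A : R₁ ≤ normalizerIn S U₁ := hR₁.1
  obtain ⟨R, hR⟩ := (hk.restrict hR₁A).exists_img
  have hRA : R ≤ normalizerIn S U := fun x hx => by
    obtain ⟨y, hy, rfl⟩ := hR.2 x hx
    exact hki.1 y (hR₁A hy)
  have hgk : ∀ x ∈ R, g x ∈ R₁ := fun x hx => by
    obtain ⟨y, hy, rfl⟩ := hR.2 x hx
    rw [hk2 y (hR₁A hy)]
    exact hy
  have hRn : E.IsNormal R := by
    refine isNormal_of_mp hRA (fun Y f hf => ?_)
    have hYA : Y ≤ normalizerIn S U := hf.le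
    obtain ⟨Y₁, hY₁⟩ := (hg.restrict hYA).exists_img
    have hf₁ := tr_E hUS hU₁S hE hE₁ hg hi hU hk hk1 hk2 hf hY₁
    obtain ⟨G, hG, h1, h2⟩ := mp_normal_ext hR₁ hf₁
    have hY₁A : Y₁ ≤ normalizerIn S U₁ := hf₁.le
    have hsup : Img (Y₁ ⊔ R₁) k (Y ⊔ R) := by
      have hm : Mp F (Y₁ ⊔ R₁) k := hk.restrict (sup_le hY₁A hR₁A)
      refine ⟨maps_sup hm (fun a ha => ?_) (fun b hb => Subgroup.mem_sup_right (hR.1 b hb)), fun z hz => ?_⟩
      · obtain ⟨x, hx, rfl⟩ := hY₁.2 a ha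
        rw [hk1 x (hYA hx)]
        exact Subgroup.mem_sup_left hx
      · have hm' : Mp F (Y ⊔ R) g := hg.restrict (sup_le hYA hRA)
        refine ⟨g z, maps_sup hm' (fun a ha => Subgroup.mem_sup_left (hY₁.1 a ha)) (fun b hb => Subgroup.mem_sup_right (hgk b hb)) z hz, hk1 z (sup_le hYA hRA hz)⟩
    have hb := tr_E hU₁S hUS hE₁ hE hk hki hkU hg hk2 hk1 hG hsup
    have hfv := ((mp_normSys hE).1 hf).2.1
    refine ⟨fun y => k (G (g y)), hb, fun x hx => ?_, fun x hx => ?_, fun z hz => ?_⟩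
    · have hxA := hYA hx
      have h3 := h1 _ (hY₁.1 x hx)
      show k (G (g x)) = f x
      rw [h3, hk1 x hxA, hk1 _ (hfv x hx)]
    · exact hR.1 _ (h2.1 _ (hgk x hx))
    · obtain ⟨r, hr, rfl⟩ := hR.2 z hz
      obtain ⟨r', hr', rfl⟩ := h2.2 r hr
      refine ⟨k r', hR.1 r' hr', ?_⟩
      show k (G (g (k r'))) = _
      rw [hk2 r' (hR₁A hr')]
  haveI : Finite (normalizerIn S U) := finite_of_le (normalizerIn_le_left S U)
  refine constrained_of_le hEs hRn (fun c hc => ?_)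
  have hcA : c ∈ normalizerIn S U := (mem_cent.1 hc).1
  have h1 : g c ∈ centralizerIn (normalizerIn S U₁) R₁ := by
    refine mem_cent.2 ⟨hi.1 c hcA, fun r₁ hr₁ => ?_⟩
    have hkr := hR.1 r₁ hr₁
    have h2 := (mem_cent.1 hc).2 _ hkr
    have h3 := congrArg g h2
    rw [hg.map_mul (hRA hkr) hcA, hg.map_mul hcA (hRA hkr), hk2 r₁ (hR₁A hr₁)] at h3
    exact h3
  have h2 := hR₁c.2 R₁ (isConj_refl E₁ hR₁A) h1
  have h3 := hR.1 _ h2
  rwa [hk1 c hcA] at h3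

/-- **The dichotomy.** -/
theorem main [Finite S] [Fact p.Prime] (hS : IsPGroup p S) (F : FusionSystem S) (hF : F.IsSaturated p) :
    F.IsOfCharacteristicPType p ∨ F.IsOfComponentType p := by
  by_contra hcon
  obtain ⟨h1, hno⟩ := not_or.1 hcon
  apply h1
  intro U hne hfn E hE
  have hUS := hfn.1
  have hAS : normalizerIn S U ≤ S := normalizerIn_le_left S U
  haveI : Finite (normalizerIn S U) := finite_of_le hAS
  have hAp : IsPGroup p (normalizerIn S U) := hS.to_le hAS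
  have hUA : U ≤ normalizerIn S U := le_normalizerIn hUS
  haveI hUn : (U.subgroupOf (normalizerIn S U)).Normal := (Subgroup.normal_subgroupOf_iff_le_normalizer hUA).2 inf_le_right
  have hUne : U.subgroupOf (normalizerIn S U) ≠ ⊥ := by
    intro h
    apply hne
    rw [eq_bot_iff]
    intro x hx
    have h2 : (⟨x, hUA hx⟩ : normalizerIn S U) ∈ U.subgroupOf (normalizerIn S U) := hx
    rw [h, Subgroup.mem_bot] at h2
    exact Subgroup.mem_bot.2 (congrArg Subtype.val h2)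
  obtain ⟨z, hzU, hzc, hzo⟩ := Cfsg.Agent.Lib.PGroups.Basic.exists_central_orderOf_eq hAp _ hUne
  have hzU' : (z : Ω) ∈ U := hzU
  have hX₀U : Subgroup.zpowers (z : Ω) ≤ U := Subgroup.zpowers_le.2 hzU'
  have hX₀card : Nat.card (Subgroup.zpowers (z : Ω)) = p := by
    rw [Nat.card_zpowers, Subgroup.orderOf_coe, hzo]
  have hAC : normalizerIn S U ≤ centralizerIn S (Subgroup.zpowers (z : Ω)) := by
    intro a ha
    refine mem_cent.2 ⟨hAS ha, fun y hy => ?_⟩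
    obtain ⟨n, rfl⟩ := Subgroup.mem_zpowers_iff.1 hy
    have h2 := Subgroup.mem_center_iff.1 hzc ⟨a, ha⟩
    have h3 : a * (z : Ω) = z * a := congrArg Subtype.val h2
    exact ((Commute.zpow_left (show Commute (z : Ω) a from h3.symm) n)).eq
  obtain ⟨X₁, hc, hfn₁⟩ := exists_isFullyNormalized F (hX₀U.trans hUS)
  obtain ⟨φ, hφ, hr⟩ := id hc
  have hrec := isReceptive_of_isFullyNormalized F hS hF hfn₁
  obtain ⟨g₀, hg₀, hge⟩ := ext_cent hrec (mp_of_hom hφ) (img_of_range hr)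
  have hAle : normalizerIn S U ≤ Subgroup.zpowers (z : Ω) ⊔ centralizerIn S (Subgroup.zpowers (z : Ω)) := hAC.trans le_sup_right
  have hg := hg₀.restrict hAle
  obtain ⟨U₁, hU₁⟩ := (hg.restrict hUA).exists_img
  obtain ⟨A₁, hA₁⟩ := hg.exists_img
  have hU₁S : U₁ ≤ S := (hg.restrict hUA).img_le hU₁
  have hA₁N : A₁ ≤ normalizerIn S U₁ := by
    intro y hy
    obtain ⟨a, ha, rfl⟩ := hA₁.2 y hy
    have hyS := hg.mem_S ha
    refine ⟨hyS, ?_⟩
    haveI : Finite U₁ := finite_of_le hU₁S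
    refine mem_normalizer_of_conj_le' (fun x hx => ?_)
    obtain ⟨u, hu, rfl⟩ := hU₁.2 x hx
    rw [← hg.map_conj ha (hUA hu)]
    refine hU₁.1 _ ?_
    exact (Subgroup.mem_normalizer_iff.1 ha.2 u).1 hu
  have hcU : F.IsConj U U₁ := (hg.restrict hUA).isConj hU₁
  have hcardA := hg.card_img hA₁
  have hle := hfn.2 U₁ hcU
  haveI : Finite (normalizerIn S U₁) := finite_of_le (normalizerIn_le_left S U₁)
  have hA₁e : A₁ = normalizerIn S U₁ := Subgroup.eq_of_le_of_card_ge hA₁N (by omega)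
  subst hA₁e
  have hfnU₁ : F.IsFullyNormalized U₁ := ⟨hU₁S, fun V hV => (hfn.2 V (isConj_trans F hcU hV)).trans (by omega)⟩
  have hX₁S := hfn₁.1
  have hX₁img : ∀ y ∈ X₁, ∃ x ∈ Subgroup.zpowers (z : Ω), g₀ x = y := by
    intro y hy
    obtain ⟨x, hx, rfl⟩ := (img_of_range hr).2 y hy
    exact ⟨x, hx, hge x hx⟩
  have hX₁U₁ : X₁ ≤ U₁ := by
    intro y hy
    obtain ⟨x, hx, rfl⟩ := hX₁img y hy
    exact hU₁.1 x (hX₀U hx)
  have hAC₁ : normalizerIn S U₁ ≤ Subgroup.centralizer (X₁ : Set Ω) := by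
    intro a ha
    obtain ⟨b, hb, rfl⟩ := hA₁.2 a ha
    refine Subgroup.mem_centralizer_iff.2 (fun y hy => ?_)
    obtain ⟨x, hx, rfl⟩ := hX₁img y hy
    have hxA := hUA (hX₀U hx)
    rw [← hg.map_mul hxA hb, ← hg.map_mul hb hxA, (mem_cent.1 (hAC hb)).2 x hx]
  have hDc : (centralizerSystem F X₁ hX₁S).IsConstrained p := by
    by_contra hnc
    have hfc := isFullyCentralized_of_isFullyNormalized F hS hF hfn₁
    have hDs := isSaturated_centralizerSystem hS F hF hfc (centralizerSystem F X₁ hX₁S) (fun P => rfl)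
    have hC₁S : centralizerIn S X₁ ≤ S := centralizerIn_le_left S X₁
    haveI : Finite (centralizerIn S X₁) := finite_of_le hC₁S
    obtain ⟨T, C, hC⟩ := exists_comp _ _ _ le_rfl (hS.to_le hC₁S) hDs hnc
    exact hno ⟨X₁, (isConj_card_eq F hc).symm.trans hX₀card, hfn₁, _, (fun P => rfl), T, C, hC⟩
  have K : KD p F X₁ U₁ (normalizerSystem F U₁ hU₁S) hX₁S := ⟨hS, hF, hfnU₁, (fun P => rfl), hX₁U₁, hAC₁, hDc⟩
  have hEs := isSaturated_normalizerSystem hS F hF hfn E hE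
  exact tr_constrained hEs hUS hU₁S hE (fun P => rfl) hg hA₁ hU₁ (constrained K)

end Cfsg.Agent.Lib.FusionExt.Dich3
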