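import Cfsg.Agent.Lib.FusionExt.Glue4

/-!
# The product `E·R`: setting and elementary facts (helper92)
-/

set_option autoImplicit false
set_option linter.unusedSectionVars false

namespace Cfsg.Agent.Lib.FusionExt.ER0

open Cfsg Cfsg.FusionSystem Cfsg.Agent.Lib.Fusion.Basic Cfsg.Agent.Lib.Fusion.GroupSystem
open Cfsg.Agent.Lib.FusionExt.MapApi Cfsg.Agent.Lib.FusionExt.PowerSys Cfsg.Agent.Lib.FusionExt.LowPi
open Cfsg.Agent.Lib.FusionExt.PrimeRes1 Cfsg.Agent.Lib.Fusion.Saturation Cfsg.Agent.Lib.Fusion.Saturation2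
open Cfsg.Agent.Lib.FusionExt.Glue1 Cfsg.Agent.Lib.FusionExt.Invariant Cfsg.Agent.Lib.FusionExt.CentE

universe u

variable {Ω : Type u} [Group Ω] {S T : Subgroup Ω} {F : FusionSystem S} {E : FusionSystem T} {p : ℕ}
variable {X Y Z P Q R U W X' : Subgroup Ω} {f g h φ ψ a δ : Ω → Ω}

/-- The setting: `E` normal in `F`, `S` a `p`-group. -/
structure Cx (F : FusionSystem S) (E : FusionSystem T) (p : ℕ) : Prop where
  hS : IsPGroup p S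
  hN : E.IsNormalIn F p

/-- A conjugacy as a map. -/
theorem mp_of_conj {G : FusionSystem S} (h : G.IsConj X Y) : ∃ f, Mp G X f ∧ Img X f Y := by
  obtain ⟨φ, hφ, hr⟩ := h
  refine ⟨extOf φ, mp_of_hom hφ, fun x hx => ?_, fun y hy => ?_⟩
  · rw [extOf_of_mem φ hx, ← hr]
    exact ⟨⟨x, hx⟩, rfl⟩
  · rw [← hr] at hy
    obtain ⟨x, rfl⟩ := hy
    exact ⟨x, x.2, extOf_coe φ x⟩

namespace Cx

variable (C : Cx F E p)
include C

theorem hF : F.IsSaturated p := C.hN.1.2.1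
theorem hEs : E.IsSaturated p := C.hN.1.1
theorem hsub : E.IsSubsystemOf F := C.hN.1.2.2.1
theorem hT : F.StronglyClosed T := C.hN.1.2.2.2.1
theorem hTS : T ≤ S := C.hT.1
theorem hTp : IsPGroup p T := C.hS.to_le C.hTS
theorem hSI : StrongInv F E := strong_of_inv C.hN.1.2.2.2.2.1 C.hN.1.2.2.2.2.2
theorem hFr : ∀ (P : Subgroup Ω), P ≤ T → ∀ (φ : P →* Ω), φ ∈ F.Hom P →
      ∃ α ∈ F.autGroup T, ∃ φ₀ ∈ E.Hom P, ∀ (x : P) (hx : φ₀ x ∈ T), φ x = ((α ⟨φ₀ x, hx⟩ : T) : Ω) := C.hN.1.2.2.2.2.2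

theorem mp_E (hf : Mp E X f) : Mp F X f := Cfsg.Agent.Lib.FusionExt.PowerE.mp_sub C.hsub hf

theorem mem_T (hf : Mp F X f) {x : Ω} (hx : x ∈ X) (hxT : x ∈ T) : f x ∈ T :=
  Cfsg.Agent.Lib.FusionExt.PowerE.sc_mp C.hT (hf.restrict (inf_le_left : X ⊓ T ≤ X)) inf_le_right ⟨hx, hxT⟩

theorem of_mem_T (hf : Mp F X f) {x : Ω} (hx : x ∈ X) (hxT : f x ∈ T) : x ∈ T := by
  obtain ⟨Y, hY⟩ := hf.exists_img
  obtain ⟨g, hg, h1, -⟩ := hf.inverse hY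
  have := C.mem_T hg (hY.1 x hx) hxT
  rwa [h1 x hx] at this

theorem img_inf (hf : Mp F X f) (hi : Img X f Y) : Img (X ⊓ T) f (Y ⊓ T) := by
  refine ⟨fun x hx => ⟨hi.1 x hx.1, C.mem_T hf hx.1 hx.2⟩, fun z hz => ?_⟩
  obtain ⟨x, hx, rfl⟩ := hi.2 z hz.1
  exact ⟨x, ⟨hx, C.of_mem_T hf hx hz.2⟩, rfl⟩

/-- Transport of a map of `E` along a map of `F`. -/
theorem tr_E (hf : Mp E X f) (hm : ∀ x ∈ X, f x ∈ Y) (hXY : X ≤ Y) (hYT : Y ≤ T) (hψ : Mp F Y ψ) (hi : Img X ψ X') :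
    ∃ f', Mp E X' f' ∧ ∀ x ∈ X, f' (ψ x) = ψ (f x) := by
  obtain ⟨φ₁, hφ₁, e₁⟩ := id hf
  obtain ⟨ψ₀, hψ₀, e₀⟩ := id hψ
  obtain ⟨χ, hχ, hχv⟩ := C.hSI X Y hXY hYT φ₁ hφ₁ (fun x => by rw [e₁]; exact hm _ x.2) ψ₀ hψ₀
  have hr : (X.subgroupOf Y).map ψ₀ = X' := by
    ext y
    constructor
    · rintro ⟨x, hx, rfl⟩
      rw [e₀]
      exact hi.1 _ hx
    · intro hy
      obtain ⟨x, hx, rfl⟩ := hi.2 y hy
      exact ⟨⟨x, hXY hx⟩, hx, e₀ _⟩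
  subst hr
  refine ⟨extOf χ, mp_of_hom hχ, fun x hx => ?_⟩
  rw [extOf_of_mem χ (hi.1 x hx)]
  have hmem : ψ₀ (Subgroup.inclusion hXY ⟨x, hx⟩) ∈ (X.subgroupOf Y).map ψ₀ := ⟨⟨x, hXY hx⟩, hx, rfl⟩
  have h1 := hχv ⟨x, hx⟩ hmem
  have e1 : (⟨ψ x, hi.1 x hx⟩ : ↥((X.subgroupOf Y).map ψ₀)) = ⟨ψ₀ (Subgroup.inclusion hXY ⟨x, hx⟩), hmem⟩ :=
    Subtype.ext (e₀ ⟨x, hXY hx⟩).symm
  rw [e1, h1, e₀]
  show ψ ((φ₁ ⟨x, hx⟩ : Ω)) = ψ (f x)
  rw [e₁]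

/-- Transport inside `T`. -/
theorem tr_E' (hf : Mp E X f) (hψ : Mp F T ψ) (hi : Img X ψ X') :
    ∃ f', Mp E X' f' ∧ ∀ x ∈ X, f' (ψ x) = ψ (f x) := by
  have hXT : X ≤ T := hf.le
  exact C.tr_E hf (fun x hx => hf.mem_S hx) hXT le_rfl hψ hi

/-- Conjugates of maps of `E` by elements of `S`. -/
theorem conj_E (hf : Mp E X f) {s : Ω} (hs : s ∈ S) :
    Mp E (conjMap s X) (fun x => s * f (s⁻¹ * x * s) * s⁻¹) := by
  have hXT : X ≤ T := hf.le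
  have hψ : Mp F T (fun x => s * x * s⁻¹) := Mp.conj C.hTS hs
  have hI : Img X (fun x => s * x * s⁻¹) (conjMap s X) :=
    ⟨fun x hx => conj_mem_conjMap hx, fun y hy => ⟨_, mem_conjMap.1 hy, by group⟩⟩
  obtain ⟨f', hf', e⟩ := C.tr_E' hf hψ hI
  refine hf'.congr (fun y hy => ?_)
  have := e _ (mem_conjMap.1 hy)
  have e2 : s * (s⁻¹ * y * s) * s⁻¹ = y := by group
  simp only [e2] at this
  exact this

/-- Conjugates of automorphisms in `E` by elements of `S` normalizing. -/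
theorem conj_E_norm (hf : Mp E X f) {s : Ω} (hs : s ∈ normalizerIn S X) :
    Mp E X (fun x => s * f (s⁻¹ * x * s) * s⁻¹) := by
  have h := C.conj_E hf hs.1
  have e : conjMap s X = X := by
    ext x
    rw [mem_conjMap]
    have h1 := (Subgroup.mem_normalizer_iff.1 hs.2) (s⁻¹ * x * s)
    have e1 : s * (s⁻¹ * x * s) * s⁻¹ = x := by group
    rw [e1] at h1
    exact h1
  rwa [e] at h

theorem conj_T {t : Ω} (ht : t ∈ T) (hX : X ≤ T) : Mp E X (fun x => t * x * t⁻¹) := Mp.conj hX ht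

section fin

variable [Finite S] [Fact p.Prime]

theorem finT : Finite T := finite_of_le C.hTS

theorem fn_E (hfn : F.IsFullyNormalized Q) (hQT : Q ≤ T) : E.IsFullyNormalized Q :=
  fn_sub C.hS C.hF C.hsub C.hT hfn hQT

/-- Automizer in `E` at a fully normalized subgroup. -/
theorem syl_E (hfn : E.IsFullyNormalized Q) : IsSylowIn p (autInducedBy T Q) (E.autGroup Q) := by
  haveI := C.finT
  have hFA := isFullyAutomized_of_isFullyNormalized E C.hTp C.hEs hfn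
  exact hFA.2

/-- **ES_cap**: an element of `S` inducing an automorphism of `E` at a fully normalized subgroup acts as an element of `N_T(Q)`. -/
theorem es_cap (hfn : E.IsFullyNormalized Q) {s : Ω} (hs : s ∈ normalizerIn S Q)
    (hc : Mp E Q (fun x => s * x * s⁻¹)) : ∃ t ∈ normalizerIn T Q, ∀ x ∈ Q, s * x * s⁻¹ = t * x * t⁻¹ := by
  haveI := C.finT
  have hQT : Q ≤ T := hfn.1
  have hQS : Q ≤ S := hQT.trans C.hTS
  haveI : Finite Q := finite_of_le hQS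
  haveI : Finite (MulAut Q) := Cfsg.Agent.Lib.Fusion.Basic.finite_mulAut_of_finite (A := Q)
  have hsy := C.syl_E hfn
  have hle : autInducedBy T Q ≤ E.autGroup Q := autInducedBy_le_autGroup E hQT
  let L : Subgroup (MulAut Q) := autInducedBy S Q ⊓ E.autGroup Q
  have hLp : IsPGroup p L := (isPGroup_autInducedBy (K := S) (P := Q) C.hS).to_le inf_le_left
  have hTL : autInducedBy T Q ≤ L := le_inf (autInducedBy_mono Q C.hTS) hle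
  have hmax := ((isSylowIn_iff_maximal hle).1 hsy).2 L inf_le_right hLp hTL
  have hI : Img Q (fun x => s * x * s⁻¹) Q := by
    refine ⟨fun x hx => norm_conj hs.2 hx, fun y hy => ⟨s⁻¹ * y * s, conj_inv_mem hs.2 hy, by group⟩⟩
  obtain ⟨α, hα, eα⟩ := hc.toAut hI
  have hαS : α ∈ autInducedBy S Q := by
    refine (mem_autInducedBy_iff S Q α).2 ⟨s, hs.1, fun x => ?_⟩
    exact eα x
  have hαL : α ∈ L := ⟨hαS, hα⟩
  rw [hmax] at hαL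
  obtain ⟨t, ht, et⟩ := inT_iff.1 hαL
  refine ⟨t, ht, fun x hx => ?_⟩
  rw [← et x hx, autFun_of_mem α hx]
  exact (eα ⟨x, hx⟩).symm

/-- The `T`-central part when `Q` is normal in `Y` and `δ` trivial on `Q`. -/
theorem delta_core (hQ : Uc F T Q) (hQY : Q ≤ Y) (hYN : Y ≤ normalizerIn T Q) (hδ : Mp E Y δ) (hi : Img Y δ Y)
    (hid : ∀ q ∈ Q, δ q = q) : ∃ z ∈ Q, (∀ q ∈ Q, q * z = z * q) ∧ ∀ y ∈ Y, δ y = z * y * z⁻¹ := by
  haveI := C.finT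
  have hTS := C.hTS
  have hTp := C.hTp
  have hYT : Y ≤ T := hYN.trans inf_le_left
  have hcz : zz T Q ≤ Q := hQ.self hTS
  have hst : ∀ y ∈ Y, y⁻¹ * δ y ∈ zz T Q := by
    intro y hy
    refine mem_zz.2 ⟨T.mul_mem (T.inv_mem (hYT hy)) (hYT (hi.1 y hy)), fun q hq => ?_⟩
    have h1 := hδ.map_conj hy (hQY hq)
    have hq' : y * q * y⁻¹ ∈ Q := norm_conj (hYN hy).2 hq
    rw [hid _ hq', hid q hq] at h1
    exact Cfsg.Agent.Lib.FusionExt.Glue3.comm_of_conj h1.symm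
  obtain ⟨W₃, hW₃, hfn⟩ := exists_isFullyNormalized E hYT
  obtain ⟨ι, hι, hιi⟩ := mp_of_conj hW₃
  obtain ⟨κ₃, hκ₃, e₃⟩ : ∃ κ₃, Mp E W₃ κ₃ ∧ ∀ y ∈ Y, κ₃ (ι y) = ι (δ y) := by
    obtain ⟨k, hk, k1, k2, k3⟩ := hι.inverse hιi
    refine ⟨fun w => ι (δ (k w)), (hk.comp k3.1 hδ).comp (fun w hw => hi.1 _ (k3.1 w hw)) hι, fun y hy => ?_⟩
    show ι (δ (k (ι y))) = _
    rw [k1 y hy]
  have hκ₃i : Img W₃ κ₃ W₃ := by
    refine img_self hκ₃ (fun w hw => ?_)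
    obtain ⟨y, hy, rfl⟩ := hιi.2 w hw
    rw [e₃ y hy]
    exact hιi.1 _ (hi.1 y hy)
  obtain ⟨α, hα, eα⟩ := hκ₃.toAut hκ₃i
  have eα' : ∀ x ∈ W₃, autFun α x = κ₃ x := fun x hx => by
    rw [autFun_of_mem α hx]
    exact eα ⟨x, hx⟩
  have hW₃S : W₃ ≤ S := hfn.1.trans hTS
  haveI : Finite W₃ := finite_of_le hW₃S
  haveI : Finite (MulAut W₃) := Cfsg.Agent.Lib.Fusion.Basic.finite_mulAut_of_finite (A := W₃)
  obtain ⟨k, hk⟩ := IsPGroup.iff_card.1 hTp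
  have hpow : ∀ u ∈ T, u ^ p ^ k = 1 := by
    intro u hu
    have := pow_card_eq_one' (x := (⟨u, hu⟩ : T))
    rw [hk] at this
    exact congrArg Subtype.val this
  have hit : ∀ (m : ℕ), ∀ y ∈ Y, δ^[m] y = y * (y⁻¹ * δ y) ^ m := by
    intro m
    induction m with
    | zero => intro y _; simp
    | succ m ih =>
      intro y hy
      rw [Function.iterate_succ_apply', ih y hy]
      have hu : y⁻¹ * δ y ∈ Q := hcz (hst y hy)
      rw [hδ.map_mul hy (hQY (Q.pow_mem hu m)), hid _ (Q.pow_mem hu m), pow_succ', ← mul_assoc, mul_inv_cancel_left]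
  have hαm : ∀ (m : ℕ), ∀ y ∈ Y, autFun (α ^ m) (ι y) = ι (δ^[m] y) := by
    intro m
    induction m with
    | zero =>
      intro y _
      simp only [pow_zero, Function.iterate_zero, id]
      exact autFun_one_apply _
    | succ m ih =>
      intro y hy
      rw [pow_succ', autFun_mul_apply, ih y hy, Function.iterate_succ_apply']
      have hmem : δ^[m] y ∈ Y := by
        rw [hit m y hy]
        exact Y.mul_mem hy (hQY (Q.pow_mem (hcz (hst y hy)) m))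
      rw [eα' _ (hιi.1 _ hmem), e₃ _ hmem]
  have hone : α ^ p ^ k = 1 := by
    apply Cfsg.Agent.Lib.FusionExt.Glue2.eq_one_of_fun
    intro x hx
    obtain ⟨y, hy, rfl⟩ := hιi.2 x hx
    rw [hαm _ y hy, hit _ y hy, hpow _ (hst y hy).1, mul_one]
  let L : Subgroup (MulAut W₃) := Subgroup.zpowers α
  have hLle : L ≤ E.autGroup W₃ := Subgroup.zpowers_le.2 hα
  have hLp : IsPGroup p L := by
    refine Cfsg.Agent.Lib.FusionExt.Normal.isPGroup_of_pow_eq_one (fun β hβ => ?_)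
    obtain ⟨i, rfl⟩ := Subgroup.mem_zpowers_iff.1 hβ
    refine ⟨k, ?_⟩
    rw [← zpow_natCast, ← zpow_mul, mul_comm, zpow_mul, zpow_natCast, hone, one_zpow]
  obtain ⟨g₀, hg₀, hgc⟩ := (C.syl_E hfn).exists_conj hLle hLp
  obtain ⟨t, ht, et⟩ := inT_iff.1 (hgc α (Subgroup.mem_zpowers α))
  have hg₀E : Mp E W₃ (autFun g₀) := mp_autFun hfn.1 hg₀
  let ζ : Ω → Ω := fun y => autFun g₀ (ι y)
  have hζ : Mp E Y ζ := hι.comp hιi.1 hg₀E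
  have hζi : Img Y ζ W₃ := hιi.comp (img_autFun g₀)
  obtain ⟨W', hW'⟩ := (hζ.restrict hQY).exists_img
  have hucW' : Uc F T W' := hQ.conj C.hT (C.mp_E (hζ.restrict hQY)) hW'
  have hact : ∀ y ∈ Y, t * ζ y * t⁻¹ = ζ (δ y) := by
    intro y hy
    rw [← et _ (hζi.1 y hy)]
    show autFun (g₀ * α * g₀⁻¹) (autFun g₀ (ι y)) = autFun g₀ (ι (δ y))
    rw [conj_fun, eα' _ (hιi.1 y hy), e₃ y hy]
  have htz : t ∈ zz T W' := by
    refine mem_zz.2 ⟨ht.1, fun y hy => ?_⟩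
    obtain ⟨w, hw, rfl⟩ := hW'.2 y hy
    have h1 := hact w (hQY hw)
    rw [hid w hw] at h1
    calc ζ w * t = t * ζ w * t⁻¹ * t := by rw [h1]
      _ = t * ζ w := by group
  obtain ⟨z, hz, rfl⟩ := hW'.2 t (hucW'.self hTS htz)
  refine ⟨z, hz, fun q hq => ?_, fun y hy => ?_⟩
  · apply hζ.inj (Y.mul_mem (hQY hq) (hQY hz)) (Y.mul_mem (hQY hz) (hQY hq))
    rw [hζ.map_mul (hQY hq) (hQY hz), hζ.map_mul (hQY hz) (hQY hq)]
    exact (mem_zz.1 htz).2 _ (hW'.1 q hq)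
  · have hδy : δ y ∈ Y := hi.1 y hy
    apply hζ.inj hδy (Y.mul_mem (Y.mul_mem (hQY hz) hy) (Y.inv_mem (hQY hz)))
    rw [← hact y hy, hζ.map_conj (hQY hz) hy]

/-- **The lemma `δ'`**: an automorphism in `E` of `Y ≥ Q`, trivial on `Q`, `Q` centric, is conjugation by `Z(Q)`. -/
theorem delta (hQ : Uc F T Q) (hQY : Q ≤ Y) (hYT : Y ≤ T) (hδ : Mp E Y δ) (hi : Img Y δ Y)
    (hid : ∀ q ∈ Q, δ q = q) : ∃ z ∈ Q, (∀ q ∈ Q, q * z = z * q) ∧ ∀ y ∈ Y, δ y = z * y * z⁻¹ := by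
  haveI := C.finT
  have hTS := C.hTS
  have hTp := C.hTp
  suffices key : ∀ (d : ℕ) (Q Y : Subgroup Ω) (δ : Ω → Ω), Nat.card Y - Nat.card Q = d → Uc F T Q → Q ≤ Y → Y ≤ T →
      Mp E Y δ → Img Y δ Y → (∀ q ∈ Q, δ q = q) → ∃ z ∈ Q, (∀ q ∈ Q, q * z = z * q) ∧ ∀ y ∈ Y, δ y = z * y * z⁻¹ from
    key _ Q Y δ rfl hQ hQY hYT hδ hi hid
  intro d
  induction d using Nat.strong_induction_on with
  | _ d ih =>
  intro Q Y δ hd hQ hQY hYT hδ hi hid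
  haveI : Finite Y := finite_of_le (hYT.trans hTS)
  haveI : Finite Q := finite_of_le (hQY.trans (hYT.trans hTS))
  by_cases hQe : Q = Y
  · subst hQe
    refine ⟨1, Q.one_mem, fun q _ => by simp, fun y hy => ?_⟩
    rw [hid y hy]
    simp
  have hlt : Q < Y := lt_of_le_of_ne hQY hQe
  have hYp : IsPGroup p Y := hTp.to_le hYT
  set N₁ : Subgroup Ω := normalizerIn Y Q with hN₁
  have hQN₁ : Q < N₁ := lt_normalizerIn hYp hlt
  have hN₁Y : N₁ ≤ Y := inf_le_left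
  have hN₁N : N₁ ≤ normalizerIn T Q := fun x hx => ⟨hYT hx.1, hx.2⟩
  have hδN : ∀ y ∈ N₁, δ y ∈ N₁ := by
    intro y hy
    refine ⟨hi.1 y hy.1, mem_normalizer_of_conj_le' (fun q hq => ?_)⟩
    have h1 := hδ.map_conj hy.1 (hQY hq)
    have hq' : y * q * y⁻¹ ∈ Q := norm_conj hy.2 hq
    rw [hid _ hq', hid q hq] at h1
    rw [← h1]
    exact hq'
  have hδNi : Img N₁ δ N₁ := img_self (hδ.restrict hN₁Y) hδN
  obtain ⟨z, hz, hzc, hzδ⟩ := C.delta_core hQ hQN₁.le hN₁N (hδ.restrict hN₁Y) hδNi hid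
  -- remove `c_z`
  let δ₁ : Ω → Ω := fun y => z⁻¹ * δ y * z⁻¹⁻¹
  have hzY : z ∈ Y := hQY hz
  have hδ₁ : Mp E Y δ₁ := hδ.comp hi.1 (Mp.conj hYT (T.inv_mem (hYT hzY)))
  have hδ₁i : Img Y δ₁ Y := by
    refine img_self hδ₁ (fun y hy => ?_)
    exact Y.mul_mem (Y.mul_mem (Y.inv_mem hzY) (hi.1 y hy)) (Y.inv_mem (Y.inv_mem hzY))
  have hid₁ : ∀ q ∈ N₁, δ₁ q = q := by
    intro q hq
    show z⁻¹ * δ q * z⁻¹⁻¹ = q
    rw [hzδ q hq]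
    group
  have hcd : Nat.card N₁ - 0 ≥ 0 := Nat.zero_le _
  have hc1 : Nat.card Q < Nat.card N₁ :=
    Cfsg.Agent.Lib.FusionExt.SatCrit1.card_lt_of_lt (S := S) hQN₁.le hQN₁.ne (hN₁Y.trans (hYT.trans hTS))
  have hc2 : Nat.card N₁ ≤ Nat.card Y := Subgroup.card_le_of_le hN₁Y
  obtain ⟨z₁, hz₁, -, hz₁δ⟩ := ih _ (by omega) N₁ Y δ₁ rfl (hQ.up hQN₁.le (hN₁Y.trans hYT)) hN₁Y hYT hδ₁ hδ₁i hid₁
  have hform : ∀ y ∈ Y, δ y = (z * z₁) * y * (z * z₁)⁻¹ := by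
    intro y hy
    have h1 := hz₁δ y hy
    have h2 : z⁻¹ * δ y * z⁻¹⁻¹ = z₁ * y * z₁⁻¹ := h1
    have h3 : δ y = z * (z⁻¹ * δ y * z⁻¹⁻¹) * z⁻¹ := by group
    rw [h3, h2]
    group
  have hzz₁Y : z * z₁ ∈ Y := Y.mul_mem hzY (hN₁Y hz₁)
  have hmem : z * z₁ ∈ zz T Q := by
    refine mem_zz.2 ⟨hYT hzz₁Y, fun q hq => ?_⟩
    have h1 := hform q (hQY hq)
    rw [hid q hq] at h1
    have : q * (z * z₁) = (z * z₁) * q * (z * z₁)⁻¹ * (z * z₁) := by rw [← h1]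
    rw [this]
    group
  have hcz := hQ.self hTS hmem
  refine ⟨z * z₁, hcz, fun q hq => (mem_zz.1 hmem).2 q hq, hform⟩

/-- A fully normalized subgroup of `E`, `T`-centric, has all `F`-conjugates `T`-centric. -/
theorem uc_of_fn (hfn : E.IsFullyNormalized Q) (hcz : zz T Q ≤ Q) : Uc F T Q := by
  haveI := C.finT
  have hQT : Q ≤ T := hfn.1
  have hTS := C.hTS
  have step : ∀ Q₁, E.IsConj Q₁ Q → zz T Q₁ ≤ Q₁ := by
    intro Q₁ hQ₁ c hc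
    obtain ⟨ρ, hρ, hρN, hρi⟩ := nm_map C.hTp C.hEs hfn hQ₁
    have hQ₁T : Q₁ ≤ T := isConj_left_le E hQ₁
    have hcN : c ∈ normalizerIn T Q₁ := (Cfsg.Agent.Lib.Fusion.Basic.centralizerIn_le_normalizerIn T Q₁) hc
    have hρc : ρ c ∈ zz T Q := by
      refine mem_zz.2 ⟨(hρN c hcN).1, fun y hy => ?_⟩
      obtain ⟨x, hx, rfl⟩ := hρi.2 y hy
      have hxN := le_normalizerIn hQ₁T hx
      rw [← hρ.map_mul hxN hcN, ← hρ.map_mul hcN hxN, (mem_zz.1 hc).2 x hx]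
    obtain ⟨x, hx, ex⟩ := hρi.2 _ (hcz hρc)
    have := hρ.inj (le_normalizerIn hQ₁T hx) hcN ex
    rw [← this]
    exact hx
  refine ⟨hQT, fun Q' hQ' c hc => ?_⟩
  obtain ⟨φ, hφ, hφi⟩ := mp_of_conj hQ'
  -- the Frattini form
  obtain ⟨φ₀, hφ₀, e⟩ := id hφ
  obtain ⟨α, hα, φ₁, hφ₁, e₁⟩ := C.hFr Q hQT φ₀ hφ₀
  have hαm : Mp F T (autFun α) := mp_autFun hTS hα
  have hφ₁m : Mp E Q (extOf φ₁) := mp_of_hom hφ₁
  obtain ⟨Q₁, hQ₁⟩ := hφ₁m.exists_img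
  have hQ₁T : Q₁ ≤ T := hφ₁m.img_le hQ₁
  have hQ₁c : E.IsConj Q₁ Q := isConj_symm E (hφ₁m.isConj hQ₁)
  have hcz₁ := step Q₁ hQ₁c
  have hQ'e : ∀ x ∈ Q, φ x = autFun α (extOf φ₁ x) := by
    intro x hx
    rw [extOf_of_mem φ₁ hx, autFun_of_mem α (hQ₁T (hQ₁.1 x hx |> fun h => by rwa [extOf_of_mem φ₁ hx] at h))]
    have h1 : φ₁ ⟨x, hx⟩ ∈ T := by
      have := hQ₁T (hQ₁.1 x hx)
      rwa [extOf_of_mem φ₁ hx] at this
    rw [← e ⟨x, hx⟩]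
    exact e₁ ⟨x, hx⟩ h1
  have hαc : autFun α⁻¹ c ∈ zz T Q₁ := by
    refine mem_zz.2 ⟨autFun_mem _ hc.1, fun y hy => ?_⟩
    obtain ⟨x, hx, rfl⟩ := hQ₁.2 y hy
    have h1 : autFun α (extOf φ₁ x) ∈ Q' := by
      rw [← hQ'e x hx]
      exact hφi.1 x hx
    have h2 := (mem_zz.1 hc).2 _ h1
    have h3 : extOf φ₁ x ∈ T := hQ₁T (hQ₁.1 x hx)
    have h4 : autFun α⁻¹ c ∈ T := autFun_mem _ hc.1
    apply hαm.inj (T.mul_mem h3 h4) (T.mul_mem h4 h3)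
    rw [hαm.map_mul h3 h4, hαm.map_mul h4 h3, autFun_apply_inv]
    exact h2
  have h5 := hcz₁ hαc
  obtain ⟨x, hx, ex⟩ := hQ₁.2 _ h5
  have h6 : c = φ x := by
    rw [hQ'e x hx, ex, autFun_apply_inv]
  rw [h6]
  exact hφi.1 x hx

end fin

end Cx

end Cfsg.Agent.Lib.FusionExt.ER0
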