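import Cfsg.Agent.Lib.FusionExt.ER0
import Cfsg.Agent.Lib.FusionExt.FixS

/-!
# The product `E·R`: lifting `p'`-automorphisms of `E` to `p`-local overgroups (helper92)
-/

set_option autoImplicit false
set_option linter.unusedSectionVars false
set_option maxHeartbeats 1000000

namespace Cfsg.Agent.Lib.FusionExt.ER1

open Cfsg Cfsg.FusionSystem Cfsg.Agent.Lib.Fusion.Basic Cfsg.Agent.Lib.Fusion.GroupSystem
open Cfsg.Agent.Lib.FusionExt.MapApi Cfsg.Agent.Lib.FusionExt.PowerSys Cfsg.Agent.Lib.FusionExt.LowPi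
open Cfsg.Agent.Lib.FusionExt.PrimeRes1 Cfsg.Agent.Lib.Fusion.Saturation Cfsg.Agent.Lib.Fusion.Saturation2
open Cfsg.Agent.Lib.FusionExt.Glue1 Cfsg.Agent.Lib.FusionExt.Invariant Cfsg.Agent.Lib.FusionExt.CentE
open Cfsg.Agent.Lib.FusionExt.ER0 Cfsg.Agent.Lib.FusionExt.Normal
open Cfsg.Agent.Lib.FusionExt.Basic (normalizerSystem)
open Cfsg.Agent.Lib.Fusion.KSystem (isSaturated_normalizerSystem)

universe u

variable {Ω : Type u} [Group Ω] {S T : Subgroup Ω} {F : FusionSystem S} {E : FusionSystem T} {p : ℕ}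
variable {X Y Z P Q R U W X' : Subgroup Ω} {f g h φ ψ a δ : Ω → Ω}

/-- Maps of a normalizer system preserve the subgroup. -/
theorem norm_img (hPS : P ≤ S) (hf : Mp (normalizerSystem F P hPS) X f) (hPX : P ≤ X) : Img P f P := by
  obtain ⟨φ₀, ⟨hφ, hXN, hfN, ψ₀, hψ, h1, h2⟩, e⟩ := hf
  have hle : P ≤ X ⊔ P := le_sup_right
  have key : ∀ x (hx : x ∈ P), f x = ψ₀ ⟨x, hle hx⟩ := by
    intro x hx
    rw [← e ⟨x, hPX hx⟩, ← h1 ⟨x, hPX hx⟩]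
    rfl
  refine ⟨fun x hx => ?_, fun y hy => ?_⟩
  · have h3 : ψ₀ ⟨x, hle hx⟩ ∈ (P.subgroupOf (X ⊔ P)).map ψ₀ := ⟨⟨x, hle hx⟩, hx, rfl⟩
    rw [key x hx]
    rw [h2] at h3
    exact h3
  · rw [← h2] at hy
    obtain ⟨⟨x, hx0⟩, hx, rfl⟩ := hy
    exact ⟨x, hx, key x hx⟩

theorem mem_aut_of_mp {G : FusionSystem S} {c : MulAut X} (h : Mp G X (autFun c)) : c ∈ G.autGroup X := by
  obtain ⟨b, hb, e⟩ := h.toAut (img_autFun c)
  have : b = c := by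
    ext x
    rw [e x, autFun_coe]
  rwa [← this]

theorem mem_of_sub {G : Type*} [Group G] [Finite G] {H : Subgroup G} {e₀ f₀ : G} {q j : ℕ} (he : e₀ ∈ H)
    (hf : ∀ x ∈ H, f₀ * x * f₀⁻¹ ∈ H) (hfp : f₀ ^ p ^ j = 1) (hq : (e₀ * f₀) ^ q = 1) (hco : q.Coprime p) :
    e₀ * f₀ ∈ H := by
  have hpow : ∀ n : ℕ, ∀ x ∈ H, f₀ ^ n * x * (f₀ ^ n)⁻¹ ∈ H := by
    intro n
    induction n with
    | zero => intro x hx; simpa using hx
    | succ n ih =>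
      intro x hx
      have := ih _ (hf x hx)
      have e : f₀ ^ (n + 1) * x * (f₀ ^ (n + 1))⁻¹ = f₀ ^ n * (f₀ * x * f₀⁻¹) * (f₀ ^ n)⁻¹ := by
        rw [pow_succ]
        group
      rw [e]
      exact this
  have key : ∀ n : ℕ, ∃ e' ∈ H, (e₀ * f₀) ^ n = e' * f₀ ^ n := by
    intro n
    induction n with
    | zero => exact ⟨1, H.one_mem, by simp⟩
    | succ n ih =>
      obtain ⟨e', he', h⟩ := ih
      refine ⟨e' * (f₀ ^ n * e₀ * (f₀ ^ n)⁻¹), H.mul_mem he' (hpow n e₀ he), ?_⟩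
      rw [pow_succ, h, pow_succ]
      group
  obtain ⟨e', he', h⟩ := key q
  rw [hq] at h
  have h1 : f₀ ^ q ∈ H := by
    have : f₀ ^ q = e'⁻¹ := eq_inv_of_mul_eq_one_right h.symm
    rw [this]
    exact H.inv_mem he'
  have h2 : (orderOf f₀).Coprime q := by
    refine Nat.Coprime.coprime_dvd_left (orderOf_dvd_of_pow_eq_one hfp) ?_
    exact (Nat.Coprime.pow_right j hco).symm
  exact H.mul_mem he (mem_of_pow_mem_coprime h2 h1)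

theorem iter_mod {X V : Subgroup Ω} {f : Ω → Ω} (hm : ∀ x ∈ X, f x ∈ X) (hV : ∀ x ∈ X, x⁻¹ * f x ∈ V) :
    ∀ n : ℕ, ∀ x ∈ X, x⁻¹ * f^[n] x ∈ V := by
  intro n
  induction n with
  | zero => intro x _; simp [V.one_mem]
  | succ n ih =>
    intro x hx
    rw [Function.iterate_succ_apply']
    have h1 := ih x hx
    have h2 := hV _ (iterate_mem hm n hx)
    have e : x⁻¹ * f (f^[n] x) = (x⁻¹ * f^[n] x) * ((f^[n] x)⁻¹ * f (f^[n] x)) := by group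
    rw [e]
    exact V.mul_mem h1 h2

/-- Conjugation by `N_S(Q)` preserves `Z(Q) ∩ T`. -/
theorem zz_conj (hT : F.StronglyClosed T) {s z : Ω} (hs : s ∈ normalizerIn S Q) (hz : z ∈ zz T Q) : s * z * s⁻¹ ∈ zz T Q := by
  refine mem_zz.2 ⟨sc_conj_mem F hT hs.1 hz.1, fun y hy => ?_⟩
  have h1 : s⁻¹ * y * s ∈ Q := conj_inv_mem hs.2 hy
  have h2 := (mem_zz.1 hz).2 _ h1
  calc y * (s * z * s⁻¹) = s * ((s⁻¹ * y * s) * z) * s⁻¹ := by group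
    _ = s * (z * (s⁻¹ * y * s)) * s⁻¹ := by rw [h2]
    _ = s * z * s⁻¹ * y := by group

theorem zz_le_cent (hTS : T ≤ S) : zz T Q ≤ centralizerIn S Q := fun _ hz => ⟨hTS hz.1, hz.2⟩

theorem conj_cent' {s d : Ω} (hs : s ∈ normalizerIn S Q) (hd : d ∈ centralizerIn S Q) : s * d * s⁻¹ ∈ centralizerIn S Q := by
  refine mem_cent.2 ⟨S.mul_mem (S.mul_mem hs.1 (mem_cent.1 hd).1) (S.inv_mem hs.1), fun y hy => ?_⟩
  have h1 : s⁻¹ * y * s ∈ Q := conj_inv_mem hs.2 hy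
  have h2 := (mem_cent.1 hd).2 _ h1
  calc y * (s * d * s⁻¹) = s * ((s⁻¹ * y * s) * d) * s⁻¹ := by group
    _ = s * (d * (s⁻¹ * y * s)) * s⁻¹ := by rw [h2]
    _ = s * d * s⁻¹ * y := by group

section main

variable [Finite S] [Fact p.Prime]

/-- **Lifting of a `p'`-automorphism of `E` at a fully normalized subgroup of `F`.** -/
theorem GE_fn (C : Cx F E p) (hfn : F.IsFullyNormalized Q) (hQT : Q ≤ T) (hU : Uc F T Q) {c : Ω → Ω}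
    (hc : Mp E Q c) (hci : Img Q c Q) {m : ℕ} (hm : m.Coprime p) (hcm : ∀ x ∈ Q, c^[m] x = x)
    (hQX : Q ≤ X) (hXN : X ≤ normalizerIn S Q) (hCX : centralizerIn S Q ≤ X)
    (hnorm : ∀ x ∈ X, ∃ x' ∈ X, ∀ q ∈ Q, c (x * q * x⁻¹) = x' * c q * x'⁻¹) :
    ∃ ξ, Mp F X ξ ∧ Img X ξ X ∧ (∀ q ∈ Q, ξ q = c q) ∧ (∀ x ∈ X, x⁻¹ * ξ x ∈ T) ∧ Mp E (X ⊓ T) ξ ∧
      ∃ m', m'.Coprime p ∧ ∀ x ∈ X, ξ^[m'] x = x := by
  have hTS := C.hTS
  have hQS : Q ≤ S := hQT.trans hTS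
  have hfnE := C.fn_E hfn hQT
  have hcz : zz T Q ≤ Q := hU.self hTS
  haveI : Finite T := C.finT
  have hNS : normalizerIn S Q ≤ S := normalizerIn_le_left S Q
  haveI hNfin : Finite (normalizerIn S Q) := finite_of_le hNS
  have hXS : X ≤ S := hXN.trans hNS
  haveI : Finite X := finite_of_le hXS
  haveI : Finite Q := finite_of_le hQS
  have hQN : Q ≤ normalizerIn S Q := le_normalizerIn hQS
  set C₀ : Subgroup Ω := centralizerIn S Q with hC₀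
  have hC₀N : C₀ ≤ normalizerIn S Q := cent_le_norm
  set R : Subgroup Ω := Q ⊔ C₀ with hR
  have hRN : R ≤ normalizerIn S Q := sup_le hQN hC₀N
  have hRS : R ≤ S := hRN.trans hNS
  haveI : Finite R := finite_of_le hRS
  have hQR : Q ≤ R := le_sup_left
  have hC₀R : C₀ ≤ R := le_sup_right
  have hRX : R ≤ X := sup_le hQX hCX
  obtain ⟨ci, hciM, ci1, ci2, ci3⟩ := hc.inverse hci
  -- the correction by `T`
  have hx2 : ∀ x ∈ X, ∃ t ∈ X ⊓ T, t ∈ Subgroup.normalizer (Q : Set Ω) ∧ ∀ q ∈ Q, c (x * q * x⁻¹) = (x * t) * c q * (x * t)⁻¹ := by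
    intro x hx
    obtain ⟨x', hx', e⟩ := hnorm x hx
    have hxN := hXN hx
    have hx'N := hXN hx'
    have hsN : x⁻¹ * x' ∈ normalizerIn S Q := Subgroup.mul_mem _ (Subgroup.inv_mem _ hxN) hx'N
    have hsX : x⁻¹ * x' ∈ X := X.mul_mem (X.inv_mem hx) hx'
    have h1 : Mp E Q (fun q => x⁻¹ * c (x * q * x⁻¹) * x) :=
      (C.conj_E_norm hc (Subgroup.inv_mem _ hxN)).congr (fun q _ => by simp only [inv_inv])
    have h2 : Mp E Q (fun q => (x⁻¹ * x') * q * (x⁻¹ * x')⁻¹) := by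
      refine (hciM.comp ci3.1 h1).congr (fun q hq => ?_)
      have h3 := e _ (ci3.1 q hq)
      show x⁻¹ * c (x * ci q * x⁻¹) * x = _
      rw [h3, ci2 q hq]
      group
    obtain ⟨t, ht, et⟩ := C.es_cap hfnE hsN h2
    have hu : t⁻¹ * (x⁻¹ * x') ∈ C₀ := by
      refine mem_cent.2 ⟨S.mul_mem (S.inv_mem (hTS ht.1)) hsN.1, fun y hy => ?_⟩
      have h3 := et y hy
      have h4 : (x⁻¹ * x') * y = t * y * t⁻¹ * (x⁻¹ * x') := by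
        rw [← h3]
        group
      calc y * (t⁻¹ * (x⁻¹ * x')) = t⁻¹ * (t * y * t⁻¹ * (x⁻¹ * x')) := by group
        _ = t⁻¹ * ((x⁻¹ * x') * y) := by rw [← h4]
        _ = _ := by group
    have htX : t ∈ X := by
      have e1 : t = (x⁻¹ * x') * (t⁻¹ * (x⁻¹ * x'))⁻¹ := by group
      rw [e1]
      exact X.mul_mem hsX (X.inv_mem (hCX hu))
    refine ⟨t, ⟨htX, ht.1⟩, ht.2, fun q hq => ?_⟩
    rw [e q hq]
    have h3 := et _ (hci.1 q hq)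
    have h4 : x' * c q * x'⁻¹ = x * ((x⁻¹ * x') * c q * (x⁻¹ * x')⁻¹) * x⁻¹ := by group
    rw [h4, h3]
    group
  -- the lift on `Q C_S(Q)`
  obtain ⟨α, hα, eα⟩ := hc.toAut hci
  have eα' : ∀ x ∈ Q, autFun α x = c x := fun x hx => by
    rw [autFun_of_mem α hx]
    exact eα ⟨x, hx⟩
  obtain ⟨g₀, hg₀, hg₀c, hgz⟩ := pi_main C.hS C.hN Q hQT hU.2 α hα
  have hgQ : ∀ x ∈ Q, g₀ x = c x := fun x hx => (hg₀c x hx).trans (eα' x hx)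
  have hgQi : Img Q g₀ Q := hci.congr (fun x hx => (hgQ x hx).symm)
  have hgR : ∀ r ∈ R, g₀ r ∈ R := pi_maps hcz hg₀ (fun x hx => hQR.trans le_rfl |> fun _ => hgQi.1 x hx) hgz
  have hgRi : Img R g₀ R := img_self hg₀ hgR
  obtain ⟨gi, hgiM, gi1, gi2, gi3⟩ := hg₀.inverse hgRi
  have hzzC : zz T Q ≤ C₀ := zz_le_cent hTS
  have hgC : ∀ d ∈ C₀, g₀ d ∈ C₀ := by
    intro d hd
    have e : g₀ d = d * (d⁻¹ * g₀ d) := by group
    rw [e]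
    exact C₀.mul_mem hd (hzzC (hgz d hd))
  have hgiQ : ∀ q ∈ Q, gi q ∈ Q := by
    intro q hq
    obtain ⟨x, hx, rfl⟩ := hgQi.2 q hq
    rw [gi1 x (hQR hx)]
    exact hx
  have hgiQi : Img Q gi Q := by
    refine ⟨hgiQ, fun y hy => ⟨g₀ y, hgQi.1 y hy, gi1 y (hQR hy)⟩⟩
  have hgiC : ∀ d ∈ C₀, gi d ∈ C₀ ∧ d⁻¹ * gi d ∈ zz T Q := by
    intro d hd
    have hdR := hC₀R hd
    have h1 : gi d ∈ R := gi3.1 d hdR
    have h2 : gi d ∈ C₀ := by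
      refine mem_cent.2 ⟨hRS h1, fun y hy => ?_⟩
      apply hg₀.inj (R.mul_mem (hQR hy) h1) (R.mul_mem h1 (hQR hy))
      rw [hg₀.map_mul (hQR hy) h1, hg₀.map_mul h1 (hQR hy), gi2 d hdR]
      exact (mem_cent.1 hd).2 _ (hgQi.1 y hy)
    refine ⟨h2, ?_⟩
    have h3 := hgz _ h2
    rw [gi2 d hdR] at h3
    have h4 := (zz T Q).inv_mem h3
    have e3 : ((gi d)⁻¹ * d)⁻¹ = d⁻¹ * gi d := by group
    rw [e3] at h4
    exact h4
  -- the normalizer system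
  let N : FusionSystem (normalizerIn S Q) := normalizerSystem F Q hQS
  have hF' : N.IsSaturated p := isSaturated_normalizerSystem C.hS F C.hF hfn _ (fun _ => rfl)
  have hNp : IsPGroup p (normalizerIn S Q) := C.hS.to_le hNS
  have hRn : ∀ s ∈ normalizerIn S Q, ∀ r ∈ R, s * r * s⁻¹ ∈ R := by
    intro s hs r hr
    have hcm' : Mp F R (fun x => s * x * s⁻¹) := Mp.conj hRS hs.1
    exact maps_sup hcm' (fun a ha => Subgroup.mem_sup_left (norm_conj hs.2 ha))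
      (fun b hb => Subgroup.mem_sup_right (conj_cent' hs hb)) r hr
  have hfnR : N.IsFullyNormalized R := by
    refine ⟨hRN, fun Q₂ hQ₂ => ?_⟩
    have e : normalizerIn (normalizerIn S Q) R = normalizerIn S Q := by
      refine le_antisymm (normalizerIn_le_left _ _) (fun s hs => ⟨hs, ?_⟩)
      exact mem_normalizer_of_conj_le' (fun x hx => hRn s hs x hx)
    rw [e]
    exact Subgroup.card_le_of_le (normalizerIn_le_left _ Q₂)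
  have hrec : N.IsReceptive R := isReceptive_of_isFullyNormalized (F := N) hNp hF' hfnR
  have hFA : N.IsFullyAutomized p R := isFullyAutomized_of_isFullyNormalized N hNp hF' hfnR
  have hgN : Mp N R g₀ := mp_norm hQS hg₀ hQR hRN (fun x hx => hRN (hgRi.1 x hx)) hgQi
  have hgiN : Mp N R gi := mp_norm hQS hgiM hQR hRN (fun x hx => hRN (gi3.1 x hx)) hgiQi
  have hzN : ∀ z ∈ zz T Q, z ∈ normalizerIn S Q := fun z hz => hQN (hcz hz)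
  have key : ∀ x ∈ X, ∃ t ∈ X ⊓ T, ∃ w ∈ C₀, ∀ r ∈ R, g₀ (x * r * x⁻¹) = (x * t * w) * g₀ r * (x * t * w)⁻¹ := by
    intro x hx
    obtain ⟨t, htZ, htn, et⟩ := hx2 x hx
    have hxN := hXN hx
    have htN : t ∈ normalizerIn S Q := ⟨hTS htZ.2, htn⟩
    have hx₂N : x * t ∈ normalizerIn S Q := Subgroup.mul_mem _ hxN htN
    let v : Ω → Ω := fun r => (x * t)⁻¹ * g₀ (x * gi r * x⁻¹) * (x * t)⁻¹⁻¹
    have hcx : Mp N R (fun r => x * r * x⁻¹) := Mp.conj hRN hxN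
    have hvM : Mp N R v :=
      ((hgiN.comp gi3.1 hcx).comp (fun r hr => hRn x hxN _ (gi3.1 r hr)) hgN).comp
        (fun r hr => hgR _ (hRn x hxN _ (gi3.1 r hr))) (Mp.conj hRN (Subgroup.inv_mem _ hx₂N))
    have hvI : Img R v R := by
      refine img_self hvM (fun r hr => ?_)
      exact hRn _ (Subgroup.inv_mem _ hx₂N) _ (hgR _ (hRn x hxN _ (gi3.1 r hr)))
    obtain ⟨β, hβ, eβ⟩ := hvM.toAut hvI
    have eβ' : ∀ r ∈ R, autFun β r = v r := fun r hr => by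
      rw [autFun_of_mem β hr]
      exact eβ ⟨r, hr⟩
    have hvA : ∀ q ∈ Q, autFun β q = q := by
      intro q hq
      rw [eβ' q (hQR hq)]
      show (x * t)⁻¹ * g₀ (x * gi q * x⁻¹) * (x * t)⁻¹⁻¹ = q
      have h1 := hgiQ q hq
      have h2 : x * gi q * x⁻¹ ∈ Q := norm_conj hxN.2 h1
      rw [hgQ _ h2, et _ h1]
      have h3 : c (gi q) = q := by rw [← hgQ _ h1, gi2 q (hQR hq)]
      rw [h3]
      group
    have hvD : ∀ d ∈ C₀, d⁻¹ * autFun β d ∈ zz T Q := by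
      intro d hd
      rw [eβ' d (hC₀R hd)]
      show d⁻¹ * ((x * t)⁻¹ * g₀ (x * gi d * x⁻¹) * (x * t)⁻¹⁻¹) ∈ zz T Q
      obtain ⟨h1, h2⟩ := hgiC d hd
      have h3 : x * gi d * x⁻¹ ∈ C₀ := conj_cent' hxN h1
      have h4 := hgz _ h3
      set z₁ := (x * gi d * x⁻¹)⁻¹ * g₀ (x * gi d * x⁻¹) with hz₁
      set z₀ := d⁻¹ * gi d with hz₀
      have e1 : g₀ (x * gi d * x⁻¹) = x * gi d * x⁻¹ * z₁ := by rw [hz₁]; group
      have e2 : gi d = d * z₀ := by rw [hz₀]; group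
      rw [e1]
      have e3 : d⁻¹ * ((x * t)⁻¹ * (x * gi d * x⁻¹ * z₁) * (x * t)⁻¹⁻¹) =
          (d⁻¹ * (t⁻¹ * d * t)) * (t⁻¹ * (z₀ * (x⁻¹ * z₁ * x)) * t) := by
        rw [e2]
        group
      rw [e3]
      have h5 : x⁻¹ * z₁ * x ∈ zz T Q := by
        have := zz_conj C.hT (Subgroup.inv_mem _ hxN) h4
        simpa using this
      have h6 : t⁻¹ * (z₀ * (x⁻¹ * z₁ * x)) * t ∈ zz T Q := by
        have := zz_conj C.hT (Subgroup.inv_mem _ htN) ((zz T Q).mul_mem h2 h5)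
        simpa using this
      refine (zz T Q).mul_mem ?_ h6
      refine mem_zz.2 ⟨?_, fun y hy => ?_⟩
      · have h7 : d⁻¹ * (t⁻¹ * d * t) = (d⁻¹ * t⁻¹ * d) * t := by group
        rw [h7]
        refine T.mul_mem ?_ htZ.2
        have := sc_conj_mem F C.hT (S.inv_mem (mem_cent.1 hd).1) (T.inv_mem htZ.2)
        simpa using this
      · have hty : t * y * t⁻¹ ∈ Q := norm_conj htn hy
        have h8 := (mem_cent.1 hd).2 _ hty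
        have h9 := (mem_cent.1 hd).2 _ hy
        have h10 : y * t⁻¹ = t⁻¹ * (t * y * t⁻¹) := by group
        have h11 : t⁻¹ * (t * y * t⁻¹) * d = t⁻¹ * (d * (t * y * t⁻¹)) := by rw [mul_assoc, h8]
        calc y * (d⁻¹ * (t⁻¹ * d * t)) = d⁻¹ * (d * y * d⁻¹) * (t⁻¹ * d * t) := by group
          _ = d⁻¹ * y * (t⁻¹ * d * t) := by rw [← h9]; group
          _ = d⁻¹ * (y * t⁻¹) * d * t := by group
          _ = d⁻¹ * (t⁻¹ * (t * y * t⁻¹)) * d * t := by rw [h10]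
          _ = d⁻¹ * (t⁻¹ * (t * y * t⁻¹) * d) * t := by group
          _ = d⁻¹ * (t⁻¹ * (d * (t * y * t⁻¹))) * t := by rw [h11]
          _ = (d⁻¹ * (t⁻¹ * d * t)) * y := by group
    have hvi := v_induced (F' := N) (A := Q) (D := C₀) (Z := zz T Q) hNp hRN hFA hcz cent_le_normalizer
      (fun z hz x hx => (mem_zz.1 hz).2 x hx)
      (fun a ha x hx => (norm_img hQS (mp_autFun hRN ha) hQR).1 x hx)
      (fun a ha d hd => by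
        have hm' : Mp N R (autFun a) := mp_autFun hRN ha
        have hiQ := norm_img hQS hm' hQR
        refine mem_cent.2 ⟨hNS (hm'.mem_S (hC₀R hd)), fun y hy => ?_⟩
        obtain ⟨x, hx, rfl⟩ := hiQ.2 y hy
        rw [← hm'.map_mul (hQR hx) (hC₀R hd), ← hm'.map_mul (hC₀R hd) (hQR hx), (mem_cent.1 hd).2 x hx])
      (fun a ha z hz => by
        have hm' : Mp N R (autFun a) := mp_autFun hRN ha
        have hiQ := norm_img hQS hm' hQR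
        refine mem_zz.2 ⟨hQT (hiQ.1 z (hcz hz)), fun y hy => ?_⟩
        obtain ⟨x, hx, rfl⟩ := hiQ.2 y hy
        rw [← hm'.map_mul (hQR hx) (hQR (hcz hz)), ← hm'.map_mul (hQR (hcz hz)) (hQR hx), (mem_zz.1 hz).2 x hx])
      hβ hvA hvD
    obtain ⟨w, hw, ew⟩ := inT_iff.1 hvi
    have hwC : w ∈ C₀ := by
      refine mem_cent.2 ⟨hNS hw.1, fun y hy => ?_⟩
      have h1 := ew y (hQR hy)
      rw [hvA y hy] at h1
      have h2 : y * w = w * y * w⁻¹ * w := by rw [← h1]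
      rw [h2]
      group
    refine ⟨t, htZ, w, hwC, fun r hr => ?_⟩
    have h1 := ew _ (hgR r hr)
    rw [eβ' _ (hgR r hr)] at h1
    have h2 : (x * t)⁻¹ * g₀ (x * gi (g₀ r) * x⁻¹) * (x * t)⁻¹⁻¹ = w * g₀ r * w⁻¹ := h1
    rw [gi1 r hr] at h2
    have h3 : g₀ (x * r * x⁻¹) = (x * t) * ((x * t)⁻¹ * g₀ (x * r * x⁻¹) * (x * t)⁻¹⁻¹) * (x * t)⁻¹ := by group
    rw [h3, h2]
    group
  -- extension to `X`
  have hXnR : ∀ y ∈ X, y ∈ Subgroup.normalizer (R : Set Ω) := fun y hy =>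
    mem_normalizer_of_conj_le' (fun x hx => hRn y (hXN hy) x hx)
  obtain ⟨ξ₀, hξ₀N, eξ₀⟩ := hgN.ext_rec hrec hgRi (Y := X) hRX (by
    intro y hy
    obtain ⟨t, htZ, w, hw, e⟩ := key y hy
    refine ⟨hXN hy, hXnR y hy, y * t * w, ?_, e⟩
    exact hXN (X.mul_mem (X.mul_mem hy htZ.1) (hCX hw)))
  have hξ₀F : Mp F X ξ₀ := mp_of_norm hQS hξ₀N
  have hξ₀X : ∀ x ∈ X, ∃ t ∈ X ⊓ T, ∃ w ∈ C₀, ξ₀ x = x * t * w := by
    intro x hx
    obtain ⟨t, htZ, w, hw, e⟩ := key x hx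
    have hwX := hCX hw
    have hax : x * t * w ∈ X := X.mul_mem (X.mul_mem hx htZ.1) hwX
    have hcom : (x * t * w)⁻¹ * ξ₀ x ∈ C₀ := by
      refine mem_cent.2 ⟨S.mul_mem (S.inv_mem (hXS hax)) (hξ₀F.mem_S hx), fun y hy => ?_⟩
      obtain ⟨q, hq, rfl⟩ := hgQi.2 y hy
      have h1 := hξ₀F.map_conj hx (hRX (hQR hq))
      rw [eξ₀ _ (hQR hq), eξ₀ _ (hRn x (hXN hx) _ (hQR hq)), e q (hQR hq)] at h1
      have h2 : (x * t * w) * g₀ q = ξ₀ x * g₀ q * (ξ₀ x)⁻¹ * (x * t * w) := by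
        rw [← h1]
        group
      calc g₀ q * ((x * t * w)⁻¹ * ξ₀ x) = (x * t * w)⁻¹ * ((x * t * w) * g₀ q) * ((x * t * w)⁻¹ * ξ₀ x) := by group
        _ = (x * t * w)⁻¹ * (ξ₀ x * g₀ q * (ξ₀ x)⁻¹ * (x * t * w)) * ((x * t * w)⁻¹ * ξ₀ x) := by rw [h2]
        _ = (x * t * w)⁻¹ * ξ₀ x * g₀ q := by group
    refine ⟨t, htZ, w * ((x * t * w)⁻¹ * ξ₀ x), C₀.mul_mem hw hcom, ?_⟩
    group
  have hξ₀m : ∀ x ∈ X, ξ₀ x ∈ X := by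
    intro x hx
    obtain ⟨t, htZ, w, hw, e⟩ := hξ₀X x hx
    rw [e]
    exact X.mul_mem (X.mul_mem hx htZ.1) (hCX hw)
  have hξ₀i : Img X ξ₀ X := img_self hξ₀F hξ₀m
  obtain ⟨α₀, hα₀, eα₀⟩ := hξ₀F.toAut hξ₀i
  have eα₀' : ∀ x ∈ X, autFun α₀ x = ξ₀ x := fun x hx => by
    rw [autFun_of_mem α₀ hx]
    exact eα₀ ⟨x, hx⟩
  set f₀ : Ω → Ω := autFun α₀ with hf₀
  have hf₀F : Mp F X f₀ := mp_autFun hXS hα₀
  have hf₀m : ∀ x ∈ X, f₀ x ∈ X := (img_autFun α₀).1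
  -- the chain
  set Z₁ : Subgroup Ω := X ⊓ T with hZ₁
  have hZ₁n : ∀ x ∈ X, ∀ u ∈ Z₁, x * u * x⁻¹ ∈ Z₁ := fun x hx u hu =>
    ⟨X.mul_mem (X.mul_mem hx hu.1) (X.inv_mem hx), sc_conj_mem F C.hT (hXS hx) hu.2⟩
  set V : Subgroup Ω := Z₁ ⊔ C₀ with hV
  have hZ₁X : Z₁ ≤ X := inf_le_left
  have hZ₁V : Z₁ ≤ V := le_sup_left
  have hC₀V : C₀ ≤ V := le_sup_right
  have hVX : V ≤ X := sup_le hZ₁X hCX
  haveI : Finite C₀ := finite_of_le (hC₀N.trans hNS)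
  have hZ₁nC : Z₁ ≤ Subgroup.normalizer (C₀ : Set Ω) := fun u hu =>
    mem_normalizer_of_conj_le' (fun d hd => conj_cent' (hXN hu.1) hd)
  have hXV : ∀ x ∈ X, x⁻¹ * f₀ x ∈ V := by
    intro x hx
    obtain ⟨t, htZ, w, hw, e⟩ := hξ₀X x hx
    rw [eα₀' x hx, e]
    have e1 : x⁻¹ * (x * t * w) = t * w := by group
    rw [e1]
    exact V.mul_mem (hZ₁V htZ) (hC₀V hw)
  have hVZ : ∀ v ∈ V, v⁻¹ * f₀ v ∈ Z₁ := by
    intro v hv
    obtain ⟨τ, hτ, d, hd, rfl⟩ := exists_mul_of_mem_sup' hZ₁nC hv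
    have hτX := hZ₁X hτ
    have hdX := hCX hd
    rw [hf₀F.map_mul hτX hdX, eα₀' d hdX, eξ₀ d (hC₀R hd)]
    have h1 : f₀ τ ∈ Z₁ := ⟨hf₀m τ hτX, C.mem_T hf₀F hτX hτ.2⟩
    have h2 : g₀ d = d * (d⁻¹ * g₀ d) := by group
    have h3 := hgz d hd
    rw [h2]
    have e1 : (τ * d)⁻¹ * (f₀ τ * (d * (d⁻¹ * g₀ d))) = d⁻¹ * (τ⁻¹ * f₀ τ) * d * (d⁻¹ * g₀ d) := by
      group
    rw [e1]
    refine Z₁.mul_mem ?_ ⟨hQX (hcz h3), (hcz.trans hQT) h3⟩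
    have := hZ₁n d⁻¹ (X.inv_mem hdX) _ (Z₁.mul_mem (Z₁.inv_mem hτ) h1)
    simpa using this
  have hVm : ∀ v ∈ V, f₀ v ∈ V := by
    intro v hv
    have e : f₀ v = v * (v⁻¹ * f₀ v) := by group
    rw [e]
    exact V.mul_mem hv (hZ₁V (hVZ v hv))
  have hZm : ∀ u ∈ Z₁, f₀ u ∈ Z₁ := fun u hu => ⟨hf₀m u hu.1, C.mem_T hf₀F hu.1 hu.2⟩
  obtain ⟨u, v', hpart, ⟨k, hk⟩, q, hq, hqe⟩ := exists_parts (p := p) α₀
  have hpowf : ∀ n : ℕ, ∀ x ∈ X, autFun (α₀ ^ n) x = f₀^[n] x := by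
    intro n x hx
    have := iterate_autFun (a := α₀) n (⟨x, hx⟩ : X)
    rw [autFun_of_mem _ hx]
    exact this.symm
  set ζ : Ω → Ω := autFun (α₀ ^ v') with hζ
  have hζF : Mp F X ζ := mp_autFun hXS (Subgroup.pow_mem _ hα₀ v')
  have hζm : ∀ x ∈ X, ζ x ∈ X := (img_autFun _).1
  have hζe : ∀ x ∈ X, ζ x = f₀^[v'] x := hpowf v'
  have hζq : ∀ x ∈ X, ζ^[q] x = x := by
    intro x hx
    have h1 := iterate_autFun (a := α₀ ^ v') q (⟨x, hx⟩ : X)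
    rw [hqe] at h1
    exact h1
  have hcoS : ∀ z ∈ S, (orderOf z).Coprime q := by
    intro z hz
    obtain ⟨j, hj⟩ := C.hS ⟨z, hz⟩
    have h1 : z ^ p ^ j = 1 := congrArg Subtype.val hj
    refine Nat.Coprime.coprime_dvd_left (orderOf_dvd_of_pow_eq_one h1) ?_
    exact (Nat.Coprime.pow_right j hq).symm
  have hζT : ∀ x ∈ X, x⁻¹ * ζ x ∈ Z₁ := by
    intro x hx
    refine Cfsg.Agent.Lib.FusionExt.FixS.coprime_step' (F := F) hζF hx hVX hZ₁V ?_ ?_ ?_ ?_ (hζq x hx)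
      (hcoS _ (S.mul_mem (S.inv_mem (hXS hx)) (hζF.mem_S hx)))
    · rw [hζe x hx]
      exact iter_mod hf₀m hXV v' x hx
    · intro w hw
      rw [hζe w (hVX hw)]
      exact iter_mod hVm hVZ v' w hw
    · intro w hw
      rw [hζe w hw.1]
      exact iterate_mem hZm v' hw
    · intro w hw w' hw'
      exact hZ₁n w (hVX hw) w' hw'
  -- on `Q`
  have hf₀Q : ∀ x ∈ Q, f₀ x = c x := fun x hx => by
    rw [eα₀' x (hQX hx), eξ₀ x (hQR hx), hgQ x hx]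
  have hcm' : ∀ x ∈ Q, c x ∈ Q := hci.1
  have hiter : ∀ n : ℕ, ∀ x ∈ Q, f₀^[n] x = c^[n] x := fun n x hx => iterate_congr (fun y hy => by rw [hf₀Q y hy]; exact hcm' y hy) hf₀Q n hx
  have hαm : α ^ m = 1 := by
    apply Cfsg.Agent.Lib.FusionExt.Glue2.eq_one_of_fun
    intro x hx
    have h1 := iterate_autFun (a := α) m (⟨x, hx⟩ : Q)
    rw [← autFun_coe] at h1
    rw [← h1]
    have h2 : (autFun α)^[m] x = c^[m] x := iterate_congr (fun y hy => by rw [eα' y hy]; exact hcm' y hy) eα' m hx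
    rw [h2, hcm x hx]
  haveI : Finite (MulAut Q) := Cfsg.Agent.Lib.Fusion.Basic.finite_mulAut_of_finite (A := Q)
  have hαu : α ^ u = 1 := by
    have h1 : (α ^ u) ^ p ^ k = 1 := by
      apply Cfsg.Agent.Lib.FusionExt.Glue2.eq_one_of_fun
      intro x hx
      have h2 : (autFun α)^[u * p ^ k] x = (((α ^ (u * p ^ k)) ⟨x, hx⟩ : Q) : Ω) := iterate_autFun (a := α) (u * p ^ k) ⟨x, hx⟩
      have h2' : autFun ((α ^ u) ^ p ^ k) x = (autFun α)^[u * p ^ k] x := by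
        rw [h2, ← pow_mul, autFun_of_mem _ hx]
      rw [h2']
      have h3 : (autFun α)^[u * p ^ k] x = c^[u * p ^ k] x :=
        iterate_congr (fun y hy => by rw [eα' y hy]; exact hcm' y hy) eα' _ hx
      rw [h3, ← hiter _ x hx, ← hpowf _ x (hQX hx), pow_mul, hk, autFun_one_apply]
    have h4 : (α ^ u) ^ m = 1 := by
      rw [← pow_mul, mul_comm, pow_mul, hαm, one_pow]
    have h5 : orderOf (α ^ u) ∣ Nat.gcd (p ^ k) m := Nat.dvd_gcd (orderOf_dvd_of_pow_eq_one h1) (orderOf_dvd_of_pow_eq_one h4)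
    have h6 : Nat.gcd (p ^ k) m = 1 := (Nat.Coprime.pow_left k hm.symm)
    rw [h6, Nat.dvd_one, orderOf_eq_one_iff] at h5
    exact h5
  have hcu : ∀ x ∈ Q, c^[u] x = x := by
    intro x hx
    have h1 := iterate_autFun (a := α) u (⟨x, hx⟩ : Q)
    rw [hαu] at h1
    have h2 : (autFun α)^[u] x = c^[u] x := iterate_congr (fun y hy => by rw [eα' y hy]; exact hcm' y hy) eα' _ hx
    rw [← h2]
    exact h1
  have hζQ : ∀ x ∈ Q, ζ x = c x := by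
    intro x hx
    have h1 : f₀ x = autFun (α₀ ^ u) (autFun (α₀ ^ v') x) := by
      rw [← autFun_mul_apply, ← hpart]
    have hm1 : ζ x ∈ Q := by
      rw [hζe x (hQX hx), hiter _ x hx]
      exact iterate_mem hcm' v' hx
    have h2 : c x = f₀ x := (hf₀Q x hx).symm
    rw [h2, h1, hpowf u _ (hζm x (hQX hx)), hiter u _ hm1, hcu _ hm1]
  -- the restriction to `X ∩ T` is in `E`
  have hQZ₁ : Q ≤ Z₁ := le_inf hQX hQT
  have hrecE : E.IsReceptive Q := isReceptive_of_isFullyNormalized (F := E) C.hTp C.hEs hfnE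
  obtain ⟨e₁, he₁, ee₁⟩ := hc.ext_rec hrecE hci (Y := Z₁) hQZ₁ (by
    intro y hy
    obtain ⟨t, htZ, htn, et⟩ := hx2 y hy.1
    exact ⟨hy.2, (hXN hy.1).2, y * t, T.mul_mem hy.2 htZ.2, et⟩)
  have he₁Z : ∀ y ∈ Z₁, e₁ y ∈ Z₁ := by
    intro y hy
    obtain ⟨t, htZ, htn, et⟩ := hx2 y hy.1
    have hyt : y * t ∈ Z₁ := Z₁.mul_mem hy htZ
    have hcom : (y * t)⁻¹ * e₁ y ∈ zz T Q := by
      refine mem_zz.2 ⟨T.mul_mem (T.inv_mem hyt.2) (he₁.mem_S hy), fun z hz => ?_⟩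
      obtain ⟨q, hq, rfl⟩ := hci.2 z hz
      have h1 := he₁.map_conj hy (hQZ₁ hq)
      rw [ee₁ q hq, ee₁ _ (norm_conj (hXN hy.1).2 hq), et q hq] at h1
      have h2 : (y * t) * c q = e₁ y * c q * (e₁ y)⁻¹ * (y * t) := by
        rw [← h1]
        group
      calc c q * ((y * t)⁻¹ * e₁ y) = (y * t)⁻¹ * ((y * t) * c q) * ((y * t)⁻¹ * e₁ y) := by group
        _ = (y * t)⁻¹ * (e₁ y * c q * (e₁ y)⁻¹ * (y * t)) * ((y * t)⁻¹ * e₁ y) := by rw [h2]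
        _ = (y * t)⁻¹ * e₁ y * c q := by group
    have e : e₁ y = (y * t) * ((y * t)⁻¹ * e₁ y) := by group
    rw [e]
    exact Z₁.mul_mem hyt (hQZ₁ (hcz hcom))
  have he₁i : Img Z₁ e₁ Z₁ := img_self he₁ he₁Z
  obtain ⟨ε, hε, eε⟩ := he₁.toAut he₁i
  have eε' : ∀ x ∈ Z₁, autFun ε x = e₁ x := fun x hx => by
    rw [autFun_of_mem ε hx]
    exact eε ⟨x, hx⟩
  have hζZm : ∀ x ∈ Z₁, ζ x ∈ Z₁ := fun x hx => ⟨hζm x hx.1, C.mem_T hζF hx.1 hx.2⟩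
  have hZ₁S : Z₁ ≤ S := hZ₁X.trans hXS
  haveI : Finite Z₁ := finite_of_le hZ₁S
  haveI : Finite (MulAut Z₁) := Cfsg.Agent.Lib.Fusion.Basic.finite_mulAut_of_finite (A := Z₁)
  have hζZi : Img Z₁ ζ Z₁ := img_self (hζF.restrict hZ₁X) hζZm
  obtain ⟨ζ₀, hζ₀, eζ₀⟩ := (hζF.restrict hZ₁X).toAut hζZi
  have eζ₀' : ∀ x ∈ Z₁, autFun ζ₀ x = ζ x := fun x hx => by
    rw [autFun_of_mem ζ₀ hx]
    exact eζ₀ ⟨x, hx⟩
  have hεF : ε ∈ F.autGroup Z₁ := mem_aut_of_mp (C.mp_E (mp_autFun (F := E) inf_le_right hε))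
  set f₁ : MulAut Z₁ := ε⁻¹ * ζ₀ with hf₁
  have hf₁F : f₁ ∈ F.autGroup Z₁ := Subgroup.mul_mem _ (Subgroup.inv_mem _ hεF) hζ₀
  have hf₁Q : ∀ q ∈ Q, autFun f₁ q = q := by
    intro q hq
    rw [hf₁, autFun_mul_apply, eζ₀' q (hQZ₁ hq), hζQ q hq, ← ee₁ q hq, ← eε' q (hQZ₁ hq), autFun_inv_apply]
  have hf₁z : ∀ y ∈ Z₁, y⁻¹ * autFun f₁ y ∈ zz T Q := by
    intro y hy
    have hm' : Mp F Z₁ (autFun f₁) := mp_autFun hZ₁S hf₁F
    have hfy : autFun f₁ y ∈ Z₁ := autFun_mem _ hy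
    refine mem_zz.2 ⟨T.mul_mem (T.inv_mem hy.2) hfy.2, fun q hq => ?_⟩
    have h1 := hm'.map_conj hy (hQZ₁ hq)
    have hq' : y * q * y⁻¹ ∈ Q := norm_conj (hXN hy.1).2 hq
    rw [hf₁Q _ hq', hf₁Q q hq] at h1
    exact Cfsg.Agent.Lib.FusionExt.Glue3.comm_of_conj h1.symm
  have hZ₁p : IsPGroup p Z₁ := C.hS.to_le hZ₁S
  obtain ⟨j, hj⟩ : ∃ j : ℕ, f₁ ^ p ^ j = 1 := by
    obtain ⟨j, hj⟩ := pow_fix_step hZ₁p f₁ (N := zz T Q) (M := Z₁) (hcz.trans hQZ₁)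
      (fun x _ => by
        have := hf₁z _ x.2
        rwa [autFun_coe] at this)
      ⟨0, fun z hz => by
        apply Subtype.ext
        have := hf₁Q _ (hcz hz)
        rw [autFun_coe] at this
        simpa using this⟩
    exact ⟨j, MulEquiv.ext fun x => hj x x.2⟩
  have hζ₀q : ζ₀ ^ q = 1 := by
    apply Cfsg.Agent.Lib.FusionExt.Glue2.eq_one_of_fun
    intro x hx
    have h1 := iterate_autFun (a := ζ₀) q (⟨x, hx⟩ : Z₁)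
    rw [← autFun_coe] at h1
    rw [← h1]
    have h2 : (autFun ζ₀)^[q] x = ζ^[q] x := iterate_congr (fun y hy => by rw [eζ₀' y hy]; exact hζZm y hy) eζ₀' q hx
    rw [h2, hζq x hx.1]
  have hnormf : ∀ b ∈ E.autGroup Z₁, f₁ * b * f₁⁻¹ ∈ E.autGroup Z₁ := by
    intro b hb
    have hm' : Mp F Z₁ (autFun f₁) := mp_autFun hZ₁S hf₁F
    obtain ⟨b', hb', eb'⟩ := C.tr_E (Y := Z₁) (mp_autFun inf_le_right hb) (img_autFun b).1 le_rfl inf_le_right hm' (img_autFun f₁)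
    refine mem_aut_of_mp (hb'.congr (fun x hx => ?_))
    have h1 := eb' _ (autFun_mem f₁⁻¹ hx)
    rw [autFun_apply_inv] at h1
    rw [h1, autFun_mul_apply (f₁ * b) f₁⁻¹, autFun_mul_apply f₁ b]
  have hζE : ζ₀ ∈ E.autGroup Z₁ := by
    have e : ζ₀ = ε * f₁ := by rw [hf₁]; group
    rw [e]
    refine mem_of_sub hε hnormf hj ?_ hq
    rw [← e]
    exact hζ₀q
  have hζEm : Mp E Z₁ ζ := (mp_autFun inf_le_right hζE).congr eζ₀'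
  exact ⟨ζ, hζF, (img_autFun _), hζQ, fun x hx => (hζT x hx).2, hζEm, q, hq, hζq⟩

/-- The Frattini form of a map of `F` on a subgroup of `T`. -/
theorem exists_frat (C : Cx F E p) (hf : Mp F X f) (hX : X ≤ T) :
    ∃ a b, Mp F T a ∧ Img T a T ∧ Mp E X b ∧ ∀ x ∈ X, f x = a (b x) := by
  obtain ⟨φ₀, hφ₀, e⟩ := id hf
  obtain ⟨α, hα, φ₁, hφ₁, e₁⟩ := C.hFr X hX φ₀ hφ₀
  refine ⟨autFun α, extOf φ₁, mp_autFun C.hTS hα, img_autFun α, mp_of_hom hφ₁, fun x hx => ?_⟩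
  have h1 : φ₁ ⟨x, hx⟩ ∈ T := val_mem E hφ₁ _
  rw [extOf_of_mem φ₁ hx, autFun_of_mem α h1, ← e ⟨x, hx⟩]
  exact e₁ ⟨x, hx⟩ h1

/-- Conjugates under `Aut_F(T)` have the same normalizer in `T`. -/
theorem card_nt_le (C : Cx F E p) (ha : Mp F T a) (hai : Img T a T) (hXT : X ≤ T) (hi : Img X a Y) :
    Nat.card (normalizerIn T Y) ≤ Nat.card (normalizerIn T X) := by
  haveI : Finite T := C.finT
  haveI : Finite (normalizerIn T X) := finite_of_le inf_le_left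
  haveI : Finite X := finite_of_le hXT
  obtain ⟨k, hk, k1, k2, k3⟩ := ha.inverse hai
  have h0 : normalizerIn T Y ≤ T := normalizerIn_le_left T Y
  obtain ⟨φ₀, hφ₀, e⟩ := hk.restrict h0
  refine card_le_of_hom φ₀ (F.injective_of_mem hφ₀) (fun y => ?_)
  rw [e y]
  have hyT : (y : Ω) ∈ T := y.2.1
  refine ⟨k3.1 _ hyT, mem_normalizer_of_conj_le' (fun x hx => ?_)⟩
  have hxT := hXT hx
  have h1 := hk.map_conj hyT (hi.1 x hx |> fun h => (hai.1 _ hxT))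
  rw [k1 x hxT] at h1
  rw [← h1]
  have h2 : (y : Ω) * a x * (y : Ω)⁻¹ ∈ Y := norm_conj y.2.2 (hi.1 x hx)
  obtain ⟨x', hx', e'⟩ := hi.2 _ h2
  rw [← e', k1 x' (hXT hx')]
  exact hx'

/-- **Lifting of a `p'`-automorphism of `E` at a fully normalized subgroup of `E`.** -/
theorem GE (C : Cx F E p) (hfn : E.IsFullyNormalized Q) (hU : Uc F T Q) {c : Ω → Ω}
    (hc : Mp E Q c) (hci : Img Q c Q) {m : ℕ} (hm : m.Coprime p) (hcm : ∀ x ∈ Q, c^[m] x = x)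
    (hQX : Q ≤ X) (hXN : X ≤ normalizerIn S Q) (hCX : centralizerIn S Q ≤ X)
    (hnorm : ∀ x ∈ X, ∃ x' ∈ X, ∀ q ∈ Q, c (x * q * x⁻¹) = x' * c q * x'⁻¹) :
    ∃ ξ, Mp F X ξ ∧ Img X ξ X ∧ (∀ q ∈ Q, ξ q = c q) ∧ (∀ x ∈ X, x⁻¹ * ξ x ∈ T) ∧ Mp E (X ⊓ T) ξ ∧
      ∃ m', m'.Coprime p ∧ ∀ x ∈ X, ξ^[m'] x = x := by
  have hQT : Q ≤ T := hfn.1
  have hTS := C.hTS
  have hQS : Q ≤ S := hQT.trans hTS
  haveI : Finite T := C.finT
  obtain ⟨Q₁, hQ₁, hfn₁⟩ := exists_isFullyNormalized F hQS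
  obtain ⟨ψ₀, hψ₀, hψN, hψi⟩ := nm_map C.hS C.hF hfn₁ hQ₁
  have hQN : Q ≤ normalizerIn S Q := le_normalizerIn hQS
  have hψQ : Mp F Q ψ₀ := hψ₀.restrict hQN
  have hQ₁T : Q₁ ≤ T := by
    intro y hy
    obtain ⟨x, hx, rfl⟩ := hψi.2 y hy
    exact C.mem_T hψQ hx (hQT hx)
  have hU₁ : Uc F T Q₁ := hU.conj C.hT hψQ hψi
  have hQ₁S : Q₁ ≤ S := hQ₁T.trans hTS
  haveI : Finite Q := finite_of_le hQS
  haveI : Finite Q₁ := finite_of_le hQ₁S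
  have hNS₁ : normalizerIn S Q₁ ≤ S := normalizerIn_le_left S Q₁
  have hNS : normalizerIn S Q ≤ S := normalizerIn_le_left S Q
  haveI : Finite (normalizerIn T Q₁) := finite_of_le inf_le_left
  -- the normalizers in `T` correspond
  have hcard : Nat.card (normalizerIn T Q₁) ≤ Nat.card (normalizerIn T Q) := by
    obtain ⟨a₁, b₁, ha₁, ha₁i, hb₁, eab⟩ := exists_frat C hψQ hQT
    obtain ⟨Q₂, hQ₂⟩ := hb₁.exists_img
    have hQ₂T : Q₂ ≤ T := hb₁.img_le hQ₂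
    have hi₂ : Img Q₂ a₁ Q₁ := by
      refine ⟨fun y hy => ?_, fun y hy => ?_⟩
      · obtain ⟨x, hx, rfl⟩ := hQ₂.2 y hy
        rw [← eab x hx]
        exact hψi.1 x hx
      · obtain ⟨x, hx, rfl⟩ := hψi.2 y hy
        exact ⟨b₁ x, hQ₂.1 x hx, (eab x hx).symm⟩
    exact (card_nt_le C ha₁ ha₁i hQ₂T hi₂).trans (hfn.2 Q₂ (hb₁.isConj hQ₂))
  have hNle : normalizerIn T Q ≤ normalizerIn S Q := inf_le_inf_right _ hTS
  obtain ⟨W₁, hW₁⟩ := (hψ₀.restrict hNle).exists_img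
  have hW₁le : W₁ ≤ normalizerIn T Q₁ := by
    intro y hy
    obtain ⟨x, hx, rfl⟩ := hW₁.2 y hy
    exact ⟨C.mem_T hψ₀ (hNle hx) hx.1, (hψN x (hNle hx)).2⟩
  have hW₁e : W₁ = normalizerIn T Q₁ := by
    refine Subgroup.eq_of_le_of_card_ge hW₁le ?_
    rw [(hψ₀.restrict hNle).card_img hW₁]
    exact hcard
  have hsurj : ∀ y ∈ normalizerIn T Q₁, ∃ t ∈ normalizerIn T Q, ψ₀ t = y := by
    intro y hy
    rw [← hW₁e] at hy
    exact hW₁.2 y hy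
  -- the transported automorphism
  obtain ⟨c₁, hc₁, ec₁⟩ := C.tr_E hc hci.1 le_rfl hQT hψQ hψi
  have hc₁i : Img Q₁ c₁ Q₁ := by
    refine ⟨fun y hy => ?_, fun y hy => ?_⟩
    · obtain ⟨x, hx, rfl⟩ := hψi.2 y hy
      rw [ec₁ x hx]
      exact hψi.1 _ (hci.1 x hx)
    · obtain ⟨x, hx, rfl⟩ := hψi.2 y hy
      obtain ⟨x', hx', rfl⟩ := hci.2 x hx
      exact ⟨ψ₀ x', hψi.1 x' hx', ec₁ x' hx'⟩
  have hitc : ∀ n : ℕ, ∀ x ∈ Q, c₁^[n] (ψ₀ x) = ψ₀ (c^[n] x) := by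
    intro n
    induction n with
    | zero => intro x _; rfl
    | succ n ih =>
      intro x hx
      rw [Function.iterate_succ_apply', Function.iterate_succ_apply', ih x hx, ec₁ _ (iterate_mem hci.1 n hx)]
  have hc₁m : ∀ y ∈ Q₁, c₁^[m] y = y := by
    intro y hy
    obtain ⟨x, hx, rfl⟩ := hψi.2 y hy
    rw [hitc m x hx, hcm x hx]
  obtain ⟨Xψ, hXψ⟩ := (hψ₀.restrict hXN).exists_img
  have hQ₁Xψ : Q₁ ≤ Xψ := by
    intro y hy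
    obtain ⟨x, hx, rfl⟩ := hψi.2 y hy
    exact hXψ.1 x (hQX hx)
  have hXψN : Xψ ≤ normalizerIn S Q₁ := by
    intro y hy
    obtain ⟨x, hx, rfl⟩ := hXψ.2 y hy
    exact hψN x (hXN hx)
  set C₁ : Subgroup Ω := centralizerIn S Q₁ with hC₁
  haveI : Finite C₁ := finite_of_le ((cent_le_norm).trans hNS₁)
  set X₁ : Subgroup Ω := Xψ ⊔ C₁ with hX₁
  have hX₁N : X₁ ≤ normalizerIn S Q₁ := sup_le hXψN cent_le_norm
  have hXψX₁ : Xψ ≤ X₁ := le_sup_left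
  have hC₁X₁ : C₁ ≤ X₁ := le_sup_right
  have hXψn : Xψ ≤ Subgroup.normalizer (C₁ : Set Ω) := fun y hy =>
    mem_normalizer_of_conj_le' (fun d hd => conj_cent' (hXψN hy) hd)
  have hψm : ∀ q ∈ Q, ψ₀ q ∈ Q₁ := hψi.1
  have hnorm₁ : ∀ y ∈ X₁, ∃ y' ∈ X₁, ∀ q ∈ Q₁, c₁ (y * q * y⁻¹) = y' * c₁ q * y'⁻¹ := by
    intro y hy
    obtain ⟨a₂, ha₂, d, hd, rfl⟩ := exists_mul_of_mem_sup' hXψn hy
    obtain ⟨x, hx, rfl⟩ := hXψ.2 a₂ ha₂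
    obtain ⟨x', hx', e⟩ := hnorm x hx
    refine ⟨ψ₀ x', hXψX₁ (hXψ.1 x' hx'), fun q hq => ?_⟩
    obtain ⟨q₀, hq₀, rfl⟩ := hψi.2 q hq
    have hxN := hXN hx
    have hx'N := hXN hx'
    have e1 : ψ₀ x * d * ψ₀ q₀ * (ψ₀ x * d)⁻¹ = ψ₀ x * ψ₀ q₀ * (ψ₀ x)⁻¹ := by
      have := (mem_cent.1 hd).2 _ (hψm q₀ hq₀)
      have h2 : d * ψ₀ q₀ * d⁻¹ = ψ₀ q₀ := by
        rw [← this]
        group
      calc ψ₀ x * d * ψ₀ q₀ * (ψ₀ x * d)⁻¹ = ψ₀ x * (d * ψ₀ q₀ * d⁻¹) * (ψ₀ x)⁻¹ := by group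
        _ = _ := by rw [h2]
    rw [e1, ← hψ₀.map_conj hxN (hQN hq₀), ec₁ _ (norm_conj hxN.2 hq₀), e q₀ hq₀, ec₁ q₀ hq₀,
      hψ₀.map_conj hx'N (hQN (hci.1 q₀ hq₀))]
  obtain ⟨ξ₁, hξ₁, hξ₁i, hξ₁Q, hξ₁T, hξ₁E, m', hm', hit⟩ :=
    GE_fn C hfn₁ hQ₁T hU₁ hc₁ hc₁i hm hc₁m (hQ₁Xψ.trans hXψX₁) hX₁N hC₁X₁ hnorm₁
  -- `X₁ ∩ T` is the image of `X ∩ T`
  have hcap : ∀ τ ∈ X₁ ⊓ T, ∃ t₀ ∈ X ⊓ T, ψ₀ t₀ = τ := by
    intro τ hτ
    have hτ1 := hτ.1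
    obtain ⟨a₂, ha₂, d, hd, e⟩ := exists_mul_of_mem_sup' hXψn hτ1
    obtain ⟨x, hx, rfl⟩ := hXψ.2 a₂ ha₂
    obtain ⟨t₀, ht₀, rfl⟩ := hsurj τ ⟨hτ.2, (hX₁N hτ1).2⟩
    have hxN := hXN hx
    have ht₀N := hNle ht₀
    have hc : x⁻¹ * t₀ ∈ centralizerIn S Q := by
      refine mem_cent.2 ⟨S.mul_mem (S.inv_mem hxN.1) ht₀N.1, fun y hy => ?_⟩
      have h1 : t₀ * y * t₀⁻¹ = x * y * x⁻¹ := by
        apply hψ₀.inj (norm_conj ht₀.2 hy |> hQN) (norm_conj hxN.2 hy |> hQN)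
        rw [hψ₀.map_conj ht₀N (hQN hy), hψ₀.map_conj hxN (hQN hy), e]
        have h3 := (mem_cent.1 hd).2 _ (hψm y hy)
        have h2 : d * ψ₀ y * d⁻¹ = ψ₀ y := by
          rw [← h3]
          group
        calc ψ₀ x * d * ψ₀ y * (ψ₀ x * d)⁻¹ = ψ₀ x * (d * ψ₀ y * d⁻¹) * (ψ₀ x)⁻¹ := by group
          _ = _ := by rw [h2]
      have h2 : t₀ * y = x * y * x⁻¹ * t₀ := by
        rw [← h1]
        group
      calc y * (x⁻¹ * t₀) = x⁻¹ * (x * y * x⁻¹ * t₀) := by group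
        _ = x⁻¹ * (t₀ * y) := by rw [← h2]
        _ = _ := by group
    have ht₀X : t₀ ∈ X := by
      have e1 : t₀ = x * (x⁻¹ * t₀) := by group
      rw [e1]
      exact X.mul_mem hx (hCX hc)
    exact ⟨t₀, ⟨ht₀X, ht₀.1⟩, rfl⟩
  have hXpres : ∀ x ∈ X, ∃ t₀ ∈ X ⊓ T, ξ₁ (ψ₀ x) = ψ₀ (x * t₀) := by
    intro x hx
    have h1 : ψ₀ x ∈ X₁ := hXψX₁ (hXψ.1 x hx)
    have h2 : (ψ₀ x)⁻¹ * ξ₁ (ψ₀ x) ∈ X₁ ⊓ T :=
      ⟨X₁.mul_mem (X₁.inv_mem h1) (hξ₁i.1 _ h1), hξ₁T _ h1⟩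
    obtain ⟨t₀, ht₀, e⟩ := hcap _ h2
    refine ⟨t₀, ht₀, ?_⟩
    rw [(hψ₀.restrict hXN).map_mul hx ht₀.1, e]
    group
  obtain ⟨k, hk, k1, k2, k3⟩ := (hψ₀.restrict hXN).inverse hXψ
  have hXT0 : X ⊓ T ≤ X := inf_le_left
  let ξ : Ω → Ω := fun x => k (ξ₁ (ψ₀ x))
  have hξm1 : ∀ x ∈ X, ξ₁ (ψ₀ x) ∈ Xψ := by
    intro x hx
    obtain ⟨t₀, ht₀, e⟩ := hXpres x hx
    rw [e]
    exact hXψ.1 _ (X.mul_mem hx ht₀.1)
  have hξF : Mp F X ξ := (((hψ₀.restrict hXN).comp (fun x hx => hXψX₁ (hXψ.1 x hx)) hξ₁)).comp hξm1 hk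
  have hξe : ∀ x ∈ X, ∃ t₀ ∈ X ⊓ T, ξ x = x * t₀ := by
    intro x hx
    obtain ⟨t₀, ht₀, e⟩ := hXpres x hx
    refine ⟨t₀, ht₀, ?_⟩
    show k (ξ₁ (ψ₀ x)) = _
    rw [e, k1 _ (X.mul_mem hx ht₀.1)]
  have hξm : ∀ x ∈ X, ξ x ∈ X := by
    intro x hx
    obtain ⟨t₀, ht₀, e⟩ := hξe x hx
    rw [e]
    exact X.mul_mem hx ht₀.1
  have hcX : ∀ x ∈ X, ψ₀ (ξ x) = ξ₁ (ψ₀ x) := fun x hx => k2 _ (hξm1 x hx)
  have hitX : ∀ n : ℕ, ∀ x ∈ X, ψ₀ (ξ^[n] x) = ξ₁^[n] (ψ₀ x) := by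
    intro n
    induction n with
    | zero => intro x _; rfl
    | succ n ih =>
      intro x hx
      rw [Function.iterate_succ_apply', Function.iterate_succ_apply', hcX _ (iterate_mem hξm n hx), ih x hx]
  have hψXT : Img (X ⊓ T) ψ₀ (X₁ ⊓ T) := by
    refine ⟨fun x hx => ⟨hXψX₁ (hXψ.1 x hx.1), C.mem_T hψ₀ (hXN hx.1) hx.2⟩, fun y hy => ?_⟩
    obtain ⟨t₀, ht₀, e⟩ := hcap y hy
    exact ⟨t₀, ht₀, e⟩
  have hW₀le : X₁ ⊓ T ≤ Xψ := by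
    intro y hy
    obtain ⟨x, hx, rfl⟩ := hψXT.2 y hy
    exact hXψ.1 x hx.1
  have hkI : Img (X₁ ⊓ T) k (X ⊓ T) := by
    refine ⟨fun y hy => ?_, fun x hx => ⟨ψ₀ x, hψXT.1 x hx, k1 x hx.1⟩⟩
    obtain ⟨x, hx, rfl⟩ := hψXT.2 y hy
    rw [k1 x hx.1]
    exact hx
  obtain ⟨f', hf', ef'⟩ := C.tr_E (Y := X₁ ⊓ T) hξ₁E
    (fun x hx => ⟨hξ₁i.1 x hx.1, C.mem_T hξ₁ hx.1 hx.2⟩) le_rfl inf_le_right (hk.restrict hW₀le) hkI
  refine ⟨ξ, hξF, img_self hξF hξm, fun q hq => ?_, fun x hx => ?_, hf'.congr (fun x hx => ?_), m', hm', fun x hx => ?_⟩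
  · show k (ξ₁ (ψ₀ q)) = c q
    rw [hξ₁Q _ (hψi.1 q hq), ec₁ q hq, k1 _ (hQX (hci.1 q hq))]
  · obtain ⟨t₀, ht₀, e⟩ := hξe x hx
    rw [e]
    have e1 : x⁻¹ * (x * t₀) = t₀ := by group
    rw [e1]
    exact ht₀.2
  · have h1 := ef' _ (hψXT.1 x hx)
    rw [k1 x hx.1] at h1
    exact h1
  · have h1 := hitX m' x hx
    rw [hit _ (hXψX₁ (hXψ.1 x hx))] at h1
    exact (hψ₀.restrict hXN).inj (iterate_mem hξm m' hx) hx h1

end main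

end Cfsg.Agent.Lib.FusionExt.ER1
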