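import Cfsg.Agent.Lib.FusionExt.ER2a

/-!
# The product `E·R`: the candidate automizers (helper92)
-/

set_option autoImplicit false
set_option linter.unusedSectionVars false
set_option maxHeartbeats 1000000

namespace Cfsg.Agent.Lib.FusionExt.ER2

open Cfsg Cfsg.FusionSystem Cfsg.Agent.Lib.Fusion.Basic Cfsg.Agent.Lib.Fusion.GroupSystem
open Cfsg.Agent.Lib.FusionExt.MapApi Cfsg.Agent.Lib.FusionExt.PowerSys Cfsg.Agent.Lib.FusionExt.LowPi
open Cfsg.Agent.Lib.FusionExt.PrimeRes1 Cfsg.Agent.Lib.Fusion.Saturation Cfsg.Agent.Lib.Fusion.Saturation2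
open Cfsg.Agent.Lib.FusionExt.Glue1 Cfsg.Agent.Lib.FusionExt.Invariant Cfsg.Agent.Lib.FusionExt.CentE
open Cfsg.Agent.Lib.FusionExt.ER0 Cfsg.Agent.Lib.FusionExt.ER1 Cfsg.Agent.Lib.FusionExt.ER2a
open Cfsg.Agent.Lib.FusionExt.Normal
open Cfsg.Agent.Lib.FusionExt.Meet3 (exists_iso eq_of_autFun autFun_congr_apply)

universe u

variable {Ω : Type u} [Group Ω] {S T : Subgroup Ω} {F : FusionSystem S} {E : FusionSystem T} {p : ℕ}
variable {X Y Z P Q R U W U' : Subgroup Ω} {f f' g h φ ψ a δ χ : Ω → Ω}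

/-- Automorphisms of `U` moving elements by `T`, in `E` on `U ∩ T`. -/
structure A1 (F : FusionSystem S) (E : FusionSystem T) (U : Subgroup Ω) (f : Ω → Ω) : Prop where
  mp : Mp F U f
  img : Img U f U
  mt : ∀ x ∈ U, x⁻¹ * f x ∈ T
  me : Mp E (U ⊓ T) f

/-- `p'`-elements of `A1`. -/
def Pa (F : FusionSystem S) (E : FusionSystem T) (p : ℕ) (U : Subgroup Ω) (f : Ω → Ω) : Prop :=
  A1 F E U f ∧ ∃ m : ℕ, m.Coprime p ∧ ∀ x ∈ U, f^[m] x = x

/-- Transports of conjugations by `T`. -/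
def Pr (F : FusionSystem S) (T U : Subgroup Ω) (f : Ω → Ω) : Prop :=
  ∃ W φ t, Mp F U φ ∧ Img U φ W ∧ t ∈ normalizerIn T W ∧ ∀ x ∈ U, φ (f x) = t * φ x * t⁻¹

/-- The group generated. -/
def Vv (F : FusionSystem S) (E : FusionSystem T) (p : ℕ) (U : Subgroup Ω) : Subgroup (MulAut U) :=
  Subgroup.closure {α | Pa F E p U (autFun α) ∨ Pr F T U (autFun α)}

theorem A1.congr (h : A1 F E U f) (e : ∀ x ∈ U, f x = g x) : A1 F E U g :=
  ⟨h.mp.congr e, h.img.congr e, fun x hx => by rw [← e x hx]; exact h.mt x hx, h.me.congr (fun x hx => e x hx.1)⟩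

theorem Pa.congr (h : Pa F E p U f) (e : ∀ x ∈ U, f x = g x) : Pa F E p U g := by
  obtain ⟨h1, m, hm, h3⟩ := h
  refine ⟨h1.congr e, m, hm, fun x hx => ?_⟩
  rw [← iterate_congr h1.img.1 e m hx]
  exact h3 x hx

theorem Pr.congr (h : Pr F T U f) (e : ∀ x ∈ U, f x = g x) : Pr F T U g := by
  obtain ⟨W, φ, t, h1, h2, ht, h3⟩ := h
  exact ⟨W, φ, t, h1, h2, ht, fun x hx => by rw [← e x hx]; exact h3 x hx⟩

/-- Extension along a receptive target, by one element of the extender. -/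
theorem ext_one {G : FusionSystem S} (hQ : G.IsReceptive Q) (hf : Mp G X f) (hi : Img X f Q) {t : Ω} (ht : t ∈ S)
    (hN : t ∈ Subgroup.normalizer (X : Set Ω)) {a : Ω} (ha : a ∈ S) (h : ∀ x ∈ X, f (t * x * t⁻¹) = a * f x * a⁻¹) :
    ∃ g, Mp G (X ⊔ Subgroup.zpowers t) g ∧ ∀ x ∈ X, g x = f x := by
  have hf' := hf
  obtain ⟨φ, hφ, e⟩ := hf
  have hr : φ.range = Q := Mp.range_eq e hi
  have hT : X ⊔ Subgroup.zpowers t ≤ extender S X φ := by
    refine sup_le (fun z hz => ?_) ((Subgroup.zpowers_le).2 ?_)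
    · have hN' : z ∈ Subgroup.normalizer (X : Set Ω) := Subgroup.le_normalizer hz
      refine mem_extender_of φ (hf'.le hz) hN' (hf'.mem_S hz) (fun x => ?_)
      rw [e, e]
      exact hf'.map_conj hz x.2
    · refine mem_extender_of φ ht hN ha (fun x => ?_)
      rw [e, e]
      exact h x x.2
  obtain ⟨ψ, hψ, hext⟩ := IsReceptive.exists_extension G hQ hφ hr hT le_sup_left
  refine ⟨extOf ψ, mp_of_hom hψ, fun x hx => ?_⟩
  rw [extOf_of_mem ψ (Subgroup.mem_sup_left hx), ← e ⟨x, hx⟩]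
  exact hext ⟨x, hx⟩

/-- `a` acts on `Y` as conjugation by `x`. -/
def IsC (Y : Subgroup Ω) (a : MulAut Y) (x : Ω) : Prop := ∀ v ∈ Y, autFun a v = x * v * x⁻¹

theorem IsC.mul {a b : MulAut Y} {x y : Ω} (ha : IsC Y a x) (hb : IsC Y b y) : IsC Y (a * b) (x * y) := by
  intro v hv
  rw [autFun_mul_apply, ha _ (autFun_mem b hv), hb v hv]
  group

theorem IsC.inv {a : MulAut Y} {x : Ω} (ha : IsC Y a x) (hx : x ∈ Subgroup.normalizer (Y : Set Ω)) : IsC Y a⁻¹ x⁻¹ := by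
  intro v hv
  have hv' : x⁻¹ * v * x ∈ Y := conj_inv_mem hx hv
  have h1 := ha _ hv'
  have e : x * (x⁻¹ * v * x) * x⁻¹ = v := by group
  rw [e] at h1
  have h2 := autFun_inv_apply a (x⁻¹ * v * x)
  rw [h1] at h2
  rw [h2]
  group

theorem IsC.pow {a : MulAut Y} {x : Ω} (ha : IsC Y a x) (k : ℕ) : IsC Y (a ^ k) (x ^ k) := by
  induction k with
  | zero =>
    intro v _
    rw [pow_zero, pow_zero, autFun_one_apply]
    group
  | succ k ih =>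
    rw [pow_succ, pow_succ]
    exact ih.mul ha

theorem IsC.norm {a : MulAut Y} {x : Ω} (ha : IsC Y a x) [Finite Y] : x ∈ Subgroup.normalizer (Y : Set Ω) :=
  mem_normalizer_of_conj_le' (fun v hv => by
    rw [← ha v hv]
    exact autFun_mem a hv)

theorem isC_normAct {x : Ω} (hx : x ∈ Subgroup.normalizer (Y : Set Ω)) : IsC Y (normAct Y hx) x := fun _ hv => normAct_fun hx hv

theorem mem_T_of_isC {K : Subgroup Ω} {a : MulAut Y} {x : Ω} (ha : IsC Y a x) [Finite Y] (hxK : x ∈ K) : a ∈ autInducedBy K Y :=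
  inT_iff.2 ⟨x, ⟨hxK, ha.norm⟩, ha⟩

section cx

variable (C : Cx F E p)
include C

theorem A1.tr (h : A1 F E U f) (hφ : Mp F U φ) (hi : Img U φ U') (hfe : ∀ x ∈ U, f' (φ x) = φ (f x)) : A1 F E U' f' := by
  obtain ⟨k, hk, k1, k2, k3⟩ := hφ.inverse hi
  have e : ∀ y ∈ U', φ (f (k y)) = f' y := by
    intro y hy
    obtain ⟨x, hx, rfl⟩ := hi.2 y hy
    rw [k1 x hx, hfe x hx]
  refine ⟨?_, ⟨fun y hy => ?_, fun y hy => ?_⟩, fun y hy => ?_, ?_⟩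
  · exact ((hk.comp k3.1 h.mp).comp (fun y hy => h.img.1 _ (k3.1 y hy)) hφ).congr e
  · rw [← e y hy]
    exact hi.1 _ (h.img.1 _ (k3.1 y hy))
  · obtain ⟨x, hx, rfl⟩ := hi.2 y hy
    obtain ⟨u, hu, rfl⟩ := h.img.2 x hx
    exact ⟨φ u, hi.1 u hu, hfe u hu⟩
  · obtain ⟨x, hx, rfl⟩ := hi.2 y hy
    rw [hfe x hx, ← hφ.map_inv hx, ← hφ.map_mul (U.inv_mem hx) (h.img.1 x hx)]
    exact C.mem_T hφ (U.mul_mem (U.inv_mem hx) (h.img.1 x hx)) (h.mt x hx)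
  · have hI := C.img_inf hφ hi
    obtain ⟨f₂, hf₂, ef₂⟩ := C.tr_E (Y := U ⊓ T) h.me
      (fun x hx => ⟨h.img.1 x hx.1, by
        have e1 : f x = x * (x⁻¹ * f x) := by group
        rw [e1]
        exact T.mul_mem hx.2 (h.mt x hx.1)⟩) le_rfl inf_le_right (hφ.restrict inf_le_left) hI
    refine hf₂.congr (fun y hy => ?_)
    obtain ⟨x, hx, rfl⟩ := hI.2 y hy
    rw [ef₂ x hx, hfe x hx.1]

theorem Pa.tr (h : Pa F E p U f) (hφ : Mp F U φ) (hi : Img U φ U') (hfe : ∀ x ∈ U, f' (φ x) = φ (f x)) : Pa F E p U' f' := by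
  obtain ⟨h1, q, hq, h3⟩ := h
  refine ⟨A1.tr C h1 hφ hi hfe, q, hq, fun y hy => ?_⟩
  obtain ⟨x, hx, rfl⟩ := hi.2 y hy
  have key : ∀ j : ℕ, f'^[j] (φ x) = φ (f^[j] x) := by
    intro j
    induction j with
    | zero => rfl
    | succ j ih =>
      rw [Function.iterate_succ_apply', Function.iterate_succ_apply', ih, hfe _ (iterate_mem h1.img.1 j hx)]
  rw [key q, h3 x hx]

omit C in
theorem Pr.tr (h : Pr F T U f) (hU : Img U f U) (hφ : Mp F U χ) (hi : Img U χ U') (hfe : ∀ x ∈ U, f' (χ x) = χ (f x)) :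
    Pr F T U' f' := by
  obtain ⟨W, φ, t, h1, h2, ht, h3⟩ := h
  obtain ⟨k, hk, hk1, hk2, hk3⟩ := hφ.inverse hi
  refine ⟨W, fun y => φ (k y), t, hk.comp hk3.1 h1, hk3.comp h2, ht, fun y hy => ?_⟩
  obtain ⟨x, hx, rfl⟩ := hi.2 y hy
  show φ (k (f' (χ x))) = t * φ (k (χ x)) * t⁻¹
  rw [hfe x hx, hk1 _ (hU.1 x hx), hk1 x hx]
  exact h3 x hx

/-- Transport of `Vv`. -/
theorem Vv_tr (hφ : Mp F U φ) (hi : Img U φ U') {α : MulAut U} (hα : α ∈ Vv F E p U) :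
    ∃ α' ∈ Vv F E p U', ∀ x ∈ U, autFun α' (φ x) = φ (autFun α x) := by
  obtain ⟨e, hee⟩ := exists_iso hφ hi
  have hce := fun β (x : Ω) (hx : x ∈ U) => autFun_congr_apply e hee β hx
  have hle : Vv F E p U ≤ (Vv F E p U').comap (MulAut.congr e).toMonoidHom := by
    refine (Subgroup.closure_le _).2 (fun β hβ => ?_)
    refine Subgroup.subset_closure ?_
    rcases hβ with hβ | hβ
    · exact Or.inl (Pa.tr C hβ hφ hi (fun x hx => hce β x hx))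
    · exact Or.inr (Pr.tr hβ (img_autFun β) hφ hi (fun x hx => hce β x hx))
  exact ⟨_, hle hα, fun x hx => hce α x hx⟩

theorem A1.one (hU : U ≤ S) : A1 F E U (fun x => x) :=
  ⟨Mp.refl hU, img_refl U, fun x _ => by simp [T.one_mem], Mp.refl inf_le_right⟩

theorem A1.comp (h : A1 F E U f) (h' : A1 F E U g) : A1 F E U (fun x => g (f x)) := by
  refine ⟨h.mp.comp h.img.1 h'.mp, h.img.comp h'.img, fun x hx => ?_, ?_⟩
  · have e : x⁻¹ * g (f x) = (x⁻¹ * f x) * ((f x)⁻¹ * g (f x)) := by group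
    rw [e]
    exact T.mul_mem (h.mt x hx) (h'.mt _ (h.img.1 x hx))
  · refine h.me.comp (Y := U ⊓ T) (fun x hx => ⟨h.img.1 x hx.1, ?_⟩) h'.me
    have e : f x = x * (x⁻¹ * f x) := by group
    rw [e]
    exact T.mul_mem hx.2 (h.mt x hx.1)

omit C in
theorem A1.mem_T (h : A1 F E U f) {x : Ω} (hx : x ∈ U) (hxT : x ∈ T) : f x ∈ T := by
  have e : f x = x * (x⁻¹ * f x) := by group
  rw [e]
  exact T.mul_mem hxT (h.mt x hx)

omit C in
theorem A1.of_mem_T (h : A1 F E U f) {x : Ω} (hx : x ∈ U) (hxT : f x ∈ T) : x ∈ T := by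
  have e : x = f x * (x⁻¹ * f x)⁻¹ := by group
  rw [e]
  exact T.mul_mem hxT (T.inv_mem (h.mt x hx))

omit C in
theorem A1.img_inf (h : A1 F E U f) : Img (U ⊓ T) f (U ⊓ T) :=
  ⟨fun x hx => ⟨h.img.1 x hx.1, h.mem_T hx.1 hx.2⟩, fun y hy => by
    obtain ⟨x, hx, rfl⟩ := h.img.2 y hy.1
    exact ⟨x, ⟨hx, h.of_mem_T hx hy.2⟩, rfl⟩⟩

theorem A1.inv (h : A1 F E U f) : ∃ k, A1 F E U k ∧ (∀ x ∈ U, k (f x) = x) ∧ ∀ x ∈ U, f (k x) = x := by
  obtain ⟨k, hk, k1, k2, k3⟩ := h.mp.inverse h.img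
  have hi := h.img_inf
  obtain ⟨k₀, hk₀, k01, k02, k03⟩ := h.me.inverse hi
  refine ⟨k, ⟨hk, k3, fun x hx => ?_, hk₀.congr (fun x hx => ?_)⟩, k1, k2⟩
  · obtain ⟨u, hu, rfl⟩ := h.img.2 x hx
    rw [k1 u hu, ← inv_mem_iff (x := (f u)⁻¹ * u)]
    simpa using h.mt u hu
  · obtain ⟨u, hu, rfl⟩ := hi.2 x hx
    rw [k01 u hu, k1 u hu.1]

/-- `A1` as a group. -/
def A1Sub (hU : U ≤ S) : Subgroup (MulAut U) where
  carrier := {α | A1 F E U (autFun α)}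
  one_mem' := (A1.one C hU).congr (fun x _ => (autFun_one_apply x).symm)
  mul_mem' := by
    intro a b ha hb
    exact (A1.comp C hb ha).congr (fun x _ => (autFun_mul_apply a b x).symm)
  inv_mem' := by
    intro a ha
    obtain ⟨k, hk, k1, k2⟩ := A1.inv C ha
    refine hk.congr (fun x hx => ?_)
    have hx' : autFun a⁻¹ x ∈ U := autFun_mem a⁻¹ hx
    have := k1 _ hx'
    rwa [autFun_apply_inv] at this

theorem Pr.A1 (h : Pr F T U f) (hI : Img U f U) : A1 F E U f := by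
  obtain ⟨W, φ, t, h1, h2, ht, h3⟩ := h
  have hWS : W ≤ S := h1.img_le h2
  obtain ⟨k, hk, k1, k2, k3⟩ := h1.inverse h2
  have htS : t ∈ S := C.hTS ht.1
  have hct : Mp F W (fun x => t * x * t⁻¹) := Mp.conj hWS htS
  have hfe : ∀ x ∈ U, f x = k (t * φ x * t⁻¹) := by
    intro x hx
    rw [← h3 x hx, k1 _ (hI.1 x hx)]
  refine ⟨((h1.comp h2.1 hct).comp (fun x hx => norm_conj ht.2 (h2.1 x hx)) hk).congr (fun x hx => (hfe x hx).symm), hI, fun x hx => ?_, ?_⟩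
  · have hmem : φ x ∈ W := h2.1 x hx
    have h4 : φ (x⁻¹ * f x) ∈ T := by
      rw [h1.map_mul (U.inv_mem hx) (hI.1 x hx), h1.map_inv hx, h3 x hx]
      have e : (φ x)⁻¹ * (t * φ x * t⁻¹) = ((φ x)⁻¹ * t * φ x) * t⁻¹ := by group
      rw [e]
      refine T.mul_mem ?_ (T.inv_mem ht.1)
      have := sc_conj_mem F C.hT (S.inv_mem (hWS hmem)) ht.1
      simpa using this
    exact C.of_mem_T h1 (U.mul_mem (U.inv_mem hx) (hI.1 x hx)) h4
  · have hI₀ := C.img_inf h1 h2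
    have hI₁ : Img (W ⊓ T) k (U ⊓ T) :=
      ⟨fun y hy => by
        obtain ⟨x, hx, rfl⟩ := hI₀.2 y hy
        rw [k1 x hx.1]
        exact hx, fun x hx => ⟨φ x, hI₀.1 x hx, k1 x hx.1⟩⟩
    have hct' : Mp E (W ⊓ T) (fun x => t * x * t⁻¹) := Mp.conj inf_le_right ht.1
    obtain ⟨f₂, hf₂, ef₂⟩ := C.tr_E (Y := W ⊓ T) hct'
      (fun x hx => ⟨norm_conj ht.2 hx.1, T.mul_mem (T.mul_mem ht.1 hx.2) (T.inv_mem ht.1)⟩) le_rfl inf_le_right
      (hk.restrict inf_le_left) hI₁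
    refine hf₂.congr (fun x hx => ?_)
    have := ef₂ _ (hI₀.1 x hx)
    rw [k1 x hx.1] at this
    rw [this, hfe x hx.1]

theorem Vv_le_A1 (hU : U ≤ S) : Vv F E p U ≤ A1Sub C hU := by
  refine (Subgroup.closure_le _).2 (fun α hα => ?_)
  rcases hα with hα | hα
  · exact hα.1
  · exact Pr.A1 C hα (img_autFun α)

theorem vv_A1 (hU : U ≤ S) {α : MulAut U} (hα : α ∈ Vv F E p U) : A1 F E U (autFun α) := Vv_le_A1 C hU hα

theorem Vv_le_aut (hU : U ≤ S) : Vv F E p U ≤ F.autGroup U := fun _ hα => mem_aut_of_mp (vv_A1 C hU hα).mp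

theorem Vv_conj (hU : U ≤ S) {β α : MulAut U} (hβ : β ∈ F.autGroup U) (hα : α ∈ Vv F E p U) : β * α * β⁻¹ ∈ Vv F E p U := by
  obtain ⟨α', hα', e⟩ := Vv_tr C (mp_autFun hU hβ) (img_autFun β) hα
  have : α' = β * α * β⁻¹ := by
    apply eq_of_autFun
    intro y hy
    obtain ⟨x, hx, rfl⟩ := (img_autFun β).2 y hy
    rw [e x hx, conj_fun]
  rwa [← this]

omit C in
theorem mem_Vv_T (hU : U ≤ S) {c : MulAut U} (hc : c ∈ autInducedBy T U) : c ∈ Vv F E p U := by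
  obtain ⟨t, ht, e⟩ := inT_iff.1 hc
  exact Subgroup.subset_closure (Or.inr ⟨U, fun x => x, t, Mp.refl hU, img_refl U, ht, e⟩)

end cx

section main

variable [Finite S] [Fact p.Prime] (C : Cx F E p)
include C

/-- An element of `Aut_F(W)` trivial on `W ∩ T`, moving elements by `W ∩ T`, is induced at a fully automized `W`. -/
theorem pi_inner (hFA : F.IsFullyAutomized p W) {a₀ : MulAut W} (ha : a₀ ∈ F.autGroup W)
    (hid : ∀ q ∈ W ⊓ T, autFun a₀ q = q) (hst : ∀ w ∈ W, w⁻¹ * autFun a₀ w ∈ W ⊓ T) : a₀ ∈ autInducedBy S W := by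
  have hWS : W ≤ S := hFA.1
  haveI : Finite W := finite_of_le hWS
  haveI : Finite (MulAut W) := Cfsg.Agent.Lib.Fusion.Basic.finite_mulAut_of_finite (A := W)
  let Yy : Subgroup (MulAut W) := LowPi.finSub
    { carrier := {y | y ∈ F.autGroup W ∧ (∀ q ∈ W ⊓ T, autFun y q = q) ∧ ∀ w ∈ W, w⁻¹ * autFun y w ∈ W ⊓ T}
      one_mem' := ⟨Subgroup.one_mem _, fun x _ => autFun_one_apply x, fun d _ => by
        rw [autFun_one_apply, inv_mul_cancel]; exact Subgroup.one_mem _⟩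
      mul_mem' := by
        rintro y₁ y₂ ⟨h1, h2, h3⟩ ⟨h4, h5, h6⟩
        refine ⟨Subgroup.mul_mem _ h1 h4, fun x hx => ?_, fun d hd => ?_⟩
        · rw [autFun_mul_apply, h5 x hx, h2 x hx]
        · have hz := h6 d hd
          have e : autFun y₂ d = d * (d⁻¹ * autFun y₂ d) := by group
          rw [autFun_mul_apply, e, autFun_mul y₁ hd hz.1, h2 _ hz, ← mul_assoc]
          exact Subgroup.mul_mem _ (h3 d hd) hz }
  have hY : ∀ {y}, y ∈ Yy ↔ y ∈ F.autGroup W ∧ (∀ q ∈ W ⊓ T, autFun y q = q) ∧ ∀ w ∈ W, w⁻¹ * autFun y w ∈ W ⊓ T := Iff.rfl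
  have h1 : Yy ≤ F.autGroup W := fun y hy => hy.1
  have hWp : IsPGroup p W := C.hS.to_le hWS
  have h2 : IsPGroup p Yy := by
    refine isPGroup_of_pow_eq_one (fun y hy => ?_)
    obtain ⟨k, hk⟩ := pow_fix_step hWp y (N := W ⊓ T) (M := W) inf_le_left
      (fun x hx => by
        have := hy.2.2 _ hx
        rwa [autFun_coe] at this)
      ⟨0, fun z hz => by
        apply Subtype.ext
        have := hy.2.1 _ hz
        rw [autFun_coe] at this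
        simpa using this⟩
    exact ⟨k, MulEquiv.ext fun x => hk x x.2⟩
  have h3 : ∀ b ∈ F.autGroup W, ∀ w ∈ Yy, b * w * b⁻¹ ∈ Yy := by
    intro b hb w hw
    have hbi := Subgroup.inv_mem _ hb
    have hm : Mp F W (autFun b) := mp_autFun hWS hb
    have hmi : Mp F W (autFun b⁻¹) := mp_autFun hWS hbi
    refine ⟨Subgroup.mul_mem _ (Subgroup.mul_mem _ hb hw.1) hbi, fun x hx => ?_, fun d hd => ?_⟩
    · have hx' : autFun b⁻¹ x ∈ W ⊓ T := ⟨autFun_mem _ hx.1, C.mem_T hmi hx.1 hx.2⟩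
      rw [autFun_mul_apply, autFun_mul_apply, hw.2.1 _ hx', autFun_apply_inv]
    · have hd₀ : autFun b⁻¹ d ∈ W := autFun_mem _ hd
      have hz := hw.2.2 _ hd₀
      have e : autFun w (autFun b⁻¹ d) = autFun b⁻¹ d * ((autFun b⁻¹ d)⁻¹ * autFun w (autFun b⁻¹ d)) := by group
      rw [autFun_mul_apply, autFun_mul_apply, e, autFun_mul b hd₀ hz.1, autFun_apply_inv, inv_mul_cancel_left]
      exact ⟨autFun_mem _ hz.1, C.mem_T hm hz.1 hz.2⟩
  exact Cfsg.Agent.Lib.FusionExt.SatCrit1.opAut_le_autInducedBy hFA (Cfsg.Agent.Lib.FusionExt.SatCrit1.le_opAut h1 h2 h3 ⟨ha, hid, hst⟩)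

/-- A conjugation by `S` that corresponds to a conjugation by `T` under a map of `F`, at a receptive subgroup. -/
theorem st_T (hrec : F.IsReceptive W) (hθ : Mp F W φ) (hi : Img W φ Y) {t n : Ω} (ht : t ∈ normalizerIn T Y)
    (hn : n ∈ normalizerIn S W) (hc : ∀ x ∈ W, φ (n * x * n⁻¹) = t * φ x * t⁻¹) :
    ∃ t' ∈ normalizerIn T W, ∀ x ∈ W, n * x * n⁻¹ = t' * x * t'⁻¹ := by
  have hWS : W ≤ S := hθ.le
  haveI : Finite W := finite_of_le hWS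
  obtain ⟨k, hk, k1, k2, k3⟩ := hθ.inverse hi
  have hke : ∀ y ∈ Y, k (t * y * t⁻¹) = n * k y * n⁻¹ := by
    intro y hy
    obtain ⟨x, hx, rfl⟩ := hi.2 y hy
    rw [← hc x hx, k1 _ (norm_conj hn.2 hx), k1 x hx]
  obtain ⟨g₁, hg₁, eg₁⟩ := ext_one hrec hk k3 (C.hTS ht.1) ht.2 hn.1 hke
  have htY : t ∈ Y ⊔ Subgroup.zpowers t := Subgroup.mem_sup_right (Subgroup.mem_zpowers t)
  have hg₁T : g₁ t ∈ T := C.mem_T hg₁ htY ht.1
  have key : ∀ x ∈ W, n * x * n⁻¹ = g₁ t * x * (g₁ t)⁻¹ := by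
    intro x hx
    have hy := hi.1 x hx
    have hyY : φ x ∈ Y ⊔ Subgroup.zpowers t := Subgroup.mem_sup_left hy
    have h1 := hg₁.map_conj htY hyY
    rw [eg₁ _ (norm_conj ht.2 hy), hke _ hy, eg₁ _ hy, k1 x hx] at h1
    exact h1
  refine ⟨g₁ t, ⟨hg₁T, mem_normalizer_of_conj_le' (fun x hx => ?_)⟩, key⟩
  rw [← key x hx]
  exact norm_conj hn.2 hx

theorem mp_Vv_restrict_T {α : MulAut U} (hU : U ≤ S) (hα : α ∈ Vv F E p U) : Mp E (U ⊓ T) (autFun α) := (vv_A1 C hU hα).me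

/-- The hypotheses on `Y` for the transfer argument. -/
structure Yy (F : FusionSystem S) (T Y : Subgroup Ω) : Prop where
  fnY : F.IsFullyNormalized Y
  fnQ : F.IsFullyNormalized (Y ⊓ T)
  cle : centralizerIn S (Y ⊓ T) ≤ Y
  uc : Uc F T (Y ⊓ T)

/-- The decomposition of elements of `N_S(Y)` inducing elements of `Vv`. -/
theorem dec_P0 (hY : Yy F T Y) {x : Ω} (hx : x ∈ normalizerIn S Y) {a₀ : MulAut Y} (ha : a₀ ∈ Vv F E p Y)
    (hae : ∀ v ∈ Y, autFun a₀ v = x * v * x⁻¹) :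
    ∃ t ∈ normalizerIn T Y, ∃ c ∈ centralizerIn S (Y ⊓ T), x = t * c := by
  have hYS : Y ≤ S := hY.fnY.1
  have hQ0 : Y ⊓ T ≤ Y := inf_le_left
  have hfnE := C.fn_E hY.fnQ inf_le_right
  have hxQ : x ∈ normalizerIn S (Y ⊓ T) := by
    refine ⟨hx.1, ?_⟩
    haveI : Finite ↥(Y ⊓ T) := finite_of_le (hQ0.trans hYS)
    exact mem_normalizer_of_conj_le' (fun v hv => ⟨norm_conj hx.2 hv.1, sc_conj_mem F C.hT hx.1 hv.2⟩)
  have h1 : Mp E (Y ⊓ T) (fun q => x * q * x⁻¹) :=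
    (mp_Vv_restrict_T C hYS ha).congr (fun q hq => hae q hq.1)
  obtain ⟨t, ht, et⟩ := C.es_cap hfnE hxQ h1
  have hc : t⁻¹ * x ∈ centralizerIn S (Y ⊓ T) := by
    refine mem_cent.2 ⟨S.mul_mem (S.inv_mem (C.hTS ht.1)) hx.1, fun y hy => ?_⟩
    have h3 := et y hy
    have h4 : x * y = t * y * t⁻¹ * x := by
      rw [← h3]
      group
    calc y * (t⁻¹ * x) = t⁻¹ * (t * y * t⁻¹ * x) := by group
      _ = t⁻¹ * (x * y) := by rw [← h4]
      _ = _ := by group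
  have hcY := hY.cle hc
  have htN : t ∈ normalizerIn T Y := by
    refine ⟨ht.1, ?_⟩
    have e : t = x * (t⁻¹ * x)⁻¹ := by group
    rw [e]
    exact Subgroup.mul_mem _ hx.2 (Subgroup.inv_mem _ (Subgroup.le_normalizer hcY))
  exact ⟨t, htN, t⁻¹ * x, hc, by group⟩

/-- Automorphisms in `A1` move centralizer elements by the centre. -/
theorem a1_cent {Y : Subgroup Ω} (h : A1 F E Y f) {c : Ω} (hc : c ∈ centralizerIn S (Y ⊓ T)) (hcY : c ∈ Y) (hU : zz T (Y ⊓ T) ≤ Y ⊓ T) :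
    c⁻¹ * f c ∈ zz T (Y ⊓ T) := by
  have hI := h.img_inf
  refine mem_zz.2 ⟨h.mt c hcY, fun y hy => ?_⟩
  have hfc : f c ∈ centralizerIn S (Y ⊓ T) := by
    refine mem_cent.2 ⟨h.mp.mem_S hcY, fun z hz => ?_⟩
    obtain ⟨q, hq, rfl⟩ := hI.2 z hz
    rw [← h.mp.map_mul hq.1 hcY, ← h.mp.map_mul hcY hq.1, (mem_cent.1 hc).2 q hq]
  have h1 := (mem_cent.1 hc).2 y hy
  have h2 := (mem_cent.1 hfc).2 y hy
  calc y * (c⁻¹ * f c) = c⁻¹ * (c * y) * c⁻¹ * f c := by group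
    _ = c⁻¹ * (y * c) * c⁻¹ * f c := by rw [h1]
    _ = c⁻¹ * (y * f c) := by group
    _ = c⁻¹ * (f c * y) := by rw [h2]
    _ = _ := by group

/-- **The transfer argument.** -/
theorem pi_transfer (hY : Yy F T Y) {c : Ω} (hc : c ∈ centralizerIn S (Y ⊓ T)) {d : MulAut Y} (hd : d ∈ Vv F E p Y)
    (hde : ∀ v ∈ Y, autFun d v = c * v * c⁻¹) : ∃ z ∈ zz T (Y ⊓ T), ∀ v ∈ Y, autFun d v = z * v * z⁻¹ := by
  have hYS : Y ≤ S := hY.fnY.1
  haveI : Finite Y := finite_of_le hYS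
  haveI : Finite (MulAut Y) := Cfsg.Agent.Lib.Fusion.Basic.finite_mulAut_of_finite (A := Y)
  have hTS := C.hTS
  have hcz : zz T (Y ⊓ T) ≤ Y ⊓ T := hY.uc.self hTS
  have hFA : F.IsFullyAutomized p Y := isFullyAutomized_of_isFullyNormalized F C.hS C.hF hY.fnY
  have hrec : F.IsReceptive Y := isReceptive_of_isFullyNormalized (F := F) C.hS C.hF hY.fnY
  have hVle := Vv_le_aut C (p := p) hYS
  have hS₀ : autInducedBy S Y ≤ F.autGroup Y := autInducedBy_le_autGroup F hYS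
  have hsy0 : IsSylowIn p (autInducedBy S Y ⊓ Vv F E p Y) (Vv F E p Y) :=
    IsSylowIn.inf_normal hFA.2 hS₀ hVle (fun b hb x hx => Vv_conj C hYS hb hx)
  let 𝔾 : Subgroup (MulAut Y) := Vv F E p Y
  let H : Subgroup 𝔾 := (autInducedBy S Y ⊓ 𝔾).subgroupOf 𝔾
  let K : Subgroup 𝔾 := (autInducedBy T Y).subgroupOf 𝔾
  have hT𝔾 : autInducedBy T Y ≤ 𝔾 := fun _ h => mem_Vv_T hYS h
  have hKH : K ≤ H := fun a ha => ⟨autInducedBy_mono Y hTS ha, a.2⟩
  obtain ⟨R₀, hR₀⟩ := hsy0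
  have hHp : IsPGroup p H := by
    have : IsPGroup p (R₀ : Subgroup 𝔾) := R₀.isPGroup'
    rw [hR₀] at this
    exact this
  have hidx : H.index.Coprime p := by
    have h1 := R₀.not_dvd_index
    rw [hR₀] at h1
    exact ((Nat.Prime.coprime_iff_not_dvd (Fact.out : p.Prime)).2 h1).symm
  have hP₀ : ∀ a ∈ autInducedBy S Y, ∃ x ∈ normalizerIn S Y, IsC Y a x := fun a ha => inT_iff.1 ha
  have hKn : ∀ h' ∈ H, ∀ k ∈ K, h' * k * h'⁻¹ ∈ K := by
    intro h' hh' k hk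
    obtain ⟨x, hx, ex⟩ := hP₀ _ hh'.1
    obtain ⟨t, ht, et⟩ := inT_iff.1 hk
    have hz : IsC Y ((h' : MulAut Y) * (k : MulAut Y) * (h' : MulAut Y)⁻¹) (x * t * x⁻¹) :=
      (ex.mul et).mul (ex.inv hx.2)
    exact mem_T_of_isC hz (sc_conj_mem F C.hT hx.1 ht.1)
  have hcomm : ∀ a ∈ H, ∀ b ∈ H, a * b * a⁻¹ * b⁻¹ ∈ K := by
    intro a ha b hb
    obtain ⟨x, hx, ex⟩ := hP₀ _ ha.1
    obtain ⟨x', hx', ex'⟩ := hP₀ _ hb.1
    obtain ⟨t', ht', c', hc', e'⟩ := dec_P0 C hY hx' b.2 ex'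
    have hz : IsC Y ((a : MulAut Y) * (b : MulAut Y) * (a : MulAut Y)⁻¹ * (b : MulAut Y)⁻¹) (x * x' * x⁻¹ * x'⁻¹) :=
      ((ex.mul ex').mul (ex.inv hx.2)).mul (ex'.inv hx'.2)
    refine mem_T_of_isC hz ?_
    have hA := vv_A1 C hYS a.2
    have hc'Y := hY.cle hc'
    have h1 : c'⁻¹ * (x * c' * x⁻¹) ∈ T := by
      have := hA.mt c' hc'Y
      rwa [show autFun (a : MulAut Y) c' = _ from ex c' hc'Y] at this
    have hc'S : c' ∈ S := (mem_cent.1 hc').1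
    have h2 : (x * c' * x⁻¹) * c'⁻¹ ∈ T := by
      have := sc_conj_mem F C.hT hc'S h1
      have e : c' * (c'⁻¹ * (x * c' * x⁻¹)) * c'⁻¹ = (x * c' * x⁻¹) * c'⁻¹ := by group
      rwa [e] at this
    have e1 : x * x' * x⁻¹ * x'⁻¹ = (x * t' * x⁻¹) * ((x * c' * x⁻¹) * c'⁻¹) * t'⁻¹ := by
      rw [e']
      group
    rw [e1]
    exact T.mul_mem (T.mul_mem (sc_conj_mem F C.hT hx.1 ht'.1) h2) (T.inv_mem ht'.1)
  have hXgen : Subgroup.closure (((↑) : 𝔾 → MulAut Y) ⁻¹' {α | Pa F E p Y (autFun α) ∨ Pr F T Y (autFun α)}) = ⊤ :=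
    Subgroup.closure_closure_coe_preimage
  have hX : ∀ x ∈ ((↑) : 𝔾 → MulAut Y) ⁻¹' {α | Pa F E p Y (autFun α) ∨ Pr F T Y (autFun α)},
      (∃ m : ℕ, m.Coprime p ∧ x ^ m = 1) ∨ ∀ (k : ℕ) (g₀ : 𝔾), g₀⁻¹ * x ^ k * g₀ ∈ H → g₀⁻¹ * x ^ k * g₀ ∈ K := by
    intro x hx
    rcases hx with ⟨-, m, hm, h3⟩ | ⟨W₁, φ₁, t, h1, h2, ht, h3⟩
    · left
      refine ⟨m, hm, Subtype.ext ?_⟩
      apply Cfsg.Agent.Lib.FusionExt.Glue2.eq_one_of_fun
      intro v hv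
      have h4 := iterate_autFun (a := (x : MulAut Y)) m (⟨v, hv⟩ : Y)
      rw [← autFun_coe] at h4
      push_cast
      rw [← h4]
      exact h3 v hv
    · right
      intro k g₀ hmem
      obtain ⟨n, hn, en⟩ := hP₀ _ hmem.1
      have hg₀A : Mp F Y (autFun (g₀ : MulAut Y)) := (vv_A1 C hYS g₀.2).mp
      have hθ : Mp F Y (fun v => φ₁ (autFun (g₀ : MulAut Y) v)) := hg₀A.comp (img_autFun _).1 h1
      have hθi : Img Y (fun v => φ₁ (autFun (g₀ : MulAut Y) v)) W₁ := (img_autFun _).comp h2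
      have hprp : ∀ j : ℕ, ∀ u ∈ Y, φ₁ (autFun ((x : MulAut Y) ^ j) u) = t ^ j * φ₁ u * (t ^ j)⁻¹ := by
        intro j
        induction j with
        | zero => intro u _; rw [pow_zero, autFun_one_apply]; group
        | succ j ih =>
          intro u hu
          rw [pow_succ, autFun_mul_apply, ih _ (autFun_mem _ hu), h3 u hu, pow_succ]
          group
      have hc : ∀ v ∈ Y, φ₁ (autFun (g₀ : MulAut Y) (n * v * n⁻¹)) = t ^ k * φ₁ (autFun (g₀ : MulAut Y) v) * (t ^ k)⁻¹ := by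
        intro v hv
        rw [← hprp k _ (autFun_mem _ hv), ← en v hv]
        congr 1
        show autFun (g₀ : MulAut Y) (autFun ((g₀ : MulAut Y)⁻¹ * (x : MulAut Y) ^ k * (g₀ : MulAut Y)) v) = _
        rw [autFun_mul_apply, autFun_mul_apply, autFun_apply_inv]
      obtain ⟨t', ht', et'⟩ := st_T C hrec hθ hθi ((normalizerIn T W₁).pow_mem ht k) hn hc
      refine mem_T_of_isC (x := t') (fun v hv => ?_) ht'.1
      rw [en v hv]
      exact et' v hv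
  have hcY : c ∈ Y := hY.cle hc
  have hd₁H : (⟨d, hd⟩ : 𝔾) ∈ H := ⟨mem_T_of_isC (K := S) hde (mem_cent.1 hc).1, hd⟩
  have hdk : ∀ (k : ℕ) (g₀ : 𝔾), g₀⁻¹ * (⟨d, hd⟩ : 𝔾) ^ k * g₀ ∈ H →
      ((⟨d, hd⟩ : 𝔾) ^ k)⁻¹ * (g₀⁻¹ * (⟨d, hd⟩ : 𝔾) ^ k * g₀) ∈ K := by
    intro k g₀ _
    have hdkC : IsC Y (d ^ k) (c ^ k) := IsC.pow hde k
    have hckN : c ^ k ∈ Subgroup.normalizer (Y : Set Ω) := hdkC.norm
    have hckc : c ^ k ∈ centralizerIn S (Y ⊓ T) := Subgroup.pow_mem _ hc k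
    have hckY : c ^ k ∈ Y := hY.cle hckc
    have hg₁ := vv_A1 C hYS (Subgroup.inv_mem _ g₀.2)
    have hτ := a1_cent C hg₁ hckc hckY hcz
    set g₁ : MulAut Y := (g₀ : MulAut Y)⁻¹ with hg₁'
    have hform : IsC Y (g₁ * d ^ k * (g₀ : MulAut Y)) (autFun g₁ (c ^ k)) := by
      intro v hv
      rw [autFun_mul_apply, autFun_mul_apply, hdkC _ (autFun_mem _ hv)]
      have h1 := hg₁.mp.map_conj hckY (autFun_mem (g₀ : MulAut Y) hv)
      rw [h1, hg₁', autFun_inv_apply]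
    have hz : IsC Y ((d ^ k)⁻¹ * (g₁ * d ^ k * (g₀ : MulAut Y))) ((c ^ k)⁻¹ * autFun g₁ (c ^ k)) :=
      (hdkC.inv hckN).mul hform
    exact mem_T_of_isC hz (mem_zz.1 hτ).1
  have hmem := gaschutz_step H K hKH hHp hidx hKn hcomm _ hXgen hX hd₁H hdk
  obtain ⟨t, ht, et⟩ := inT_iff.1 hmem
  refine ⟨t, mem_zz.2 ⟨ht.1, fun y hy => ?_⟩, et⟩
  have h1 := et y hy.1
  show y * t = t * y
  have h2 : autFun d y = y := by
    rw [hde y hy.1]
    have := (mem_cent.1 hc).2 y hy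
    rw [← this]
    group
  have h3 : y = t * y * t⁻¹ := h2.symm.trans h1
  calc y * t = t * y * t⁻¹ * t := by rw [← h3]
    _ = t * y := by group

/-- **The `Π`-lemma at `Y`.** -/
theorem pi_Y (hY : Yy F T Y) {α : MulAut Y} (hα : α ∈ Vv F E p Y) (hid : ∀ q ∈ Y ⊓ T, autFun α q = q) :
    ∃ z ∈ zz T (Y ⊓ T), IsC Y α z := by
  have hYS : Y ≤ S := hY.fnY.1
  have hFA : F.IsFullyAutomized p Y := isFullyAutomized_of_isFullyNormalized F C.hS C.hF hY.fnY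
  have hA := vv_A1 C hYS hα
  have hst : ∀ w ∈ Y, w⁻¹ * autFun α w ∈ Y ⊓ T := fun w hw =>
    ⟨Y.mul_mem (Y.inv_mem hw) (autFun_mem _ hw), hA.mt w hw⟩
  obtain ⟨x, hx, ex⟩ := inT_iff.1 (pi_inner C hFA (Vv_le_aut C hYS hα) hid hst)
  have hxc : x ∈ centralizerIn S (Y ⊓ T) := by
    refine mem_cent.2 ⟨hx.1, fun y hy => ?_⟩
    have h1 := ex y hy.1
    rw [hid y hy] at h1
    calc y * x = x * y * x⁻¹ * x := by rw [← h1]
      _ = x * y := by group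
  exact pi_transfer C hY hxc hα ex

/-- **The Sylow subgroups of `Vv` at `Y`.** -/
theorem syl_Y (hY : Yy F T Y) : IsSylowIn p (autInducedBy T Y) (Vv F E p Y) := by
  have hYS : Y ≤ S := hY.fnY.1
  haveI : Finite Y := finite_of_le hYS
  have hFA : F.IsFullyAutomized p Y := isFullyAutomized_of_isFullyNormalized F C.hS C.hF hY.fnY
  have hS₀ : autInducedBy S Y ≤ F.autGroup Y := autInducedBy_le_autGroup F hYS
  have hsy0 : IsSylowIn p (autInducedBy S Y ⊓ Vv F E p Y) (Vv F E p Y) :=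
    IsSylowIn.inf_normal hFA.2 hS₀ (Vv_le_aut C hYS) (fun b hb x hx => Vv_conj C hYS hb hx)
  have e : autInducedBy S Y ⊓ Vv F E p Y = autInducedBy T Y := by
    refine le_antisymm (fun a ha => ?_) (le_inf (autInducedBy_mono Y C.hTS) (fun _ h => mem_Vv_T hYS h))
    obtain ⟨x, hx, ex⟩ := inT_iff.1 ha.1
    obtain ⟨t, ht, c, hc, e⟩ := dec_P0 C hY hx ha.2 ex
    have htC := isC_normAct ht.2
    have hd : (normAct Y ht.2)⁻¹ * a ∈ Vv F E p Y :=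
      Subgroup.mul_mem _ (Subgroup.inv_mem _ (mem_Vv_T hYS (mem_T_of_isC htC ht.1))) ha.2
    have hde : IsC Y ((normAct Y ht.2)⁻¹ * a) c := by
      have h1 := (htC.inv ht.2).mul ex
      have e2 : t⁻¹ * x = c := by rw [e]; group
      rwa [e2] at h1
    obtain ⟨z, hz, ez⟩ := pi_transfer C hY hc hd hde
    have h2 : IsC Y a (t * z) := by
      have h3 := htC.mul ez
      have e3 : normAct Y ht.2 * ((normAct Y ht.2)⁻¹ * a) = a := by group
      rwa [e3] at h3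
    exact mem_T_of_isC h2 (T.mul_mem ht.1 hz.1)
  rwa [e] at hsy0

end main

end Cfsg.Agent.Lib.FusionExt.ER2
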