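import Cfsg.Agent.Lib.FusionExt.Meet2

/-!
# Meets of normal subsystems: the candidate automizers (helper92)
-/

set_option autoImplicit false
set_option linter.unusedSectionVars false

namespace Cfsg.Agent.Lib.FusionExt.Meet3

open Cfsg Cfsg.FusionSystem Cfsg.Agent.Lib.Fusion.Basic Cfsg.Agent.Lib.Fusion.GroupSystem
open Cfsg.Agent.Lib.FusionExt.MapApi Cfsg.Agent.Lib.FusionExt.PowerSys Cfsg.Agent.Lib.FusionExt.LowPi
open Cfsg.Agent.Lib.FusionExt.PrimeRes1 Cfsg.Agent.Lib.Fusion.Saturation Cfsg.Agent.Lib.Fusion.Saturation2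
open Cfsg.Agent.Lib.FusionExt.Basic Cfsg.Agent.Lib.FusionExt.Normal Cfsg.Agent.Lib.FusionExt.PowerGen
open Cfsg.Agent.Lib.Fusion.KSystem Cfsg.Agent.Lib.FusionExt.Invariant
open Cfsg.Agent.Lib.FusionExt.PowerE Cfsg.Agent.Lib.FusionExt.Meet1 Cfsg.Agent.Lib.FusionExt.Meet2
open Cfsg.Agent.Lib.FusionExt.Glue1

universe u

variable {Ω : Type u} [Group Ω] {S T T₁ T₂ : Subgroup Ω} {F : FusionSystem S} {E₁ : FusionSystem T₁} {E₂ : FusionSystem T₂} {p : ℕ}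
variable {W W' X Y U U' P Q : Subgroup Ω} {f f' g h k κ φ ψ χ : Ω → Ω}

/-- The data of two normal subsystems. -/
structure Ctx (F : FusionSystem S) (E₁ : FusionSystem T₁) (E₂ : FusionSystem T₂) (T : Subgroup Ω) (p : ℕ) : Prop where
  L₀ : Lvl F F T p
  L₁ : Lvl F E₁ T p
  L₂ : Lvl F E₂ T p
  hinf : ∀ x, x ∈ T₁ → x ∈ T₂ → x ∈ T

/-- Automorphisms of `W` with the stable extension property at all three levels. -/
def Gd (F : FusionSystem S) (E₁ : FusionSystem T₁) (E₂ : FusionSystem T₂) (T W : Subgroup Ω) (f : Ω → Ω) : Prop :=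
  Img W f W ∧ PiA F T W f ∧ PiA E₁ T W f ∧ PiA E₂ T W f

/-- Automorphisms of `U` whose transports to fully centralized conjugates have the stable extension property. -/
def Gm (F : FusionSystem S) (E₁ : FusionSystem T₁) (E₂ : FusionSystem T₂) (T U : Subgroup Ω) (f : Ω → Ω) : Prop :=
  Mp F U f ∧ Img U f U ∧ ∀ W φ, F.IsFullyCentralized W → Mp F U φ → Img U φ W →
    ∃ f', Gd F E₁ E₂ T W f' ∧ ∀ x ∈ U, f' (φ x) = φ (f x)

/-- Those of order prime to `p`. -/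
def Gp (F : FusionSystem S) (E₁ : FusionSystem T₁) (E₂ : FusionSystem T₂) (T : Subgroup Ω) (p : ℕ) (U : Subgroup Ω) (f : Ω → Ω) : Prop :=
  Gm F E₁ E₂ T U f ∧ ∃ q : ℕ, q.Coprime p ∧ ∀ x ∈ U, f^[q] x = x

/-- Transports of `Aut_T(W)` for `W` fully normalized. -/
def Pt (F : FusionSystem S) (T U : Subgroup Ω) (f : Ω → Ω) : Prop :=
  ∃ W φ t, F.IsFullyNormalized W ∧ Mp F U φ ∧ Img U φ W ∧ t ∈ normalizerIn T W ∧ ∀ x ∈ U, φ (f x) = t * φ x * t⁻¹

/-- The candidate automizer. -/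
def AA (F : FusionSystem S) (E₁ : FusionSystem T₁) (E₂ : FusionSystem T₂) (T : Subgroup Ω) (p : ℕ) (U : Subgroup Ω) : Subgroup (MulAut U) :=
  Subgroup.closure {α | Gp F E₁ E₂ T p U (autFun α) ∨ Pt F T U (autFun α)}

/-- The family. -/
def Aa (F : FusionSystem S) (E₁ : FusionSystem T₁) (E₂ : FusionSystem T₂) (T : Subgroup Ω) (p : ℕ) (U : Subgroup Ω) (f : Ω → Ω) : Prop :=
  Uc F T U ∧ ∃ α ∈ AA F E₁ E₂ T p U, ∀ x ∈ U, autFun α x = f x

theorem Gd.congr (h : Gd F E₁ E₂ T W f) (e : ∀ x ∈ W, f x = g x) : Gd F E₁ E₂ T W g :=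
  ⟨h.1.congr e, h.2.1.congr e, h.2.2.1.congr e, h.2.2.2.congr e⟩

theorem pi_mp {R : Subgroup Ω} {G : FusionSystem R} (h : PiA G T W f) : Mp G W f := by
  obtain ⟨g, hg, he, -⟩ := h
  exact (hg.restrict le_sup_left).congr he

theorem Gd.mp (h : Gd F E₁ E₂ T W f) : Mp F W f := pi_mp h.2.1

theorem Gm.congr (h : Gm F E₁ E₂ T U f) (e : ∀ x ∈ U, f x = g x) : Gm F E₁ E₂ T U g := by
  obtain ⟨h1, h2, h3⟩ := h
  refine ⟨h1.congr e, h2.congr e, fun W φ hW hφ hi => ?_⟩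
  obtain ⟨f', hf', e'⟩ := h3 W φ hW hφ hi
  exact ⟨f', hf', fun x hx => by rw [e' x hx, e x hx]⟩

section ctx

variable [Finite S] [Fact p.Prime]

variable (C : Ctx F E₁ E₂ T p)
include C

theorem Ctx.hS : IsPGroup p S := C.L₀.hS

theorem Ctx.hF : F.IsSaturated p := C.L₀.hF

theorem Ctx.scT : F.StronglyClosed T := C.L₀.scT

theorem Ctx.TS : T ≤ S := C.L₀.scT.1

theorem gd_comp (hWT : W ≤ T) (hcz : zz T W ≤ W) (h1 : Gd F E₁ E₂ T W f) (h2 : Gd F E₁ E₂ T W g) :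
    Gd F E₁ E₂ T W (fun x => f (g x)) :=
  ⟨h2.1.comp h1.1, pi_comp hWT hcz h1.2.1 h2.2.1 h1.1 h2.1, pi_comp hWT hcz h1.2.2.1 h2.2.2.1 h1.1 h2.1,
    pi_comp hWT hcz h1.2.2.2 h2.2.2.2 h1.1 h2.1⟩

/-- Transport between fully centralized subgroups. -/
theorem gd_tr (hWfc : F.IsFullyCentralized W) (hW'fc : F.IsFullyCentralized W') (hWT : W ≤ T) (hcz : zz T W ≤ W)
    (hκ : Mp F W κ) (hi : Img W κ W') (h : Gd F E₁ E₂ T W f) (hfe : ∀ x ∈ W, f' (κ x) = κ (f x)) :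
    Gd F E₁ E₂ T W' f' := by
  have hfW := h.1.1
  refine ⟨⟨fun y hy => ?_, fun y hy => ?_⟩, st_tr C.L₀ hWfc hW'fc hWT hcz hκ hi h.2.1 hfW hfe,
    st_tr C.L₁ hWfc hW'fc hWT hcz hκ hi h.2.2.1 hfW hfe, st_tr C.L₂ hWfc hW'fc hWT hcz hκ hi h.2.2.2 hfW hfe⟩
  · obtain ⟨x, hx, rfl⟩ := hi.2 y hy
    rw [hfe x hx]
    exact hi.1 _ (hfW x hx)
  · obtain ⟨x, hx, rfl⟩ := hi.2 y hy
    obtain ⟨u, hu, rfl⟩ := h.1.2 x hx
    exact ⟨κ u, hi.1 u hu, hfe u hu⟩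

theorem gd_inner (hWT : W ≤ T) {t : Ω} (ht : t ∈ normalizerIn T W) : Gd F E₁ E₂ T W (fun x => t * x * t⁻¹) := by
  haveI : Finite T₁ := finite_of_le C.L₁.le
  haveI : Finite T₂ := finite_of_le C.L₂.le
  refine ⟨⟨fun x hx => norm_conj ht.2 hx, fun y hy => ⟨t⁻¹ * y * t, conj_inv_mem ht.2 hy, by group⟩⟩,
    pi_conj C.L₀.scT' (hWT.trans C.L₀.hTR) ht, pi_conj C.L₁.scT' (hWT.trans C.L₁.hTR) ht, pi_conj C.L₂.scT' (hWT.trans C.L₂.hTR) ht⟩

/-- `Gd` on a fully centralized subgroup gives `Gm`. -/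
theorem gm_of_gd (hUfc : F.IsFullyCentralized U) (hUT : U ≤ T) (hcz : zz T U ≤ U) (h : Gd F E₁ E₂ T U f) : Gm F E₁ E₂ T U f := by
  refine ⟨h.mp, h.1, fun W φ hW hφ hi => ?_⟩
  obtain ⟨k, hk, hk1, hk2, hk3⟩ := hφ.inverse hi
  refine ⟨fun y => φ (f (k y)), gd_tr C hUfc hW hUT hcz hφ hi h (fun x hx => ?_), fun x hx => ?_⟩ <;>
  · show φ (f (k (φ x))) = φ (f x)
    rw [hk1 x hx]

omit C in
theorem gd_of_gm (hUfc : F.IsFullyCentralized U) (h : Gm F E₁ E₂ T U f) : Gd F E₁ E₂ T U f := by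
  obtain ⟨f', hf', e⟩ := h.2.2 U (fun x => x) hUfc (Mp.refl hUfc.1) (img_refl U)
  exact hf'.congr (fun x hx => by
    have := e x hx
    exact this)

omit C in
/-- Transport of `Gm`. -/
theorem gm_tr (h : Gm F E₁ E₂ T U f) (hφ : Mp F U φ) (hi : Img U φ U') (hfe : ∀ x ∈ U, f' (φ x) = φ (f x)) :
    Gm F E₁ E₂ T U' f' := by
  obtain ⟨h1, h2, h3⟩ := h
  obtain ⟨k, hk, hk1, hk2, hk3⟩ := hφ.inverse hi
  have hf'e : ∀ y ∈ U', φ (f (k y)) = f' y := by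
    intro y hy
    obtain ⟨x, hx, rfl⟩ := hi.2 y hy
    rw [hk1 x hx, hfe x hx]
  refine ⟨?_, ⟨fun y hy => ?_, fun y hy => ?_⟩, fun W ψ hW hψ hi' => ?_⟩
  · exact ((hk.comp hk3.1 h1).comp (fun y hy => h2.1 _ (hk3.1 y hy)) hφ).congr hf'e
  · rw [← hf'e y hy]
    exact hi.1 _ (h2.1 _ (hk3.1 y hy))
  · obtain ⟨x, hx, rfl⟩ := hi.2 y hy
    obtain ⟨u, hu, rfl⟩ := h2.2 x hx
    exact ⟨φ u, hi.1 u hu, hfe u hu⟩
  · obtain ⟨f'', hf'', e⟩ := h3 W (fun x => ψ (φ x)) hW (hφ.comp hi.1 hψ) (hi.comp hi')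
    refine ⟨f'', hf'', fun y hy => ?_⟩
    obtain ⟨x, hx, rfl⟩ := hi.2 y hy
    rw [e x hx, hfe x hx]

omit C in
theorem gp_tr (h : Gp F E₁ E₂ T p U f) (hφ : Mp F U φ) (hi : Img U φ U') (hfe : ∀ x ∈ U, f' (φ x) = φ (f x)) :
    Gp F E₁ E₂ T p U' f' := by
  obtain ⟨h1, q, hq, h2⟩ := h
  refine ⟨gm_tr h1 hφ hi hfe, q, hq, fun y hy => ?_⟩
  obtain ⟨x, hx, rfl⟩ := hi.2 y hy
  have key : ∀ j : ℕ, f'^[j] (φ x) = φ (f^[j] x) := by
    intro j
    induction j with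
    | zero => rfl
    | succ j ih =>
      rw [Function.iterate_succ_apply', Function.iterate_succ_apply', ih,
        hfe _ (iterate_mem h1.2.1.1 j hx)]
  rw [key q, h2 x hx]

omit C in
/-- Transport of `Pt`. -/
theorem pt_tr (h : Pt F T U f) (hU : Img U f U) (hφ : Mp F U χ) (hi : Img U χ U') (hfe : ∀ x ∈ U, f' (χ x) = χ (f x)) :
    Pt F T U' f' := by
  obtain ⟨W, φ, t, hW, h1, h2, ht, h3⟩ := h
  obtain ⟨k, hk, hk1, hk2, hk3⟩ := hφ.inverse hi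
  refine ⟨W, fun y => φ (k y), t, hW, hk.comp hk3.1 h1, hk3.comp h2, ht, fun y hy => ?_⟩
  obtain ⟨x, hx, rfl⟩ := hi.2 y hy
  show φ (k (f' (χ x))) = t * φ (k (χ x)) * t⁻¹
  rw [hfe x hx, hk1 _ (hU.1 x hx), hk1 x hx]
  exact h3 x hx

/-- `Pt` gives `Gm`. -/
theorem gm_of_pt (h : Pt F T U f) (hU : Img U f U) (hUT : U ≤ T) (hc : zz T U ≤ U) (huc : Uc F T U) : Gm F E₁ E₂ T U f := by
  obtain ⟨W, φ, t, hW, h1, h2, ht, h3⟩ := h
  have hWfc : F.IsFullyCentralized W :=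
    isFullyCentralized_of_isFullyNormalized F C.hS C.hF hW
  have hWT : W ≤ T := by
    intro y hy
    obtain ⟨x, hx, rfl⟩ := h2.2 y hy
    exact sc_mp C.scT h1 hUT hx
  have hcW : zz T W ≤ W := (huc.conj C.scT h1 h2).self C.TS
  have hG : Gm F E₁ E₂ T W (fun x => t * x * t⁻¹) := gm_of_gd C hWfc hWT hcW (gd_inner C hWT ht)
  obtain ⟨k, hk, hk1, hk2, hk3⟩ := h1.inverse h2
  exact gm_tr hG hk hk3 (fun y hy => by
    obtain ⟨x, hx, rfl⟩ := h2.2 y hy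
    rw [hk1 x hx, ← h3 x hx, hk1 _ (hU.1 x hx)])

/-- `AA` consists of maps in `Gm`. -/
theorem gm_of_AA (huc : Uc F T U) {α : MulAut U} (hα : α ∈ AA F E₁ E₂ T p U) : Gm F E₁ E₂ T U (autFun α) := by
  have hUT := huc.1
  have hUS := hUT.trans C.TS
  have hc := huc.self C.TS
  induction hα using Subgroup.closure_induction with
  | mem x hx =>
    rcases hx with hx | hx
    · exact hx.1
    · exact gm_of_pt C hx (img_autFun x) hUT hc huc
  | one =>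
    refine ⟨(Mp.refl hUS).congr (fun x _ => (autFun_one_apply x).symm),
      (img_refl U).congr (fun x _ => (autFun_one_apply x).symm), fun W φ hW hφ hi => ?_⟩
    obtain ⟨k, hk, hk1, hk2, hk3⟩ := hφ.inverse hi
    have hWT : W ≤ T := (huc.conj C.scT hφ hi).1
    refine ⟨fun x => x, (gd_inner C hWT (t := 1) (Subgroup.one_mem _)).congr (fun x _ => by simp), fun x _ => ?_⟩
    rw [autFun_one_apply]
  | mul a b _ _ iha ihb =>
    refine ⟨(ihb.1.comp (img_autFun b).1 iha.1).congr (fun x _ => (autFun_mul_apply a b x).symm),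
      (ihb.2.1.comp iha.2.1).congr (fun x _ => (autFun_mul_apply a b x).symm), fun W φ hW hφ hi => ?_⟩
    obtain ⟨fa, hfa, ea⟩ := iha.2.2 W φ hW hφ hi
    obtain ⟨fb, hfb, eb⟩ := ihb.2.2 W φ hW hφ hi
    have hWT : W ≤ T := (huc.conj C.scT hφ hi).1
    have hcW : zz T W ≤ W := (huc.conj C.scT hφ hi).self C.TS
    refine ⟨_, gd_comp C hWT hcW hfa hfb, fun x hx => ?_⟩
    show fa (fb (φ x)) = φ (autFun (a * b) x)
    rw [eb x hx, ea _ (autFun_mem b hx), autFun_mul_apply]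
  | inv a _ iha =>
    -- the inverse is a power
    haveI : Finite U := finite_of_le hUS
    haveI : Finite (MulAut U) := Cfsg.Agent.Lib.Fusion.Basic.finite_mulAut_of_finite (A := U)
    have key : ∀ j : ℕ, Gm F E₁ E₂ T U (autFun (a ^ j)) := by
      intro j
      induction j with
      | zero =>
        refine ⟨(Mp.refl hUS).congr (fun x _ => by rw [pow_zero, autFun_one_apply]),
          (img_refl U).congr (fun x _ => by rw [pow_zero, autFun_one_apply]), fun W φ hW hφ hi => ?_⟩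
        have hWT : W ≤ T := (huc.conj C.scT hφ hi).1
        refine ⟨fun x => x, (gd_inner C hWT (t := 1) (Subgroup.one_mem _)).congr (fun x _ => by simp), fun x _ => ?_⟩
        rw [pow_zero, autFun_one_apply]
      | succ j ih =>
        have e : ∀ x, autFun (a ^ (j + 1)) x = autFun (a ^ j) (autFun a x) := fun x => by
          rw [pow_succ, autFun_mul_apply]
        refine ⟨(iha.1.comp (img_autFun a).1 ih.1).congr (fun x _ => (e x).symm),
          (iha.2.1.comp ih.2.1).congr (fun x _ => (e x).symm), fun W φ hW hφ hi => ?_⟩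
        obtain ⟨fa, hfa, ea⟩ := iha.2.2 W φ hW hφ hi
        obtain ⟨fb, hfb, eb⟩ := ih.2.2 W φ hW hφ hi
        have hWT : W ≤ T := (huc.conj C.scT hφ hi).1
        have hcW : zz T W ≤ W := (huc.conj C.scT hφ hi).self C.TS
        refine ⟨_, gd_comp C hWT hcW hfb hfa, fun x hx => ?_⟩
        show fb (fa (φ x)) = φ (autFun (a ^ (j + 1)) x)
        rw [ea x hx, eb _ (autFun_mem a hx), e]
    have e : a⁻¹ = a ^ (orderOf a - 1) := by
      rw [inv_eq_iff_mul_eq_one, ← pow_succ', Nat.sub_add_cancel (orderOf_pos a), pow_orderOf_eq_one]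
    rw [e]
    exact key _

/-- Maps in `Gm` are maps of each level. -/
theorem gm_mp_lvl {R : Subgroup Ω} {G : FusionSystem R} (L : Lvl F G T p) (hpi : ∀ {W : Subgroup Ω} {f' : Ω → Ω}, Gd F E₁ E₂ T W f' → PiA G T W f')
    (huc : Uc F T U) (h : Gm F E₁ E₂ T U f) : Mp G U f := by
  obtain ⟨W, hW, hWfc⟩ := exists_isFullyCentralized F (huc.1.trans C.TS)
  obtain ⟨φ₀, hφ₀, hr⟩ := id hW
  have hφ : Mp F U (extOf φ₀) := mp_of_hom hφ₀
  have hi : Img U (extOf φ₀) W := by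
    refine ⟨fun x hx => ?_, fun y hy => ?_⟩
    · rw [extOf_of_mem φ₀ hx, ← hr]
      exact ⟨_, rfl⟩
    · rw [← hr] at hy
      obtain ⟨x, rfl⟩ := hy
      exact ⟨x, x.2, extOf_coe φ₀ x⟩
  obtain ⟨f', hf', e⟩ := h.2.2 W _ hWfc hφ hi
  obtain ⟨k, hk, hk1, hk2, hk3⟩ := hφ.inverse hi
  have hWT : W ≤ T := (huc.conj C.scT hφ hi).1
  obtain ⟨g', hg', e'⟩ := L.tw (hWT.trans L.hTR) (pi_mp (hpi hf')) hf'.1.1 hk hk3
  refine hg'.congr (fun x hx => ?_)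
  have h1 := e' _ (hi.1 x hx)
  rw [hk1 x hx, e x hx, hk1 _ (h.2.1.1 x hx)] at h1
  exact h1

end ctx

/-- The isomorphism given by a map. -/
theorem exists_iso (hφ : Mp F U φ) (hi : Img U φ U') : ∃ e : U ≃* U', ∀ x : U, ((e x : U') : Ω) = φ x := by
  obtain ⟨φ₀, hφ₀, e⟩ := hφ
  have hr := Mp.range_eq e hi
  exact ⟨isoOf φ₀ (F.injective_of_mem hφ₀) hr, fun x => (isoOf_apply φ₀ _ hr x).trans (e x)⟩

theorem eq_of_autFun {a b : MulAut U} (h : ∀ x ∈ U, autFun a x = autFun b x) : a = b := by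
  ext x
  rw [← autFun_coe, ← autFun_coe]
  exact h x x.2

theorem autFun_congr_apply (e : U ≃* U') (hee : ∀ x : U, ((e x : U') : Ω) = φ x) (β : MulAut U) {x : Ω} (hx : x ∈ U) :
    autFun (MulAut.congr e β) (φ x) = φ (autFun β x) := by
  have h1 : φ x = ((e ⟨x, hx⟩ : U') : Ω) := (hee ⟨x, hx⟩).symm
  rw [h1, autFun_coe, autFun_of_mem β hx, ← hee]
  have h2 : (MulAut.congr e β) (e ⟨x, hx⟩) = e (β ⟨x, hx⟩) := by
    show e (β (e.symm (e ⟨x, hx⟩))) = _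
    simp
  rw [h2]

section gam

variable [Finite S] [Fact p.Prime]

/-- Transport of `AA`. -/
theorem AA_tr (hφ : Mp F U φ) (hi : Img U φ U') {α : MulAut U} (hα : α ∈ AA F E₁ E₂ T p U) :
    ∃ α' ∈ AA F E₁ E₂ T p U', ∀ x ∈ U, autFun α' (φ x) = φ (autFun α x) := by
  obtain ⟨e, hee⟩ := exists_iso hφ hi
  have hce := fun β (x : Ω) (hx : x ∈ U) => autFun_congr_apply e hee β hx
  have hle : AA F E₁ E₂ T p U ≤ (AA F E₁ E₂ T p U').comap (MulAut.congr e).toMonoidHom := by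
    refine (Subgroup.closure_le _).2 (fun β hβ => ?_)
    refine Subgroup.subset_closure ?_
    rcases hβ with hβ | hβ
    · exact Or.inl (gp_tr hβ hφ hi (fun x hx => hce β x hx))
    · exact Or.inr (pt_tr hβ (img_autFun β) hφ hi (fun x hx => hce β x hx))
  exact ⟨_, hle hα, fun x hx => hce α x hx⟩

theorem AA_conj (hWS : W ≤ S) {β α : MulAut W} (hβ : β ∈ F.autGroup W) (hα : α ∈ AA F E₁ E₂ T p W) :
    β * α * β⁻¹ ∈ AA F E₁ E₂ T p W := by
  obtain ⟨α', hα', e⟩ := AA_tr (mp_autFun hWS hβ) (img_autFun β) hα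
  have : α' = β * α * β⁻¹ := by
    apply eq_of_autFun
    intro y hy
    obtain ⟨x, hx, rfl⟩ := (img_autFun β).2 y hy
    rw [e x hx, Cfsg.Agent.Lib.FusionExt.Glue1.conj_fun]
  rwa [← this]

theorem aa_inner (hWfn : F.IsFullyNormalized W) {c : MulAut W} (hc : c ∈ autInducedBy T W) : c ∈ AA F E₁ E₂ T p W := by
  obtain ⟨t, ht, e⟩ := inT_iff.1 hc
  exact Subgroup.subset_closure (Or.inr ⟨W, fun x => x, t, hWfn, Mp.refl hWfn.1, img_refl W, ht, e⟩)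

/-- The group of automorphisms with the stable extension property. -/
theorem exists_Gam (C : Ctx F E₁ E₂ T p) (hWT : W ≤ T) (hcz : zz T W ≤ W) :
    ∃ Γ : Subgroup (MulAut W), ∀ α, α ∈ Γ ↔ Gd F E₁ E₂ T W (autFun α) := by
  haveI : Finite W := finite_of_le (hWT.trans C.TS)
  haveI : Finite (MulAut W) := Cfsg.Agent.Lib.Fusion.Basic.finite_mulAut_of_finite (A := W)
  refine ⟨finSub
    { carrier := {α | Gd F E₁ E₂ T W (autFun α)}
      one_mem' := (gd_inner C hWT (t := 1) (Subgroup.one_mem _)).congr (fun x _ => by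
        rw [autFun_one_apply]
        group)
      mul_mem' := fun {a b} ha hb => (gd_comp C hWT hcz ha hb).congr (fun x _ => (autFun_mul_apply a b x).symm) }, fun α => Iff.rfl⟩

end gam

end Cfsg.Agent.Lib.FusionExt.Meet3
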