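import Cfsg.Agent.Lib.Transfer.Focal
import Cfsg.Agent.Lib.FusionExt.ER1
import Cfsg.Agent.Lib.FusionExt.Meet3

/-!
# The product `E·R`: a transfer argument (helper92)
-/

set_option autoImplicit false
set_option linter.unusedSectionVars false

namespace Cfsg.Agent.Lib.FusionExt.ER2a

section gr

variable {G : Type*} [Group G] [Finite G] {p : ℕ} [Fact p.Prime]

/-- **A transfer argument.** `H` a subgroup of `p`-power order and index prime to `p`, `K` normal in `H` with `H/K` abelian.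
`G` generated by elements that are either `p'`-elements or all of whose powers conjugate into `H` only inside `K`.
An element `d ∈ H` whose power conjugates in `H` are the same modulo `K` lies in `K`. -/
theorem gaschutz_step (H K : Subgroup G) (hKH : K ≤ H) (hHp : IsPGroup p H) (hidx : H.index.Coprime p)
    (hKn : ∀ h ∈ H, ∀ k ∈ K, h * k * h⁻¹ ∈ K) (hcomm : ∀ a ∈ H, ∀ b ∈ H, a * b * a⁻¹ * b⁻¹ ∈ K)
    (X : Set G) (hgen : Subgroup.closure X = ⊤)
    (hX : ∀ x ∈ X, (∃ m : ℕ, m.Coprime p ∧ x ^ m = 1) ∨ ∀ (k : ℕ) (g₀ : G), g₀⁻¹ * x ^ k * g₀ ∈ H → g₀⁻¹ * x ^ k * g₀ ∈ K)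
    {d : G} (hdH : d ∈ H) (hd : ∀ (k : ℕ) (g₀ : G), g₀⁻¹ * d ^ k * g₀ ∈ H → (d ^ k)⁻¹ * (g₀⁻¹ * d ^ k * g₀) ∈ K) :
    d ∈ K := by
  classical
  let K' : Subgroup H := K.subgroupOf H
  haveI hK'n : K'.Normal := ⟨fun a ha b => by
    show ((b * a * b⁻¹ : H) : G) ∈ K
    exact hKn b b.2 a ha⟩
  let Bq := H ⧸ K'
  let instC : CommGroup Bq :=
    { (inferInstance : Group Bq) with
      mul_comm := by
        intro a b
        induction a using QuotientGroup.induction_on with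
        | H a =>
        induction b using QuotientGroup.induction_on with
        | H b =>
        rw [← QuotientGroup.mk_mul, ← QuotientGroup.mk_mul, QuotientGroup.eq]
        show (((a * b)⁻¹ * (b * a) : H) : G) ∈ K
        have h := hcomm b⁻¹ (H.inv_mem b.2) a⁻¹ (H.inv_mem a.2)
        have e : (((a * b)⁻¹ * (b * a) : H) : G) = (b : G)⁻¹ * (a : G)⁻¹ * ((b : G)⁻¹)⁻¹ * ((a : G)⁻¹)⁻¹ := by
          push_cast
          group
        rw [e]
        exact h }
  letI : CommGroup Bq := instC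
  let ϕ : H →* Bq := QuotientGroup.mk' K'
  have hϕ : ∀ x : H, ϕ x = 1 ↔ (x : G) ∈ K := fun x => QuotientGroup.eq_one_iff x
  have hAp : ∀ a : Bq, ∃ j : ℕ, a ^ p ^ j = 1 := by
    intro a
    induction a using QuotientGroup.induction_on with
    | H a =>
    obtain ⟨j, hj⟩ := hHp a
    refine ⟨j, ?_⟩
    rw [← QuotientGroup.mk_pow, hj]
    rfl
  have hpp : ∀ (a : Bq) (m : ℕ), m.Coprime p → a ^ m = 1 → a = 1 := by
    intro a m hm ha
    obtain ⟨j, hj⟩ := hAp a
    have h1 : orderOf a ∣ Nat.gcd m (p ^ j) := Nat.dvd_gcd (orderOf_dvd_of_pow_eq_one ha) (orderOf_dvd_of_pow_eq_one hj)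
    have h2 : Nat.gcd m (p ^ j) = 1 := Nat.Coprime.pow_right j hm
    rw [h2, Nat.dvd_one, orderOf_eq_one_iff] at h1
    exact h1
  let V : G →* Bq := MonoidHom.transfer ϕ
  have hVX : ∀ x ∈ X, V x = 1 := by
    intro x hx
    rcases hX x hx with ⟨m, hm, hxm⟩ | hx2
    · refine hpp _ m hm ?_
      rw [← map_pow, hxm, map_one]
    · haveI : Fintype (Quotient (MulAction.orbitRel (Subgroup.zpowers x) (G ⧸ H))) := Fintype.ofFinite _
      show MonoidHom.transfer ϕ x = 1
      rw [MonoidHom.transfer_eq_prod_quotient_orbitRel_zpowers_quot]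
      refine Finset.prod_eq_one (fun q _ => ?_)
      rw [hϕ]
      exact hx2 _ _ (QuotientGroup.out_conj_pow_minimalPeriod_mem H x q.out)
  have hVall : V = 1 := by
    ext g
    have hg : g ∈ Subgroup.closure X := by rw [hgen]; trivial
    have hle : Subgroup.closure X ≤ V.ker := (Subgroup.closure_le _).2 (fun x hx => hVX x hx)
    exact hle hg
  have h1 : MonoidHom.transfer ϕ (⟨d, hdH⟩ : H) = ϕ ⟨d, hdH⟩ ^ H.index := by
    apply Cfsg.Agent.Lib.Transfer.Focal.transfer_eq_pow_of_key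
    intro k g₀ h
    rw [← map_pow]
    show ((⟨g₀⁻¹ * d ^ k * g₀, h⟩ : H) : H ⧸ K') = (((⟨d, hdH⟩ : H) ^ k : H) : H ⧸ K')
    rw [eq_comm, QuotientGroup.eq]
    show ((((⟨d, hdH⟩ : H) ^ k)⁻¹ * ⟨g₀⁻¹ * d ^ k * g₀, h⟩ : H) : G) ∈ K
    push_cast
    exact hd k g₀ h
  have h2 : MonoidHom.transfer ϕ (d : G) = 1 := by
    have : V d = 1 := by rw [hVall]; rfl
    exact this
  have h3 : ϕ ⟨d, hdH⟩ ^ H.index = 1 := by
    rw [← h1]
    exact h2
  have h4 := hpp _ _ hidx h3
  exact (hϕ _).1 h4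

end gr

end Cfsg.Agent.Lib.FusionExt.ER2a
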