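import Cfsg.Agent.Lib.FusionExt.ER2

/-!
# The product `E·R`: the class of subgroups, the extension of `Vv`, the `Π`-lemma and the `p`-elements (helper92)
-/

set_option autoImplicit false
set_option linter.unusedSectionVars false
set_option maxHeartbeats 1000000

namespace Cfsg.Agent.Lib.FusionExt.ER3

open Cfsg Cfsg.FusionSystem Cfsg.Agent.Lib.Fusion.Basic Cfsg.Agent.Lib.Fusion.GroupSystem
open Cfsg.Agent.Lib.FusionExt.MapApi Cfsg.Agent.Lib.FusionExt.PowerSys Cfsg.Agent.Lib.FusionExt.LowPi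
open Cfsg.Agent.Lib.FusionExt.PrimeRes1 Cfsg.Agent.Lib.Fusion.Saturation Cfsg.Agent.Lib.Fusion.Saturation2
open Cfsg.Agent.Lib.FusionExt.Glue1 Cfsg.Agent.Lib.FusionExt.Invariant Cfsg.Agent.Lib.FusionExt.CentE
open Cfsg.Agent.Lib.FusionExt.ER0 Cfsg.Agent.Lib.FusionExt.ER1 Cfsg.Agent.Lib.FusionExt.ER2
open Cfsg.Agent.Lib.FusionExt.Normal
open Cfsg.Agent.Lib.FusionExt.Meet3 (exists_iso eq_of_autFun autFun_congr_apply)
open Cfsg.Agent.Lib.FusionExt.Glue3 (comm_of_conj)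

universe u

variable {Ω : Type u} [Group Ω] {S T : Subgroup Ω} {F : FusionSystem S} {E : FusionSystem T} {p : ℕ}
variable {X Y Z P P' Q R U W U' W' : Subgroup Ω} {f f' g h φ ψ a δ χ ρ : Ω → Ω}

/-- The class of subgroups on which the automizers are defined. -/
structure Cl (F : FusionSystem S) (E : FusionSystem T) (P : Subgroup Ω) : Prop where
  le : P ≤ S
  uc : Uc F T (P ⊓ T)
  ie : ∀ x ∈ P, Mp E (P ⊓ T) (fun y => x * y * x⁻¹) → ∃ q ∈ P ⊓ T, ∀ y ∈ P ⊓ T, x * y * x⁻¹ = q * y * q⁻¹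

/-- The overgroup. -/
def YY (S T W : Subgroup Ω) : Subgroup Ω := W ⊔ centralizerIn S (W ⊓ T)

theorem le_YY : W ≤ YY S T W := le_sup_left

theorem cent_le_YY : centralizerIn S (W ⊓ T) ≤ YY S T W := le_sup_right

section cx

variable (C : Cx F E p)
include C

/-- Elements of `N_S(P)` normalize `P ∩ T`. -/
theorem norm_inf {n : Ω} (hn : n ∈ normalizerIn S P) : n ∈ normalizerIn S (P ⊓ T) := by
  refine ⟨hn.1, ?_⟩
  show n ∈ Subgroup.normalizer ((P ⊓ T : Subgroup Ω) : Set Ω)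
  rw [Subgroup.mem_normalizer_iff]
  intro y
  constructor
  · intro hy
    exact ⟨norm_conj hn.2 hy.1, sc_conj_mem F C.hT hn.1 hy.2⟩
  · intro hy
    have h1 := conj_inv_mem hn.2 hy.1
    have h2 := sc_conj_mem F C.hT (S.inv_mem hn.1) hy.2
    have e1 : n⁻¹ * (n * y * n⁻¹) * n = y := by group
    rw [e1] at h1
    have e2 : n⁻¹ * (n * y * n⁻¹) * n⁻¹⁻¹ = y := by group
    rw [e2] at h2
    exact ⟨h1, h2⟩

theorem mem_norm_inf (hP : P ≤ S) {x : Ω} (hx : x ∈ P) : x ∈ normalizerIn S (P ⊓ T) :=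
  norm_inf C ⟨hP hx, Subgroup.le_normalizer hx⟩

/-- `W` normalizes `C_S(W ∩ T)`. -/
theorem dec_Y (hW : W ≤ S) {x : Ω} (hx : x ∈ YY S T W) :
    ∃ w ∈ W, ∃ c ∈ centralizerIn S (W ⊓ T), x = w * c := by
  refine exists_mul_of_mem_sup' (fun w hw => ?_) hx
  have hn := mem_norm_inf C hW hw
  rw [Subgroup.mem_normalizer_iff]
  intro c
  constructor
  · intro hc
    exact conj_cent' hn hc
  · intro hc
    have h1 := conj_cent' ((normalizerIn S (W ⊓ T)).inv_mem hn) hc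
    have e1 : w⁻¹ * (w * c * w⁻¹) * w⁻¹⁻¹ = c := by group
    rwa [e1] at h1

theorem YY_le (hW : W ≤ S) : YY S T W ≤ S := sup_le hW inf_le_left

theorem YY_le_norm (hW : W ≤ S) : YY S T W ≤ normalizerIn S (W ⊓ T) :=
  sup_le (fun _ hx => mem_norm_inf C hW hx) cent_le_norm

/-- Conjugation by an element of `YY` on `W ∩ T`. -/
theorem conj_Y_eq {x w c q : Ω} (hc : c ∈ centralizerIn S (W ⊓ T)) (e : x = w * c) (hq : q ∈ W ⊓ T) :
    x * q * x⁻¹ = w * q * w⁻¹ := by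
  have h1 : q * c = c * q := (mem_cent.1 hc).2 q hq
  rw [e]
  calc w * c * q * (w * c)⁻¹ = w * (c * q) * c⁻¹ * w⁻¹ := by group
    _ = w * (q * c) * c⁻¹ * w⁻¹ := by rw [h1]
    _ = _ := by group

/-- `T`-part of `YY`. -/
theorem inf_YY (h : Cl F E W) : YY S T W ⊓ T = W ⊓ T := by
  refine le_antisymm (fun y hy => ?_) (inf_le_inf_right _ le_YY)
  obtain ⟨w, hw, c, hc, rfl⟩ := dec_Y C h.le hy.1
  have hyT : w * c ∈ T := hy.2
  have hcw : ∀ q ∈ W ⊓ T, w * q * w⁻¹ = (w * c) * q * (w * c)⁻¹ := fun q hq =>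
    (conj_Y_eq C hc rfl hq).symm
  have h1 : Mp E (W ⊓ T) (fun y => w * y * w⁻¹) :=
    (Mp.conj inf_le_right hyT : Mp E (W ⊓ T) (fun y => (w * c) * y * (w * c)⁻¹)).congr (fun q hq => (hcw q hq).symm)
  obtain ⟨q₀, hq₀, e⟩ := h.ie w hw h1
  have h2 : q₀⁻¹ * (w * c) ∈ zz T (W ⊓ T) := by
    refine mem_zz.2 ⟨T.mul_mem (T.inv_mem hq₀.2) hyT, fun z hz => ?_⟩
    have h3 : (w * c) * z * (w * c)⁻¹ = q₀ * z * q₀⁻¹ := by
      rw [← hcw z hz, e z hz]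
    exact comm_of_conj h3
  have h4 := h.uc.self C.hTS h2
  have e1 : w * c = q₀ * (q₀⁻¹ * (w * c)) := by group
  rw [e1]
  exact Subgroup.mul_mem _ hq₀ h4

/-- Invariance of the class. -/
theorem Cl.tr (h : Cl F E P) (hφ : Mp F P φ) (hi : Img P φ P') : Cl F E P' := by
  have hI := C.img_inf hφ hi
  refine ⟨hφ.img_le hi, h.uc.conj C.hT (hφ.restrict inf_le_left) hI, fun x hx hxE => ?_⟩
  obtain ⟨x₀, hx₀, rfl⟩ := hi.2 x hx
  obtain ⟨k, hk, k1, k2, k3⟩ := hφ.inverse hi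
  have hI' : Img (P' ⊓ T) k (P ⊓ T) := by
    refine ⟨fun y hy => ?_, fun z hz => ⟨φ z, hI.1 z hz, k1 z hz.1⟩⟩
    obtain ⟨z, hz, rfl⟩ := hI.2 y hy
    rw [k1 z hz.1]
    exact hz
  have hmem : ∀ y ∈ P' ⊓ T, φ x₀ * y * (φ x₀)⁻¹ ∈ P' ⊓ T := fun y hy => by
    have hn := mem_norm_inf C (hφ.img_le hi) hx
    exact norm_conj hn.2 hy
  obtain ⟨f₂, hf₂, ef₂⟩ := C.tr_E hxE hmem le_rfl inf_le_right (hk.restrict inf_le_left) hI'
  have h1 : Mp E (P ⊓ T) (fun y => x₀ * y * x₀⁻¹) := by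
    refine hf₂.congr (fun z hz => ?_)
    have hy := hI.1 z hz
    have h2 := ef₂ _ hy
    rw [k1 z hz.1] at h2
    rw [h2, ← hφ.map_conj hx₀ hz.1, k1 _ (P.mul_mem (P.mul_mem hx₀ hz.1) (P.inv_mem hx₀))]
  obtain ⟨q, hq, e⟩ := h.ie x₀ hx₀ h1
  refine ⟨φ q, hI.1 q hq, fun y hy => ?_⟩
  obtain ⟨z, hz, rfl⟩ := hI.2 y hy
  rw [← hφ.map_conj hx₀ hz.1, ← hφ.map_conj hq.1 hz.1, e z hz]

end cx

section main

variable [Finite S] [Fact p.Prime] (C : Cx F E p)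
include C

omit C [Finite S] in
/-- A variant of the decomposition in parts, with the `p'`-part a multiple of a power of `p`. -/
theorem exists_parts' {A : Type*} [Group A] [Finite A] (a : A) (B₀ : ℕ) :
    ∃ u v : ℕ, a = a ^ u * a ^ v ∧ (∃ k : ℕ, (a ^ u) ^ p ^ k = 1) ∧ (∃ q : ℕ, q.Coprime p ∧ (a ^ v) ^ q = 1) ∧ p ^ B₀ ∣ v := by
  have hp : p.Prime := Fact.out
  obtain ⟨k, q, hq, hN⟩ := Nat.exists_eq_pow_mul_and_not_dvd (orderOf_pos a).ne' p hp.ne_one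
  have hco : (p ^ k).Coprime q := Nat.Coprime.pow_left k (hp.coprime_iff_not_dvd.2 hq)
  have hco' : (p ^ (k + B₀)).Coprime q := Nat.Coprime.pow_left _ (hp.coprime_iff_not_dvd.2 hq)
  obtain ⟨u, hu1, hu2⟩ := Nat.chineseRemainder hco 1 0
  obtain ⟨v, hv1, hv2⟩ := Nat.chineseRemainder hco' 0 1
  have hv1' : v ≡ 0 [MOD p ^ k] := hv1.of_dvd (pow_dvd_pow p (Nat.le_add_right k B₀))
  refine ⟨u, v, ?_, ⟨k, ?_⟩, ⟨q, (hp.coprime_iff_not_dvd.2 hq).symm, ?_⟩, ?_⟩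
  · rw [← pow_add]
    conv_lhs => rw [← pow_one a]
    rw [pow_eq_pow_iff_modEq, hN]
    apply (Nat.modEq_and_modEq_iff_modEq_mul hco).1
    constructor
    · have := (hu1.add hv1')
      simpa using this.symm
    · have := (hu2.add hv2)
      simpa using this.symm
  · obtain ⟨d, hd⟩ := (Nat.modEq_zero_iff_dvd).1 hu2
    rw [← pow_mul, hd]
    have : q * d * p ^ k = orderOf a * d := by rw [hN]; ring
    rw [this, pow_mul, pow_orderOf_eq_one, one_pow]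
  · obtain ⟨d, hd⟩ := (Nat.modEq_zero_iff_dvd).1 hv1'
    rw [← pow_mul, hd]
    have : p ^ k * d * q = orderOf a * d := by rw [hN]; ring
    rw [this, pow_mul, pow_orderOf_eq_one, one_pow]
  · exact (pow_dvd_pow p (Nat.le_add_left B₀ k)).trans ((Nat.modEq_zero_iff_dvd).1 hv1)

omit C [Finite S] [Fact p.Prime] in
theorem toAut' {G : FusionSystem S} (hf : Mp G X f) (hi : Img X f X) : ∃ a ∈ G.autGroup X, ∀ x ∈ X, autFun a x = f x := by
  obtain ⟨a, ha, e⟩ := hf.toAut hi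
  exact ⟨a, ha, fun x hx => by rw [autFun_of_mem a hx]; exact e ⟨x, hx⟩⟩

omit C [Finite S] [Fact p.Prime] in
/-- Powers on a subgroup. -/
theorem pow_restrict {x : MulAut Y} {y : MulAut W} (hWY : W ≤ Y) (e : ∀ w ∈ W, autFun x w = autFun y w) :
    ∀ j : ℕ, ∀ w ∈ W, autFun (x ^ j) w = autFun (y ^ j) w := by
  intro j
  induction j with
  | zero =>
    intro w _
    rw [pow_zero, pow_zero, autFun_one_apply, autFun_one_apply]
  | succ j ih =>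
    intro w hw
    rw [pow_succ, pow_succ, autFun_mul_apply, autFun_mul_apply, e w hw, ih _ (autFun_mem _ hw)]

omit C [Finite S] [Fact p.Prime] in
theorem pow_along {x : MulAut W} {y : MulAut Y} (e : ∀ w ∈ W, autFun y (χ w) = χ (autFun x w)) :
    ∀ j : ℕ, ∀ w ∈ W, autFun (y ^ j) (χ w) = χ (autFun (x ^ j) w) := by
  intro j
  induction j with
  | zero =>
    intro w _
    rw [pow_zero, pow_zero, autFun_one_apply, autFun_one_apply]
  | succ j ih =>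
    intro w hw
    rw [pow_succ', pow_succ', autFun_mul_apply, autFun_mul_apply, ih w hw, e _ (autFun_mem _ hw)]

omit [Finite S] [Fact p.Prime] C in
theorem one_of_two_orders [Finite W] {y : MulAut W} {m k : ℕ} (hm : m.Coprime p) (h1 : y ^ m = 1) (h2 : y ^ p ^ k = 1) : y = 1 := by
  have h3 : orderOf y ∣ m := orderOf_dvd_of_pow_eq_one h1
  have h4 : orderOf y ∣ p ^ k := orderOf_dvd_of_pow_eq_one h2
  have h5 : Nat.Coprime m (p ^ k) := Nat.Coprime.pow_right k hm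
  have h6 : orderOf y ∣ 1 := by
    have := Nat.dvd_gcd h3 h4
    rwa [h5.gcd_eq_one] at this
  exact orderOf_eq_one_iff.1 (Nat.dvd_one.1 h6)

/-- Moving a subgroup with fully normalized intersection to a fully normalized subgroup with the same intersection. -/
theorem exists_fn_over (hQ : F.IsFullyNormalized (X ⊓ T)) (hX : X ≤ S) :
    ∃ X' ζ, Mp F X ζ ∧ Img X ζ X' ∧ F.IsFullyNormalized X' ∧ X' ⊓ T = X ⊓ T := by
  suffices key : ∀ (d : ℕ) (X₁ : Subgroup Ω) (ζ₁ : Ω → Ω), Nat.card S - Nat.card (normalizerIn S X₁) = d → Mp F X ζ₁ → Img X ζ₁ X₁ → X₁ ⊓ T = X ⊓ T →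
      ∃ X' ζ, Mp F X ζ ∧ Img X ζ X' ∧ F.IsFullyNormalized X' ∧ X' ⊓ T = X ⊓ T from
    key _ X (fun x => x) rfl (Mp.refl hX) (img_refl X) rfl
  intro d
  induction d using Nat.strong_induction_on with
  | _ d ih =>
  intro X₁ ζ₁ hd hζ₁ hI₁ hX₁
  by_cases hfn : F.IsFullyNormalized X₁
  · exact ⟨X₁, ζ₁, hζ₁, hI₁, hfn, hX₁⟩
  have hX₁S : X₁ ≤ S := hζ₁.img_le hI₁
  have hex : ∃ X₂, F.IsConj X₁ X₂ ∧ Nat.card (normalizerIn S X₁) < Nat.card (normalizerIn S X₂) := by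
    by_contra hc
    push_neg at hc
    exact hfn ⟨hX₁S, fun Q' hQ' => hc Q' hQ'⟩
  obtain ⟨X₂, hX₂, hlt⟩ := hex
  obtain ⟨ζ₂, hζ₂, hI₂⟩ := mp_of_conj hX₂
  have hX₂S : X₂ ≤ S := hζ₂.img_le hI₂
  have hI₂' := C.img_inf hζ₂ hI₂
  have hQ₂ : F.IsConj (X₂ ⊓ T) (X ⊓ T) := by
    rw [← hX₁]
    exact isConj_symm F ((hζ₂.restrict inf_le_left).isConj hI₂')
  obtain ⟨ρ, hρ, hρN, hρi⟩ := nm_map C.hS C.hF hQ hQ₂
  have hX₂N : X₂ ≤ normalizerIn S (X₂ ⊓ T) := fun _ hx => mem_norm_inf C hX₂S hx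
  have hρX₂ := hρ.restrict hX₂N
  obtain ⟨X₃, hX₃⟩ := hρX₂.exists_img
  have hX₃S : X₃ ≤ S := hρX₂.img_le hX₃
  haveI : Finite X₃ := finite_of_le hX₃S
  have hζ₃ : Mp F X (fun x => ρ (ζ₂ (ζ₁ x))) := (hζ₁.comp hI₁.1 hζ₂).comp (fun x hx => hI₂.1 _ (hI₁.1 x hx)) hρX₂
  have hI₃ : Img X (fun x => ρ (ζ₂ (ζ₁ x))) X₃ := (hI₁.comp hI₂).comp hX₃
  have hX₃T : X₃ ⊓ T = X ⊓ T := Img.unique (C.img_inf hρX₂ hX₃) hρi
  have hN : normalizerIn S X₂ ≤ normalizerIn S (X₂ ⊓ T) := fun n hn => norm_inf C hn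
  obtain ⟨I, hI⟩ := (hρ.restrict hN).exists_img
  have hIle : I ≤ normalizerIn S X₃ := by
    intro y hy
    obtain ⟨n, hn, rfl⟩ := hI.2 y hy
    refine ⟨(hρN n (hN hn)).1, mem_normalizer_of_conj_le' (fun z hz => ?_)⟩
    obtain ⟨x, hx, rfl⟩ := hX₃.2 z hz
    rw [← hρ.map_conj (hN hn) (hX₂N hx)]
    exact hX₃.1 _ (norm_conj hn.2 hx)
  have hc1 : Nat.card I = Nat.card (normalizerIn S X₂) := (hρ.restrict hN).card_img hI
  haveI : Finite (normalizerIn S X₃) := finite_of_le inf_le_left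
  have hc2 : Nat.card I ≤ Nat.card (normalizerIn S X₃) := Subgroup.card_le_of_le hIle
  have hc3 : Nat.card (normalizerIn S X₃) ≤ Nat.card S := Subgroup.card_le_of_le inf_le_left
  exact ih _ (by omega) X₃ _ rfl hζ₃ hI₃ hX₃T

/-- Every member of the class is conjugate to one such that it and its intersection with `T` are fully normalized. -/
theorem exists_pair (h : Cl F E W) : ∃ W' ζ, Mp F W ζ ∧ Img W ζ W' ∧ F.IsFullyNormalized W' ∧ F.IsFullyNormalized (W' ⊓ T) ∧ Cl F E W' := by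
  have hWS := h.le
  obtain ⟨Q₁, hQ₁, hfn⟩ := exists_isFullyNormalized F (inf_le_left.trans hWS : W ⊓ T ≤ S)
  obtain ⟨ρ, hρ, hρN, hρi⟩ := nm_map C.hS C.hF hfn hQ₁
  have hWN : W ≤ normalizerIn S (W ⊓ T) := fun _ hx => mem_norm_inf C hWS hx
  have hρW := hρ.restrict hWN
  obtain ⟨W₁, hW₁⟩ := hρW.exists_img
  have hinf : W₁ ⊓ T = Q₁ := Img.unique (C.img_inf hρW hW₁) hρi
  obtain ⟨W₂, ζ, hζ, hζi, hfn₂, hinf₂⟩ := exists_fn_over C (X := W₁) (by rw [hinf]; exact hfn) (hρW.img_le hW₁)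
  refine ⟨W₂, _, hρW.comp hW₁.1 hζ, hW₁.comp hζi, hfn₂, by rw [hinf₂, hinf]; exact hfn, ?_⟩
  exact Cl.tr C h (hρW.comp hW₁.1 hζ) (hW₁.comp hζi)

/-- The overgroup can be moved to satisfy the hypotheses of the transfer argument. -/
theorem exists_Yy (hfnQ : F.IsFullyNormalized (W ⊓ T)) (h : Cl F E W) :
    ∃ Y' ζ, Mp F (YY S T W) ζ ∧ Img (YY S T W) ζ Y' ∧ Yy F T Y' ∧ Y' ⊓ T = W ⊓ T := by
  have hWS := h.le
  have hYS : YY S T W ≤ S := YY_le C hWS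
  have hinf0 : YY S T W ⊓ T = W ⊓ T := inf_YY C h
  obtain ⟨Y', ζ, hζ, hI, hfn, hinf⟩ := exists_fn_over C (X := YY S T W) (by rw [hinf0]; exact hfnQ) hYS
  rw [hinf0] at hinf
  have hQI : Img (W ⊓ T) ζ (W ⊓ T) := by
    have := C.img_inf hζ hI
    rwa [hinf0, hinf] at this
  refine ⟨Y', ζ, hζ, hI, ⟨hfn, by rw [hinf]; exact hfnQ, ?_, by rw [hinf]; exact h.uc⟩, hinf⟩
  rw [hinf]
  have hC : centralizerIn S (W ⊓ T) ≤ YY S T W := cent_le_YY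
  haveI : Finite (centralizerIn S (W ⊓ T)) := finite_of_le inf_le_left
  obtain ⟨I₁, hI₁⟩ := (hζ.restrict hC).exists_img
  have hle : I₁ ≤ centralizerIn S (W ⊓ T) := by
    intro y hy
    obtain ⟨c, hc, rfl⟩ := hI₁.2 y hy
    refine mem_cent.2 ⟨hζ.mem_S (hC hc), fun z hz => ?_⟩
    obtain ⟨q, hq, rfl⟩ := hQI.2 z hz
    have hqY : q ∈ YY S T W := le_YY hq.1
    rw [← hζ.map_mul hqY (hC hc), ← hζ.map_mul (hC hc) hqY, (mem_cent.1 hc).2 q hq]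
  have hcard : Nat.card I₁ = Nat.card (centralizerIn S (W ⊓ T)) := (hζ.restrict hC).card_img hI₁
  have he : I₁ = centralizerIn S (W ⊓ T) := Subgroup.eq_of_le_of_card_ge hle hcard.ge
  rw [← he]
  intro y hy
  obtain ⟨c, hc, rfl⟩ := hI₁.2 y hy
  exact hI.1 _ (hC hc)

/-- **Extension of the `p'`-generators.** -/
theorem ext_pa (hfnW : F.IsFullyNormalized W) (hfnQ : F.IsFullyNormalized (W ⊓ T)) (h : Cl F E W) (hf : Pa F E p W f) :
    ∃ β ∈ Vv F E p (YY S T W), ∀ w ∈ W, autFun β w = f w := by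
  obtain ⟨hA, m, hm, hfm⟩ := hf
  have hWS : W ≤ S := h.le
  have hYS : YY S T W ≤ S := YY_le C hWS
  haveI : Finite (YY S T W) := finite_of_le hYS
  haveI : Finite W := finite_of_le hWS
  haveI : Finite (MulAut (YY S T W)) := Cfsg.Agent.Lib.Fusion.Basic.finite_mulAut_of_finite (A := YY S T W)
  haveI : Finite (MulAut W) := Cfsg.Agent.Lib.Fusion.Basic.finite_mulAut_of_finite (A := W)
  have hfnE := C.fn_E hfnQ inf_le_right
  have hQY : W ⊓ T ≤ YY S T W := inf_le_left.trans le_YY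
  have hYinf : YY S T W ⊓ T = W ⊓ T := inf_YY C h
  have hcz : zz T (W ⊓ T) ≤ W ⊓ T := h.uc.self C.hTS
  obtain ⟨ξ, hξ, hξi, hξQ, hξt, hξE, m', hm', hξm⟩ := GE C hfnE h.uc hA.me hA.img_inf hm (fun x hx => hfm x hx.1) hQY (YY_le_norm C hWS) cent_le_YY (by
    intro x hx
    obtain ⟨w, hw, c, hc, e⟩ := dec_Y C hWS hx
    refine ⟨f w, le_YY (hA.img.1 w hw), fun q hq => ?_⟩
    rw [conj_Y_eq C hc e hq, hA.mp.map_conj hw hq.1])
  have hz : ∀ w ∈ W, (f w)⁻¹ * ξ w ∈ W ⊓ T := by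
    intro w hw
    refine hcz (mem_zz.2 ⟨?_, fun z hz => ?_⟩)
    · have e : (f w)⁻¹ * ξ w = (w⁻¹ * f w)⁻¹ * (w⁻¹ * ξ w) := by group
      rw [e]
      exact T.mul_mem (T.inv_mem (hA.mt w hw)) (hξt w (le_YY hw))
    · obtain ⟨q, hq, rfl⟩ := hA.img_inf.2 z hz
      have h1 := hξ.map_conj (le_YY hw) (hQY hq)
      have hq' : w * q * w⁻¹ ∈ W ⊓ T := norm_conj (mem_norm_inf C hWS hw).2 hq
      rw [hξQ _ hq', hξQ q hq, hA.mp.map_conj hw hq.1] at h1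
      exact comm_of_conj h1.symm
  have hξW : ∀ w ∈ W, ξ w ∈ W := by
    intro w hw
    have e : ξ w = f w * ((f w)⁻¹ * ξ w) := by group
    rw [e]
    exact W.mul_mem (hA.img.1 w hw) (hz w hw).1
  have hξWI : Img W ξ W := img_self (hξ.restrict le_YY) hξW
  obtain ⟨ξ₁, hξ₁, eξ₁⟩ := toAut' (hξ.restrict le_YY) hξWI
  obtain ⟨f₁, hf₁, ef₁⟩ := toAut' hA.mp hA.img
  have hFA := isFullyAutomized_of_isFullyNormalized F C.hS C.hF hfnW
  have ha : ξ₁⁻¹ * f₁ ∈ F.autGroup W := Subgroup.mul_mem _ (Subgroup.inv_mem _ hξ₁) hf₁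
  have hid : ∀ q ∈ W ⊓ T, autFun (ξ₁⁻¹ * f₁) q = q := by
    intro q hq
    rw [autFun_mul_apply, ef₁ q hq.1, ← hξQ q hq, ← eξ₁ q hq.1, autFun_inv_apply]
  have hξu : ∀ w ∈ W, ξ (autFun (ξ₁⁻¹ * f₁) w) = f w := by
    intro w hw
    rw [← eξ₁ _ (autFun_mem _ hw), autFun_mul_apply, autFun_apply_inv, ef₁ w hw]
  have hst : ∀ w ∈ W, w⁻¹ * autFun (ξ₁⁻¹ * f₁) w ∈ W ⊓ T := by
    intro w hw
    have hu : autFun (ξ₁⁻¹ * f₁) w ∈ W := autFun_mem _ hw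
    refine ⟨W.mul_mem (W.inv_mem hw) hu, ?_⟩
    have e : w⁻¹ * autFun (ξ₁⁻¹ * f₁) w = (w⁻¹ * f w) * ((autFun (ξ₁⁻¹ * f₁) w)⁻¹ * ξ (autFun (ξ₁⁻¹ * f₁) w))⁻¹ := by
      rw [hξu w hw]
      group
    rw [e]
    exact T.mul_mem (hA.mt w hw) (T.inv_mem (hξt _ (le_YY hu)))
  obtain ⟨c₀, hc₀, ec₀⟩ := inT_iff.1 (pi_inner C hFA ha hid hst)
  have hc₀C : c₀ ∈ centralizerIn S (W ⊓ T) := by
    refine mem_cent.2 ⟨hc₀.1, fun q hq => ?_⟩
    have h1 := ec₀ q hq.1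
    rw [hid q hq] at h1
    calc q * c₀ = c₀ * q * c₀⁻¹ * c₀ := by rw [← h1]
      _ = c₀ * q := by group
  have hc₀Y : c₀ ∈ YY S T W := cent_le_YY hc₀C
  have hfe : ∀ w ∈ W, f w = ξ (c₀ * w * c₀⁻¹) := by
    intro w hw
    rw [← ec₀ w hw, hξu w hw]
  obtain ⟨ξh, hξh, eξh⟩ := toAut' hξ hξi
  have hc₀N : c₀ ∈ Subgroup.normalizer ((YY S T W : Subgroup Ω) : Set Ω) := Subgroup.le_normalizer hc₀Y
  have ex : ∀ v ∈ YY S T W, autFun (ξh * normAct (YY S T W) hc₀N) v = ξ (c₀ * v * c₀⁻¹) := by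
    intro v hv
    rw [autFun_mul_apply, normAct_fun hc₀N hv, eξh _ (norm_conj hc₀N hv)]
  have hxF : ξh * normAct (YY S T W) hc₀N ∈ F.autGroup (YY S T W) := by
    refine Subgroup.mul_mem _ hξh (mem_aut_of_mp ?_)
    exact (Mp.conj hYS hc₀.1).congr (fun v hv => (normAct_fun hc₀N hv).symm)
  set x : MulAut (YY S T W) := ξh * normAct (YY S T W) hc₀N with hxdef
  obtain ⟨B₀, hB₀⟩ := C.hS ⟨c₀, hc₀.1⟩
  have hB₀' : c₀ ^ p ^ B₀ = 1 := congrArg Subtype.val hB₀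
  obtain ⟨u, v, hxe, ⟨k, hk⟩, ⟨q, hq, hqe⟩, hdvd⟩ := exists_parts' (p := p) x B₀
  have hmod : ∀ j : ℕ, ∀ y ∈ YY S T W, (c₀ ^ j * y * (c₀ ^ j)⁻¹)⁻¹ * autFun (x ^ j) y ∈ W ⊓ T := by
    intro j
    induction j with
    | zero =>
      intro y _
      rw [pow_zero, pow_zero, autFun_one_apply]
      simp [Subgroup.one_mem]
    | succ j ih =>
      intro y hy
      have h1 := ih y hy
      have hwY : c₀ ^ j * y * (c₀ ^ j)⁻¹ ∈ YY S T W :=
        Subgroup.mul_mem _ (Subgroup.mul_mem _ (Subgroup.pow_mem _ hc₀Y j) hy) (Subgroup.inv_mem _ (Subgroup.pow_mem _ hc₀Y j))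
      have hw' := norm_conj hc₀N hwY
      have e2 : c₀ ^ (j + 1) * y * (c₀ ^ (j + 1))⁻¹ = c₀ * (c₀ ^ j * y * (c₀ ^ j)⁻¹) * c₀⁻¹ := by
        rw [pow_succ']
        group
      rw [pow_succ' x, autFun_mul_apply, ex _ (autFun_mem _ hy), e2]
      set w := c₀ ^ j * y * (c₀ ^ j)⁻¹ with hw
      set y' := autFun (x ^ j) y with hy'
      have hcomm := (mem_cent.1 hc₀C).2 _ h1
      have e3 : c₀ * y' * c₀⁻¹ = (c₀ * w * c₀⁻¹) * (w⁻¹ * y') := by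
        have e4 : y' = w * (w⁻¹ * y') := by group
        calc c₀ * y' * c₀⁻¹ = c₀ * w * (c₀⁻¹ * (c₀ * (w⁻¹ * y'))) * c₀⁻¹ := by
              conv_lhs => rw [e4]
              group
          _ = c₀ * w * (c₀⁻¹ * ((w⁻¹ * y') * c₀)) * c₀⁻¹ := by rw [hcomm]
          _ = _ := by group
      rw [e3, hξ.map_mul hw' (hQY h1), hξQ _ h1, ← mul_assoc]
      refine Subgroup.mul_mem _ ?_ (hA.img_inf.1 _ h1)
      rw [← hYinf]
      exact ⟨Subgroup.mul_mem _ (Subgroup.inv_mem _ hw') (hξi.1 _ hw'), hξt _ hw'⟩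
  have hc₀v : c₀ ^ v = 1 := by
    obtain ⟨d, hd⟩ := hdvd
    rw [hd, pow_mul, hB₀', one_pow]
  have hmv : ∀ y ∈ YY S T W, y⁻¹ * autFun (x ^ v) y ∈ W ⊓ T := by
    intro y hy
    have := hmod v y hy
    rw [hc₀v] at this
    simpa using this
  have hxW : ∀ w ∈ W, autFun x w = autFun f₁ w := by
    intro w hw
    rw [ex w (le_YY hw), ef₁ w hw, hfe w hw]
  have hpr := pow_restrict (Y := YY S T W) le_YY hxW
  have hf₁m : f₁ ^ m = 1 := by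
    apply Cfsg.Agent.Lib.FusionExt.Glue2.eq_one_of_fun
    intro w hw
    have h4 := iterate_autFun (a := f₁) m (⟨w, hw⟩ : W)
    rw [← autFun_coe] at h4
    rw [← h4]
    have h5 : (autFun f₁)^[m] w = f^[m] w := iterate_congr hA.img.1 (fun x hx => (ef₁ x hx).symm) m hw |>.symm
    rw [h5, hfm w hw]
  have hf₁u : f₁ ^ u = 1 := by
    refine one_of_two_orders hm ?_ (k := k) ?_
    · rw [← pow_mul, mul_comm, pow_mul, hf₁m, one_pow]
    · apply Cfsg.Agent.Lib.FusionExt.Glue2.eq_one_of_fun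
      intro w hw
      rw [← pow_mul, ← hpr _ w hw, pow_mul, hk, autFun_one_apply]
  have hf₁v : f₁ ^ v = f₁ := by
    apply eq_of_autFun
    intro w hw
    have h1 : autFun (x ^ u) (autFun (x ^ v) w) = autFun x w := by rw [← autFun_mul_apply, ← hxe]
    rw [hpr v w hw, hpr u _ (autFun_mem _ hw), hf₁u, autFun_one_apply, hxW w hw] at h1
    exact h1
  have hβf : ∀ w ∈ W, autFun (x ^ v) w = f w := by
    intro w hw
    rw [hpr v w hw, hf₁v, ef₁ w hw]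
  refine ⟨x ^ v, Subgroup.subset_closure (Or.inl ⟨⟨mp_autFun hYS (Subgroup.pow_mem _ hxF v), img_autFun _, fun y hy => (hmv y hy).2, ?_⟩, q, hq, fun y hy => ?_⟩), hβf⟩
  · rw [hYinf]
    exact hA.me.congr (fun w hw => (hβf w hw.1).symm)
  · have h4 := iterate_autFun (a := x ^ v) q (⟨y, hy⟩ : (YY S T W))
    rw [← autFun_coe] at h4
    rw [h4, hqe]
    exact autFun_one_apply _

/-- **Extension of the `p`-generators.** -/
theorem ext_pr (hfnW : F.IsFullyNormalized W) (hfnQ : F.IsFullyNormalized (W ⊓ T)) (h : Cl F E W) {s : MulAut W}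
    (hs : Pr F T W (autFun s)) : ∃ β ∈ Vv F E p (YY S T W), ∀ w ∈ W, autFun β w = autFun s w := by
  have hA : A1 F E W (autFun s) := Pr.A1 C hs (img_autFun s)
  obtain ⟨W₁, φ, t, h1, h2, ht, h3⟩ := hs
  have hWS : W ≤ S := h.le
  have hYS : YY S T W ≤ S := YY_le C hWS
  haveI : Finite (YY S T W) := finite_of_le hYS
  haveI : Finite W := finite_of_le hWS
  have hQY : W ⊓ T ≤ YY S T W := inf_le_left.trans le_YY
  have hYinf : YY S T W ⊓ T = W ⊓ T := inf_YY C h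
  have hcz : zz T (W ⊓ T) ≤ W ⊓ T := h.uc.self C.hTS
  have hW₁S : W₁ ≤ S := h1.img_le h2
  obtain ⟨ρ, hρ, hρN, hρi⟩ := nm_map C.hS C.hF hfnW (isConj_symm F (h1.isConj h2))
  have hW₁N : W₁ ≤ normalizerIn S W₁ := le_normalizerIn hW₁S
  have htN : t ∈ normalizerIn S W₁ := ⟨C.hTS ht.1, ht.2⟩
  have ht₁ : ρ t ∈ normalizerIn T W := ⟨C.mem_T hρ htN ht.1, (hρN t htN).2⟩
  have hg : Mp F W (fun x => ρ (φ x)) := h1.comp (fun x hx => hW₁N (h2.1 x hx)) hρ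
  have hgi : Img W (fun x => ρ (φ x)) W := h2.comp hρi
  obtain ⟨gA, hgA, egA⟩ := toAut' hg hgi
  have hgm : Mp F W (autFun gA) := mp_autFun hWS hgA
  have hgim : Mp F W (autFun gA⁻¹) := mp_autFun hWS (Subgroup.inv_mem _ hgA)
  have hF1 : ∀ u ∈ W, autFun gA (autFun s u) = ρ t * autFun gA u * (ρ t)⁻¹ := by
    intro u hu
    rw [egA _ (autFun_mem _ hu), egA u hu]
    show ρ (φ (autFun s u)) = ρ t * ρ (φ u) * (ρ t)⁻¹
    rw [h3 u hu, hρ.map_conj htN (hW₁N (h2.1 u hu))]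
  have hgQ : Img (W ⊓ T) (autFun gA) (W ⊓ T) := C.img_inf hgm (img_autFun gA)
  have hgiQ : Img (W ⊓ T) (autFun gA⁻¹) (W ⊓ T) := C.img_inf hgim (img_autFun gA⁻¹)
  have hrecQ : F.IsReceptive (W ⊓ T) := isReceptive_of_isFullyNormalized (F := F) C.hS C.hF hfnQ
  have hrecW : F.IsReceptive W := isReceptive_of_isFullyNormalized (F := F) C.hS C.hF hfnW
  obtain ⟨gt, hgt, egt⟩ := (hgm.restrict (inf_le_left : W ⊓ T ≤ W)).ext_rec hrecQ hgQ hQY (by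
    intro y hy
    obtain ⟨w, hw, c, hc, e⟩ := dec_Y C hWS hy
    refine ⟨hYS hy, (YY_le_norm C hWS hy).2, autFun gA w, hgm.mem_S hw, fun q hq => ?_⟩
    rw [conj_Y_eq C hc e hq]
    exact hgm.map_conj hw hq.1)
  have hgtY : ∀ y ∈ YY S T W, gt y ∈ YY S T W := by
    intro y hy
    obtain ⟨w, hw, c, hc, e⟩ := dec_Y C hWS hy
    have hcc : (autFun gA w)⁻¹ * gt y ∈ centralizerIn S (W ⊓ T) := by
      refine mem_cent.2 ⟨S.mul_mem (S.inv_mem (hgm.mem_S hw)) (hgt.mem_S hy), fun z hz => ?_⟩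
      obtain ⟨q, hq, rfl⟩ := hgQ.2 z hz
      have h1 := hgt.map_conj hy (hQY hq)
      have hq' : y * q * y⁻¹ ∈ W ⊓ T := norm_conj (YY_le_norm C hWS hy).2 hq
      rw [egt _ hq', egt q hq, conj_Y_eq C hc e hq, hgm.map_conj hw hq.1] at h1
      exact comm_of_conj h1.symm
    have e2 : gt y = autFun gA w * ((autFun gA w)⁻¹ * gt y) := by group
    rw [e2]
    exact Subgroup.mul_mem _ (le_YY (autFun_mem _ hw)) (cent_le_YY hcc)
  have hgtI : Img (YY S T W) gt (YY S T W) := img_self hgt hgtY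
  obtain ⟨kt, hkt, k1, k2, k3⟩ := hgt.inverse hgtI
  have ht₁nQ : ρ t ∈ normalizerIn S (W ⊓ T) := norm_inf C ⟨C.hTS ht₁.1, ht₁.2⟩
  have ht₁Y : ρ t ∈ Subgroup.normalizer ((YY S T W : Subgroup Ω) : Set Ω) := by
    refine mem_normalizer_of_conj_le' (fun y hy => ?_)
    obtain ⟨w, hw, c, hc, rfl⟩ := dec_Y C hWS hy
    have e : ρ t * (w * c) * (ρ t)⁻¹ = (ρ t * w * (ρ t)⁻¹) * (ρ t * c * (ρ t)⁻¹) := by group
    rw [e]
    exact Subgroup.mul_mem _ (le_YY (norm_conj ht₁.2 hw)) (cent_le_YY (conj_cent' ht₁nQ hc))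
  have hςm : Mp F (YY S T W) (fun y => kt (ρ t * gt y * (ρ t)⁻¹)) :=
    (hgt.comp hgtI.1 (Mp.conj hYS (C.hTS ht₁.1))).comp (fun y hy => norm_conj ht₁Y (hgtI.1 y hy)) hkt
  have hςI : Img (YY S T W) (fun y => kt (ρ t * gt y * (ρ t)⁻¹)) (YY S T W) :=
    img_self hςm (fun y hy => k3.1 _ (norm_conj ht₁Y (hgtI.1 y hy)))
  obtain ⟨ςh, hςh, eςh⟩ := toAut' hςm hςI
  have hgtς : ∀ y ∈ YY S T W, gt (autFun ςh y) = ρ t * gt y * (ρ t)⁻¹ := by
    intro y hy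
    rw [eςh y hy]
    exact k2 _ (norm_conj ht₁Y (hgtI.1 y hy))
  have hPr : Pr F T (YY S T W) (autFun ςh) := ⟨YY S T W, gt, ρ t, hgt, hgtI, ⟨ht₁.1, ht₁Y⟩, hgtς⟩
  have hςV : ςh ∈ Vv F E p (YY S T W) := Subgroup.subset_closure (Or.inr hPr)
  have hA' : A1 F E (YY S T W) (autFun ςh) := Pr.A1 C hPr (img_autFun _)
  have hςQ : ∀ q ∈ W ⊓ T, autFun ςh q = autFun s q := by
    intro q hq
    have hsq : autFun s q ∈ W ⊓ T := hA.img_inf.1 q hq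
    apply hgt.inj (hA'.img.1 q (hQY hq)) (hQY hsq)
    rw [hgtς q (hQY hq), egt _ hsq, egt q hq, hF1 q hq.1]
  have hz : ∀ w ∈ W, (autFun s w)⁻¹ * autFun ςh w ∈ W ⊓ T := by
    intro w hw
    refine hcz (mem_zz.2 ⟨?_, fun z hz => ?_⟩)
    · have e : (autFun s w)⁻¹ * autFun ςh w = (w⁻¹ * autFun s w)⁻¹ * (w⁻¹ * autFun ςh w) := by group
      rw [e]
      exact T.mul_mem (T.inv_mem (hA.mt w hw)) (hA'.mt w (le_YY hw))
    · obtain ⟨q, hq, rfl⟩ := hA.img_inf.2 z hz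
      have h1 := hA'.mp.map_conj (le_YY hw) (hQY hq)
      have hq' : w * q * w⁻¹ ∈ W ⊓ T := norm_conj (mem_norm_inf C hWS hw).2 hq
      rw [hςQ _ hq', hςQ q hq, hA.mp.map_conj hw hq.1] at h1
      exact comm_of_conj h1.symm
  have hςW : ∀ w ∈ W, autFun ςh w ∈ W := by
    intro w hw
    have e : autFun ςh w = autFun s w * ((autFun s w)⁻¹ * autFun ςh w) := by group
    rw [e]
    exact W.mul_mem (autFun_mem _ hw) (hz w hw).1
  have hςWI : Img W (autFun ςh) W := img_self (hA'.mp.restrict le_YY) hςW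
  obtain ⟨ς₁, hς₁, eς₁⟩ := toAut' (hA'.mp.restrict le_YY) hςWI
  have hs₀ : s ∈ F.autGroup W := mem_aut_of_mp hA.mp
  have hb0 : ς₁⁻¹ * s ∈ F.autGroup W := Subgroup.mul_mem _ (Subgroup.inv_mem _ hς₁) hs₀
  set b : MulAut W := ς₁⁻¹ * s with hb
  have hςb : ∀ u ∈ W, autFun ςh (autFun b u) = autFun s u := by
    intro u hu
    rw [← eς₁ _ (autFun_mem _ hu), hb, autFun_mul_apply, autFun_apply_inv]
  have hbQ : ∀ q ∈ W ⊓ T, autFun b q = q := by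
    intro q hq
    rw [hb, autFun_mul_apply, ← hςQ q hq, ← eς₁ q hq.1, autFun_inv_apply]
  have hbst : ∀ u ∈ W, u⁻¹ * autFun b u ∈ W ⊓ T := by
    intro u hu
    have hbu : autFun b u ∈ W := autFun_mem _ hu
    refine ⟨W.mul_mem (W.inv_mem hu) hbu, ?_⟩
    have e : u⁻¹ * autFun b u = (u⁻¹ * autFun s u) * ((autFun b u)⁻¹ * autFun ςh (autFun b u))⁻¹ := by
      rw [hςb u hu]
      group
    rw [e]
    exact T.mul_mem (hA.mt u hu) (T.inv_mem (hA'.mt _ (le_YY hbu)))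
  have ha₁ : gA * b * gA⁻¹ ∈ F.autGroup W := Subgroup.mul_mem _ (Subgroup.mul_mem _ hgA hb0) (Subgroup.inv_mem _ hgA)
  have hFA := isFullyAutomized_of_isFullyNormalized F C.hS C.hF hfnW
  have hid : ∀ q ∈ W ⊓ T, autFun (gA * b * gA⁻¹) q = q := by
    intro q hq
    rw [autFun_mul_apply, autFun_mul_apply, hbQ _ (hgiQ.1 q hq), autFun_apply_inv]
  have hst : ∀ w ∈ W, w⁻¹ * autFun (gA * b * gA⁻¹) w ∈ W ⊓ T := by
    intro w hw
    have hu : autFun gA⁻¹ w ∈ W := autFun_mem _ hw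
    rw [autFun_mul_apply, autFun_mul_apply]
    have e : w = autFun gA (autFun gA⁻¹ w) := (autFun_apply_inv gA w).symm
    have h4 := hgQ.1 _ (hbst _ hu)
    rw [hgm.map_mul (W.inv_mem hu) (autFun_mem _ hu), hgm.map_inv hu, ← e] at h4
    exact h4
  obtain ⟨c₁, hc₁, ec₁⟩ := inT_iff.1 (pi_inner C hFA ha₁ hid hst)
  have hn : ρ t * c₁⁻¹ ∈ normalizerIn S W := (normalizerIn S W).mul_mem ⟨C.hTS ht₁.1, ht₁.2⟩ ((normalizerIn S W).inv_mem hc₁)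
  have key : ∀ u ∈ W, (ρ t * c₁⁻¹) * autFun gA u * (ρ t * c₁⁻¹)⁻¹ = autFun gA (autFun ςh u) := by
    intro u hu
    have hv : autFun b⁻¹ u ∈ W := autFun_mem _ hu
    have e1 : autFun b (autFun b⁻¹ u) = u := autFun_apply_inv b u
    have h5 := hςb _ hv
    rw [e1] at h5
    have h6 := conj_fun gA b (autFun b⁻¹ u)
    rw [e1, ec₁ _ (autFun_mem _ hv)] at h6
    rw [h5, hF1 _ hv]
    rw [← h6]
    group
  have hηm : Mp F W (fun x => gt (autFun gA⁻¹ x)) := hgim.comp (fun x hx => le_YY (autFun_mem _ hx)) hgt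
  obtain ⟨W₂, hW₂⟩ := hηm.exists_img
  have hW₂S : W₂ ≤ S := hηm.img_le hW₂
  haveI : Finite W₂ := finite_of_le hW₂S
  have ht₂ : ρ t ∈ normalizerIn T W₂ := by
    refine ⟨ht₁.1, mem_normalizer_of_conj_le' (fun y hy => ?_)⟩
    obtain ⟨x, hx, rfl⟩ := hW₂.2 y hy
    have hu : autFun gA⁻¹ x ∈ W := autFun_mem _ hx
    show ρ t * gt (autFun gA⁻¹ x) * (ρ t)⁻¹ ∈ W₂
    rw [← hgtς _ (le_YY hu)]
    have := hW₂.1 _ (autFun_mem gA (hςW _ hu))
    simpa [autFun_inv_apply] using this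
  obtain ⟨t', ht', et'⟩ := st_T C hrecW hηm hW₂ ht₂ hn (by
    intro x hx
    have hu : autFun gA⁻¹ x ∈ W := autFun_mem _ hx
    have h7 := key _ hu
    rw [autFun_apply_inv] at h7
    show gt (autFun gA⁻¹ ((ρ t * c₁⁻¹) * x * (ρ t * c₁⁻¹)⁻¹)) = ρ t * gt (autFun gA⁻¹ x) * (ρ t)⁻¹
    rw [h7, autFun_inv_apply, hgtς _ (le_YY hu)])
  have hdN : t'⁻¹ * ρ t ∈ normalizerIn T W := (normalizerIn T W).mul_mem ((normalizerIn T W).inv_mem ht') ht₁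
  have hcd : ∀ y ∈ W, autFun (gA * b * gA⁻¹) y = (t'⁻¹ * ρ t) * y * (t'⁻¹ * ρ t)⁻¹ := by
    intro y hy
    rw [ec₁ y hy]
    have hx : c₁ * y * c₁⁻¹ ∈ W := norm_conj hc₁.2 hy
    have h8 := et' _ hx
    have e2 : (ρ t * c₁⁻¹) * (c₁ * y * c₁⁻¹) * (ρ t * c₁⁻¹)⁻¹ = ρ t * y * (ρ t)⁻¹ := by group
    rw [e2] at h8
    have e3 : c₁ * y * c₁⁻¹ = t'⁻¹ * (t' * (c₁ * y * c₁⁻¹) * t'⁻¹) * t' := by group
    rw [e3, ← h8]
    group
  set d := t'⁻¹ * ρ t with hd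
  have hdz : d ∈ W ⊓ T := by
    refine hcz (mem_zz.2 ⟨hdN.1, fun q hq => ?_⟩)
    have h9 := hcd q hq.1
    rw [hid q hq] at h9
    calc q * d = d * q * d⁻¹ * d := by rw [← h9]
      _ = d * q := by group
  have hd₂ : autFun gA⁻¹ d ∈ W ⊓ T := hgiQ.1 d hdz
  have hbc : ∀ u ∈ W, autFun b u = autFun gA⁻¹ d * u * (autFun gA⁻¹ d)⁻¹ := by
    intro u hu
    have hv : autFun gA u ∈ W := autFun_mem _ hu
    have h10 := conj_fun gA b u
    rw [hcd _ hv] at h10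
    apply hgm.inj (autFun_mem _ hu) (W.mul_mem (W.mul_mem hd₂.1 hu) (W.inv_mem hd₂.1))
    rw [← h10, hgm.map_conj hd₂.1 hu, autFun_apply_inv]
  have hd₂Y : autFun gA⁻¹ d ∈ YY S T W := hQY hd₂
  have hd₂N : autFun gA⁻¹ d ∈ Subgroup.normalizer ((YY S T W : Subgroup Ω) : Set Ω) := Subgroup.le_normalizer hd₂Y
  refine ⟨ςh * normAct (YY S T W) hd₂N, Subgroup.mul_mem _ hςV (mem_Vv_T hYS (mem_T_of_isC (isC_normAct hd₂N) hd₂.2)), fun w hw => ?_⟩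
  rw [autFun_mul_apply, normAct_fun hd₂N (le_YY hw), ← hbc w hw, hςb w hw]

/-- **Elements of `Vv(W)` extend to `Vv(YY)`.** -/
theorem Vv_ext (hfnW : F.IsFullyNormalized W) (hfnQ : F.IsFullyNormalized (W ⊓ T)) (h : Cl F E W) {α : MulAut W}
    (hα : α ∈ Vv F E p W) : ∃ β ∈ Vv F E p (YY S T W), ∀ w ∈ W, autFun β w = autFun α w := by
  induction hα using Subgroup.closure_induction with
  | mem x hx =>
    rcases hx with hx | hx
    · exact ext_pa C hfnW hfnQ h hx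
    · exact ext_pr C hfnW hfnQ h hx
  | one => exact ⟨1, Subgroup.one_mem _, fun w _ => by rw [autFun_one_apply, autFun_one_apply]⟩
  | mul x y _ _ ihx ihy =>
    obtain ⟨β₁, h1, e1⟩ := ihx
    obtain ⟨β₂, h2, e2⟩ := ihy
    refine ⟨β₁ * β₂, Subgroup.mul_mem _ h1 h2, fun w hw => ?_⟩
    rw [autFun_mul_apply, autFun_mul_apply, e2 w hw, e1 _ (autFun_mem _ hw)]
  | inv x _ ih =>
    obtain ⟨β, h1, e1⟩ := ih
    refine ⟨β⁻¹, Subgroup.inv_mem _ h1, fun w hw => ?_⟩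
    have hu : autFun x⁻¹ w ∈ W := autFun_mem _ hw
    have h2 := e1 _ hu
    rw [autFun_apply_inv] at h2
    have h3 := autFun_inv_apply β (autFun x⁻¹ w)
    rw [h2] at h3
    exact h3

/-- The `Π`-lemma at a fully normalized pair. -/
theorem pi_pair (hfnW : F.IsFullyNormalized W) (hfnQ : F.IsFullyNormalized (W ⊓ T)) (h : Cl F E W) {α : MulAut W}
    (hα : α ∈ Vv F E p W) (hid : ∀ q ∈ W ⊓ T, autFun α q = q) : ∃ z ∈ zz T (W ⊓ T), IsC W α z := by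
  have hWS := h.le
  obtain ⟨β, hβ, eβ⟩ := Vv_ext C hfnW hfnQ h hα
  obtain ⟨Y', ζ, hζ, hI, hY, hinf⟩ := exists_Yy C hfnQ h
  obtain ⟨β', hβ', e'⟩ := Vv_tr C hζ hI hβ
  have hcz : zz T (W ⊓ T) ≤ W ⊓ T := h.uc.self C.hTS
  have hinf0 : YY S T W ⊓ T = W ⊓ T := inf_YY C h
  have hQI : Img (W ⊓ T) ζ (W ⊓ T) := by
    have := C.img_inf hζ hI
    rwa [hinf0, hinf] at this
  obtain ⟨z, hz, ez⟩ := pi_Y C hY hβ' (by
    intro q hq
    rw [hinf] at hq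
    obtain ⟨q₀, hq₀, rfl⟩ := hQI.2 q hq
    have hq₀Y : q₀ ∈ YY S T W := le_YY hq₀.1
    rw [e' q₀ hq₀Y, eβ q₀ hq₀.1, hid q₀ hq₀])
  rw [hinf] at hz
  obtain ⟨z₀, hz₀, rfl⟩ := hQI.2 z (hcz hz)
  have hz₀Y : z₀ ∈ YY S T W := le_YY hz₀.1
  refine ⟨z₀, mem_zz.2 ⟨hz₀.2, fun y hy => ?_⟩, fun w hw => ?_⟩
  · have hyY : y ∈ YY S T W := le_YY hy.1
    apply hζ.inj (Subgroup.mul_mem _ hyY hz₀Y) (Subgroup.mul_mem _ hz₀Y hyY)
    rw [hζ.map_mul hyY hz₀Y, hζ.map_mul hz₀Y hyY]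
    exact (mem_zz.1 hz).2 _ (hQI.1 y hy)
  · have hwY : w ∈ YY S T W := le_YY hw
    have hαw : autFun α w ∈ YY S T W := le_YY (autFun_mem _ hw)
    apply hζ.inj hαw (Subgroup.mul_mem _ (Subgroup.mul_mem _ hz₀Y hwY) (Subgroup.inv_mem _ hz₀Y))
    rw [← eβ w hw, ← e' w hwY, hζ.map_conj hz₀Y hwY]
    exact ez _ (hI.1 w hwY)

/-- **The `Π`-lemma.** -/
theorem pi_W (h : Cl F E W) {α : MulAut W} (hα : α ∈ Vv F E p W) (hid : ∀ q ∈ W ⊓ T, autFun α q = q) :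
    ∃ z ∈ zz T (W ⊓ T), IsC W α z := by
  have hWS := h.le
  obtain ⟨W', ζ, hζ, hI, hfnW, hfnQ, hcl⟩ := exists_pair C h
  obtain ⟨α', hα', e'⟩ := Vv_tr C hζ hI hα
  have hQI := C.img_inf hζ hI
  obtain ⟨z, hz, ez⟩ := pi_pair C hfnW hfnQ hcl hα' (by
    intro q hq
    obtain ⟨q₀, hq₀, rfl⟩ := hQI.2 q hq
    rw [e' q₀ hq₀.1, hid q₀ hq₀])
  have hcz' : zz T (W' ⊓ T) ≤ W' ⊓ T := hcl.uc.self C.hTS
  obtain ⟨z₀, hz₀, rfl⟩ := hQI.2 z (hcz' hz)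
  refine ⟨z₀, mem_zz.2 ⟨hz₀.2, fun y hy => ?_⟩, fun w hw => ?_⟩
  · apply hζ.inj (W.mul_mem hy.1 hz₀.1) (W.mul_mem hz₀.1 hy.1)
    rw [hζ.map_mul hy.1 hz₀.1, hζ.map_mul hz₀.1 hy.1]
    exact (mem_zz.1 hz).2 _ (hQI.1 y hy)
  · apply hζ.inj (autFun_mem _ hw) (W.mul_mem (W.mul_mem hz₀.1 hw) (W.inv_mem hz₀.1))
    rw [← e' w hw, hζ.map_conj hz₀.1 hw]
    exact ez _ (hI.1 w hw)

/-- `p`-elements of `Vv` at a fully normalized pair are transports of conjugations by `T`. -/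
theorem single_pair (hfnW : F.IsFullyNormalized W) (hfnQ : F.IsFullyNormalized (W ⊓ T)) (h : Cl F E W) {α : MulAut W}
    (hα : α ∈ Vv F E p W) {e : ℕ} (hαe : α ^ p ^ e = 1) : Pr F T W (autFun α) := by
  have hWS := h.le
  have hYS : YY S T W ≤ S := YY_le C hWS
  haveI : Finite (YY S T W) := finite_of_le hYS
  haveI : Finite W := finite_of_le hWS
  haveI : Finite (MulAut (YY S T W)) := Cfsg.Agent.Lib.Fusion.Basic.finite_mulAut_of_finite (A := YY S T W)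
  haveI : Finite (MulAut W) := Cfsg.Agent.Lib.Fusion.Basic.finite_mulAut_of_finite (A := W)
  obtain ⟨β, hβ, eβ⟩ := Vv_ext C hfnW hfnQ h hα
  obtain ⟨u, v, hxe, ⟨k, hk⟩, q, hq, hqe⟩ := exists_parts (p := p) β
  have hpr := pow_restrict (Y := YY S T W) le_YY eβ
  have hαv : α ^ v = 1 := by
    refine one_of_two_orders hq ?_ (k := e) ?_
    · apply Cfsg.Agent.Lib.FusionExt.Glue2.eq_one_of_fun
      intro w hw
      rw [← pow_mul, ← hpr _ w hw, pow_mul, hqe, autFun_one_apply]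
    · rw [← pow_mul, mul_comm, pow_mul, hαe, one_pow]
  have hβu : ∀ w ∈ W, autFun (β ^ u) w = autFun α w := by
    intro w hw
    have h1 : autFun (β ^ u) (autFun (β ^ v) w) = autFun β w := by rw [← autFun_mul_apply, ← hxe]
    rw [hpr v w hw, hαv, autFun_one_apply, eβ w hw] at h1
    exact h1
  obtain ⟨Y', ζ, hζ, hI, hY, hinf⟩ := exists_Yy C hfnQ h
  obtain ⟨β', hβ', e'⟩ := Vv_tr C hζ hI (Subgroup.pow_mem _ hβ u)
  have hY'S : Y' ≤ S := hζ.img_le hI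
  haveI : Finite Y' := finite_of_le hY'S
  haveI : Finite (MulAut Y') := Cfsg.Agent.Lib.Fusion.Basic.finite_mulAut_of_finite (A := Y')
  have hβ'one : β' ^ p ^ k = 1 := by
    apply Cfsg.Agent.Lib.FusionExt.Glue2.eq_one_of_fun
    intro y hy
    obtain ⟨x, hx, rfl⟩ := hI.2 y hy
    rw [pow_along e' _ x hx, hk, autFun_one_apply]
  let L : Subgroup (MulAut Y') := Subgroup.zpowers β'
  have hLle : L ≤ Vv F E p Y' := Subgroup.zpowers_le.2 hβ'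
  have hLp : IsPGroup p L := by
    refine isPGroup_of_pow_eq_one (fun γ hγ => ?_)
    obtain ⟨i, rfl⟩ := Subgroup.mem_zpowers_iff.1 hγ
    refine ⟨k, ?_⟩
    rw [← zpow_natCast, ← zpow_mul, mul_comm, zpow_mul, zpow_natCast, hβ'one, one_zpow]
  obtain ⟨g₀, hg₀, hgc⟩ := (syl_Y C hY).exists_conj hLle hLp
  obtain ⟨t, ht, et⟩ := inT_iff.1 (hgc β' (Subgroup.mem_zpowers β'))
  have hg₀m : Mp F Y' (autFun g₀) := (vv_A1 C hY'S hg₀).mp
  have hφ : Mp F (YY S T W) (fun y => autFun g₀ (ζ y)) := hζ.comp hI.1 hg₀m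
  have hact : ∀ y ∈ YY S T W, autFun g₀ (ζ (autFun (β ^ u) y)) = t * autFun g₀ (ζ y) * t⁻¹ := by
    intro y hy
    rw [← et _ (autFun_mem g₀ (hI.1 y hy)), conj_fun, e' y hy]
  have hφW := hφ.restrict (le_YY : W ≤ YY S T W)
  obtain ⟨W₁, hW₁⟩ := hφW.exists_img
  have hW₁S : W₁ ≤ S := hφW.img_le hW₁
  haveI : Finite W₁ := finite_of_le hW₁S
  refine ⟨W₁, (fun y => autFun g₀ (ζ y)), t, hφW, hW₁, ⟨ht.1, mem_normalizer_of_conj_le' (fun y hy => ?_)⟩, fun x hx => ?_⟩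
  · obtain ⟨x, hx, rfl⟩ := hW₁.2 y hy
    show t * autFun g₀ (ζ x) * t⁻¹ ∈ W₁
    rw [← hact x (le_YY hx), hβu x hx]
    exact hW₁.1 _ (autFun_mem _ hx)
  · show autFun g₀ (ζ (autFun α x)) = t * autFun g₀ (ζ x) * t⁻¹
    rw [← hβu x hx]
    exact hact x (le_YY hx)

/-- **The `p`-elements of `Vv`.** -/
theorem single (h : Cl F E W) {α : MulAut W} (hα : α ∈ Vv F E p W) {e : ℕ} (hαe : α ^ p ^ e = 1) : Pr F T W (autFun α) := by
  have hWS := h.le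
  obtain ⟨W', ζ, hζ, hI, hfnW, hfnQ, hcl⟩ := exists_pair C h
  obtain ⟨α', hα', e'⟩ := Vv_tr C hζ hI hα
  haveI : Finite W' := finite_of_le hcl.le
  have hα'e : α' ^ p ^ e = 1 := by
    apply Cfsg.Agent.Lib.FusionExt.Glue2.eq_one_of_fun
    intro y hy
    obtain ⟨x, hx, rfl⟩ := hI.2 y hy
    rw [pow_along e' _ x hx, hαe, autFun_one_apply]
  have h1 := single_pair C hfnW hfnQ hcl hα' hα'e
  obtain ⟨k, hk, k1, k2, k3⟩ := hζ.inverse hI
  refine Pr.tr h1 (img_autFun _) hk k3 (fun y hy => ?_)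
  obtain ⟨x, hx, rfl⟩ := hI.2 y hy
  rw [e' x hx, k1 x hx, k1 _ (autFun_mem _ hx)]

/-- **Restriction of `Vv`.** -/
theorem res_Vv (h : Cl F E P) (hUP : U ≤ P) {v : MulAut P} (hv : v ∈ Vv F E p P) (hU : ∀ u ∈ U, autFun v u ∈ U) :
    ∃ v' ∈ Vv F E p U, ∀ u ∈ U, autFun v' u = autFun v u := by
  have hPS := h.le
  have hUS : U ≤ S := hUP.trans hPS
  haveI : Finite P := finite_of_le hPS
  haveI : Finite U := finite_of_le hUS
  haveI : Finite (MulAut P) := Cfsg.Agent.Lib.Fusion.Basic.finite_mulAut_of_finite (A := P)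
  obtain ⟨a, b, hxe, ⟨k, hk⟩, q, hq, hqe⟩ := exists_parts (p := p) v
  have hpow : ∀ j : ℕ, ∀ u ∈ U, autFun (v ^ j) u ∈ U := by
    intro j
    induction j with
    | zero => intro u hu; rw [pow_zero, autFun_one_apply]; exact hu
    | succ j ih =>
      intro u hu
      rw [pow_succ, autFun_mul_apply]
      exact ih _ (hU u hu)
  -- the `p`-part
  have hva : v ^ a ∈ Vv F E p P := Subgroup.pow_mem _ hv a
  have hvb : v ^ b ∈ Vv F E p P := Subgroup.pow_mem _ hv b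
  have hAa := vv_A1 C hPS hva
  have hAb := vv_A1 C hPS hvb
  obtain ⟨W₁, φ, t, h1, h2, ht, h3⟩ := single C h hva hk
  have hIa : Img U (autFun (v ^ a)) U := img_self (hAa.mp.restrict hUP) (hpow a)
  have hIb : Img U (autFun (v ^ b)) U := img_self (hAb.mp.restrict hUP) (hpow b)
  obtain ⟨u₁, -, eu₁⟩ := toAut' (hAa.mp.restrict hUP) hIa
  obtain ⟨u₂, -, eu₂⟩ := toAut' (hAb.mp.restrict hUP) hIb
  have hU₁ : u₁ ∈ Vv F E p U := by
    refine Subgroup.subset_closure (Or.inr ?_)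
    obtain ⟨W₂, hW₂⟩ := (h1.restrict hUP).exists_img
    have hW₂S : W₂ ≤ S := (h1.restrict hUP).img_le hW₂
    haveI : Finite W₂ := finite_of_le hW₂S
    refine ⟨W₂, φ, t, h1.restrict hUP, hW₂, ⟨ht.1, mem_normalizer_of_conj_le' (fun y hy => ?_)⟩, fun x hx => ?_⟩
    · obtain ⟨x, hx, rfl⟩ := hW₂.2 y hy
      rw [← h3 x (hUP hx)]
      exact hW₂.1 _ (hpow a x hx)
    · rw [eu₁ x hx]
      exact h3 x (hUP hx)
  have hU₂ : u₂ ∈ Vv F E p U := by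
    refine Subgroup.subset_closure (Or.inl ⟨⟨(hAb.mp.restrict hUP).congr (fun x hx => (eu₂ x hx).symm), img_autFun _, fun x hx => ?_, ?_⟩, q, hq, fun x hx => ?_⟩)
    · rw [eu₂ x hx]
      exact hAb.mt x (hUP hx)
    · exact (hAb.me.restrict (inf_le_inf_right T hUP)).congr (fun x hx => (eu₂ x hx.1).symm)
    · have h4 := iterate_autFun (a := u₂) q (⟨x, hx⟩ : U)
      rw [← autFun_coe] at h4
      have h5 : (autFun u₂)^[q] x = (autFun (v ^ b))^[q] x := iterate_congr (img_autFun u₂).1 eu₂ q hx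
      rw [h5]
      have h6 := iterate_autFun (a := v ^ b) q (⟨x, hUP hx⟩ : P)
      rw [← autFun_coe] at h6
      rw [h6, hqe]
      exact autFun_one_apply _
  refine ⟨u₁ * u₂, Subgroup.mul_mem _ hU₁ hU₂, fun x hx => ?_⟩
  rw [autFun_mul_apply, eu₂ x hx, eu₁ _ (hpow b x hx), ← autFun_mul_apply, ← hxe]

end main

end Cfsg.Agent.Lib.FusionExt.ER3
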