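import Cfsg.Agent.Lib.FusionExt.ER3
import Cfsg.Agent.Lib.FusionExt.G3

/-!
# The product `E·R`: the level systems and the family of automizers at a level (helper92)
-/

set_option autoImplicit false
set_option linter.unusedSectionVars false
set_option maxHeartbeats 1000000

namespace Cfsg.Agent.Lib.FusionExt.ER4

open Cfsg Cfsg.FusionSystem Cfsg.Agent.Lib.Fusion.Basic Cfsg.Agent.Lib.Fusion.GroupSystem
open Cfsg.Agent.Lib.FusionExt.MapApi Cfsg.Agent.Lib.FusionExt.PowerSys Cfsg.Agent.Lib.FusionExt.LowPi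
open Cfsg.Agent.Lib.FusionExt.PrimeRes1 Cfsg.Agent.Lib.Fusion.Saturation Cfsg.Agent.Lib.Fusion.Saturation2
open Cfsg.Agent.Lib.FusionExt.Invariant Cfsg.Agent.Lib.FusionExt.CentE
open Cfsg.Agent.Lib.FusionExt.ER0 Cfsg.Agent.Lib.FusionExt.ER1 Cfsg.Agent.Lib.FusionExt.ER2 Cfsg.Agent.Lib.FusionExt.ER3
open Cfsg.Agent.Lib.FusionExt.Normal
open Cfsg.Agent.Lib.FusionExt.Glue1 (Uc Uc.self Uc.conj Uc.up uc_top normAct_fun conj_fun inT_iff)
open Cfsg.Agent.Lib.FusionExt.Meet3 (exists_iso eq_of_autFun autFun_congr_apply)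
open Cfsg.Agent.Lib.FusionExt.Glue3 (comm_of_conj)
open Cfsg.Agent.Lib.FusionExt.G1 (Fam)

universe u

variable {Ω : Type u} [Group Ω] {S T L : Subgroup Ω} {F : FusionSystem S} {E : FusionSystem T} {p : ℕ}
variable {X Y Z P P' Q R U W U' W' : Subgroup Ω} {f f' g h φ ψ a δ χ ρ : Ω → Ω}

/-- The maps at a level: maps of `F` that act as an element of `L` modulo `T`, and on `T` up to a map of `E`. -/
structure Fr (F : FusionSystem S) (E : FusionSystem T) (L X : Subgroup Ω) (f : Ω → Ω) : Prop where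
  mp : Mp F X f
  le : X ≤ L
  lab : ∃ r ∈ L, (∀ x ∈ X, (r * x * r⁻¹)⁻¹ * f x ∈ T) ∧ Mp E (X ⊓ T) (fun y => r⁻¹ * f y * r)

/-- The hypotheses on the level. -/
structure Lv (T L S : Subgroup Ω) : Prop where
  tl : T ≤ L
  ls : L ≤ S

section cx

variable (C : Cx F E p)
include C

theorem frAx (hL : Lv T L S) : SysAx L (Fr F E L) where
  congr := by
    rintro X f g ⟨h1, h2, r, hr, h3, h4⟩ e
    refine ⟨h1.congr e, h2, r, hr, fun x hx => ?_, h4.congr (fun y hy => ?_)⟩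
    · rw [← e x hx]
      exact h3 x hx
    · show r⁻¹ * f y * r = r⁻¹ * g y * r
      rw [e y hy.1]
  le := fun h => h.le
  mem := by
    rintro X f x ⟨h1, h2, r, hr, h3, h4⟩ hx
    have e : f x = (r * x * r⁻¹) * ((r * x * r⁻¹)⁻¹ * f x) := by group
    rw [e]
    exact L.mul_mem (L.mul_mem (L.mul_mem hr (h2 hx)) (L.inv_mem hr)) (hL.tl (h3 x hx))
  mul := fun h hx hy => h.mp.map_mul hx hy
  inj := fun h hx hy e => h.mp.inj hx hy e
  conj := by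
    intro X a hX ha
    refine ⟨Mp.conj (hX.trans hL.ls) (hL.ls ha), hX, a, ha, fun x _ => by rw [inv_mul_cancel]; exact T.one_mem, ?_⟩
    exact (Mp.refl inf_le_right).congr (fun y _ => by group)
  comp := by
    rintro X Y f g ⟨h1, h2, r₁, hr₁, h3, h4⟩ hm ⟨k1, k2, r₂, hr₂, k3, k4⟩
    refine ⟨h1.comp hm k1, h2, r₂ * r₁, L.mul_mem hr₂ hr₁, fun x hx => ?_, ?_⟩
    · have hT1 := h3 x hx
      have hT2 := k3 _ (hm x hx)
      have e : (r₂ * r₁ * x * (r₂ * r₁)⁻¹)⁻¹ * g (f x) =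
          (r₂ * ((r₁ * x * r₁⁻¹)⁻¹ * f x) * r₂⁻¹) * ((r₂ * f x * r₂⁻¹)⁻¹ * g (f x)) := by group
      rw [e]
      exact T.mul_mem (sc_conj_mem F C.hT (hL.ls hr₂) hT1) hT2
    · -- the map of `E`
      have hfT : ∀ y ∈ X ⊓ T, f y ∈ Y ⊓ T := by
        intro y hy
        refine ⟨hm y hy.1, ?_⟩
        have := h3 y hy.1
        have e : f y = (r₁ * y * r₁⁻¹) * ((r₁ * y * r₁⁻¹)⁻¹ * f y) := by group
        rw [e]
        exact T.mul_mem (sc_conj_mem F C.hT (hL.ls hr₁) hy.2) this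
      obtain ⟨Z', hZ'⟩ := h4.exists_img
      have hZ'c : ∀ z ∈ Z', r₁ * z * r₁⁻¹ ∈ Y ⊓ T := by
        intro z hz
        obtain ⟨y, hy, rfl⟩ := hZ'.2 z hz
        have e : r₁ * (r₁⁻¹ * f y * r₁) * r₁⁻¹ = f y := by group
        rw [e]
        exact hfT y hy
      have hconj : Mp E (conjMap r₁⁻¹ (Y ⊓ T)) (fun x => r₁⁻¹ * (r₂⁻¹ * g (r₁⁻¹⁻¹ * x * r₁⁻¹) * r₂) * r₁⁻¹⁻¹) :=
        C.conj_E k4 (S.inv_mem (hL.ls hr₁))
      have hZle : ∀ z ∈ Z', z ∈ conjMap r₁⁻¹ (Y ⊓ T) := by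
        intro z hz
        rw [mem_conjMap]
        have := hZ'c z hz
        simpa using this
      refine (h4.comp hZ'.1 (hconj.restrict hZle)).congr (fun y hy => ?_)
      show r₁⁻¹ * (r₂⁻¹ * g (r₁⁻¹⁻¹ * (r₁⁻¹ * f y * r₁) * r₁⁻¹) * r₂) * r₁⁻¹⁻¹ = (r₂ * r₁)⁻¹ * g (f y) * (r₂ * r₁)
      have e2 : r₁⁻¹⁻¹ * (r₁⁻¹ * f y * r₁) * r₁⁻¹ = f y := by group
      rw [e2]
      group
  inv := by
    rintro X Y f ⟨h1, h2, r, hr, h3, h4⟩ hi
    obtain ⟨k, hk, k1, k2, k3⟩ := h1.inverse hi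
    have hfT : ∀ y ∈ X ⊓ T, f y ∈ Y ⊓ T := fun y hy => (C.img_inf h1 hi).1 y hy
    have hI := C.img_inf h1 hi
    have hYL : Y ≤ L := by
      intro y hy
      obtain ⟨x, hx, rfl⟩ := hi.2 y hy
      have e : f x = (r * x * r⁻¹) * ((r * x * r⁻¹)⁻¹ * f x) := by group
      rw [e]
      exact L.mul_mem (L.mul_mem (L.mul_mem hr (h2 hx)) (L.inv_mem hr)) (hL.tl (h3 x hx))
    refine ⟨k, ⟨hk, hYL, r⁻¹, L.inv_mem hr, fun y hy => ?_, ?_⟩, k1⟩
    · obtain ⟨x, hx, rfl⟩ := hi.2 y hy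
      rw [k1 x hx]
      have h5 := h3 x hx
      have e : (r⁻¹ * f x * r⁻¹⁻¹)⁻¹ * x = r⁻¹ * ((r * x * r⁻¹)⁻¹ * f x)⁻¹ * r := by group
      rw [e]
      have := sc_conj_mem F C.hT (S.inv_mem (hL.ls hr)) (T.inv_mem h5)
      simpa using this
    · obtain ⟨Z', hZ'⟩ := h4.exists_img
      obtain ⟨m₁, hm₁, m1, m2, m3⟩ := h4.inverse hZ'
      have hconj := C.conj_E hm₁ (hL.ls hr)
      have hle : Y ⊓ T ≤ conjMap r Z' := by
        intro y hy
        rw [mem_conjMap]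
        obtain ⟨x, hx, rfl⟩ := hI.2 y hy
        exact hZ'.1 x hx
      refine (hconj.restrict hle).congr (fun y hy => ?_)
      obtain ⟨x, hx, rfl⟩ := hI.2 y hy
      show r * m₁ (r⁻¹ * f x * r) * r⁻¹ = r⁻¹⁻¹ * k (f x) * r⁻¹
      have := m1 x hx
      rw [show (r⁻¹ * f x * r) = (fun y => r⁻¹ * f y * r) x from rfl, this, k1 x hx.1]
      group

/-- The system at a level. -/
noncomputable def FrS (hL : Lv T L S) : FusionSystem L := mkSys (frAx C hL)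

theorem mp_FrS {hL : Lv T L S} : Mp (FrS C hL) X f ↔ Fr F E L X f := mp_mkSys (frAx C hL)

theorem sc_FrS (hL : Lv T L S) : (FrS C hL).StronglyClosed L := by
  refine ⟨le_rfl, fun R₁ _ φ₁ hφ₁ x => ?_⟩
  exact ((FrS C hL).le_of_mem hφ₁).2 x

end cx

/-- The class at a level. -/
structure ClR (F : FusionSystem S) (E : FusionSystem T) (L P : Subgroup Ω) : Prop where
  cl : Cl F E P
  le : P ≤ L
  cov : ∀ r ∈ L, ∃ x ∈ P, x⁻¹ * r ∈ T

/-- Inner automorphisms and `Vv`. -/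
def VI (F : FusionSystem S) (E : FusionSystem T) (p : ℕ) (P : Subgroup Ω) : Subgroup (MulAut P) :=
  autInducedBy P P ⊔ Vv F E p P

/-- The family at a level. -/
def Aa (F : FusionSystem S) (E : FusionSystem T) (p : ℕ) (L P : Subgroup Ω) (f : Ω → Ω) : Prop :=
  ClR F E L P ∧ ∃ α ∈ VI F E p P, ∀ x ∈ P, f x = autFun α x

section fin

variable [Finite S] [Fact p.Prime] (C : Cx F E p)
include C

/-- The centralizer of `P ∩ T` at a level. -/
theorem ClR.cent_le (h : ClR F E L P) : centralizerIn L (P ⊓ T) ≤ P := by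
  intro x hx
  obtain ⟨w, hw, ht⟩ := h.cov x hx.1
  have hcomm : ∀ y ∈ P ⊓ T, x * y * x⁻¹ = y := fun y hy => by
    have := (mem_cent.1 hx).2 y hy
    rw [← this]
    group
  have hE : Mp E (P ⊓ T) (fun y => w⁻¹ * y * w⁻¹⁻¹) := by
    refine (Mp.conj inf_le_right ht : Mp E (P ⊓ T) (fun y => (w⁻¹ * x) * y * (w⁻¹ * x)⁻¹)).congr (fun y hy => ?_)
    have e : (w⁻¹ * x) * y * (w⁻¹ * x)⁻¹ = w⁻¹ * (x * y * x⁻¹) * w := by group
    rw [e, hcomm y hy]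
    group
  obtain ⟨q, hq, e⟩ := h.cl.ie w⁻¹ (P.inv_mem hw) hE
  have h2 : q⁻¹ * (w⁻¹ * x) ∈ zz T (P ⊓ T) := by
    refine mem_zz.2 ⟨T.mul_mem (T.inv_mem hq.2) ht, fun z hz => ?_⟩
    refine comm_of_conj ?_
    have e1 : (w⁻¹ * x) * z * (w⁻¹ * x)⁻¹ = w⁻¹ * (x * z * x⁻¹) * w := by group
    rw [e1, hcomm z hz, ← e z hz]
    group
  have h3 := h.cl.uc.self C.hTS h2
  have e2 : x = w * q * (q⁻¹ * (w⁻¹ * x)) := by group
  rw [e2]
  exact P.mul_mem (P.mul_mem hw hq.1) h3.1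

theorem ClR.zz_le (h : ClR F E L P) : zz L P ≤ P := by
  refine le_trans (fun x hx => ?_) (ClR.cent_le C h)
  exact mem_cent.2 ⟨(mem_zz.1 hx).1, fun y hy => (mem_zz.1 hx).2 y hy.1⟩

theorem fn_top : E.IsFullyNormalized T := by
  haveI := C.finT
  refine ⟨le_rfl, fun Q hQ => ?_⟩
  have h1 : normalizerIn T T = T := le_antisymm inf_le_left (le_normalizerIn le_rfl)
  rw [h1]
  have hQT : Q ≤ T := isConj_right_le E hQ
  exact Subgroup.card_le_of_le inf_le_left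

theorem ClR.up (hL : Lv T L S) (h : ClR F E L P) (hPY : P ≤ Y) (hYL : Y ≤ L) : ClR F E L Y := by
  have hYS : Y ≤ S := hYL.trans hL.ls
  refine ⟨⟨hYS, h.cl.uc.up (inf_le_inf_right T hPY) inf_le_right, fun x hx hxE => ?_⟩, hYL, fun r hr => ?_⟩
  · obtain ⟨w, hw, ht⟩ := h.cov x (hYL hx)
    have htY : w⁻¹ * x ∈ Y ⊓ T := ⟨Y.mul_mem (Y.inv_mem (hPY hw)) hx, ht⟩
    have hYT : Y ⊓ T ≤ T := inf_le_right
    have hnY : ∀ {y z : Ω}, y ∈ Y → z ∈ Y ⊓ T → y * z * y⁻¹ ∈ Y ⊓ T := fun hy hz =>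
      norm_conj (mem_norm_inf C hYS hy).2 hz
    have h1 : Mp E (Y ⊓ T) (fun y => w * y * w⁻¹) := by
      have h2 : Mp E (Y ⊓ T) (fun y => (w⁻¹ * x)⁻¹ * y * (w⁻¹ * x)⁻¹⁻¹) := Mp.conj hYT (T.inv_mem ht)
      refine (h2.comp (fun y hy => hnY (Y.inv_mem htY.1) hy) hxE).congr (fun y _ => ?_)
      group
    obtain ⟨q, hq, e⟩ := h.cl.ie w hw (h1.restrict (inf_le_inf_right T hPY))
    have hqY : q ∈ Y ⊓ T := inf_le_inf_right T hPY hq
    have hδ : Mp E (Y ⊓ T) (fun y => q⁻¹ * (w * y * w⁻¹) * q⁻¹⁻¹) :=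
      h1.comp (fun y hy => hnY (hPY hw) hy) (Mp.conj hYT (T.inv_mem hq.2))
    have hδi : Img (Y ⊓ T) (fun y => q⁻¹ * (w * y * w⁻¹) * q⁻¹⁻¹) (Y ⊓ T) := by
      haveI := C.finT
      refine Cfsg.Agent.Lib.FusionExt.LowPi.img_self hδ (fun y hy => ?_)
      exact hnY (Y.inv_mem hqY.1) (hnY (hPY hw) hy)
    obtain ⟨z, hz, -, ez⟩ := C.delta h.cl.uc (inf_le_inf_right T hPY) hYT hδ hδi (by
      intro y hy
      show q⁻¹ * (w * y * w⁻¹) * q⁻¹⁻¹ = y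
      rw [e y hy]
      group)
    have hzY : z ∈ Y ⊓ T := inf_le_inf_right T hPY hz
    refine ⟨q * z * (w⁻¹ * x), Subgroup.mul_mem _ (Subgroup.mul_mem _ hqY hzY) htY, fun y hy => ?_⟩
    have hy' : (w⁻¹ * x) * y * (w⁻¹ * x)⁻¹ ∈ Y ⊓ T := hnY htY.1 hy
    have h3 := ez _ hy'
    have h4 : q⁻¹ * (w * ((w⁻¹ * x) * y * (w⁻¹ * x)⁻¹) * w⁻¹) * q⁻¹⁻¹ = z * ((w⁻¹ * x) * y * (w⁻¹ * x)⁻¹) * z⁻¹ := h3
    have e5 : w * ((w⁻¹ * x) * y * (w⁻¹ * x)⁻¹) * w⁻¹ = x * y * x⁻¹ := by group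
    rw [e5] at h4
    have h6 : x * y * x⁻¹ = q * (q⁻¹ * (x * y * x⁻¹) * q⁻¹⁻¹) * q⁻¹ := by group
    rw [h6, h4]
    group
  · obtain ⟨w, hw, ht⟩ := h.cov r hr
    exact ⟨w, hPY hw, ht⟩

theorem ClR.top (hL : Lv T L S) : ClR F E L L := by
  have htop : L ⊓ T = T := inf_eq_right.2 hL.tl
  refine ⟨⟨hL.ls, by rw [htop]; exact uc_top C.hT, fun x hx hxE => ?_⟩, le_rfl, fun r hr => ⟨r, hr, by rw [inv_mul_cancel]; exact T.one_mem⟩⟩
  rw [htop] at hxE ⊢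
  have hs : x ∈ normalizerIn S T := by
    refine ⟨hL.ls hx, ?_⟩
    haveI := C.finT
    exact mem_normalizer_of_conj_le' (fun v hv => sc_conj_mem F C.hT (hL.ls hx) hv)
  obtain ⟨t, ht, e⟩ := C.es_cap (fn_top C) hs hxE
  exact ⟨t, ht.1, e⟩

theorem Inn_norm (hPS : P ≤ S) : autInducedBy P P ≤ Subgroup.normalizer (Vv F E p P : Set (MulAut P)) := by
  intro a ha
  have haF : a ∈ F.autGroup P := autInducedBy_le_autGroup F hPS (autInducedBy_mono P hPS ha)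
  rw [Subgroup.mem_normalizer_iff]
  intro v
  constructor
  · intro hv
    exact Vv_conj C hPS haF hv
  · intro hv
    have := Vv_conj C hPS (Subgroup.inv_mem _ haF) hv
    simpa [mul_assoc] using this

/-- Decomposition of elements of `VI`. -/
theorem VI_dec (hPS : P ≤ S) {α : MulAut P} (hα : α ∈ VI F E p P) :
    ∃ w ∈ P, ∃ b ∈ Vv F E p P, ∀ x ∈ P, autFun α x = w * autFun b x * w⁻¹ := by
  haveI : Finite P := finite_of_le hPS
  obtain ⟨a, ha, b, hb, rfl⟩ := exists_mul_of_mem_sup' (Inn_norm C hPS) hα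
  obtain ⟨w, hw, ew⟩ := inT_iff.1 ha
  refine ⟨w, hw.1, b, hb, fun x hx => ?_⟩
  rw [autFun_mul_apply, ew _ (autFun_mem _ hx)]

omit C in
theorem mem_VI_inn [Finite P] {w : Ω} (hw : w ∈ P) {c : MulAut P} (hc : IsC P c w) : c ∈ VI F E p P :=
  (le_sup_left : autInducedBy P P ≤ VI F E p P) (mem_T_of_isC hc hw)

omit C in
theorem mem_VI_V {c : MulAut P} (hc : c ∈ Vv F E p P) : c ∈ VI F E p P :=
  (le_sup_right : Vv F E p P ≤ VI F E p P) hc

/-- Transport of `VI`. -/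
theorem VI_tr (hφ : Mp F P φ) (hi : Img P φ P') {α : MulAut P} (hα : α ∈ VI F E p P) :
    ∃ α' ∈ VI F E p P', ∀ x ∈ P, autFun α' (φ x) = φ (autFun α x) := by
  have hPS : P ≤ S := hφ.le
  have hP'S : P' ≤ S := hφ.img_le hi
  haveI : Finite P' := finite_of_le hP'S
  obtain ⟨w, hw, b, hb, e⟩ := VI_dec C hPS hα
  obtain ⟨b', hb', e'⟩ := Vv_tr C hφ hi hb
  have hφw : φ w ∈ P' := hi.1 w hw
  have hN : φ w ∈ Subgroup.normalizer (P' : Set Ω) := Subgroup.le_normalizer hφw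
  refine ⟨normAct P' hN * b', Subgroup.mul_mem _ (mem_VI_inn hφw (isC_normAct hN)) (mem_VI_V hb'), fun x hx => ?_⟩
  rw [autFun_mul_apply, normAct_fun hN (autFun_mem _ (hi.1 x hx)), e' x hx, e x hx, hφ.map_conj hw (autFun_mem _ hx)]

/-- Restriction of `VI`. -/
theorem VI_res (hP : Cl F E P) (hUP : U ≤ P) (hU : ∀ r ∈ P, ∃ u ∈ U, u⁻¹ * r ∈ T) {α : MulAut P} (hα : α ∈ VI F E p P)
    (hαU : ∀ u ∈ U, autFun α u ∈ U) : ∃ α' ∈ VI F E p U, ∀ u ∈ U, autFun α' u = autFun α u := by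
  have hPS : P ≤ S := hP.le
  have hUS : U ≤ S := hUP.trans hPS
  haveI : Finite P := finite_of_le hPS
  haveI : Finite U := finite_of_le hUS
  obtain ⟨w, hw, b, hb, e⟩ := VI_dec C hPS hα
  obtain ⟨u, hu, ht⟩ := hU w hw
  have htP : u⁻¹ * w ∈ P := P.mul_mem (P.inv_mem (hUP hu)) hw
  have htN : u⁻¹ * w ∈ Subgroup.normalizer (P : Set Ω) := Subgroup.le_normalizer htP
  have hv' : normAct P htN * b ∈ Vv F E p P :=
    Subgroup.mul_mem _ (mem_Vv_T hPS (mem_T_of_isC (isC_normAct htN) ht)) hb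
  have hform : ∀ x ∈ P, autFun α x = u * autFun (normAct P htN * b) x * u⁻¹ := by
    intro x hx
    rw [autFun_mul_apply, normAct_fun htN (autFun_mem _ hx), e x hx]
    group
  obtain ⟨v'', hv'', ev''⟩ := res_Vv C hP hUP hv' (by
    intro x hx
    have h1 := hαU x hx
    rw [hform x (hUP hx)] at h1
    have h2 := U.mul_mem (U.mul_mem (U.inv_mem hu) h1) hu
    simpa [mul_assoc] using h2)
  have hN : u ∈ Subgroup.normalizer (U : Set Ω) := Subgroup.le_normalizer hu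
  refine ⟨normAct U hN * v'', Subgroup.mul_mem _ (mem_VI_inn hu (isC_normAct hN)) (mem_VI_V hv''), fun x hx => ?_⟩
  rw [autFun_mul_apply, normAct_fun hN (autFun_mem _ hx), ev'' x hx, hform x (hUP hx)]

/-- Members of the family are maps of the level system. -/
theorem Aa.fr (hL : Lv T L S) (h : Aa F E p L P f) : Fr F E L P f := by
  obtain ⟨hc, α, hα, e⟩ := h
  have hPS : P ≤ S := hc.cl.le
  obtain ⟨w, hw, b, hb, eb⟩ := VI_dec C hPS hα
  have hA := vv_A1 C hPS hb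
  have hαF : Mp F P (autFun α) := by
    have hle : VI F E p P ≤ F.autGroup P :=
      sup_le (fun a ha => autInducedBy_le_autGroup F hPS (autInducedBy_mono P hPS ha)) (Vv_le_aut C hPS)
    exact mp_autFun hPS (hle hα)
  refine ⟨hαF.congr (fun x hx => (e x hx).symm), hc.le, w, hc.le hw, fun x hx => ?_, hA.me.congr (fun y hy => ?_)⟩
  · rw [e x hx, eb x hx]
    have h1 := sc_conj_mem F C.hT (hPS hw) (hA.mt x hx)
    have e2 : (w * x * w⁻¹)⁻¹ * (w * autFun b x * w⁻¹) = w * (x⁻¹ * autFun b x) * w⁻¹ := by group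
    rw [e2]
    exact h1
  · show autFun b y = w⁻¹ * f y * w
    rw [e y hy.1, eb y hy.1]
    group

theorem Fr.clr (hL : Lv T L S) (hc : ClR F E L P) (hf : Fr F E L P f) (hi : Img P f Q) : ClR F E L Q := by
  obtain ⟨h1, h2, r, hr, h3, h4⟩ := hf
  have hQL : Q ≤ L := by
    intro y hy
    obtain ⟨x, hx, rfl⟩ := hi.2 y hy
    have e : f x = (r * x * r⁻¹) * ((r * x * r⁻¹)⁻¹ * f x) := by group
    rw [e]
    exact L.mul_mem (L.mul_mem (L.mul_mem hr (h2 hx)) (L.inv_mem hr)) (hL.tl (h3 x hx))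
  refine ⟨Cl.tr C hc.cl h1 hi, hQL, fun z hz => ?_⟩
  obtain ⟨w, hw, ht⟩ := hc.cov (r⁻¹ * z * r) (L.mul_mem (L.mul_mem (L.inv_mem hr) hz) hr)
  refine ⟨f w, hi.1 w hw, ?_⟩
  have h5 := h3 w hw
  have h6 := sc_conj_mem F C.hT (hL.ls hr) ht
  have e : (f w)⁻¹ * z = ((r * w * r⁻¹)⁻¹ * f w)⁻¹ * (r * (w⁻¹ * (r⁻¹ * z * r)) * r⁻¹) := by group
  rw [e]
  exact T.mul_mem (T.inv_mem h5) h6

/-- **The family at a level.** -/
theorem fam (hL : Lv T L S) : Fam (FrS C hL) L (ClR F E L) (Aa F E p L) where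
  sc := sc_FrS C hL
  cle h := h.le
  cself h := ClR.zz_le C h
  cup h h1 h2 := ClR.up C hL h h1 h2
  cconj h hf hi := Fr.clr C hL h ((mp_FrS C).1 hf) hi
  ctop := ClR.top C hL
  congr := by
    rintro P f g ⟨h1, α, hα, e⟩ e'
    exact ⟨h1, α, hα, fun x hx => by rw [← e' x hx, e x hx]⟩
  uc h := h.1
  mp h := (mp_FrS C).2 (Aa.fr C hL h)
  img := by
    rintro P f ⟨h1, α, hα, e⟩
    exact (img_autFun α).congr (fun x hx => (e x hx).symm)
  inner := by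
    intro P t hP ht
    have hPS : P ≤ S := hP.cl.le
    haveI : Finite P := finite_of_le hPS
    obtain ⟨w, hw, h5⟩ := hP.cov t ht.1
    have hwN : w ∈ Subgroup.normalizer (P : Set Ω) := Subgroup.le_normalizer hw
    have htN : w⁻¹ * t ∈ Subgroup.normalizer (P : Set Ω) := Subgroup.mul_mem _ (Subgroup.inv_mem _ hwN) ht.2
    refine ⟨hP, normAct P hwN * normAct P htN, Subgroup.mul_mem _ (mem_VI_inn hw (isC_normAct hwN))
      (mem_VI_V (mem_Vv_T hPS (mem_T_of_isC (isC_normAct htN) h5))), fun x hx => ?_⟩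
    show t * x * t⁻¹ = _
    rw [autFun_mul_apply, normAct_fun hwN (autFun_mem _ hx), normAct_fun htN hx]
    group
  comp := by
    rintro P f g ⟨h1, α, hα, e⟩ ⟨-, β, hβ, e'⟩
    refine ⟨h1, β * α, Subgroup.mul_mem _ hβ hα, fun x hx => ?_⟩
    show g (f x) = _
    rw [autFun_mul_apply, e x hx, e' _ (autFun_mem _ hx)]
  inv := by
    rintro P f ⟨h1, α, hα, e⟩
    refine ⟨autFun α⁻¹, ⟨h1, α⁻¹, Subgroup.inv_mem _ hα, fun _ _ => rfl⟩, fun x hx => ?_⟩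
    rw [e x hx, autFun_inv_apply]
  tr := by
    rintro P P' f φ ⟨h1, α, hα, e⟩ hφ hi
    have hφ' := (mp_FrS C).1 hφ
    obtain ⟨α', hα', e'⟩ := VI_tr C hφ'.mp hi hα
    refine ⟨autFun α', ⟨Fr.clr C hL h1 hφ' hi, α', hα', fun _ _ => rfl⟩, fun x hx => ?_⟩
    rw [e' x hx, e x hx]
  res := by
    rintro P U f ⟨h1, α, hα, e⟩ hU hUP hI
    obtain ⟨α', hα', e'⟩ := VI_res C h1.cl hUP (fun r hr => hU.cov r (h1.le hr)) hα (fun u hu => by
      rw [← e u (hUP hu)]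
      exact hI.1 u hu)
    exact ⟨hU, α', hα', fun u hu => by rw [e u (hUP hu), e' u hu]⟩

end fin

end Cfsg.Agent.Lib.FusionExt.ER4
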