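import Cfsg.Agent.Lib.FusionExt.ER4

/-!
# The product `E·R`: extension of maps of `E` at fully normalized subgroups (helper92)
-/

set_option autoImplicit false
set_option linter.unusedSectionVars false
set_option maxHeartbeats 1000000

namespace Cfsg.Agent.Lib.FusionExt.ER5a

open Cfsg Cfsg.FusionSystem Cfsg.Agent.Lib.Fusion.Basic Cfsg.Agent.Lib.Fusion.GroupSystem
open Cfsg.Agent.Lib.FusionExt.MapApi Cfsg.Agent.Lib.FusionExt.PowerSys Cfsg.Agent.Lib.FusionExt.LowPi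
open Cfsg.Agent.Lib.FusionExt.PrimeRes1 Cfsg.Agent.Lib.Fusion.Saturation Cfsg.Agent.Lib.Fusion.Saturation2
open Cfsg.Agent.Lib.FusionExt.Invariant Cfsg.Agent.Lib.FusionExt.CentE
open Cfsg.Agent.Lib.FusionExt.ER0 Cfsg.Agent.Lib.FusionExt.ER1 Cfsg.Agent.Lib.FusionExt.ER2 Cfsg.Agent.Lib.FusionExt.ER3
open Cfsg.Agent.Lib.FusionExt.ER4
open Cfsg.Agent.Lib.FusionExt.Normal
open Cfsg.Agent.Lib.FusionExt.Glue1 (Uc Uc.self Uc.conj Uc.up uc_top normAct_fun conj_fun inT_iff)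
open Cfsg.Agent.Lib.FusionExt.Glue2 (ga conjMap_mul conjMap_one conjMap_inv conjMap_inv' conjMap_card conjMap_eq_of_norm norm_of_conjMap_eq)
open Cfsg.Agent.Lib.FusionExt.Meet3 (exists_iso eq_of_autFun autFun_congr_apply)
open Cfsg.Agent.Lib.FusionExt.Glue3 (comm_of_conj)
open Cfsg.Agent.Lib.FusionExt.G1 (Fam Dp)

universe u

section grp

variable {G : Type*} [Group G] [Finite G] {p : ℕ} [Fact p.Prime] {B P : Subgroup G}

/-- A `p`-group normalizing `B` and with Sylow intersection is Sylow in the product. -/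
theorem sylow_sup (hPp : IsPGroup p P) (hPn : ∀ y ∈ P, ∀ b ∈ B, y * b * y⁻¹ ∈ B) (hsy : IsSylowIn p (B ⊓ P) B) :
    IsSylowIn p P (B ⊔ P) := by
  rw [isSylowIn_iff_maximal (le_sup_right : P ≤ B ⊔ P)]
  refine ⟨hPp, fun D hD hDp hPD => ?_⟩
  have hmax := ((isSylowIn_iff_maximal (inf_le_left : B ⊓ P ≤ B)).1 hsy).2
  have h1 : B ⊓ D = B ⊓ P := hmax (B ⊓ D) inf_le_left hDp.to_inf_right (inf_le_inf_left B hPD)
  refine le_antisymm (fun d hd => ?_) hPD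
  have hn : P ≤ Subgroup.normalizer (B : Set G) := by
    intro y hy
    rw [Subgroup.mem_normalizer_iff]
    intro b
    refine ⟨fun hb => hPn y hy b hb, fun hb => ?_⟩
    have := hPn y⁻¹ (P.inv_mem hy) _ hb
    simpa [mul_assoc] using this
  have hd' : d ∈ P ⊔ B := by
    rw [sup_comm]
    exact hD hd
  obtain ⟨y, hy, b, hb, rfl⟩ := exists_mul_of_mem_sup' hn hd'
  have hbD : b ∈ D := by
    have := D.mul_mem (D.inv_mem (hPD hy)) hd
    simpa using this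
  have hbP : b ∈ B ⊓ P := by
    rw [← h1]
    exact ⟨hb, hbD⟩
  exact P.mul_mem hy hbP.2

end grp

variable {Ω : Type u} [Group Ω] {S T L : Subgroup Ω} {F : FusionSystem S} {E : FusionSystem T} {p : ℕ}
variable {X Y Z P P' Q Q₀ R U W U' W' : Subgroup Ω} {f f' g h φ ψ a δ χ ρ : Ω → Ω}

/-- The preimage in `N_L(Q₀)` of a group of automorphisms. -/
def Pre (L Q₀ : Subgroup Ω) (Qh : Subgroup (MulAut Q₀)) : Subgroup Ω where
  carrier := {y | y ∈ normalizerIn L Q₀ ∧ ∃ α ∈ Qh, ∀ q ∈ Q₀, autFun α q = y * q * y⁻¹}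
  one_mem' := ⟨(normalizerIn L Q₀).one_mem, 1, Qh.one_mem, fun w _ => by
    rw [autFun_one_apply]; simp⟩
  mul_mem' := by
    rintro y₁ y₂ ⟨h1, q₁, hq₁, e₁⟩ ⟨h2, q₂, hq₂, e₂⟩
    refine ⟨(normalizerIn L Q₀).mul_mem h1 h2, q₁ * q₂, Qh.mul_mem hq₁ hq₂, fun w hw => ?_⟩
    rw [autFun_mul_apply, e₂ w hw, e₁ _ (norm_conj h2.2 hw)]
    simp only [mul_inv_rev, mul_assoc]
  inv_mem' := by
    rintro y ⟨h1, q, hq, e⟩
    refine ⟨(normalizerIn L Q₀).inv_mem h1, q⁻¹, Qh.inv_mem hq, fun w hw => ?_⟩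
    have hw' : y⁻¹ * w * y⁻¹⁻¹ ∈ Q₀ := norm_conj (Subgroup.inv_mem _ h1.2) hw
    have h3 := e _ hw'
    have h4 : y * (y⁻¹ * w * y⁻¹⁻¹) * y⁻¹ = w := by group
    rw [h4] at h3
    rw [← h3, autFun_inv_apply, h3]

theorem cent_le_Pre {Qh : Subgroup (MulAut Q₀)} : centralizerIn L Q₀ ≤ Pre L Q₀ Qh := by
  intro d hd
  refine ⟨(Cfsg.Agent.Lib.Fusion.Basic.centralizerIn_le_normalizerIn L Q₀) hd, 1, Qh.one_mem, fun q hq => ?_⟩
  rw [autFun_one_apply]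
  have := (mem_cent.1 hd).2 q hq
  rw [← this]
  group

/-- Coverage of `L` modulo `T`. -/
def Cov (T L U : Subgroup Ω) : Prop := ∀ r ∈ L, ∃ u ∈ U, u⁻¹ * r ∈ T

section cx

variable [Finite S] [Fact p.Prime] (C : Cx F E p)
include C

/-- Subgroups of the normalizer containing the centralizer. -/
theorem cl_of_cent (hL : Lv T L S) (hfn : E.IsFullyNormalized Q₀) (hU : Uc F T Q₀) (hQU : Q₀ ≤ U) (hUN : U ≤ normalizerIn L Q₀)
    (hC : centralizerIn L Q₀ ≤ U) (hcov : Cov T L U) : ClR F E L U := by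
  have hQT : Q₀ ≤ T := hfn.1
  have hUL : U ≤ L := hUN.trans inf_le_left
  have hUS : U ≤ S := hUL.trans hL.ls
  have hQUT : Q₀ ≤ U ⊓ T := le_inf hQU hQT
  refine ⟨⟨hUS, hU.up hQUT inf_le_right, fun x hx hxE => ?_⟩, hUL, hcov⟩
  have hxQ : Mp E Q₀ (fun y => x * y * x⁻¹) := hxE.restrict hQUT
  obtain ⟨t, ht, et⟩ := C.es_cap hfn ⟨hUS hx, (hUN hx).2⟩ hxQ
  have hd : t⁻¹ * x ∈ centralizerIn L Q₀ := by
    refine mem_cent.2 ⟨L.mul_mem (L.inv_mem (hL.tl ht.1)) (hUL hx), fun q hq => ?_⟩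
    exact comm_of_conj (et q hq)
  have hdU := hC hd
  have htU : t ∈ U := by
    have := U.mul_mem hx (U.inv_mem hdU)
    simpa using this
  have htUT : t ∈ U ⊓ T := ⟨htU, ht.1⟩
  have hYT : U ⊓ T ≤ T := inf_le_right
  have hnY : ∀ {y z : Ω}, y ∈ U → z ∈ U ⊓ T → y * z * y⁻¹ ∈ U ⊓ T := fun hy hz =>
    norm_conj (mem_norm_inf C hUS hy).2 hz
  have hδ : Mp E (U ⊓ T) (fun y => t⁻¹ * (x * y * x⁻¹) * t⁻¹⁻¹) :=
    hxE.comp (fun y hy => hnY hx hy) (Mp.conj hYT (T.inv_mem ht.1))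
  have hδi : Img (U ⊓ T) (fun y => t⁻¹ * (x * y * x⁻¹) * t⁻¹⁻¹) (U ⊓ T) := by
    haveI := C.finT
    exact img_self hδ (fun y hy => hnY (U.inv_mem htU) (hnY hx hy))
  obtain ⟨z, hz, -, ez⟩ := C.delta hU hQUT hYT hδ hδi (by
    intro q hq
    show t⁻¹ * (x * q * x⁻¹) * t⁻¹⁻¹ = q
    rw [et q hq]
    group)
  refine ⟨t * z, Subgroup.mul_mem _ htUT (hQUT hz), fun y hy => ?_⟩
  have h4 : t⁻¹ * (x * y * x⁻¹) * t⁻¹⁻¹ = z * y * z⁻¹ := ez y hy
  have h6 : x * y * x⁻¹ = t * (t⁻¹ * (x * y * x⁻¹) * t⁻¹⁻¹) * t⁻¹ := by group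
  rw [h6, h4]
  group

/-- Coverage along a map of the level. -/
theorem Cov.tr (hL : Lv T L S) (hc : Cov T L P) (hf : Fr F E L P f) (hi : Img P f Q) : Cov T L Q := by
  obtain ⟨h1, h2, r, hr, h3, h4⟩ := hf
  intro z hz
  obtain ⟨w, hw, ht⟩ := hc (r⁻¹ * z * r) (L.mul_mem (L.mul_mem (L.inv_mem hr) hz) hr)
  refine ⟨f w, hi.1 w hw, ?_⟩
  have h5 := h3 w hw
  have h6 := sc_conj_mem F C.hT (hL.ls hr) ht
  have e : (f w)⁻¹ * z = ((r * w * r⁻¹)⁻¹ * f w)⁻¹ * (r * (w⁻¹ * (r⁻¹ * z * r)) * r⁻¹) := by group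
  rw [e]
  exact T.mul_mem (T.inv_mem h5) h6

/-- The level path. -/
abbrev LP (F : FusionSystem S) (E : FusionSystem T) (p : ℕ) (L X : Subgroup Ω) (f : Ω → Ω) : Prop := Dp L (Aa F E p L) X f

/-- Conjugation at a level. -/
theorem lp_conj (hL : Lv T L S) {a : Ω} (ha : a ∈ L) (hX : X ≤ L) : LP F E p L X (fun x => a * x * a⁻¹) :=
  Cfsg.Agent.Lib.FusionExt.G1.Dp.edge (fam C hL) ((fam C hL).inner (fam C hL).ctop ⟨ha, Subgroup.le_normalizer ha⟩) hX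

/-- Paths of a level are maps of the level. -/
theorem lp_fr (hL : Lv T L S) (hd : LP F E p L X f) : Fr F E L X f :=
  (mp_FrS C).1 (hd.mp (fam C hL))

/-- **Extension of automorphisms of `E` along the level.** -/
theorem AL (hL : Lv T L S) (hfn : E.IsFullyNormalized Q₀) (hU : Uc F T Q₀) {b : MulAut Q₀} (hb : b ∈ E.autGroup Q₀)
    (hQU : Q₀ ≤ U) (hUN : U ≤ normalizerIn L Q₀) (hcov : Cov T L U)
    (hcomp : ∀ u ∈ U, ∃ u' ∈ normalizerIn L Q₀, ∀ q ∈ Q₀, autFun b (u * q * u⁻¹) = u' * autFun b q * u'⁻¹) :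
    ∃ θ, LP F E p L U θ ∧ ∀ q ∈ Q₀, θ q = autFun b q := by
  have A := fam (p := p) C hL
  have hQT : Q₀ ≤ T := hfn.1
  have hQS : Q₀ ≤ S := hQT.trans C.hTS
  have hQL : Q₀ ≤ L := hQT.trans hL.tl
  haveI : Finite Q₀ := finite_of_le hQS
  haveI : Finite (MulAut Q₀) := Cfsg.Agent.Lib.Fusion.Basic.finite_mulAut_of_finite (A := Q₀)
  have hNLS : normalizerIn L Q₀ ≤ normalizerIn S Q₀ := inf_le_inf_right _ hL.ls
  -- the groups
  have hBM : ∀ m ∈ autInducedBy L Q₀, ∀ β ∈ E.autGroup Q₀, m * β * m⁻¹ ∈ E.autGroup Q₀ := by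
    intro m hm β hβ
    obtain ⟨x, hx, ex⟩ := inT_iff.1 hm
    refine mem_aut_of_mp ((C.conj_E_norm (mp_autFun hQT hβ) (hNLS hx)).congr (fun q hq => ?_))
    have e1 : autFun m⁻¹ q = x⁻¹ * q * x := by
      have h2 := autFun_inv_apply m (x⁻¹ * q * x)
      have hq' : x⁻¹ * q * x ∈ Q₀ := conj_inv_mem hx.2 hq
      rw [ex _ hq'] at h2
      have e2 : x * (x⁻¹ * q * x) * x⁻¹ = q := by group
      rw [e2] at h2
      exact h2
    rw [autFun_mul_apply, autFun_mul_apply, e1, ex _ (autFun_mem β (conj_inv_mem hx.2 hq))]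
  have hTM : autInducedBy T Q₀ ≤ autInducedBy L Q₀ := autInducedBy_mono Q₀ hL.tl
  have hTB : autInducedBy T Q₀ ≤ E.autGroup Q₀ := autInducedBy_le_autGroup E hQT
  have hinf : E.autGroup Q₀ ⊓ autInducedBy L Q₀ = autInducedBy T Q₀ := by
    refine le_antisymm (fun α hα => ?_) (le_inf hTB hTM)
    obtain ⟨x, hx, ex⟩ := inT_iff.1 hα.2
    have h1 : Mp E Q₀ (fun y => x * y * x⁻¹) := (mp_autFun hQT hα.1).congr ex
    obtain ⟨t, ht, et⟩ := C.es_cap hfn (hNLS hx) h1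
    exact inT_iff.2 ⟨t, ht, fun q hq => by rw [ex q hq, et q hq]⟩
  have hMp : IsPGroup p (autInducedBy L Q₀) := (isPGroup_autInducedBy Q₀ (C.hS.to_le hL.ls))
  have hsy : IsSylowIn p (autInducedBy L Q₀) (E.autGroup Q₀ ⊔ autInducedBy L Q₀) :=
    sylow_sup hMp hBM (by rw [hinf]; exact C.syl_E hfn)
  have hMN : autInducedBy L Q₀ ≤ Subgroup.normalizer (E.autGroup Q₀ : Set (MulAut Q₀)) := by
    intro y hy
    rw [Subgroup.mem_normalizer_iff]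
    intro β
    refine ⟨fun hβ => hBM y hy β hβ, fun hβ => ?_⟩
    have := hBM y⁻¹ (Subgroup.inv_mem _ hy) _ hβ
    simpa [mul_assoc] using this
  -- the property
  let Ext : Subgroup (MulAut Q₀) → MulAut Q₀ → Prop := fun Qh c =>
    ∀ U : Subgroup Ω, Q₀ ≤ U → U ≤ normalizerIn L Q₀ → Cov T L U → (∀ x ∈ U, ∃ α ∈ Qh, ∀ q ∈ Q₀, autFun α q = x * q * x⁻¹) →
      ∃ θ, LP F E p L U θ ∧ ∀ q ∈ Q₀, θ q = autFun c q
  have key := ga (G := MulAut Q₀) (p := p) (Ext := Ext) hsy le_sup_right ?_ ?_ ?_ ?_ ?_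
  · refine key (autInducedBy U Q₀) (autInducedBy_mono Q₀ (hUN.trans inf_le_left)) b (Subgroup.mem_sup_left hb) ?_ U hQU hUN hcov ?_
    · rintro _ ⟨α, hα, rfl⟩
      obtain ⟨u, hu, eu⟩ := inT_iff.1 hα
      obtain ⟨u', hu', eu'⟩ := hcomp u hu.1
      refine inT_iff.2 ⟨u', hu', fun q hq => ?_⟩
      show autFun (b * α * b⁻¹) q = _
      have hq' : autFun b⁻¹ q ∈ Q₀ := autFun_mem _ hq
      have h2 := eu' _ hq'
      rw [autFun_apply_inv] at h2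
      rw [autFun_mul_apply, autFun_mul_apply, eu _ hq', h2]
    · intro x hx
      have hxN := hUN hx
      exact ⟨normAct Q₀ hxN.2, inT_iff.2 ⟨x, ⟨hx, hxN.2⟩, fun q hq => normAct_fun hxN.2 hq⟩, fun q hq => normAct_fun hxN.2 hq⟩
  · -- `p'`-elements
    intro Qh hQh c hc hcn hcm U' hQU' hU'N hU'c hU'Q
    obtain ⟨m, hm, hcme⟩ := hcm
    -- `c ∈ B`
    have hcB : c ∈ E.autGroup Q₀ := by
      have hci : c⁻¹ ∈ autInducedBy L Q₀ ⊔ E.autGroup Q₀ := by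
        rw [sup_comm]
        exact Subgroup.inv_mem _ hc
      obtain ⟨y, hy, β, hβ, e⟩ := exists_mul_of_mem_sup' hMN hci
      have hc2 : c = β⁻¹ * y⁻¹ := by
        have := congrArg (fun z => z⁻¹) e
        simpa using this
      obtain ⟨j, hj⟩ := IsPGroup.iff_card.1 hMp
      have hyi : y⁻¹ ∈ autInducedBy L Q₀ := Subgroup.inv_mem _ hy
      have hpow : y⁻¹ ^ p ^ j = 1 := by
        have := pow_card_eq_one' (x := (⟨y⁻¹, hyi⟩ : autInducedBy L Q₀))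
        rw [hj] at this
        exact congrArg Subtype.val this
      rw [hc2] at hcme ⊢
      exact mem_of_sub (H := E.autGroup Q₀) (p := p) (Subgroup.inv_mem _ hβ)
        (fun x hx => hBM _ hyi x hx) hpow hcme hm
    -- the preimage
    let X₀ : Subgroup Ω :=
      { carrier := {y | y ∈ normalizerIn L Q₀ ∧ ∃ α ∈ Qh, ∀ q ∈ Q₀, autFun α q = y * q * y⁻¹}
        one_mem' := ⟨(normalizerIn L Q₀).one_mem, 1, Qh.one_mem, fun w _ => by
          rw [autFun_one_apply]; simp⟩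
        mul_mem' := by
          rintro y₁ y₂ ⟨h1, q₁, hq₁, e₁⟩ ⟨h2, q₂, hq₂, e₂⟩
          refine ⟨(normalizerIn L Q₀).mul_mem h1 h2, q₁ * q₂, Qh.mul_mem hq₁ hq₂, fun w hw => ?_⟩
          rw [autFun_mul_apply, e₂ w hw, e₁ _ (norm_conj h2.2 hw)]
          simp only [mul_inv_rev, mul_assoc]
        inv_mem' := by
          rintro y ⟨h1, q, hq, e⟩
          refine ⟨(normalizerIn L Q₀).inv_mem h1, q⁻¹, Qh.inv_mem hq, fun w hw => ?_⟩
          have hw' : y⁻¹ * w * y⁻¹⁻¹ ∈ Q₀ := norm_conj (Subgroup.inv_mem _ h1.2) hw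
          have h3 := e _ hw'
          have h4 : y * (y⁻¹ * w * y⁻¹⁻¹) * y⁻¹ = w := by group
          rw [h4] at h3
          rw [← h3, autFun_inv_apply, h3] }
    have hX₀N : X₀ ≤ normalizerIn L Q₀ := fun y hy => hy.1
    have hU'X₀ : U' ≤ X₀ := fun x hx => ⟨hU'N hx, hU'Q x hx⟩
    have hQX₀ : Q₀ ≤ X₀ := hQU'.trans hU'X₀
    have hCX₀ : centralizerIn L Q₀ ≤ X₀ := by
      intro d hd
      refine ⟨(Cfsg.Agent.Lib.Fusion.Basic.centralizerIn_le_normalizerIn L Q₀) hd, 1, Qh.one_mem, fun q hq => ?_⟩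
      rw [autFun_one_apply]
      have := (mem_cent.1 hd).2 q hq
      rw [← this]
      group
    have hcovX₀ : Cov T L X₀ := fun r hr => by
      obtain ⟨u, hu, e⟩ := hU'c r hr
      exact ⟨u, hU'X₀ hu, e⟩
    have hX₀cl : ClR F E L X₀ := cl_of_cent C hL hfn hU hQX₀ hX₀N hCX₀ hcovX₀
    have hX₀S : X₀ ≤ S := hX₀N.trans (inf_le_left.trans hL.ls)
    -- the overgroup
    let Xt : Subgroup Ω := X₀ ⊔ centralizerIn S Q₀
    have hX₀nS : X₀ ≤ Subgroup.normalizer ((centralizerIn S Q₀ : Subgroup Ω) : Set Ω) := by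
      intro w hw
      have hn : w ∈ normalizerIn S Q₀ := hNLS (hX₀N hw)
      rw [Subgroup.mem_normalizer_iff]
      intro d
      constructor
      · intro hd
        exact conj_cent' hn hd
      · intro hd
        have h1 := conj_cent' ((normalizerIn S Q₀).inv_mem hn) hd
        have e1 : w⁻¹ * (w * d * w⁻¹) * w⁻¹⁻¹ = d := by group
        rwa [e1] at h1
    have hdec : ∀ {x : Ω}, x ∈ Xt → ∃ w ∈ X₀, ∃ d ∈ centralizerIn S Q₀, x = w * d := fun hx =>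
      exists_mul_of_mem_sup' hX₀nS hx
    have hconj : ∀ {x w d q : Ω}, d ∈ centralizerIn S Q₀ → x = w * d → q ∈ Q₀ → x * q * x⁻¹ = w * q * w⁻¹ := by
      intro x w d q hd e hq
      have h1 : q * d = d * q := (mem_cent.1 hd).2 q hq
      rw [e]
      calc w * d * q * (w * d)⁻¹ = w * (d * q) * d⁻¹ * w⁻¹ := by group
        _ = w * (q * d) * d⁻¹ * w⁻¹ := by rw [h1]
        _ = _ := by group
    have hQXt : Q₀ ≤ Xt := hQX₀.trans le_sup_left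
    have hXtN : Xt ≤ normalizerIn S Q₀ := sup_le (fun _ hx => hNLS (hX₀N hx)) cent_le_norm
    have hcmE : Mp E Q₀ (autFun c) := mp_autFun hQT hcB
    have hcit : ∀ x ∈ Q₀, (autFun c)^[m] x = x := by
      intro x hx
      have h4 := iterate_autFun (a := c) m (⟨x, hx⟩ : Q₀)
      rw [← autFun_coe] at h4
      rw [h4, hcme]
      exact autFun_one_apply _
    obtain ⟨ξ, hξ, hξi, hξQ, hξt, hξE, m', hm', hξm⟩ := GE C hfn hU hcmE (img_autFun c) hm hcit hQXt hXtN le_sup_right (by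
      intro x hx
      obtain ⟨w, hw, d, hd, e⟩ := hdec hx
      obtain ⟨hwN, α, hα, eα⟩ := hw
      have h1 : c * α * c⁻¹ ∈ Qh := (Subgroup.mem_normalizer_iff.1 hcn α).1 hα
      obtain ⟨x', hx', ex'⟩ := inT_iff.1 (hQh h1)
      refine ⟨x', Subgroup.mem_sup_left ⟨hx', c * α * c⁻¹, h1, ex'⟩, fun q hq => ?_⟩
      rw [hconj hd e hq, ← eα q hq, ← ex' _ (autFun_mem _ hq), conj_fun])
    have hinfX : Xt ⊓ T ≤ X₀ := by
      rintro y ⟨hy, hyT⟩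
      obtain ⟨w, hw, d, hd, e⟩ := hdec hy
      obtain ⟨hwN, α, hα, eα⟩ := hw
      have hyN : y ∈ normalizerIn L Q₀ := by
        have h1 := hXtN hy
        exact ⟨hL.tl hyT, h1.2⟩
      exact ⟨hyN, α, hα, fun q hq => by rw [hconj hd e hq, eα q hq]⟩
    have hξX₀ : ∀ x ∈ X₀, ξ x ∈ X₀ := by
      intro x hx
      have hxt : x ∈ Xt := Subgroup.mem_sup_left hx
      have e1 : ξ x = x * (x⁻¹ * ξ x) := by group
      rw [e1]
      exact X₀.mul_mem hx (hinfX ⟨Subgroup.mul_mem _ (Subgroup.inv_mem _ hxt) (hξi.1 x hxt), hξt x hxt⟩)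
    have hξI : Img X₀ ξ X₀ := img_self (hξ.restrict le_sup_left) hξX₀
    obtain ⟨ξ₁, -, eξ₁⟩ := toAut' (hξ.restrict (le_sup_left : X₀ ≤ Xt)) hξI
    have hPa : Pa F E p X₀ (autFun ξ₁) := by
      refine ⟨⟨(hξ.restrict le_sup_left).congr (fun x hx => (eξ₁ x hx).symm), img_autFun _, fun x hx => ?_, ?_⟩, m', hm', fun x hx => ?_⟩
      · rw [eξ₁ x hx]
        exact hξt x (Subgroup.mem_sup_left hx)
      · exact (hξE.restrict (inf_le_inf_right T le_sup_left)).congr (fun x hx => (eξ₁ x hx.1).symm)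
      · rw [iterate_congr (img_autFun ξ₁).1 eξ₁ m' hx]
        exact hξm x (Subgroup.mem_sup_left hx)
    have hAa : Aa F E p L X₀ ξ := ⟨hX₀cl, ξ₁, mem_VI_V (Subgroup.subset_closure (Or.inl hPa)), fun x hx => (eξ₁ x hx).symm⟩
    exact ⟨ξ, Cfsg.Agent.Lib.FusionExt.G1.Dp.edge A hAa hU'X₀, fun q hq => hξQ q hq⟩
  · -- conjugations
    intro Qh _ t₀ ht₀ _ U' hQU' hU'N _ _
    obtain ⟨s, hs, es⟩ := inT_iff.1 ht₀
    exact ⟨_, lp_conj C hL hs.1 (hU'N.trans inf_le_left), fun q hq => (es q hq).symm⟩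
  · -- composition
    intro Qh hQh c₁ hc₁ c₂ hc₂ hle h1 h2 U' hQU' hU'N hU'c hU'Q
    obtain ⟨θ₁, hθ₁, eθ₁⟩ := h1 U' hQU' hU'N hU'c hU'Q
    have hm₁ := (lp_fr C hL hθ₁).mp
    obtain ⟨U₁, hU₁⟩ := hm₁.exists_img
    have hcmF : Mp F Q₀ (autFun c₁) := hm₁.restrict hQU' |>.congr eθ₁
    have hQU₁ : Q₀ ≤ U₁ := by
      intro q hq
      have h3 : autFun c₁⁻¹ q ∈ Q₀ := autFun_mem _ hq
      have h4 := hU₁.1 _ (hQU' h3)
      rwa [eθ₁ _ h3, autFun_apply_inv] at h4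
    have hU₁N : U₁ ≤ normalizerIn L Q₀ := by
      intro y hy
      obtain ⟨x, hx, rfl⟩ := hU₁.2 y hy
      refine ⟨hθ₁.mem_T A hx, mem_normalizer_of_conj_le' (fun z hz => ?_)⟩
      have h3 : autFun c₁⁻¹ z ∈ Q₀ := autFun_mem _ hz
      have h4 := hm₁.map_conj hx (hQU' h3)
      rw [eθ₁ _ h3, autFun_apply_inv] at h4
      rw [← h4, eθ₁ _ (norm_conj (hU'N hx).2 h3)]
      exact autFun_mem _ (norm_conj (hU'N hx).2 h3)
    have hU₁c : Cov T L U₁ := Cov.tr C hL hU'c (lp_fr C hL hθ₁) hU₁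
    obtain ⟨θ₂, hθ₂, eθ₂⟩ := h2 U₁ hQU₁ hU₁N hU₁c (by
      intro y hy
      obtain ⟨x, hx, rfl⟩ := hU₁.2 y hy
      obtain ⟨α, hα, eα⟩ := hU'Q x hx
      refine ⟨c₁ * α * c₁⁻¹, conj_mem_conjMap hα, fun q hq => ?_⟩
      have h3 : autFun c₁⁻¹ q ∈ Q₀ := autFun_mem _ hq
      have h4 := hm₁.map_conj hx (hQU' h3)
      rw [eθ₁ _ h3, autFun_apply_inv, eθ₁ _ (norm_conj (hU'N hx).2 h3)] at h4
      rw [autFun_mul_apply, autFun_mul_apply, eα _ h3]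
      exact h4)
    refine ⟨_, hθ₁.comp A hU₁.1 hθ₂, fun q hq => ?_⟩
    show θ₂ (θ₁ q) = _
    rw [eθ₁ q hq, eθ₂ _ (autFun_mem _ hq), autFun_mul_apply]
  · -- inverse
    intro Qh hQh c hc hle h1 U' hQU' hU'N hU'c hU'Q
    have hU'le : autInducedBy U' Q₀ ≤ autInducedBy L Q₀ := autInducedBy_mono Q₀ (hU'N.trans inf_le_left)
    have hVc : ∀ v ∈ autInducedBy U' Q₀, c⁻¹ * v * c ∈ Qh := by
      intro v hv
      obtain ⟨u, hu, eu⟩ := inT_iff.1 hv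
      obtain ⟨α, hα, eα⟩ := hU'Q u hu.1
      have e1 : v = α := eq_of_autFun (fun q hq => by rw [eu q hq, eα q hq])
      rw [e1]
      exact mem_conjMap.1 hα
    have hV₂ : conjMap c⁻¹ (autInducedBy U' Q₀) ≤ Qh := by
      intro α hα
      have h3 := hVc _ (mem_conjMap.1 hα)
      simpa [mul_assoc] using h3
    have hPreN : Pre L Q₀ (conjMap c⁻¹ (autInducedBy U' Q₀)) ≤ normalizerIn L Q₀ := fun y hy => hy.1
    have hPreC : centralizerIn L Q₀ ≤ Pre L Q₀ (conjMap c⁻¹ (autInducedBy U' Q₀)) := cent_le_Pre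
    have hcn : c ∈ Subgroup.normalizer (E.autGroup Q₀ : Set (MulAut Q₀)) :=
      (sup_le Subgroup.le_normalizer hMN : E.autGroup Q₀ ⊔ autInducedBy L Q₀ ≤ _) hc
    -- every element of `A` factors through `V`
    have hfact : ∀ l ∈ E.autGroup Q₀ ⊔ autInducedBy L Q₀, ∃ v ∈ autInducedBy U' Q₀, ∃ β ∈ E.autGroup Q₀, l = v * β := by
      intro l hl
      have hl' : l ∈ autInducedBy L Q₀ ⊔ E.autGroup Q₀ := by
        rw [sup_comm]
        exact hl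
      obtain ⟨m, hm, β₀, hβ₀, rfl⟩ := exists_mul_of_mem_sup' hMN hl'
      obtain ⟨x, hx, ex⟩ := inT_iff.1 hm
      obtain ⟨u, hu, hut⟩ := hU'c x hx.1
      have huN := hU'N hu
      have htN : u⁻¹ * x ∈ normalizerIn T Q₀ := ⟨hut, Subgroup.mul_mem _ (Subgroup.inv_mem _ huN.2) hx.2⟩
      refine ⟨normAct Q₀ huN.2, inT_iff.2 ⟨u, ⟨hu, huN.2⟩, fun q hq => normAct_fun huN.2 hq⟩,
        normAct Q₀ htN.2 * β₀, Subgroup.mul_mem _ (hTB (inT_iff.2 ⟨_, htN, fun q hq => normAct_fun htN.2 hq⟩)) hβ₀, ?_⟩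
      rw [← mul_assoc]
      congr 1
      apply eq_of_autFun
      intro q hq
      rw [ex q hq, autFun_mul_apply, normAct_fun htN.2 hq, normAct_fun huN.2 (norm_conj htN.2 hq)]
      group
    have hPreCov : Cov T L (Pre L Q₀ (conjMap c⁻¹ (autInducedBy U' Q₀))) := by
      intro r hr
      obtain ⟨u₁, hu₁, hu₁t⟩ := hU'c r hr
      have hu₁N := hU'N hu₁
      have hy₀ : normAct Q₀ hu₁N.2 ∈ autInducedBy U' Q₀ :=
        inT_iff.2 ⟨u₁, ⟨hu₁, hu₁N.2⟩, fun q hq => normAct_fun hu₁N.2 hq⟩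
      set y₀ := normAct Q₀ hu₁N.2 with hy₀e
      have hl : c * y₀ * c⁻¹ ∈ E.autGroup Q₀ ⊔ autInducedBy L Q₀ :=
        Subgroup.mul_mem _ (Subgroup.mul_mem _ hc (Subgroup.mem_sup_right (hU'le hy₀))) (Subgroup.inv_mem _ hc)
      obtain ⟨v, hv, β, hβ, el⟩ := hfact _ hl
      have hy₃ : c⁻¹ * v * c ∈ conjMap c⁻¹ (autInducedBy U' Q₀) := by
        refine mem_conjMap.2 ?_
        simpa [mul_assoc] using hv
      have hy₃M : c⁻¹ * v * c ∈ autInducedBy L Q₀ := hQh (hV₂ hy₃)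
      have hβ' : c⁻¹ * β * c ∈ E.autGroup Q₀ := by
        have := (Subgroup.mem_normalizer_iff.1 (Subgroup.inv_mem _ hcn) β).1 hβ
        simpa using this
      have e2 : y₀ = (c⁻¹ * v * c) * (c⁻¹ * β * c) := by
        have e3 : y₀ = c⁻¹ * (c * y₀ * c⁻¹) * c := by group
        rw [e3, el]
        group
      have hβ'M : c⁻¹ * β * c ∈ autInducedBy L Q₀ := by
        have e3 : c⁻¹ * β * c = (c⁻¹ * v * c)⁻¹ * y₀ := by
          rw [e2]
          group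
        rw [e3]
        exact Subgroup.mul_mem _ (Subgroup.inv_mem _ hy₃M) (hU'le hy₀)
      have hβ'T : c⁻¹ * β * c ∈ autInducedBy T Q₀ := by
        rw [← hinf]
        exact ⟨hβ', hβ'M⟩
      obtain ⟨τ, hτ, eτ⟩ := inT_iff.1 hβ'T
      obtain ⟨x₃, hx₃, ex₃⟩ := inT_iff.1 hy₃M
      have hd : (x₃ * τ)⁻¹ * u₁ ∈ centralizerIn L Q₀ := by
        refine mem_cent.2 ⟨L.mul_mem (L.inv_mem (L.mul_mem hx₃.1 (hL.tl hτ.1))) (hU'N.trans inf_le_left hu₁), fun q hq => ?_⟩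
        refine comm_of_conj ?_
        have h5 : autFun y₀ q = u₁ * q * u₁⁻¹ := normAct_fun hu₁N.2 hq
        rw [← h5, e2, autFun_mul_apply, eτ q hq, ex₃ _ (norm_conj hτ.2 hq)]
        group
      have hd' : τ * ((x₃ * τ)⁻¹ * u₁) * τ⁻¹ ∈ centralizerIn L Q₀ := by
        have hτN : τ ∈ normalizerIn S Q₀ := ⟨C.hTS hτ.1, hτ.2⟩
        have h7 := conj_cent' hτN (hL.ls.trans le_rfl |> fun _ => (mem_cent.2 ⟨hL.ls (mem_cent.1 hd).1, (mem_cent.1 hd).2⟩ : (x₃ * τ)⁻¹ * u₁ ∈ centralizerIn S Q₀))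
        exact mem_cent.2 ⟨L.mul_mem (L.mul_mem (hL.tl hτ.1) (mem_cent.1 hd).1) (L.inv_mem (hL.tl hτ.1)), (mem_cent.1 h7).2⟩
      have hx₃P : x₃ ∈ Pre L Q₀ (conjMap c⁻¹ (autInducedBy U' Q₀)) := ⟨hx₃, _, hy₃, ex₃⟩
      refine ⟨x₃ * (τ * ((x₃ * τ)⁻¹ * u₁) * τ⁻¹), Subgroup.mul_mem _ hx₃P (hPreC hd'), ?_⟩
      have e5 : (x₃ * (τ * ((x₃ * τ)⁻¹ * u₁) * τ⁻¹))⁻¹ * r = τ * (u₁⁻¹ * r) := by group
      rw [e5]
      exact T.mul_mem hτ.1 hu₁t
    have hQPre : Q₀ ≤ Pre L Q₀ (conjMap c⁻¹ (autInducedBy U' Q₀)) := by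
      intro q₀ hq₀
      have hcq : autFun c q₀ ∈ Q₀ := autFun_mem _ hq₀
      have hq₀N : q₀ ∈ Subgroup.normalizer (Q₀ : Set Ω) := Subgroup.le_normalizer hq₀
      have hcqN : autFun c q₀ ∈ Subgroup.normalizer (Q₀ : Set Ω) := Subgroup.le_normalizer hcq
      refine ⟨⟨hQL hq₀, hq₀N⟩, normAct Q₀ hq₀N, mem_conjMap.2 ?_, fun q hq => normAct_fun hq₀N hq⟩
      have he : c⁻¹⁻¹ * normAct Q₀ hq₀N * c⁻¹ = normAct Q₀ hcqN := by
        rw [inv_inv]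
        apply eq_of_autFun
        intro z hz
        have h3 : autFun c⁻¹ z ∈ Q₀ := autFun_mem _ hz
        rw [autFun_mul_apply, autFun_mul_apply, normAct_fun hq₀N h3, normAct_fun hcqN hz,
          autFun_mul c (Q₀.mul_mem hq₀ h3) (Q₀.inv_mem hq₀), autFun_mul c hq₀ h3, autFun_inv' c hq₀, autFun_apply_inv]
      rw [he]
      exact inT_iff.2 ⟨autFun c q₀, ⟨hQU' hcq, hcqN⟩, fun q hq => normAct_fun hcqN hq⟩
    obtain ⟨θ, hθ, eθ⟩ := h1 _ hQPre hPreN hPreCov (fun x hx => by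
      obtain ⟨-, α, hα, eα⟩ := hx
      exact ⟨α, hV₂ hα, eα⟩)
    have hm := (lp_fr C hL hθ).mp
    obtain ⟨U₁, hU₁⟩ := hm.exists_img
    obtain ⟨k, hk, k1, k2, k3⟩ := hθ.inv A hU₁
    -- `θ` preserves the centralizer
    have hCL : centralizerIn L Q₀ ≤ Pre L Q₀ (conjMap c⁻¹ (autInducedBy U' Q₀)) := hPreC
    haveI : Finite L := finite_of_le hL.ls
    haveI : Finite (centralizerIn L Q₀) := finite_of_le inf_le_left
    obtain ⟨I₁, hI₁⟩ := (hm.restrict hCL).exists_img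
    have hle₁ : I₁ ≤ centralizerIn L Q₀ := by
      intro y hy
      obtain ⟨d, hd, rfl⟩ := hI₁.2 y hy
      refine mem_cent.2 ⟨hθ.mem_T A (hCL hd), fun z hz => ?_⟩
      have h3 : autFun c⁻¹ z ∈ Q₀ := autFun_mem _ hz
      have e4 : z = θ (autFun c⁻¹ z) := by rw [eθ _ h3, autFun_apply_inv]
      rw [e4, ← hm.map_mul (hQPre h3) (hCL hd), ← hm.map_mul (hCL hd) (hQPre h3), (mem_cent.1 hd).2 _ h3]
    have hcard : Nat.card I₁ = Nat.card (centralizerIn L Q₀) := (hm.restrict hCL).card_img hI₁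
    have heI : I₁ = centralizerIn L Q₀ := Subgroup.eq_of_le_of_card_ge hle₁ hcard.ge
    have hU'U₁ : U' ≤ U₁ := by
      intro x' hx'
      have hx'N := hU'N hx'
      have hv : normAct Q₀ hx'N.2 ∈ autInducedBy U' Q₀ :=
        inT_iff.2 ⟨x', ⟨hx', hx'N.2⟩, fun q hq => normAct_fun hx'N.2 hq⟩
      have hy₃ : c⁻¹ * normAct Q₀ hx'N.2 * c ∈ conjMap c⁻¹ (autInducedBy U' Q₀) := by
        refine mem_conjMap.2 ?_
        simpa [mul_assoc] using hv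
      obtain ⟨x, hx, ex⟩ := inT_iff.1 (hQh (hV₂ hy₃))
      have hxP : x ∈ Pre L Q₀ (conjMap c⁻¹ (autInducedBy U' Q₀)) := ⟨hx, _, hy₃, ex⟩
      have hdd : x'⁻¹ * θ x ∈ centralizerIn L Q₀ := by
        refine mem_cent.2 ⟨L.mul_mem (L.inv_mem (hx'N.1)) (hθ.mem_T A hxP), fun z hz => ?_⟩
        refine comm_of_conj ?_
        have h3 : autFun c⁻¹ z ∈ Q₀ := autFun_mem _ hz
        have e4 : z = θ (autFun c⁻¹ z) := by rw [eθ _ h3, autFun_apply_inv]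
        have h5 := hm.map_conj hxP (hQPre h3)
        rw [← e4, eθ _ (norm_conj hx.2 h3), ← ex _ h3, autFun_mul_apply, autFun_mul_apply, autFun_apply_inv, autFun_apply_inv, normAct_fun hx'N.2 hz] at h5
        exact h5.symm
      rw [← heI] at hdd
      obtain ⟨d, hd, ed⟩ := hI₁.2 _ hdd
      have e6 : x' = θ x * (θ d)⁻¹ := by
        rw [ed]
        group
      rw [e6, ← hm.map_inv (hCL hd), ← hm.map_mul hxP (Subgroup.inv_mem _ (hCL hd))]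
      exact hU₁.1 _ (Subgroup.mul_mem _ hxP (Subgroup.inv_mem _ (hCL hd)))
    refine ⟨k, hk.restrict A hU'U₁, fun q hq => ?_⟩
    have h3 : autFun c⁻¹ q ∈ Q₀ := autFun_mem _ hq
    have h4 := k1 _ (hQPre h3)
    rwa [eθ _ h3, autFun_apply_inv] at h4
  · -- restriction
    intro Q₁ Q₂ c hle _ _ _ h1 U' h2 h3 h4 h5
    refine h1 U' h2 h3 h4 (fun x hx => ?_)
    obtain ⟨α, hα, e⟩ := h5 x hx
    exact ⟨α, hle hα, e⟩

end cx

end Cfsg.Agent.Lib.FusionExt.ER5a
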