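import Cfsg.Agent.Lib.FusionExt.ER5a

/-!
# The product `E·R`: good positions (helper92)
-/

set_option autoImplicit false
set_option linter.unusedSectionVars false
set_option maxHeartbeats 1000000

namespace Cfsg.Agent.Lib.FusionExt.ER5b

open Cfsg Cfsg.FusionSystem Cfsg.Agent.Lib.Fusion.Basic Cfsg.Agent.Lib.Fusion.GroupSystem
open Cfsg.Agent.Lib.FusionExt.MapApi Cfsg.Agent.Lib.FusionExt.PowerSys Cfsg.Agent.Lib.FusionExt.LowPi
open Cfsg.Agent.Lib.FusionExt.PrimeRes1 Cfsg.Agent.Lib.Fusion.Saturation Cfsg.Agent.Lib.Fusion.Saturation2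
open Cfsg.Agent.Lib.FusionExt.Invariant Cfsg.Agent.Lib.FusionExt.CentE
open Cfsg.Agent.Lib.FusionExt.ER0 Cfsg.Agent.Lib.FusionExt.ER1 Cfsg.Agent.Lib.FusionExt.ER2 Cfsg.Agent.Lib.FusionExt.ER3
open Cfsg.Agent.Lib.FusionExt.ER4 Cfsg.Agent.Lib.FusionExt.ER5a
open Cfsg.Agent.Lib.FusionExt.Normal
open Cfsg.Agent.Lib.FusionExt.Glue1 (Uc Uc.self Uc.conj Uc.up uc_top normAct_fun conj_fun inT_iff nm_map)
open Cfsg.Agent.Lib.FusionExt.Glue2 (conjMap_mul conjMap_one conjMap_inv conjMap_inv' conjMap_card conjMap_eq_of_norm norm_of_conjMap_eq)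
open Cfsg.Agent.Lib.FusionExt.Meet3 (exists_iso eq_of_autFun autFun_congr_apply)
open Cfsg.Agent.Lib.FusionExt.Glue3 (comm_of_conj)
open Cfsg.Agent.Lib.FusionExt.G1 (Fam Dp)

universe u

section grp

variable {G : Type*} [Group G] [Finite G] {p : ℕ} [Fact p.Prime] {B P H Sh St₀ U₀ : Subgroup G}

/-- A Sylow subgroup covers a `p`-group quotient. -/
theorem sylow_covers (hP : IsPGroup p P) (hPn : ∀ y ∈ P, ∀ b ∈ B, y * b * y⁻¹ ∈ B) (hH : H ≤ B ⊔ P)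
    (hSh : IsSylowIn p Sh H) (hShH : Sh ≤ H) (hShn : ∀ s ∈ Sh, ∀ b ∈ B, s * b * s⁻¹ ∈ B) :
    ∀ h ∈ H, ∃ s ∈ Sh, s⁻¹ * h ∈ B := by
  classical
  -- the normal subgroup `H ∩ B` of `H`
  have hn : P ≤ Subgroup.normalizer (B : Set G) := by
    intro y hy
    rw [Subgroup.mem_normalizer_iff]
    intro b
    refine ⟨fun hb => hPn y hy b hb, fun hb => ?_⟩
    have := hPn y⁻¹ (P.inv_mem hy) _ hb
    simpa [mul_assoc] using this
  have hBnorm : B ⊔ P ≤ Subgroup.normalizer (B : Set G) := sup_le Subgroup.le_normalizer hn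
  haveI hN : ((H ⊓ B).subgroupOf H).Normal := by
    constructor
    intro n hn' g
    have h1 : (n : G) ∈ H ⊓ B := hn'
    refine ⟨H.mul_mem (H.mul_mem g.2 h1.1) (H.inv_mem g.2), ?_⟩
    exact (Subgroup.mem_normalizer_iff.1 (hBnorm (hH g.2)) _).1 h1.2
  -- the quotient is a `p`-group
  have hQp : IsPGroup p (H ⧸ (H ⊓ B).subgroupOf H) := by
    intro q
    obtain ⟨h, rfl⟩ := QuotientGroup.mk_surjective q
    have hh : (h : G) ∈ P ⊔ B := by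
      rw [sup_comm]
      exact hH h.2
    obtain ⟨y, hy, b, hb, e⟩ := exists_mul_of_mem_sup' hn hh
    obtain ⟨k, hk⟩ := hP ⟨y, hy⟩
    have hk' : y ^ p ^ k = 1 := congrArg Subtype.val hk
    have key : ∀ j : ℕ, ∃ b' ∈ B, (h : G) ^ j = y ^ j * b' := by
      intro j
      induction j with
      | zero => exact ⟨1, B.one_mem, by simp⟩
      | succ j ih =>
        obtain ⟨b', hb', e'⟩ := ih
        refine ⟨(y⁻¹ * b' * y) * b, B.mul_mem ?_ hb, ?_⟩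
        · have := (Subgroup.mem_normalizer_iff.1 (Subgroup.inv_mem _ (hn hy)) b').1 hb'
          simpa using this
        · rw [pow_succ, e', e, pow_succ]
          group
    obtain ⟨b', hb', e'⟩ := key (p ^ k)
    rw [hk', one_mul] at e'
    refine ⟨k, ?_⟩
    rw [← QuotientGroup.mk_pow, QuotientGroup.eq_one_iff]
    show ((h ^ p ^ k : H) : G) ∈ H ⊓ B
    refine ⟨H.pow_mem h.2 _, ?_⟩
    show (h : G) ^ p ^ k ∈ B
    rw [e']
    exact hb'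
  have hidx1 : Nat.card (H ⧸ (H ⊓ B).subgroupOf H) = ((H ⊓ B).subgroupOf H).index := rfl
  obtain ⟨n₁, hn₁⟩ := IsPGroup.iff_card.1 hQp
  -- the product
  let X : Subgroup G := Sh ⊔ (H ⊓ B)
  have hShnorm : Sh ≤ Subgroup.normalizer ((H ⊓ B : Subgroup G) : Set G) := by
    intro s hs
    rw [Subgroup.mem_normalizer_iff]
    intro b
    constructor
    · intro hb
      exact ⟨H.mul_mem (H.mul_mem (hShH hs) hb.1) (H.inv_mem (hShH hs)), hShn s hs b hb.2⟩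
    · intro hb
      have h1 := H.mul_mem (H.mul_mem (H.inv_mem (hShH hs)) hb.1) (hShH hs)
      have h2 := hShn s⁻¹ (Sh.inv_mem hs) _ hb.2
      simp only [inv_inv] at h2
      refine ⟨?_, ?_⟩
      · simpa [mul_assoc] using h1
      · simpa [mul_assoc] using h2
  have hXH : X ≤ H := sup_le hShH inf_le_left
  -- indices
  obtain ⟨R₀, hR₀⟩ := hSh
  have hco : (Sh.subgroupOf H).index.Coprime p := by
    have h1 := R₀.not_dvd_index
    rw [hR₀] at h1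
    exact ((Nat.Prime.coprime_iff_not_dvd (Fact.out : p.Prime)).2 h1).symm
  have hd1 : (X.subgroupOf H).index ∣ (Sh.subgroupOf H).index :=
    Subgroup.index_dvd_of_le (fun x hx => Subgroup.mem_subgroupOf.2 ((le_sup_left : Sh ≤ X) (Subgroup.mem_subgroupOf.1 hx)))
  have hd2 : (X.subgroupOf H).index ∣ ((H ⊓ B).subgroupOf H).index :=
    Subgroup.index_dvd_of_le (fun x hx => Subgroup.mem_subgroupOf.2 ((le_sup_right : H ⊓ B ≤ X) (Subgroup.mem_subgroupOf.1 hx)))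
  rw [← hidx1, hn₁] at hd2
  have hone : (X.subgroupOf H).index = 1 := by
    obtain ⟨m, -, hm⟩ := (Nat.dvd_prime_pow (Fact.out : p.Prime)).1 hd2
    have h3 : (X.subgroupOf H).index.Coprime (p ^ n₁) := Nat.Coprime.coprime_dvd_left hd1 (Nat.Coprime.pow_right n₁ hco)
    rw [hm] at h3 ⊢
    have h4 : Nat.gcd (p ^ m) (p ^ n₁) = 1 := h3
    have h5 : p ^ m ∣ 1 := by
      rw [← h4]
      exact Nat.dvd_gcd dvd_rfl (hm ▸ hd2)
    exact Nat.dvd_one.1 h5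
  have htop : X.subgroupOf H = ⊤ := Subgroup.index_eq_one.1 hone
  intro h hh
  have hhX : h ∈ X := by
    have : (⟨h, hh⟩ : H) ∈ X.subgroupOf H := by rw [htop]; trivial
    exact this
  obtain ⟨s, hs, b, hb, rfl⟩ := exists_mul_of_mem_sup' hShnorm hhX
  exact ⟨s, hs, by simpa using hb.2⟩

/-- **The position lemma.** -/
theorem GLp (hP : IsPGroup p P) (hPn : ∀ y ∈ P, ∀ b ∈ B, y * b * y⁻¹ ∈ B) (hsy : IsSylowIn p (B ⊓ P) B) (hSt : St₀ ≤ B ⊔ P)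
    (hfr : ∀ y ∈ P, ∃ a ∈ B, a * y ∈ St₀) (hU : U₀ ≤ St₀) (hU₂ : U₀ ≤ P) :
    ∃ a ∈ B, (∀ u ∈ U₀, a * u * a⁻¹ ∈ P) ∧ (∀ y ∈ P, ∃ t ∈ B ⊓ P, ∃ y' ∈ P, y' ∈ conjMap a St₀ ∧ y = t * y') ∧
      IsSylowIn p (P ⊓ conjMap a St₀) (conjMap a St₀) := by
  have hn : P ≤ Subgroup.normalizer (B : Set G) := by
    intro y hy
    rw [Subgroup.mem_normalizer_iff]
    intro b
    refine ⟨fun hb => hPn y hy b hb, fun hb => ?_⟩
    have := hPn y⁻¹ (P.inv_mem hy) _ hb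
    simpa [mul_assoc] using this
  have hBnorm : B ⊔ P ≤ Subgroup.normalizer (B : Set G) := sup_le Subgroup.le_normalizer hn
  have hPS := Cfsg.Agent.Lib.FusionExt.ER5a.sylow_sup hP hPn hsy
  -- a Sylow subgroup of `St₀` containing `U₀`
  obtain ⟨W, hWS, hWs⟩ := Cfsg.Agent.Lib.FusionExt.MapApi.exists_sylowIn (p := p) St₀
  obtain ⟨g, hg, hgc⟩ := hWs.exists_conj hU (hP.to_le hU₂)
  have hSh : IsSylowIn p (conjMap g⁻¹ W) St₀ := by
    have h1 := Cfsg.Agent.Lib.FusionExt.MapApi.image_sylow (MulAut.conj g⁻¹).toMonoidHom hWs hWS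
    have e : St₀.map (MulAut.conj g⁻¹).toMonoidHom = St₀ := by
      have := conjMap_eq_of_norm (a := g⁻¹) (Q := St₀) (Subgroup.le_normalizer (St₀.inv_mem hg))
      exact this
    rw [e] at h1
    exact h1
  have hShS : conjMap g⁻¹ W ≤ St₀ := by
    rintro _ ⟨x, hx, rfl⟩
    exact St₀.mul_mem (St₀.mul_mem (St₀.inv_mem hg) (hWS hx)) (St₀.inv_mem (St₀.inv_mem hg))
  have hUSh : U₀ ≤ conjMap g⁻¹ W := by
    intro u hu
    rw [mem_conjMap]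
    simpa using hgc u hu
  have hShp : IsPGroup p (conjMap g⁻¹ W) := hSh.isPGroup hShS
  obtain ⟨g₁, hg₁, hg₁c⟩ := hPS.exists_conj (hShS.trans hSt) hShp
  have hg₁' : g₁ ∈ P ⊔ B := by
    rw [sup_comm]
    exact hg₁
  obtain ⟨y, hy, a, ha, rfl⟩ := exists_mul_of_mem_sup' hn hg₁'
  have hac : ∀ x ∈ conjMap g⁻¹ W, a * x * a⁻¹ ∈ P := by
    intro x hx
    have h2 := P.mul_mem (P.mul_mem (P.inv_mem hy) (hg₁c x hx)) hy
    have e : y⁻¹ * (y * a * x * (y * a)⁻¹) * y = a * x * a⁻¹ := by group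
    rwa [e] at h2
  have hSt₁ : conjMap a St₀ ≤ B ⊔ P := by
    rintro _ ⟨x, hx, rfl⟩
    exact Subgroup.mul_mem _ (Subgroup.mul_mem _ (Subgroup.mem_sup_left ha) (hSt hx)) (Subgroup.inv_mem _ (Subgroup.mem_sup_left ha))
  have hSh₁ : IsSylowIn p (conjMap a (conjMap g⁻¹ W)) (conjMap a St₀) :=
    Cfsg.Agent.Lib.FusionExt.MapApi.image_sylow (MulAut.conj a).toMonoidHom hSh hShS
  have hSh₁le : conjMap a (conjMap g⁻¹ W) ≤ conjMap a St₀ := Subgroup.map_mono hShS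
  have hSh₁P : conjMap a (conjMap g⁻¹ W) ≤ P := by
    rintro _ ⟨x, hx, rfl⟩
    exact hac x hx
  have hle2 : conjMap a (conjMap g⁻¹ W) ≤ P ⊓ conjMap a St₀ := le_inf hSh₁P hSh₁le
  have hPSt : IsSylowIn p (P ⊓ conjMap a St₀) (conjMap a St₀) := by
    have hmax := ((isSylowIn_iff_maximal hSh₁le).1 hSh₁).2 _ inf_le_right hP.to_inf_left hle2
    rw [hmax]
    exact hSh₁
  refine ⟨a, ha, fun u hu => hac u (hUSh hu), fun y₁ hy₁ => ?_, hPSt⟩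
  -- factorization
  have hcov := sylow_covers hP hPn hSt₁ hSh₁ hSh₁le (fun s hs b hb => by
    exact (Subgroup.mem_normalizer_iff.1 (hn (hSh₁P hs)) b).1 hb)
  obtain ⟨a₂, ha₂, ha₂S⟩ := hfr y₁ hy₁
  have hb₁ : y₁ * a * y₁⁻¹ ∈ B := hPn y₁ hy₁ a ha
  have hz : (a * a₂ * (y₁ * a * y₁⁻¹)⁻¹) * y₁ ∈ conjMap a St₀ := by
    rw [mem_conjMap]
    have e : a⁻¹ * (a * a₂ * (y₁ * a * y₁⁻¹)⁻¹ * y₁) * a = a₂ * y₁ := by group
    rw [e]
    exact ha₂S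
  obtain ⟨s, hs, hsb⟩ := hcov _ hz
  have hsP := hSh₁P hs
  refine ⟨y₁ * s⁻¹, ⟨?_, P.mul_mem hy₁ (P.inv_mem hsP)⟩, s, hsP, hSh₁le hs, by group⟩
  have hb₂ : a * a₂ * (y₁ * a * y₁⁻¹)⁻¹ ∈ B := B.mul_mem (B.mul_mem ha ha₂) (B.inv_mem hb₁)
  have h5 : s⁻¹ * (a * a₂ * (y₁ * a * y₁⁻¹)⁻¹) * s ∈ B := by
    have := (Subgroup.mem_normalizer_iff.1 (hn (P.inv_mem hsP)) _).1 hb₂
    simpa using this
  have h6 : y₁ * s⁻¹ = s * ((s⁻¹ * (a * a₂ * (y₁ * a * y₁⁻¹)⁻¹) * s)⁻¹ * (s⁻¹ * (a * a₂ * (y₁ * a * y₁⁻¹)⁻¹ * y₁))) * s⁻¹ := by group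
  rw [h6]
  have := (Subgroup.mem_normalizer_iff.1 (hn hsP) _).1 (B.mul_mem (B.inv_mem h5) hsb)
  exact this

end grp

variable {Ω : Type u} [Group Ω] {S T L : Subgroup Ω} {F : FusionSystem S} {E : FusionSystem T} {p : ℕ}
variable {X Y Z P P' Q Q₀ Q₁ Q₂ R U W U' W' T₂ : Subgroup Ω} {f f' g h φ ψ a δ χ ρ : Ω → Ω}

/-- Good position at one subgroup. -/
def GoodAt (S : Subgroup Ω) (E : FusionSystem T) (Q : Subgroup Ω) : Prop :=
  E.IsFullyNormalized Q ∧ ∀ s ∈ S, E.IsConj Q (conjMap s Q) → ∃ t ∈ T, ∃ n ∈ normalizerIn S Q, s = t * n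

/-- Good position along the tower of normalizers. -/
def Good (S : Subgroup Ω) (E : FusionSystem T) (Q : Subgroup Ω) : Prop :=
  ∀ k : ℕ, GoodAt S E ((normalizerIn T)^[k] Q)

theorem Good.at_ (h : Good S E Q) : GoodAt S E Q := h 0

theorem Good.succ (h : Good S E Q) : Good S E (normalizerIn T Q) := fun k => by
  have := h (k + 1)
  rwa [Function.iterate_succ_apply] at this

theorem good_of (h1 : GoodAt S E Q) (h2 : Good S E (normalizerIn T Q)) : Good S E Q := by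
  intro k
  cases k with
  | zero => exact h1
  | succ k =>
    rw [Function.iterate_succ_apply]
    exact h2 k

section cx

variable [Finite S] [Fact p.Prime] (C : Cx F E p)
include C

theorem good_top : Good S E T := by
  have e : normalizerIn T T = T := le_antisymm inf_le_left (le_normalizerIn le_rfl)
  have hit : ∀ k : ℕ, (normalizerIn T)^[k] T = T := by
    intro k
    induction k with
    | zero => rfl
    | succ k ih => rw [Function.iterate_succ_apply, e, ih]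
  intro k
  rw [hit k]
  refine ⟨fn_top C, fun s hs _ => ⟨1, T.one_mem, s, ⟨hs, ?_⟩, by simp⟩⟩
  haveI := C.finT
  exact mem_normalizer_of_conj_le' (fun v hv => sc_conj_mem F C.hT hs hv)

/-- `Aut_S(Q)` normalizes `Aut_E(Q)`. -/
theorem aut_norm {m β : MulAut Q} (hm : m ∈ autInducedBy S Q) (hβ : β ∈ E.autGroup Q) (hQT : Q ≤ T) : m * β * m⁻¹ ∈ E.autGroup Q := by
  have hQS : Q ≤ S := hQT.trans C.hTS
  haveI : Finite Q := finite_of_le hQS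
  obtain ⟨x, hx, ex⟩ := inT_iff.1 hm
  refine mem_aut_of_mp ((C.conj_E_norm (mp_autFun hQT hβ) hx).congr (fun q hq => ?_))
  have e1 : autFun m⁻¹ q = x⁻¹ * q * x := by
    have h2 := autFun_inv_apply m (x⁻¹ * q * x)
    have hq' : x⁻¹ * q * x ∈ Q := conj_inv_mem hx.2 hq
    rw [ex _ hq'] at h2
    have e2 : x * (x⁻¹ * q * x) * x⁻¹ = q := by group
    rw [e2] at h2
    exact h2
  rw [autFun_mul_apply, autFun_mul_apply, e1, ex _ (autFun_mem β (conj_inv_mem hx.2 hq))]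

/-- Compatibility can be realized in the level. -/
theorem compat_L (hL : Lv T L S) (hfn : E.IsFullyNormalized Q₀) {b : MulAut Q₀} (hb : b ∈ E.autGroup Q₀) {u s : Ω}
    (hu : u ∈ normalizerIn L Q₀) (hs : s ∈ normalizerIn S Q₀) (hc : ∀ q ∈ Q₀, autFun b (u * q * u⁻¹) = s * autFun b q * s⁻¹) :
    ∃ u' ∈ normalizerIn L Q₀, ∀ q ∈ Q₀, autFun b (u * q * u⁻¹) = u' * autFun b q * u'⁻¹ := by
  have hQT : Q₀ ≤ T := hfn.1
  have huS : u ∈ normalizerIn S Q₀ := ⟨hL.ls hu.1, hu.2⟩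
  have hsu : s * u⁻¹ ∈ normalizerIn S Q₀ := (normalizerIn S Q₀).mul_mem hs ((normalizerIn S Q₀).inv_mem huS)
  have h1 : Mp E Q₀ (fun y => u * autFun b⁻¹ (u⁻¹ * y * u) * u⁻¹) :=
    C.conj_E_norm (mp_autFun hQT (Subgroup.inv_mem _ hb)) huS |>.congr (fun y _ => by simp only [inv_inv])
  have h2 : Mp E Q₀ (fun y => s * u⁻¹ * y * (s * u⁻¹)⁻¹) := by
    refine (h1.comp (fun y hy => ?_) (mp_autFun hQT hb)).congr (fun y hy => ?_)
    · exact norm_conj hu.2 (autFun_mem _ (conj_inv_mem hu.2 hy))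
    · show autFun b (u * autFun b⁻¹ (u⁻¹ * y * u) * u⁻¹) = _
      rw [hc _ (autFun_mem _ (conj_inv_mem hu.2 hy)), autFun_apply_inv]
      group
  obtain ⟨t, ht, et⟩ := C.es_cap hfn hsu h2
  refine ⟨t * u, ⟨L.mul_mem (hL.tl ht.1) hu.1, Subgroup.mul_mem _ ht.2 hu.2⟩, fun q hq => ?_⟩
  have hbq : autFun b q ∈ Q₀ := autFun_mem _ hq
  have hq' : u * autFun b q * u⁻¹ ∈ Q₀ := norm_conj hu.2 hbq
  have h3 := et _ hq'
  rw [hc q hq]
  have e1 : s * u⁻¹ * (u * autFun b q * u⁻¹) * (s * u⁻¹)⁻¹ = s * autFun b q * s⁻¹ := by group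
  rw [e1] at h3
  rw [h3]
  group

/-- **The adjustment.** -/
theorem adj (hG : GoodAt S E Q₀) (ha : Mp E Q₁ a) (hi : Img Q₁ a Q₀) {u s : Ω} (hu : u ∈ normalizerIn S Q₁)
    (hs : s ∈ normalizerIn S Q₀) (hc : ∀ q ∈ Q₁, a (u * q * u⁻¹) = s * a q * s⁻¹) :
    ∃ t ∈ T, t * u ∈ normalizerIn S Q₀ ∧ ∀ x ∈ Q₀, (t * u) * x * (t * u)⁻¹ = s * x * s⁻¹ := by
  haveI := C.finT
  have hQ₁T : Q₁ ≤ T := ha.le
  have hQ₀T : Q₀ ≤ T := hG.1.1
  obtain ⟨k, hk, k1, k2, k3⟩ := ha.inverse hi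
  have hcE := C.conj_E hk hu.1
  -- `d`
  have hmem : ∀ x ∈ Q₀, u * k x * u⁻¹ ∈ Q₁ := fun x hx => norm_conj hu.2 (k3.1 x hx)
  have hd : Mp E (conjMap u Q₀) (fun z => a (u * k (u⁻¹ * z * u) * u⁻¹)) :=
    hcE.comp (fun z hz => hmem _ (mem_conjMap.1 hz)) ha
  have hdv : ∀ x ∈ Q₀, a (u * k x * u⁻¹) = s * x * s⁻¹ := by
    intro x hx
    rw [hc _ (k3.1 x hx), k2 x hx]
  have hdI : Img (conjMap u Q₀) (fun z => a (u * k (u⁻¹ * z * u) * u⁻¹)) Q₀ := by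
    refine ⟨fun z hz => ?_, fun y hy => ?_⟩
    · show a (u * k (u⁻¹ * z * u) * u⁻¹) ∈ Q₀
      exact hi.1 _ (hmem _ (mem_conjMap.1 hz))
    · refine ⟨u * (s⁻¹ * y * s) * u⁻¹, conj_mem_conjMap (conj_inv_mem hs.2 hy), ?_⟩
      show a (u * k (u⁻¹ * (u * (s⁻¹ * y * s) * u⁻¹) * u) * u⁻¹) = y
      have e : u⁻¹ * (u * (s⁻¹ * y * s) * u⁻¹) * u = s⁻¹ * y * s := by group
      rw [e, hdv _ (conj_inv_mem hs.2 hy)]
      group
  have hconj : E.IsConj Q₀ (conjMap u Q₀) := isConj_symm E (hd.isConj hdI)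
  obtain ⟨t₀, ht₀, n₀, hn₀, e₀⟩ := hG.2 u (hu.1) hconj
  have h2 : Mp E Q₀ (fun y => s * n₀⁻¹ * y * (s * n₀⁻¹)⁻¹) := by
    have hc₀ : Mp E Q₀ (fun y => t₀ * y * t₀⁻¹) := Mp.conj hQ₀T ht₀
    refine (hc₀.comp (fun y hy => ?_) hd).congr (fun y hy => ?_)
    · rw [mem_conjMap, e₀]
      have e : (t₀ * n₀)⁻¹ * (t₀ * y * t₀⁻¹) * (t₀ * n₀) = n₀⁻¹ * y * n₀ := by group
      rw [e]
      exact conj_inv_mem hn₀.2 hy
    · show a (u * k (u⁻¹ * (t₀ * y * t₀⁻¹) * u) * u⁻¹) = _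
      have hy' : n₀⁻¹ * y * n₀ ∈ Q₀ := conj_inv_mem hn₀.2 hy
      have e : u⁻¹ * (t₀ * y * t₀⁻¹) * u = n₀⁻¹ * y * n₀ := by
        rw [e₀]
        group
      rw [e, hdv _ hy']
      group
  have hsn : s * n₀⁻¹ ∈ normalizerIn S Q₀ := (normalizerIn S Q₀).mul_mem hs ((normalizerIn S Q₀).inv_mem hn₀)
  obtain ⟨t₁, ht₁, et₁⟩ := C.es_cap hG.1 hsn h2
  refine ⟨t₁ * t₀⁻¹, T.mul_mem ht₁.1 (T.inv_mem ht₀), ?_, fun x hx => ?_⟩
  · have e : t₁ * t₀⁻¹ * u = t₁ * n₀ := by rw [e₀]; group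
    rw [e]
    exact (normalizerIn S Q₀).mul_mem ⟨C.hTS ht₁.1, ht₁.2⟩ hn₀
  · have e : t₁ * t₀⁻¹ * u = t₁ * n₀ := by rw [e₀]; group
    rw [e]
    have hx' : n₀ * x * n₀⁻¹ ∈ Q₀ := norm_conj hn₀.2 hx
    have h3 := et₁ _ hx'
    have e1 : s * n₀⁻¹ * (n₀ * x * n₀⁻¹) * (s * n₀⁻¹)⁻¹ = s * x * s⁻¹ := by group
    rw [e1] at h3
    rw [h3]
    group

/-- The centralizer of a conjugate of a good subgroup. -/
theorem cent_good (hG : GoodAt S E Q) (he : Mp E Q a) (hi : Img Q a Q₁) {x : Ω} (hx : x ∈ centralizerIn S Q₁) :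
    ∃ t ∈ T, ∃ c ∈ centralizerIn S Q, x = t * c := by
  haveI := C.finT
  have hQT : Q ≤ T := hG.1.1
  obtain ⟨k, hk, k1, k2, k3⟩ := he.inverse hi
  have hcE := C.conj_E hk (mem_cent.1 hx).1
  have hconj : ∀ y ∈ Q₁, x⁻¹ * y * x = y := fun y hy => by
    have := (mem_cent.1 hx).2 y hy
    calc x⁻¹ * y * x = x⁻¹ * (y * x) := by group
      _ = x⁻¹ * (x * y) := by rw [this]
      _ = y := by group
  have hmem : ∀ y ∈ Q₁, y ∈ conjMap x Q₁ := fun y hy => by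
    rw [mem_conjMap, hconj y hy]
    exact hy
  have hd : Mp E Q (fun q => x * q * x⁻¹) := by
    have h0 : Mp E Q (fun q => x * k (x⁻¹ * a q * x) * x⁻¹) := he.comp (fun q hq => hmem _ (hi.1 q hq)) hcE
    refine h0.congr (fun q hq => ?_)
    show x * k (x⁻¹ * a q * x) * x⁻¹ = x * q * x⁻¹
    rw [hconj _ (hi.1 q hq), k1 q hq]
  have hd' : Img Q (fun q => x * q * x⁻¹) (conjMap x Q) :=
    ⟨fun q hq => conj_mem_conjMap hq, fun y hy => ⟨x⁻¹ * y * x, mem_conjMap.1 hy, by group⟩⟩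
  obtain ⟨t, ht, n, hn, e⟩ := hG.2 x (mem_cent.1 hx).1 (hd.isConj hd')
  have h2 : Mp E Q (fun y => n * y * n⁻¹) := by
    have hc₀ : Mp E (conjMap x Q) (fun y => t⁻¹ * y * t⁻¹⁻¹) := Mp.conj (hd.img_le hd') (T.inv_mem ht)
    refine (hd.comp hd'.1 hc₀).congr (fun y _ => ?_)
    rw [e]
    group
  obtain ⟨t₁, ht₁, et₁⟩ := C.es_cap hG.1 hn h2
  refine ⟨t * t₁, T.mul_mem ht ht₁.1, t₁⁻¹ * n, mem_cent.2 ⟨S.mul_mem (S.inv_mem (C.hTS ht₁.1)) hn.1, fun y hy => ?_⟩, ?_⟩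
  · exact comm_of_conj (et₁ y hy)
  · rw [e]
    group

end cx

end Cfsg.Agent.Lib.FusionExt.ER5b
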