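import Cfsg.Agent.Lib.FusionExt.ER5b

/-!
# The product `E·R`: moving subgroups to a good position (helper92)
-/

set_option autoImplicit false
set_option linter.unusedSectionVars false
set_option maxHeartbeats 1000000

namespace Cfsg.Agent.Lib.FusionExt.ER5c

open Cfsg Cfsg.FusionSystem Cfsg.Agent.Lib.Fusion.Basic Cfsg.Agent.Lib.Fusion.GroupSystem
open Cfsg.Agent.Lib.FusionExt.MapApi Cfsg.Agent.Lib.FusionExt.PowerSys Cfsg.Agent.Lib.FusionExt.LowPi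
open Cfsg.Agent.Lib.FusionExt.PrimeRes1 Cfsg.Agent.Lib.Fusion.Saturation Cfsg.Agent.Lib.Fusion.Saturation2
open Cfsg.Agent.Lib.FusionExt.Invariant Cfsg.Agent.Lib.FusionExt.CentE
open Cfsg.Agent.Lib.FusionExt.ER0 Cfsg.Agent.Lib.FusionExt.ER1 Cfsg.Agent.Lib.FusionExt.ER2 Cfsg.Agent.Lib.FusionExt.ER3
open Cfsg.Agent.Lib.FusionExt.ER4 Cfsg.Agent.Lib.FusionExt.ER5a Cfsg.Agent.Lib.FusionExt.ER5b
open Cfsg.Agent.Lib.FusionExt.Normal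
open Cfsg.Agent.Lib.FusionExt.Glue1 (Uc Uc.self Uc.conj Uc.up uc_top normAct_fun conj_fun inT_iff nm_map)
open Cfsg.Agent.Lib.FusionExt.Glue2 (conjMap_mul conjMap_one conjMap_inv conjMap_inv' conjMap_card conjMap_eq_of_norm norm_of_conjMap_eq)
open Cfsg.Agent.Lib.FusionExt.Meet3 (exists_iso eq_of_autFun autFun_congr_apply)
open Cfsg.Agent.Lib.FusionExt.Glue3 (comm_of_conj)
open Cfsg.Agent.Lib.FusionExt.G1 (Fam Dp)

universe u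

variable {Ω : Type u} [Group Ω] {S T L : Subgroup Ω} {F : FusionSystem S} {E : FusionSystem T} {p : ℕ}
variable {X Y Z P P' Q Q₀ Q₁ Q₂ Q₄ R U W U' W' T₂ : Subgroup Ω} {f f' g h φ ψ a δ χ ρ : Ω → Ω}

section stab

theorem mem_stab' {c : MulAut T₂} {P : Subgroup Ω} : c ∈ stabSub T₂ P ↔ ∀ x ∈ T₂, (autFun c x ∈ P ↔ x ∈ P) := by
  constructor
  · intro h x hx
    rw [autFun_of_mem c hx]
    exact h ⟨x, hx⟩
  · intro h x
    have := h x x.2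
    rwa [autFun_coe] at this

theorem img_iff {a : MulAut T₂} (hi : Img Q₂ (autFun a) Q₄) {y : Ω} : autFun a y ∈ Q₄ ↔ y ∈ Q₂ := by
  constructor
  · intro h
    obtain ⟨q, hq, e⟩ := hi.2 _ h
    rwa [← autFun_inj a e]
  · exact hi.1 y

theorem stab_conj {a σ : MulAut T₂} (hi : Img Q₂ (autFun a) Q₄) : a * σ * a⁻¹ ∈ stabSub T₂ Q₄ ↔ σ ∈ stabSub T₂ Q₂ := by
  rw [mem_stab', mem_stab']
  constructor
  · intro h x hx
    have h1 := h (autFun a x) (autFun_mem a hx)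
    rw [conj_fun, img_iff hi, img_iff hi] at h1
    exact h1
  · intro h y hy
    have hy' : autFun a⁻¹ y ∈ T₂ := autFun_mem _ hy
    have e : autFun (a * σ * a⁻¹) y = autFun a (autFun σ (autFun a⁻¹ y)) := by
      rw [autFun_mul_apply, autFun_mul_apply]
    rw [e, img_iff hi, h _ hy', ← img_iff hi, autFun_apply_inv]

theorem stab_of_norm {c : MulAut T₂} {P : Subgroup Ω} {n : Ω} (hc : ∀ x ∈ T₂, autFun c x = n * x * n⁻¹)
    (hn : n ∈ Subgroup.normalizer (P : Set Ω)) : c ∈ stabSub T₂ P := by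
  rw [mem_stab']
  intro x hx
  rw [hc x hx]
  exact (Subgroup.mem_normalizer_iff.1 hn x).symm

theorem norm_of_stab [Finite P] (hP : P ≤ T₂) {c : MulAut T₂} {n : Ω} (hc : ∀ x ∈ T₂, autFun c x = n * x * n⁻¹)
    (hs : c ∈ stabSub T₂ P) : n ∈ Subgroup.normalizer (P : Set Ω) :=
  mem_normalizer_of_conj_le' (fun x hx => by
    rw [← hc x (hP hx)]
    exact (mem_stab'.1 hs x (hP hx)).2 hx)

theorem stab_of_maps [Finite P] {c : MulAut T₂} (h : ∀ q ∈ P, autFun c q ∈ P) : c ∈ stabSub T₂ P := by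
  rw [mem_stab']
  intro x _
  refine ⟨fun hc => ?_, h x⟩
  have hinj : Function.Injective (fun q : P => (⟨autFun c q, h q q.2⟩ : P)) := fun q r e =>
    Subtype.ext (autFun_inj c (congrArg Subtype.val e))
  obtain ⟨q, hq⟩ := (Finite.injective_iff_surjective.1 hinj) ⟨autFun c x, hc⟩
  have e : autFun c q = autFun c x := congrArg Subtype.val hq
  rw [← autFun_inj c e]
  exact q.2

theorem conj_inner {d q : MulAut T₂} {t : Ω} (ht : t ∈ T₂) (et : ∀ y ∈ T₂, autFun q y = t * y * t⁻¹) {y : Ω} (hy : y ∈ T₂) :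
    autFun (d * q * d⁻¹) y = autFun d t * y * (autFun d t)⁻¹ := by
  have hy' : autFun d⁻¹ y ∈ T₂ := autFun_mem _ hy
  rw [autFun_mul_apply, autFun_mul_apply, et _ hy', autFun_mul d (T₂.mul_mem ht hy') (T₂.inv_mem ht),
    autFun_mul d ht hy', autFun_inv' d ht, autFun_apply_inv]

theorem img_of_card [Finite S] {G : FusionSystem S} (hf : Mp G X f) (hm : ∀ x ∈ X, f x ∈ Y) (hc : Nat.card Y ≤ Nat.card X) (hY : Y ≤ S) :
    Img X f Y := by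
  obtain ⟨Y', hY'⟩ := hf.exists_img
  haveI : Finite Y := finite_of_le hY
  have hle : Y' ≤ Y := fun y hy => by
    obtain ⟨x, hx, rfl⟩ := hY'.2 y hy
    exact hm x hx
  have e : Y' = Y := Subgroup.eq_of_le_of_card_ge hle (by rw [hf.card_img hY']; exact hc)
  rwa [e] at hY'

end stab

section cx

variable [Finite S] [Fact p.Prime] (C : Cx F E p)
include C

theorem exists_Ph (hT₂ : T₂ ≤ T) (Q₂ : Subgroup Ω) :
    ∃ Ph : Subgroup (MulAut T₂), ∀ α, α ∈ Ph ↔ α ∈ autInducedBy S T₂ ∧ ∃ β ∈ E.autGroup T₂, β⁻¹ * α ∈ stabSub T₂ Q₂ := by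
  haveI : Finite T₂ := finite_of_le (hT₂.trans C.hTS)
  let s : Submonoid (MulAut T₂) :=
    { carrier := {α | α ∈ autInducedBy S T₂ ∧ ∃ β ∈ E.autGroup T₂, β⁻¹ * α ∈ stabSub T₂ Q₂}
      one_mem' := ⟨Subgroup.one_mem _, 1, Subgroup.one_mem _, by simpa using Subgroup.one_mem _⟩
      mul_mem' := by
        rintro α₁ α₂ ⟨h₁, β₁, hβ₁, s₁⟩ ⟨h₂, β₂, hβ₂, s₂⟩
        refine ⟨Subgroup.mul_mem _ h₁ h₂, (α₁ * β₂ * α₁⁻¹) * β₁, Subgroup.mul_mem _ (aut_norm C h₁ hβ₂ hT₂) hβ₁, ?_⟩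
        have e : ((α₁ * β₂ * α₁⁻¹) * β₁)⁻¹ * (α₁ * α₂) = (β₁⁻¹ * α₁) * (β₂⁻¹ * α₂) := by group
        rw [e]
        exact Subgroup.mul_mem _ s₁ s₂ }
  exact ⟨finSub s, fun α => Iff.rfl⟩

theorem cap_T (hfn : E.IsFullyNormalized T₂) {α : MulAut T₂} (hα : α ∈ E.autGroup T₂) (hS : α ∈ autInducedBy S T₂) :
    α ∈ autInducedBy T T₂ := by
  obtain ⟨s, hs, es⟩ := inT_iff.1 hS
  have hm : Mp E T₂ (fun x => s * x * s⁻¹) := (mp_autFun hfn.1 hα).congr es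
  obtain ⟨t, ht, et⟩ := C.es_cap hfn hs hm
  exact inT_iff.2 ⟨t, ht, fun x hx => by rw [es x hx, et x hx]⟩

theorem os_fn (hfn : E.IsFullyNormalized T₂) (hcz : zz T T₂ ≤ T₂) (hQT : Q₄ ≤ T₂) (hN4 : normalizerIn T Q₄ = T₂)
    (hsyl : IsSylowIn p (autInducedBy T T₂ ⊓ stabSub T₂ Q₄) (E.autGroup T₂ ⊓ stabSub T₂ Q₄)) :
    E.IsFullyNormalized Q₄ := by
  haveI := C.finT
  have hT₂T : T₂ ≤ T := hfn.1
  haveI : Finite T₂ := finite_of_le hT₂T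
  haveI : Finite Q₄ := finite_of_le hQT
  have hQ4T := hQT.trans hT₂T
  obtain ⟨Q₅, hc, hf5⟩ := exists_isFullyNormalized E hQ4T
  have key : Nat.card (normalizerIn T Q₅) ≤ Nat.card T₂ := by
    by_contra hlt
    push_neg at hlt
    obtain ⟨ρ, hρ, hρm, hρi⟩ := nm_map C.hTp C.hEs hf5 hc
    rw [hN4] at hρ hρm
    obtain ⟨T₃, hT₃⟩ := hρ.exists_img
    have hT₃le : T₃ ≤ normalizerIn T Q₅ := fun y hy => by
      obtain ⟨x, hx, rfl⟩ := hT₃.2 y hy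
      exact hρm x hx
    have hT₃T : T₃ ≤ T := hT₃le.trans inf_le_left
    have hcard : Nat.card T₃ = Nat.card T₂ := hρ.card_img hT₃
    have hlt3 : T₃ < normalizerIn T Q₅ :=
      lt_of_le_of_ne hT₃le (fun e => by rw [← e, hcard] at hlt; exact lt_irrefl _ hlt)
    haveI : Finite (normalizerIn T Q₅) := finite_of_le (inf_le_left : normalizerIn T Q₅ ≤ T)
    have hNp : IsPGroup p (normalizerIn T Q₅) := C.hTp.to_le inf_le_left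
    have hlt4 := lt_normalizerIn hNp hlt3
    obtain ⟨x, hx, hx3⟩ := SetLike.exists_of_lt hlt4
    have hx₁ : x ∈ normalizerIn T Q₅ := hx.1
    have hxT : x ∈ T := hx₁.1
    have hT₃conj : E.IsConj T₃ T₂ := isConj_symm E (hρ.isConj hT₃)
    obtain ⟨ρ', hρ', hρ'm, hρ'i⟩ := nm_map C.hTp C.hEs hfn hT₃conj
    have hxN : x ∈ normalizerIn T T₃ := ⟨hxT, hx.2⟩
    have hx₀ : ρ' x ∈ normalizerIn T T₂ := hρ'm x hxN
    have hx₀T2 : ρ' x ∉ T₂ := by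
      intro h
      obtain ⟨t₃, ht₃, e⟩ := hρ'i.2 _ h
      exact hx3 (by rw [← hρ'.inj (le_normalizerIn hT₃T ht₃) hxN e]; exact ht₃)
    have ha₀ : Mp E T₂ (fun y => ρ' (ρ y)) := hρ.comp (fun y hy => le_normalizerIn hT₃T (hT₃.1 y hy)) hρ'
    have ha₀i : Img T₂ (fun y => ρ' (ρ y)) T₂ := hT₃.comp hρ'i
    obtain ⟨a₀, ha₀B, ha₀e⟩ := toAut' ha₀ ha₀i
    obtain ⟨Q₆, hQ₆⟩ := ((mp_autFun hT₂T ha₀B).restrict hQT).exists_img
    have hQ₆T : Q₆ ≤ T₂ := fun v hv => by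
      obtain ⟨q, hq, rfl⟩ := hQ₆.2 v hv
      exact autFun_mem _ (hQT hq)
    haveI : Finite Q₆ := finite_of_le hQ₆T
    have hQ₅T₃ : Q₅ ≤ T₃ := fun z hz => by
      obtain ⟨q, hq, rfl⟩ := hρi.2 z hz
      exact hT₃.1 q (hQT hq)
    have hnorm6 : ρ' x ∈ Subgroup.normalizer (Q₆ : Set Ω) := by
      refine mem_normalizer_of_conj_le' (fun v hv => ?_)
      obtain ⟨q, hq, rfl⟩ := hQ₆.2 v hv
      rw [ha₀e q (hQT hq)]
      have hρq : ρ q ∈ Q₅ := hρi.1 q hq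
      have h1 : ρ' x * ρ' (ρ q) * (ρ' x)⁻¹ = ρ' (x * ρ q * x⁻¹) :=
        (hρ'.map_conj hxN (le_normalizerIn hT₃T (hQ₅T₃ hρq))).symm
      rw [h1]
      have h2 : x * ρ q * x⁻¹ ∈ Q₅ := norm_conj hx₁.2 hρq
      obtain ⟨q', hq', e'⟩ := hρi.2 _ h2
      rw [← e']
      have := hQ₆.1 q' hq'
      rwa [ha₀e q' (hQT hq')] at this
    let c := normAct T₂ hx₀.2
    have hcT : c ∈ autInducedBy T T₂ := normAct_mem_autInducedBy T T₂ hx₀.2 hx₀.1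
    have hcS6 : c ∈ stabSub T₂ Q₆ := stab_of_norm (fun y hy => normAct_fun hx₀.2 hy) hnorm6
    let g := a₀⁻¹ * c * a₀
    have hgS : g ∈ stabSub T₂ Q₄ := by
      have e : a₀ * g * a₀⁻¹ = c := by
        simp only [g]
        group
      rw [← stab_conj hQ₆, e]
      exact hcS6
    have hgB : g ∈ E.autGroup T₂ :=
      Subgroup.mul_mem _ (Subgroup.mul_mem _ (Subgroup.inv_mem _ ha₀B) (autInducedBy_le_autGroup E hT₂T hcT)) ha₀B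
    let D : Subgroup (MulAut T₂) := (conjMap a₀⁻¹ (autInducedBy T T₂)) ⊓ (E.autGroup T₂ ⊓ stabSub T₂ Q₄)
    have hDp : IsPGroup p D := ((isPGroup_autInducedBy T₂ C.hTp).map _).to_inf_left
    obtain ⟨b, hb, hbc⟩ := hsyl.exists_conj (inf_le_right : D ≤ _) hDp
    have hgD : g ∈ D := ⟨conj_mem_conjMap hcT, hgB, hgS⟩
    have hbg := hbc g hgD
    obtain ⟨t, ht, et⟩ := inT_iff.1 hbg.1
    have ht4 : t ∈ Subgroup.normalizer (Q₄ : Set Ω) := norm_of_stab hQT et hbg.2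
    have htT2 : t ∈ T₂ := by
      rw [← hN4]
      exact ⟨ht.1, ht4⟩
    have hin : ∀ y ∈ T₂, ρ' x * y * (ρ' x)⁻¹ = autFun (a₀ * b⁻¹) t * y * (autFun (a₀ * b⁻¹) t)⁻¹ := by
      intro y hy
      have e1 : c = (a₀ * b⁻¹) * (b * g * b⁻¹) * (a₀ * b⁻¹)⁻¹ := by
        simp only [g]
        group
      have h2 := conj_inner (d := a₀ * b⁻¹) htT2 et hy
      rw [← e1] at h2
      rw [← h2]
      exact (normAct_fun hx₀.2 hy).symm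
    have hw : autFun (a₀ * b⁻¹) t ∈ T₂ := autFun_mem _ htT2
    have hz : (autFun (a₀ * b⁻¹) t)⁻¹ * ρ' x ∈ zz T T₂ :=
      mem_zz.2 ⟨T.mul_mem (T.inv_mem (hT₂T hw)) hx₀.1, fun y hy => comm_of_conj (hin y hy)⟩
    apply hx₀T2
    have := T₂.mul_mem hw (hcz hz)
    simpa using this
  refine ⟨hQ4T, fun Q' hQ' => ?_⟩
  rw [hN4]
  exact (hf5.2 Q' (isConj_trans E (isConj_symm E hc) hQ')).trans key

theorem os_conj (hG : GoodAt S E T₂) (hf4 : E.IsFullyNormalized Q₄) (hQT : Q₄ ≤ T₂) (hN4 : normalizerIn T Q₄ = T₂)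
    (hfac : ∀ n₁ ∈ normalizerIn S T₂, (∃ β ∈ E.autGroup T₂, ∀ q ∈ Q₄, autFun β (n₁ * q * n₁⁻¹) ∈ Q₄) →
      ∃ t₂ ∈ T, ∃ n₂ ∈ normalizerIn S Q₄, ∀ x ∈ T₂, n₁ * x * n₁⁻¹ = (t₂ * n₂) * x * (t₂ * n₂)⁻¹) :
    ∀ s ∈ S, E.IsConj Q₄ (conjMap s Q₄) → ∃ t ∈ T, ∃ n ∈ normalizerIn S Q₄, s = t * n := by
  intro s hs hc
  haveI := C.finT
  have hT₂T : T₂ ≤ T := hG.1.1
  haveI : Finite T₂ := finite_of_le hT₂T
  haveI : Finite Q₄ := finite_of_le hQT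
  obtain ⟨ρ, hρ, hρm, hρi⟩ := nm_map C.hTp C.hEs hf4 (isConj_symm E hc)
  rw [hN4] at hρm
  have hTinv : ∀ x, x ∈ T ↔ s⁻¹ * x * s ∈ T := fun x => by
    constructor
    · intro hx
      have := sc_conj_mem F C.hT (S.inv_mem hs) hx
      simpa using this
    · intro hx
      have := sc_conj_mem F C.hT hs hx
      have e : s * (s⁻¹ * x * s) * s⁻¹ = x := by group
      rwa [e] at this
  have hNs : normalizerIn T (conjMap s Q₄) = conjMap s T₂ := by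
    ext x
    rw [mem_conjMap, ← hN4]
    show (x ∈ T ∧ x ∈ Subgroup.normalizer (conjMap s Q₄ : Set Ω)) ↔ (s⁻¹ * x * s ∈ T ∧ s⁻¹ * x * s ∈ Subgroup.normalizer (Q₄ : Set Ω))
    rw [← hTinv x, normalizer_conjMap, mem_conjMap]
  rw [hNs] at hρ hρm
  have hI : Img (conjMap s T₂) ρ T₂ := img_of_card hρ hρm (Subgroup.card_map_of_injective (MulEquiv.injective _)).ge hT₂T
  have hconj : E.IsConj T₂ (conjMap s T₂) := isConj_symm E (hρ.isConj hI)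
  obtain ⟨t₁, ht₁, n₁, hn₁, e⟩ := hG.2 s hs hconj
  have hmem : ∀ y ∈ T₂, t₁ * y * t₁⁻¹ ∈ conjMap s T₂ := fun y hy => by
    rw [mem_conjMap, e]
    have e1 : (t₁ * n₁)⁻¹ * (t₁ * y * t₁⁻¹) * (t₁ * n₁) = n₁⁻¹ * y * n₁ := by group
    rw [e1]
    exact conj_inv_mem hn₁.2 hy
  have hβ : Mp E T₂ (fun y => ρ (t₁ * y * t₁⁻¹)) := (Mp.conj hT₂T ht₁).comp hmem hρ
  have hβi : Img T₂ (fun y => ρ (t₁ * y * t₁⁻¹)) T₂ := img_self hβ (fun y hy => hρm _ (hmem y hy))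
  obtain ⟨β, hβB, eβ⟩ := toAut' hβ hβi
  obtain ⟨t₂, ht₂, n₂, hn₂, ec⟩ := hfac n₁ hn₁ ⟨β, hβB, fun q hq => by
    rw [eβ _ (norm_conj hn₁.2 (hQT hq))]
    have e2 : t₁ * (n₁ * q * n₁⁻¹) * t₁⁻¹ = s * q * s⁻¹ := by
      rw [e]
      group
    show ρ (t₁ * (n₁ * q * n₁⁻¹) * t₁⁻¹) ∈ Q₄
    rw [e2]
    exact hρi.1 _ (conj_mem_conjMap hq)⟩
  let d := (t₂ * n₂)⁻¹ * n₁
  have hd : d ∈ S := S.mul_mem (S.inv_mem (S.mul_mem (C.hTS ht₂) hn₂.1)) hn₁.1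
  have hdc : ∀ x ∈ T₂, d * x * d⁻¹ = x := fun x hx => by
    have e3 := ec x hx
    calc d * x * d⁻¹ = (t₂ * n₂)⁻¹ * (n₁ * x * n₁⁻¹) * (t₂ * n₂) := by
          simp only [d]
          group
      _ = x := by
          rw [e3]
          group
  have hdn : d ∈ normalizerIn S Q₄ :=
    ⟨hd, mem_normalizer_of_conj_le' (fun x hx => by rw [hdc x (hQT hx)]; exact hx)⟩
  refine ⟨t₁ * t₂, T.mul_mem ht₁ ht₂, n₂ * d, (normalizerIn S Q₄).mul_mem hn₂ hdn, ?_⟩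
  rw [e]
  simp only [d]
  group

theorem OS (hG : Good S E T₂) (hcz : zz T T₂ ≤ T₂) (hQ₂ : Q₂ ≤ T₂) (hN : normalizerIn T Q₂ = T₂)
    (hU₁ : U ≤ normalizerIn S T₂) (hU₂ : U ≤ normalizerIn S Q₂) :
    ∃ a ∈ E.autGroup T₂, (∀ u ∈ U, ∃ s ∈ normalizerIn S T₂, ∀ x ∈ T₂, autFun a (u * x * u⁻¹) = s * autFun a x * s⁻¹) ∧
      ∀ Q₄, Img Q₂ (autFun a) Q₄ → (normalizerIn T Q₄ ≠ T₂ ∨ Good S E Q₄) := by
  have hfn : E.IsFullyNormalized T₂ := hG.at_.1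
  have hT₂T : T₂ ≤ T := hfn.1
  haveI : Finite T₂ := finite_of_le (hT₂T.trans C.hTS)
  obtain ⟨Ph, hPh⟩ := exists_Ph C hT₂T Q₂
  set B := E.autGroup T₂ with hB
  have hPhS : Ph ≤ autInducedBy S T₂ := fun α hα => ((hPh α).1 hα).1
  have hPp : IsPGroup p Ph := (isPGroup_autInducedBy T₂ C.hS).to_le hPhS
  have hPn : ∀ y ∈ Ph, ∀ b ∈ B, y * b * y⁻¹ ∈ B := fun y hy b hb => aut_norm C (hPhS hy) hb hT₂T
  have hTPh : autInducedBy T T₂ ≤ Ph := fun α hα =>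
    (hPh α).2 ⟨autInducedBy_mono T₂ C.hTS hα, α, autInducedBy_le_autGroup E hT₂T hα, by simp [Subgroup.one_mem]⟩
  have heT : B ⊓ Ph = autInducedBy T T₂ :=
    le_antisymm (fun α hα => cap_T C hfn hα.1 (hPhS hα.2)) (le_inf (autInducedBy_le_autGroup E hT₂T) hTPh)
  have hsy : IsSylowIn p (B ⊓ Ph) B := by
    rw [heT]
    exact C.syl_E hfn
  have hn : Ph ≤ Subgroup.normalizer (B : Set (MulAut T₂)) := by
    intro y hy
    rw [Subgroup.mem_normalizer_iff]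
    intro b
    refine ⟨fun hb => hPn y hy b hb, fun hb => ?_⟩
    have := hPn y⁻¹ (Ph.inv_mem hy) _ hb
    simpa [mul_assoc] using this
  have hBnorm : B ⊔ Ph ≤ Subgroup.normalizer (B : Set (MulAut T₂)) := sup_le Subgroup.le_normalizer hn
  let St₀ : Subgroup (MulAut T₂) := (B ⊔ Ph) ⊓ stabSub T₂ Q₂
  let U₀ : Subgroup (MulAut T₂) := autInducedBy U T₂
  have hU₀P : U₀ ≤ Ph := fun α hα => by
    obtain ⟨u, hu, eu⟩ := inT_iff.1 hα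
    refine (hPh α).2 ⟨inT_iff.2 ⟨u, ⟨(hU₁ hu.1).1, hu.2⟩, eu⟩, 1, Subgroup.one_mem _, ?_⟩
    rw [inv_one, one_mul]
    exact stab_of_norm eu (hU₂ hu.1).2
  have hU₀S : U₀ ≤ St₀ := fun α hα => by
    obtain ⟨u, hu, eu⟩ := inT_iff.1 hα
    exact ⟨Subgroup.mem_sup_right (hU₀P hα), stab_of_norm eu (hU₂ hu.1).2⟩
  have hfr : ∀ y ∈ Ph, ∃ a ∈ B, a * y ∈ St₀ := fun y hy => by
    obtain ⟨-, β, hβ, hs⟩ := (hPh y).1 hy
    exact ⟨β⁻¹, Subgroup.inv_mem _ hβ, Subgroup.mul_mem _ (Subgroup.mem_sup_left (Subgroup.inv_mem _ hβ)) (Subgroup.mem_sup_right hy), hs⟩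
  obtain ⟨a, ha, h1, h2, h3⟩ := GLp hPp hPn hsy (inf_le_left : St₀ ≤ _) hfr hU₀S hU₀P
  refine ⟨a, ha, fun u hu => ?_, fun Q₄ hi => ?_⟩
  · let c := normAct T₂ (hU₁ hu).2
    have hc : c ∈ U₀ := normAct_mem_autInducedBy U T₂ (hU₁ hu).2 hu
    obtain ⟨s, hs, es⟩ := inT_iff.1 (hPhS (h1 c hc))
    refine ⟨s, hs, fun x hx => ?_⟩
    rw [← normAct_fun (hU₁ hu).2 hx, ← conj_fun a c x, es _ (autFun_mem a hx)]
  · by_cases hN4 : normalizerIn T Q₄ = T₂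
    swap
    · exact Or.inl hN4
    right
    have hQ₄T : Q₄ ≤ T₂ := fun v hv => by
      obtain ⟨q, hq, rfl⟩ := hi.2 v hv
      exact autFun_mem _ (hQ₂ hq)
    haveI : Finite Q₄ := finite_of_le hQ₄T
    haveI : Finite Q₂ := finite_of_le hQ₂
    have hSt : ∀ x, x ∈ conjMap a St₀ ↔ x ∈ B ⊔ Ph ∧ x ∈ stabSub T₂ Q₄ := fun x => by
      rw [mem_conjMap]
      have e1 : a * (a⁻¹ * x * a) * a⁻¹ = x := by group
      have h4 := stab_conj (σ := a⁻¹ * x * a) hi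
      rw [e1] at h4
      show (a⁻¹ * x * a ∈ B ⊔ Ph ∧ a⁻¹ * x * a ∈ stabSub T₂ Q₂) ↔ _
      rw [← h4]
      refine and_congr_left (fun _ => ⟨fun h => ?_, fun h => ?_⟩)
      · have := (B ⊔ Ph).mul_mem ((B ⊔ Ph).mul_mem (Subgroup.mem_sup_left ha) h) (Subgroup.mem_sup_left (Subgroup.inv_mem _ ha))
        rwa [e1] at this
      · exact (B ⊔ Ph).mul_mem ((B ⊔ Ph).mul_mem (Subgroup.mem_sup_left (Subgroup.inv_mem _ ha)) h) (Subgroup.mem_sup_left ha)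
    have hD : ∀ b ∈ conjMap a St₀, ∀ d ∈ B ⊓ conjMap a St₀, b * d * b⁻¹ ∈ B ⊓ conjMap a St₀ := fun b hb d hd =>
      ⟨(Subgroup.mem_normalizer_iff.1 (hBnorm ((hSt b).1 hb).1) d).1 hd.1,
        Subgroup.mul_mem _ (Subgroup.mul_mem _ hb hd.2) (Subgroup.inv_mem _ hb)⟩
    have h5 := IsSylowIn.inf_normal h3 inf_le_right (inf_le_right : B ⊓ conjMap a St₀ ≤ _) hD
    have e5 : (Ph ⊓ conjMap a St₀) ⊓ (B ⊓ conjMap a St₀) = autInducedBy T T₂ ⊓ stabSub T₂ Q₄ := by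
      apply le_antisymm
      · intro x hx
        refine ⟨?_, ((hSt x).1 hx.1.2).2⟩
        rw [← heT]
        exact ⟨hx.2.1, hx.1.1⟩
      · intro x hx
        have hxB := autInducedBy_le_autGroup E hT₂T hx.1
        have hxS := (hSt x).2 ⟨Subgroup.mem_sup_left hxB, hx.2⟩
        exact ⟨⟨hTPh hx.1, hxS⟩, hxB, hxS⟩
    have e6 : B ⊓ conjMap a St₀ = B ⊓ stabSub T₂ Q₄ := by
      refine le_antisymm (fun x hx => ⟨hx.1, ((hSt x).1 hx.2).2⟩) (fun x hx => ⟨hx.1, (hSt x).2 ⟨Subgroup.mem_sup_left hx.1, hx.2⟩⟩)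
    rw [e5, e6] at h5
    have hf4 := os_fn C hfn hcz hQ₄T hN4 h5
    refine good_of ⟨hf4, os_conj C hG.at_ hf4 hQ₄T hN4 ?_⟩ (by rw [hN4]; exact hG)
    rintro n₁ hn₁ ⟨β, hβ, hβq⟩
    let cc := normAct T₂ hn₁.2
    have hcc : cc ∈ autInducedBy S T₂ := normAct_mem_autInducedBy S T₂ hn₁.2 hn₁.1
    have hst : β * cc ∈ stabSub T₂ Q₄ := stab_of_maps (fun q hq => by
      rw [autFun_mul_apply, normAct_fun hn₁.2 (hQ₄T hq)]
      exact hβq q hq)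
    have hst2 : a⁻¹ * (β * cc) * a ∈ stabSub T₂ Q₂ := by
      rw [← stab_conj hi]
      have e7 : a * (a⁻¹ * (β * cc) * a) * a⁻¹ = β * cc := by group
      rw [e7]
      exact hst
    have ha₁ : cc * a * cc⁻¹ ∈ B := aut_norm C hcc ha hT₂T
    have hccP : cc ∈ Ph := by
      refine (hPh cc).2 ⟨hcc, (a⁻¹ * β * (cc * a * cc⁻¹))⁻¹,
        Subgroup.inv_mem _ (Subgroup.mul_mem _ (Subgroup.mul_mem _ (Subgroup.inv_mem _ ha) hβ) ha₁), ?_⟩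
      have e8 : (a⁻¹ * β * (cc * a * cc⁻¹))⁻¹⁻¹ * cc = a⁻¹ * (β * cc) * a := by group
      rw [e8]
      exact hst2
    obtain ⟨t', ht', y', hy', hyS, ey⟩ := h2 cc hccP
    have ht'T : t' ∈ autInducedBy T T₂ := by
      rw [← heT]
      exact ht'
    obtain ⟨t₂, ht₂, et₂⟩ := inT_iff.1 ht'T
    obtain ⟨n₂, hn₂, en₂⟩ := inT_iff.1 (hPhS hy')
    have hn₂4 : n₂ ∈ Subgroup.normalizer (Q₄ : Set Ω) := norm_of_stab hQ₄T en₂ ((hSt y').1 hyS).2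
    refine ⟨t₂, ht₂.1, n₂, ⟨hn₂.1, hn₂4⟩, fun x hx => ?_⟩
    rw [← normAct_fun hn₁.2 hx]
    show autFun cc x = _
    rw [ey, autFun_mul_apply, en₂ x hx, et₂ _ (norm_conj hn₂.2 hx)]
    group

theorem lp_image (hL : Lv T L S) {θ : Ω → Ω} (hd : LP F E p L U θ) {Q₃ U₃ : Subgroup Ω} (hQT : Q ≤ T) (hQU : Q ≤ U)
    (hUN : U ≤ normalizerIn L Q) (hc : Cov T L U) (hi1 : Img Q θ Q₃) (hi2 : Img U θ U₃) :
    Q₃ ≤ T ∧ Q₃ ≤ U₃ ∧ U₃ ≤ normalizerIn L Q₃ ∧ Cov T L U₃ ∧ Nat.card Q₃ = Nat.card Q := by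
  have hf := lp_fr C hL hd
  have hm := hf.mp
  have hQ₃T : Q₃ ≤ T := fun y hy => by
    obtain ⟨q, hq, rfl⟩ := hi1.2 y hy
    exact C.mem_T hm (hQU hq) (hQT hq)
  haveI : Finite Q₃ := finite_of_le (hQ₃T.trans C.hTS)
  have hQ₃U : Q₃ ≤ U₃ := fun y hy => by
    obtain ⟨q, hq, rfl⟩ := hi1.2 y hy
    exact hi2.1 q (hQU hq)
  refine ⟨hQ₃T, hQ₃U, fun y hy => ?_, Cov.tr C hL hc hf hi2, (hm.restrict hQU).card_img hi1⟩
  obtain ⟨u, hu, rfl⟩ := hi2.2 y hy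
  obtain ⟨r, hr, h1, -⟩ := hf.lab
  have huL := (hUN hu).1
  refine ⟨?_, mem_normalizer_of_conj_le' (fun v hv => ?_)⟩
  · have := L.mul_mem (L.mul_mem (L.mul_mem hr huL) (L.inv_mem hr)) (hL.tl (h1 u hu))
    have e : r * u * r⁻¹ * ((r * u * r⁻¹)⁻¹ * θ u) = θ u := by group
    rwa [e] at this
  · obtain ⟨q, hq, rfl⟩ := hi1.2 v hv
    rw [← hm.map_conj hu (hQU hq)]
    exact hi1.1 _ (norm_conj (hUN hu).2 hq)

theorem reach (hL : Lv T L S) : ∀ (n m : ℕ) (Q U : Subgroup Ω), Nat.card T - Nat.card Q = n →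
    Nat.card T - Nat.card (normalizerIn T Q) = m →
    Q ≤ T → Q ≤ U → U ≤ normalizerIn L Q → Cov T L U →
    ∃ θ Q', LP F E p L U θ ∧ Img Q θ Q' ∧ (¬ zz T Q' ≤ Q' ∨ Good S E Q') := by
  have A := fam (p := p) C hL
  haveI := C.finT
  have hcardlt : ∀ {A' B' : Subgroup Ω}, A' ≤ B' → A' ≠ B' → B' ≤ T → Nat.card A' < Nat.card B' := fun h1 h2 h3 =>
    Cfsg.Agent.Lib.FusionExt.SatCrit1.card_lt_of_lt (S := T) h1 h2 h3
  have hcardle : ∀ {A' : Subgroup Ω}, A' ≤ T → Nat.card A' ≤ Nat.card T := fun h =>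
    Subgroup.card_le_of_le h
  intro n
  induction n using Nat.strong_induction_on with
  | _ n ihn =>
  intro m
  induction m using Nat.strong_induction_on with
  | _ m ihm =>
  intro Q U hn hm hQT hQU hUN hc
  have hUL : U ≤ L := hUN.trans inf_le_left
  by_cases hQe : Q = T
  · subst hQe
    exact ⟨fun x => x, Q, G1.Dp.refl hUL, img_refl Q, Or.inr (good_top C)⟩
  have hlt : Q < T := lt_of_le_of_ne hQT hQe
  have hlt1 := lt_normalizerIn C.hTp hlt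
  set T₁ := normalizerIn T Q with hT₁
  have hT₁T : T₁ ≤ T := inf_le_left
  have hc1 : Nat.card Q < Nat.card T₁ := hcardlt hlt1.le hlt1.ne hT₁T
  have hT₁N : T₁ ≤ normalizerIn L Q := inf_le_inf_right _ hL.tl
  have hU₁ : U ⊔ T₁ ≤ normalizerIn L Q := sup_le hUN hT₁N
  haveI : Finite T₁ := finite_of_le hT₁T
  have hU₁n : U ⊔ T₁ ≤ normalizerIn L T₁ := fun y hy => by
    have hy' := hU₁ hy
    refine ⟨hy'.1, mem_normalizer_of_conj_le' (fun t ht => ?_)⟩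
    exact ⟨sc_conj_mem F C.hT (hL.ls hy'.1) ht.1,
      Subgroup.mul_mem _ (Subgroup.mul_mem _ hy'.2 ht.2) (Subgroup.inv_mem _ hy'.2)⟩
  have hU₁c : Cov T L (U ⊔ T₁) := fun r hr => by
    obtain ⟨u, hu, e⟩ := hc r hr
    exact ⟨u, Subgroup.mem_sup_left hu, e⟩
  have hnlt : Nat.card T - Nat.card T₁ < n := by
    have := hcardle hT₁T
    omega
  obtain ⟨θ₁, T₁', hd₁, hi₁, hdisj⟩ := ihn _ hnlt _ T₁ (U ⊔ T₁) rfl rfl inf_le_left le_sup_right hU₁n hU₁c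
  have hm₁ := (lp_fr C hL hd₁).mp
  have hQU₁ : Q ≤ U ⊔ T₁ := hQU.trans le_sup_left
  obtain ⟨Q₃, hQ₃⟩ := (hm₁.restrict hQU₁).exists_img
  obtain ⟨U₃, hU₃⟩ := (hm₁.restrict (le_sup_left : U ≤ U ⊔ T₁)).exists_img
  obtain ⟨U₁', hU₁'⟩ := hm₁.exists_img
  have hdU := hd₁.restrict A (le_sup_left : U ≤ U ⊔ T₁)
  obtain ⟨hT₁'T, hT₁'U, hU₁'n, hU₁'c, hT₁'c⟩ := lp_image C hL hd₁ hT₁T le_sup_right hU₁n hU₁c hi₁ hU₁'
  obtain ⟨hQ₃T, hQ₃U₁, hU₁'q, -, hQ₃c⟩ := lp_image C hL hd₁ hQT hQU₁ hU₁ hU₁c hQ₃ hU₁'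
  have hQ₃T₁ : Q₃ ≤ T₁' := fun y hy => by
    obtain ⟨q, hq, rfl⟩ := hQ₃.2 y hy
    exact hi₁.1 q (hlt1.le hq)
  have hT₁'N : T₁' ≤ normalizerIn T Q₃ := le_inf hT₁'T (fun y hy => (hU₁'q (hT₁'U hy)).2)
  have finish : ∀ (θ₀ : Ω → Ω) (Q₃ U₃ : Subgroup Ω), LP F E p L U θ₀ → Img Q θ₀ Q₃ → Img U θ₀ U₃ →
      Nat.card T₁ < Nat.card (normalizerIn T Q₃) →
      ∃ θ Q', LP F E p L U θ ∧ Img Q θ Q' ∧ (¬ zz T Q' ≤ Q' ∨ Good S E Q') := by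
    intro θ₀ Q₃ U₃ hd h1 h2 hl
    obtain ⟨h3, h4, h5, h6, h7⟩ := lp_image C hL hd hQT hQU hUN hc h1 h2
    have hm' : Nat.card T - Nat.card (normalizerIn T Q₃) < m := by
      have := hcardle (A' := normalizerIn T Q₃) inf_le_left
      omega
    obtain ⟨θ₂, Q', hd₂, hi₂, hd₃⟩ := ihm _ hm' Q₃ U₃ (by rw [h7]; exact hn) rfl h3 h4 h5 h6
    exact ⟨fun x => θ₂ (θ₀ x), Q', hd.comp A h2.1 hd₂, h1.comp hi₂, hd₃⟩
  by_cases hcz : zz T T₁' ≤ T₁'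
  swap
  · refine ⟨θ₁, Q₃, hdU, hQ₃, Or.inl (fun hz => hcz ?_)⟩
    intro z hz'
    have hz2 : z ∈ zz T Q₃ := mem_zz.2 ⟨(mem_zz.1 hz').1, fun y hy => (mem_zz.1 hz').2 y (hQ₃T₁ hy)⟩
    exact hQ₃T₁ (hz hz2)
  have hgood := hdisj.resolve_left (not_not.2 hcz)
  by_cases hNe : normalizerIn T Q₃ = T₁'
  swap
  · refine finish θ₁ Q₃ U₃ hdU hQ₃ hU₃ ?_
    rw [← hT₁'c]
    exact hcardlt hT₁'N (fun e => hNe e.symm) inf_le_left
  have hU₁'S : U₁' ≤ normalizerIn S T₁' := hU₁'n.trans (inf_le_inf_right _ hL.ls)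
  have hU₁'Q : U₁' ≤ normalizerIn S Q₃ := hU₁'q.trans (inf_le_inf_right _ hL.ls)
  obtain ⟨a, ha, hac, hres⟩ := OS C hgood hcz hQ₃T₁ hNe hU₁'S hU₁'Q
  have hfn := hgood.at_.1
  have hucT := C.uc_of_fn hfn hcz
  obtain ⟨θ₃, hd₃, h3e⟩ := AL C hL hfn hucT ha hT₁'U hU₁'n hU₁'c (fun u hu => by
    obtain ⟨s, hs, es⟩ := hac u hu
    exact compat_L C hL hfn ha (hU₁'n hu) hs es)
  haveI : Finite T₁' := finite_of_le hT₁'T
  obtain ⟨Q₄, hQ₄⟩ := ((mp_autFun hfn.1 ha).restrict hQ₃T₁).exists_img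
  have hd₀ : LP F E p L U (fun x => θ₃ (θ₁ x)) :=
    hdU.comp A (fun x hx => hU₁'.1 x (Subgroup.mem_sup_left hx)) hd₃
  have h₀ : Img Q (fun x => θ₃ (θ₁ x)) Q₄ := hQ₃.comp (hQ₄.congr (fun x hx => (h3e x (hQ₃T₁ hx)).symm))
  rcases hres Q₄ hQ₄ with hne | hg
  · obtain ⟨U₄, hU₄⟩ := (lp_fr C hL hd₀).mp.exists_img
    refine finish _ Q₄ U₄ hd₀ h₀ hU₄ ?_
    rw [← hT₁'c]
    have hQ₄T₁ : Q₄ ≤ T₁' := fun v hv => by
      obtain ⟨q, hq, rfl⟩ := hQ₄.2 v hv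
      exact autFun_mem _ (hQ₃T₁ hq)
    haveI : Finite Q₄ := finite_of_le hQ₄T₁
    have hle : T₁' ≤ normalizerIn T Q₄ := fun y hy => by
      refine ⟨hT₁'T hy, mem_normalizer_of_conj_le' (fun v hv => ?_)⟩
      obtain ⟨y₀, hy₀, rfl⟩ := (img_autFun a).2 y hy
      obtain ⟨q, hq, rfl⟩ := hQ₄.2 v hv
      rw [← (mp_autFun hfn.1 ha).map_conj hy₀ (hQ₃T₁ hq)]
      refine hQ₄.1 _ (norm_conj ?_ hq)
      rw [← hNe] at hy₀
      exact hy₀.2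
    exact hcardlt hle (fun e => hne e.symm) inf_le_left
  · exact ⟨_, Q₄, hd₀, h₀, Or.inr hg⟩

end cx

end Cfsg.Agent.Lib.FusionExt.ER5c
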