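import Cfsg.Agent.Lib.FusionExt.ER5c

/-!
# The product `E·R`: extension between good positions (helper92)
-/

set_option autoImplicit false
set_option linter.unusedSectionVars false
set_option maxHeartbeats 1000000

namespace Cfsg.Agent.Lib.FusionExt.ER5d

open Cfsg Cfsg.FusionSystem Cfsg.Agent.Lib.Fusion.Basic Cfsg.Agent.Lib.Fusion.GroupSystem
open Cfsg.Agent.Lib.FusionExt.MapApi Cfsg.Agent.Lib.FusionExt.PowerSys Cfsg.Agent.Lib.FusionExt.LowPi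
open Cfsg.Agent.Lib.FusionExt.PrimeRes1 Cfsg.Agent.Lib.Fusion.Saturation Cfsg.Agent.Lib.Fusion.Saturation2
open Cfsg.Agent.Lib.FusionExt.Invariant Cfsg.Agent.Lib.FusionExt.CentE
open Cfsg.Agent.Lib.FusionExt.ER0 Cfsg.Agent.Lib.FusionExt.ER1 Cfsg.Agent.Lib.FusionExt.ER2 Cfsg.Agent.Lib.FusionExt.ER3
open Cfsg.Agent.Lib.FusionExt.ER4 Cfsg.Agent.Lib.FusionExt.ER5a Cfsg.Agent.Lib.FusionExt.ER5b Cfsg.Agent.Lib.FusionExt.ER5c
open Cfsg.Agent.Lib.FusionExt.Normal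
open Cfsg.Agent.Lib.FusionExt.Glue1 (Uc Uc.self Uc.conj Uc.up uc_top normAct_fun conj_fun inT_iff nm_map)
open Cfsg.Agent.Lib.FusionExt.Glue2 (conjMap_mul conjMap_one conjMap_inv conjMap_inv' conjMap_card conjMap_eq_of_norm norm_of_conjMap_eq)
open Cfsg.Agent.Lib.FusionExt.Meet3 (exists_iso eq_of_autFun autFun_congr_apply)
open Cfsg.Agent.Lib.FusionExt.Glue3 (comm_of_conj)
open Cfsg.Agent.Lib.FusionExt.G1 (Fam Dp)

universe u

variable {Ω : Type u} [Group Ω] {S T L : Subgroup Ω} {F : FusionSystem S} {E : FusionSystem T} {p : ℕ}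
variable {X Y Z P P' Q Q₀ Q₁ Q₂ Q₄ R U W U' W' T₂ : Subgroup Ω} {f f' g h φ ψ a δ χ ρ : Ω → Ω}

section cx

variable [Finite S] [Fact p.Prime] (C : Cx F E p)
include C

/-- The position of a map at a good target: a choice of `b` in `Aut_E(Q₀)`. -/
theorem pos_b (hfn : E.IsFullyNormalized Q₀) (ha : Mp E Q₁ a) (hi : Img Q₁ a Q₀) (hUS : U ≤ S)
    (hUn : U ≤ Subgroup.normalizer ((normalizerIn T Q₁ : Subgroup Ω) : Set Ω)) (hUN : U ≤ Subgroup.normalizer (Q₁ : Set Ω))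
    (hc : ∀ u ∈ U, ∃ s ∈ normalizerIn S Q₀, ∀ q ∈ Q₁, a (u * q * u⁻¹) = s * a q * s⁻¹) :
    ∃ b ∈ E.autGroup Q₀,
      (∀ y ∈ U ⊔ normalizerIn T Q₁, ∃ s ∈ normalizerIn S Q₀, ∀ q ∈ Q₁, autFun b (a (y * q * y⁻¹)) = s * autFun b (a q) * s⁻¹) ∧
      (∀ y ∈ normalizerIn T Q₁, ∃ s ∈ normalizerIn T Q₀, ∀ q ∈ Q₁, autFun b (a (y * q * y⁻¹)) = s * autFun b (a q) * s⁻¹) := by
  have hQ₁T : Q₁ ≤ T := ha.le
  have hQ₀T : Q₀ ≤ T := hfn.1
  haveI : Finite Q₀ := finite_of_le (hQ₀T.trans C.hTS)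
  haveI : Finite Q₁ := finite_of_le (hQ₁T.trans C.hTS)
  haveI : Finite (MulAut Q₀) := Cfsg.Agent.Lib.Fusion.Basic.finite_mulAut_of_finite (A := Q₀)
  obtain ⟨e, he⟩ := exists_iso ha hi
  obtain ⟨k, hk, k1, k2, k3⟩ := ha.inverse hi
  have hsurj : ∀ x ∈ Q₀, ∃ q ∈ Q₁, a q = x := fun x hx => hi.2 x hx
  -- the congruence and `E`
  have hcongr : ∀ β ∈ E.autGroup Q₁, MulAut.congr e β ∈ E.autGroup Q₀ := by
    intro β hβ
    refine mem_aut_of_mp ?_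
    have h0 : Mp E Q₀ (fun x => a (autFun β (k x))) :=
      (hk.comp k3.1 (mp_autFun hQ₁T hβ)).comp (fun x hx => autFun_mem _ (k3.1 x hx)) ha
    refine h0.congr (fun x hx => ?_)
    obtain ⟨q, hq, rfl⟩ := hsurj x hx
    show a (autFun β (k (a q))) = _
    rw [autFun_congr_apply e he β hq, k1 q hq]
  -- the conjugates
  have hcS : ∀ u (hu : u ∈ U), MulAut.congr e (normAct Q₁ (hUN hu)) ∈ autInducedBy S Q₀ := by
    intro u hu
    obtain ⟨s, hs, es⟩ := hc u hu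
    refine inT_iff.2 ⟨s, hs, fun x hx => ?_⟩
    obtain ⟨q, hq, rfl⟩ := hsurj x hx
    rw [autFun_congr_apply e he _ hq, normAct_fun (hUN hu) hq, es q hq]
  have hcT : ∀ t (ht : t ∈ normalizerIn T Q₁), MulAut.congr e (normAct Q₁ ht.2) ∈ E.autGroup Q₀ := fun t ht =>
    hcongr _ (autInducedBy_le_autGroup E hQ₁T (normAct_mem_autInducedBy T Q₁ ht.2 ht.1))
  let Ph : Subgroup (MulAut Q₀) := autInducedBy S Q₀
  let B : Subgroup (MulAut Q₀) := E.autGroup Q₀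
  have hPp : IsPGroup p Ph := isPGroup_autInducedBy Q₀ C.hS
  have hPn : ∀ y ∈ Ph, ∀ b ∈ B, y * b * y⁻¹ ∈ B := fun y hy b hb => aut_norm C hy hb hQ₀T
  have hcap : B ⊓ Ph = autInducedBy T Q₀ :=
    le_antisymm (fun α hα => cap_T C hfn hα.1 hα.2)
      (le_inf (autInducedBy_le_autGroup E hQ₀T) (autInducedBy_mono Q₀ C.hTS))
  have hsy : IsSylowIn p (B ⊓ Ph) B := by
    rw [hcap]
    exact C.syl_E hfn
  have hPS := sylow_sup hPp hPn hsy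
  let V : Subgroup Ω := U ⊔ normalizerIn T Q₁
  have hVS : V ≤ S := sup_le hUS (inf_le_left.trans C.hTS)
  have hVN : V ≤ Subgroup.normalizer (Q₁ : Set Ω) := sup_le hUN inf_le_right
  let At : Subgroup (MulAut Q₀) := (autInducedBy V Q₁).map (MulAut.congr e).toMonoidHom
  have hAtp : IsPGroup p At := (isPGroup_autInducedBy Q₁ (C.hS.to_le hVS)).map _
  have hAtL : At ≤ B ⊔ Ph := by
    rintro _ ⟨α, hα, rfl⟩
    obtain ⟨y, hy, ey⟩ := inT_iff.1 hα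
    obtain ⟨u, hu, t, ht, rfl⟩ := exists_mul_of_mem_sup' hUn hy.1
    have ht' : t ∈ normalizerIn T Q₁ := ht
    have e1 : α = normAct Q₁ (hUN hu) * normAct Q₁ ht'.2 := by
      refine eq_of_autFun (fun x hx => ?_)
      rw [ey x hx, autFun_mul_apply, normAct_fun ht'.2 hx, normAct_fun (hUN hu) (norm_conj ht'.2 hx)]
      group
    rw [e1]
    show MulAut.congr e (normAct Q₁ (hUN hu) * normAct Q₁ ht'.2) ∈ B ⊔ Ph
    rw [map_mul]
    exact Subgroup.mul_mem _ (Subgroup.mem_sup_right (hcS u hu)) (Subgroup.mem_sup_left (hcT t ht'))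
  obtain ⟨g, hg, hgc⟩ := hPS.exists_conj hAtL hAtp
  have hn : Ph ≤ Subgroup.normalizer (B : Set (MulAut Q₀)) := by
    intro y hy
    rw [Subgroup.mem_normalizer_iff]
    intro b
    refine ⟨fun hb => hPn y hy b hb, fun hb => ?_⟩
    have := hPn y⁻¹ (Ph.inv_mem hy) _ hb
    simpa [mul_assoc] using this
  have hg' : g ∈ Ph ⊔ B := by
    rw [sup_comm]
    exact hg
  obtain ⟨y, hy, b, hb, rfl⟩ := exists_mul_of_mem_sup' hn hg'
  have hbc : ∀ c ∈ At, b * c * b⁻¹ ∈ Ph := fun c hc' => by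
    have := Ph.mul_mem (Ph.mul_mem (Ph.inv_mem hy) (hgc c hc')) hy
    have e2 : y⁻¹ * (y * b * c * (y * b)⁻¹) * y = b * c * b⁻¹ := by group
    rwa [e2] at this
  have hval : ∀ (v : Ω) (hv : v ∈ Subgroup.normalizer (Q₁ : Set Ω)) (s : Ω),
      (∀ x ∈ Q₀, autFun (b * MulAut.congr e (normAct Q₁ hv) * b⁻¹) x = s * x * s⁻¹) →
      ∀ q ∈ Q₁, autFun b (a (v * q * v⁻¹)) = s * autFun b (a q) * s⁻¹ := by
    intro v hv s hs q hq
    rw [← hs _ (autFun_mem b (hi.1 q hq)), conj_fun, autFun_congr_apply e he _ hq, normAct_fun hv hq]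
  refine ⟨b, hb, fun v hv => ?_, fun t ht => ?_⟩
  · have hm : MulAut.congr e (normAct Q₁ (hVN hv)) ∈ At :=
      ⟨normAct Q₁ (hVN hv), normAct_mem_autInducedBy V Q₁ (hVN hv) hv, rfl⟩
    obtain ⟨s, hs, es⟩ := inT_iff.1 (hbc _ hm)
    exact ⟨s, hs, hval v (hVN hv) s es⟩
  · have hv : t ∈ V := Subgroup.mem_sup_right ht
    have hm : MulAut.congr e (normAct Q₁ ht.2) ∈ At :=
      ⟨normAct Q₁ ht.2, normAct_mem_autInducedBy V Q₁ ht.2 hv, rfl⟩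
    have hB1 : b * MulAut.congr e (normAct Q₁ ht.2) * b⁻¹ ∈ autInducedBy T Q₀ :=
      cap_T C hfn (Subgroup.mul_mem _ (Subgroup.mul_mem _ hb (hcT t ht)) (Subgroup.inv_mem _ hb)) (hbc _ hm)
    obtain ⟨s, hs, es⟩ := inT_iff.1 hB1
    exact ⟨s, hs, hval t ht.2 s es⟩

/-- **Extension of maps of `E` between good subgroups.** -/
theorem egg (hL : Lv T L S) : ∀ (n : ℕ) (Q₁ Q₀ U : Subgroup Ω) (a : Ω → Ω), Nat.card T - Nat.card Q₁ = n →
    Good S E Q₁ → Good S E Q₀ → Uc F T Q₁ → Mp E Q₁ a → Img Q₁ a Q₀ → Q₁ ≤ U → U ≤ normalizerIn L Q₁ → Cov T L U →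
    (∀ u ∈ U, ∃ s ∈ normalizerIn S Q₀, ∀ q ∈ Q₁, a (u * q * u⁻¹) = s * a q * s⁻¹) →
    ∃ θ, LP F E p L U θ ∧ ∀ q ∈ Q₁, θ q = a q := by
  have A := fam (p := p) C hL
  haveI := C.finT
  have hcardle : ∀ {A' : Subgroup Ω}, A' ≤ T → Nat.card A' ≤ Nat.card T := fun h =>
    Subgroup.card_le_of_le h
  have hcardlt : ∀ {A' B' : Subgroup Ω}, A' ≤ B' → A' ≠ B' → B' ≤ T → Nat.card A' < Nat.card B' := fun h1 h2 h3 =>
    Cfsg.Agent.Lib.FusionExt.SatCrit1.card_lt_of_lt (S := T) h1 h2 h3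
  intro n
  induction n using Nat.strong_induction_on with
  | _ n ihn =>
  intro Q₁ Q₀ U a hn hG₁ hG₀ hUc ha hi hQU hUN hc hcomp
  have hQ₁T : Q₁ ≤ T := ha.le
  have hfn₁ := hG₁.at_.1
  have hfn₀ := hG₀.at_.1
  have hQ₀T : Q₀ ≤ T := hfn₀.1
  have hUc₀ : Uc F T Q₀ := hUc.conj C.hT (C.mp_E ha) hi
  have hUL : U ≤ L := hUN.trans inf_le_left
  have hUS : U ≤ S := hUL.trans hL.ls
  have hcardQ : Nat.card Q₀ = Nat.card Q₁ := ha.card_img hi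
  by_cases hQe : Q₁ = T
  · subst hQe
    have hQ₀e : Q₀ = Q₁ := Subgroup.eq_of_le_of_card_ge hQ₀T hcardQ.ge
    subst hQ₀e
    obtain ⟨b, hb, eb⟩ := toAut' ha hi
    obtain ⟨θ, hd, hθ⟩ := AL C hL hfn₀ hUc₀ hb hQU hUN hc (fun u hu => by
      obtain ⟨s, hs, es⟩ := hcomp u hu
      refine compat_L C hL hfn₀ hb (hUN hu) hs (fun q hq => ?_)
      rw [eb _ (norm_conj (hUN hu).2 hq), eb q hq]
      exact es q hq)
    exact ⟨θ, hd, fun q hq => by rw [hθ q hq, eb q hq]⟩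
  have hlt : Q₁ < T := lt_of_le_of_ne hQ₁T hQe
  have hlt1 := lt_normalizerIn C.hTp hlt
  set T₁ := normalizerIn T Q₁ with hT₁
  set T₀ := normalizerIn T Q₀ with hT₀
  have hT₁T : T₁ ≤ T := inf_le_left
  have hT₀T : T₀ ≤ T := inf_le_left
  haveI : Finite T₁ := finite_of_le hT₁T
  haveI : Finite T₀ := finite_of_le hT₀T
  haveI : Finite Q₀ := finite_of_le hQ₀T
  have hQ₀T₀ : Q₀ ≤ T₀ := le_normalizerIn hQ₀T
  have hnorm1 : ∀ {y : Ω}, y ∈ normalizerIn L Q₁ → y ∈ Subgroup.normalizer ((T₁ : Subgroup Ω) : Set Ω) := fun {y} hy =>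
    mem_normalizer_of_conj_le' (fun t ht => ⟨sc_conj_mem F C.hT (hL.ls hy.1) ht.1,
      Subgroup.mul_mem _ (Subgroup.mul_mem _ hy.2 ht.2) (Subgroup.inv_mem _ hy.2)⟩)
  have hnorm0 : ∀ {y : Ω}, y ∈ normalizerIn S Q₀ → y ∈ Subgroup.normalizer ((T₀ : Subgroup Ω) : Set Ω) := fun {y} hy =>
    mem_normalizer_of_conj_le' (fun t ht => ⟨sc_conj_mem F C.hT hy.1 ht.1,
      Subgroup.mul_mem _ (Subgroup.mul_mem _ hy.2 ht.2) (Subgroup.inv_mem _ hy.2)⟩)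
  obtain ⟨b, hb, hb1, hb2⟩ := pos_b C hfn₀ ha hi hUS (fun u hu => hnorm1 (hUN hu)) (fun u hu => (hUN hu).2) hcomp
  -- the new map
  have hab : Mp E Q₁ (fun q => autFun b (a q)) := ha.comp hi.1 (mp_autFun hQ₀T hb)
  have hib : Img Q₁ (fun q => autFun b (a q)) Q₀ := hi.comp (img_autFun b)
  have hrec : E.IsReceptive Q₀ := isReceptive_of_isFullyNormalized (F := E) C.hTp C.hEs hfn₀
  obtain ⟨at', hat, hate⟩ := hab.ext_rec hrec hib (le_normalizerIn hQ₁T) (fun y hy => by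
    obtain ⟨s, hs, es⟩ := hb2 y hy
    exact ⟨hy.1, hy.2, s, hs.1, es⟩)
  have hatm : ∀ x ∈ T₁, at' x ∈ T₀ := fun x hx => by
    refine ⟨hat.mem_S hx, mem_normalizer_of_conj_le' (fun v hv => ?_)⟩
    obtain ⟨q, hq, rfl⟩ := hib.2 v hv
    have hq1 : q ∈ T₁ := le_normalizerIn hQ₁T hq
    show at' x * autFun b (a q) * (at' x)⁻¹ ∈ Q₀
    have e0 : autFun b (a q) = at' q := (hate q hq).symm
    rw [e0, ← hat.map_conj hx hq1, hate _ (norm_conj hx.2 hq)]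
    exact hib.1 _ (norm_conj hx.2 hq)
  have hcT : Nat.card T₀ ≤ Nat.card T₁ := hfn₁.2 Q₀ (ha.isConj hi)
  have hati : Img T₁ at' T₀ := img_of_card hat hatm hcT hT₀T
  obtain ⟨k, hk, k1, k2, k3⟩ := hat.inverse hati
  -- the subgroup
  have hU₁N : U ⊔ T₁ ≤ normalizerIn L Q₁ := sup_le hUN (inf_le_inf_right _ hL.tl)
  have hU₁n : U ⊔ T₁ ≤ normalizerIn L T₁ := fun y hy => ⟨(hU₁N hy).1, hnorm1 (hU₁N hy)⟩
  have hU₁c : Cov T L (U ⊔ T₁) := fun r hr => by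
    obtain ⟨u, hu, e⟩ := hc r hr
    exact ⟨u, Subgroup.mem_sup_left hu, e⟩
  have hnlt : Nat.card T - Nat.card T₁ < n := by
    have h1 := hcardle hT₁T
    have h2 := hcardlt hlt1.le hlt1.ne hT₁T
    omega
  -- the compatibility
  have hnew : ∀ u ∈ U ⊔ T₁, ∃ s ∈ normalizerIn S T₀, ∀ x ∈ T₁, at' (u * x * u⁻¹) = s * at' x * s⁻¹ := by
    intro u hu
    have huN := hU₁N hu
    have hun1 := hnorm1 huN
    have huS : u ∈ normalizerIn S Q₁ := ⟨hL.ls huN.1, huN.2⟩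
    obtain ⟨s, hs, es⟩ := hb1 u hu
    obtain ⟨t, ht, hts, etc⟩ := adj C hG₀.at_ hab hib huS hs es
    have hv0 := hnorm0 hts
    have hvS : t * u ∈ S := hts.1
    have hτ : (t * u)⁻¹ * u ∈ T := by
      have e1 : (t * u)⁻¹ * u = u⁻¹ * t⁻¹ * u := by group
      rw [e1]
      have := sc_conj_mem F C.hT (S.inv_mem huS.1) (T.inv_mem ht)
      simpa using this
    let v := t * u
    let τ := v⁻¹ * u
    have hh₁ : Mp E (conjMap v⁻¹ T₁) (fun x => v⁻¹ * at' (v⁻¹⁻¹ * x * v⁻¹) * v⁻¹⁻¹) := C.conj_E hat (S.inv_mem hvS)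
    have hh₀ : Mp E T₀ (fun x => τ * k x * τ⁻¹) := hk.comp k3.1 (Mp.conj hT₁T hτ)
    have hmem : ∀ x ∈ T₀, τ * k x * τ⁻¹ ∈ conjMap v⁻¹ T₁ := fun x hx => by
      rw [mem_conjMap]
      have e1 : v⁻¹⁻¹ * (τ * k x * τ⁻¹) * v⁻¹ = u * k x * u⁻¹ := by
        simp only [τ]
        group
      rw [e1]
      exact norm_conj hun1 (k3.1 x hx)
    have hδ0 : Mp E T₀ (fun x => v⁻¹ * at' (u * k x * u⁻¹) * v) := by
      refine (hh₀.comp hmem hh₁).congr (fun x hx => ?_)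
      show v⁻¹ * at' (v⁻¹⁻¹ * (τ * k x * τ⁻¹) * v⁻¹) * v⁻¹⁻¹ = _
      have e1 : v⁻¹⁻¹ * (τ * k x * τ⁻¹) * v⁻¹ = u * k x * u⁻¹ := by
        simp only [τ]
        group
      rw [e1, inv_inv]
    have hδm : ∀ x ∈ T₀, v⁻¹ * at' (u * k x * u⁻¹) * v ∈ T₀ := fun x hx =>
      conj_inv_mem hv0 (hatm _ (norm_conj hun1 (k3.1 x hx)))
    have hδi : Img T₀ (fun x => v⁻¹ * at' (u * k x * u⁻¹) * v) T₀ := img_self hδ0 hδm
    obtain ⟨z, hz, -, ez⟩ := C.delta hUc₀ hQ₀T₀ hT₀T hδ0 hδi (fun x hx => by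
      obtain ⟨q, hq, rfl⟩ := hib.2 x hx
      have hq1 : q ∈ T₁ := le_normalizerIn hQ₁T hq
      show v⁻¹ * at' (u * k (autFun b (a q)) * u⁻¹) * v = _
      have e0 : autFun b (a q) = at' q := (hate q hq).symm
      rw [e0, k1 q hq1, hate _ (norm_conj huN.2 hq)]
      show v⁻¹ * autFun b (a (u * q * u⁻¹)) * v = autFun b (a q)
      rw [es q hq, ← etc _ (hib.1 q hq)]
      simp only [v]
      group)
    refine ⟨v * z, ⟨S.mul_mem hvS (C.hTS (hQ₀T hz)), Subgroup.mul_mem _ hv0 ?_⟩, fun x hx => ?_⟩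
    · exact mem_normalizer_of_conj_le' (fun w hw => T₀.mul_mem (T₀.mul_mem (hQ₀T₀ hz) hw) (T₀.inv_mem (hQ₀T₀ hz)))
    · have h5 := ez (at' x) (hatm x hx)
      have h6 : v⁻¹ * at' (u * k (at' x) * u⁻¹) * v = z * at' x * z⁻¹ := h5
      rw [k1 x hx] at h6
      calc at' (u * x * u⁻¹) = v * (v⁻¹ * at' (u * x * u⁻¹) * v) * v⁻¹ := by group
        _ = _ := by
          rw [h6]
          group
  obtain ⟨θ', hd', hθ'⟩ := ihn _ hnlt T₁ T₀ (U ⊔ T₁) at' rfl hG₁.succ hG₀.succ (hUc.up hlt1.le hT₁T) hat hati le_sup_right hU₁n hU₁c hnew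
  have hm' := (lp_fr C hL hd').mp
  have hθq : ∀ q ∈ Q₁, θ' q = autFun b (a q) := fun q hq => by
    rw [hθ' q (le_normalizerIn hQ₁T hq), hate q hq]
  obtain ⟨U', hU'⟩ := (hm'.restrict (le_sup_left : U ≤ U ⊔ T₁)).exists_img
  have hdU := hd'.restrict A (le_sup_left : U ≤ U ⊔ T₁)
  have hiθ : Img Q₁ θ' Q₀ := hib.congr (fun x hx => (hθq x hx).symm)
  obtain ⟨-, hQ₀U', hU'N, hU'c, -⟩ := lp_image C hL hdU hQ₁T hQU hUN hc hiθ hU'
  have hbi : b⁻¹ ∈ E.autGroup Q₀ := Subgroup.inv_mem _ hb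
  obtain ⟨θ'', hd'', hθ''⟩ := AL C hL hfn₀ hUc₀ hbi hQ₀U' hU'N hU'c (fun u' hu' => by
    obtain ⟨u, hu, rfl⟩ := hU'.2 u' hu'
    obtain ⟨s, hs, es⟩ := hcomp u hu
    refine compat_L C hL hfn₀ hbi (hU'N hu') hs (fun x hx => ?_)
    obtain ⟨q, hq, rfl⟩ := hib.2 x hx
    have h1 : θ' u * autFun b (a q) * (θ' u)⁻¹ = autFun b (a (u * q * u⁻¹)) := by
      rw [← hθq q hq, ← hm'.map_conj (Subgroup.mem_sup_left hu) (Subgroup.mem_sup_left (hQU hq)), hθq _ (norm_conj (hUN hu).2 hq)]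
    show autFun b⁻¹ (θ' u * autFun b (a q) * (θ' u)⁻¹) = s * autFun b⁻¹ (autFun b (a q)) * s⁻¹
    rw [h1, autFun_inv_apply, autFun_inv_apply]
    exact es q hq)
  refine ⟨fun x => θ'' (θ' x), hdU.comp A hU'.1 hd'', fun q hq => ?_⟩
  show θ'' (θ' q) = a q
  rw [hθq q hq, hθ'' _ (autFun_mem b (hi.1 q hq)), autFun_inv_apply]

end cx

end Cfsg.Agent.Lib.FusionExt.ER5d
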