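import Cfsg.Agent.Lib.FusionExt.ER5d
import Cfsg.Agent.Lib.FusionExt.G3

/-!
# The product `E·R`: the main induction at a level (helper92)
-/

set_option autoImplicit false
set_option linter.unusedSectionVars false
set_option maxHeartbeats 1000000

namespace Cfsg.Agent.Lib.FusionExt.ER5e

open Cfsg Cfsg.FusionSystem Cfsg.Agent.Lib.Fusion.Basic Cfsg.Agent.Lib.Fusion.GroupSystem
open Cfsg.Agent.Lib.FusionExt.MapApi Cfsg.Agent.Lib.FusionExt.PowerSys Cfsg.Agent.Lib.FusionExt.LowPi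
open Cfsg.Agent.Lib.FusionExt.PrimeRes1 Cfsg.Agent.Lib.Fusion.Saturation Cfsg.Agent.Lib.Fusion.Saturation2
open Cfsg.Agent.Lib.FusionExt.Invariant Cfsg.Agent.Lib.FusionExt.CentE
open Cfsg.Agent.Lib.FusionExt.ER0 Cfsg.Agent.Lib.FusionExt.ER1 Cfsg.Agent.Lib.FusionExt.ER2 Cfsg.Agent.Lib.FusionExt.ER3
open Cfsg.Agent.Lib.FusionExt.ER4 Cfsg.Agent.Lib.FusionExt.ER5a Cfsg.Agent.Lib.FusionExt.ER5b Cfsg.Agent.Lib.FusionExt.ER5c Cfsg.Agent.Lib.FusionExt.ER5d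
open Cfsg.Agent.Lib.FusionExt.Normal
open Cfsg.Agent.Lib.FusionExt.Glue1 (Uc Uc.self Uc.conj Uc.up uc_top normAct_fun conj_fun inT_iff nm_map)
open Cfsg.Agent.Lib.FusionExt.Glue2 (conjMap_mul conjMap_one conjMap_inv conjMap_inv' conjMap_card conjMap_eq_of_norm norm_of_conjMap_eq exists_fn)
open Cfsg.Agent.Lib.FusionExt.Meet3 (exists_iso eq_of_autFun autFun_congr_apply)
open Cfsg.Agent.Lib.FusionExt.Glue3 (comm_of_conj)
open Cfsg.Agent.Lib.FusionExt.G1 (Fam Dp aSub mem_aSub)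
open Cfsg.Agent.Lib.FusionExt.G2 (FlS)

universe u

variable {Ω : Type u} [Group Ω] {S T L : Subgroup Ω} {F : FusionSystem S} {E : FusionSystem T} {p : ℕ}
variable {X Y Z P P' Q Q₀ Q₁ Q₂ Q₄ R U W U' W' T₂ : Subgroup Ω} {f f' g h φ ψ a δ χ ρ : Ω → Ω}

/-- The Sylow condition at a subgroup. -/
def FlQ (S : Subgroup Ω) (E : FusionSystem T) (p : ℕ) (W Q₀ : Subgroup Ω) : Prop :=
  W ⊓ T = Q₀ ∧ Good S E Q₀ ∧
    IsSylowIn p (autInducedBy T Q₀ ⊓ Subgroup.normalizer (autInducedBy W Q₀ : Set (MulAut Q₀)))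
      (E.autGroup Q₀ ⊓ Subgroup.normalizer (autInducedBy W Q₀ : Set (MulAut Q₀)))

/-- Good subgroups at a level. -/
def Fl' (F : FusionSystem S) (E : FusionSystem T) (p : ℕ) (L W : Subgroup Ω) : Prop :=
  ClR F E L W ∧ ∃ Q₀, FlQ S E p W Q₀

section fin

variable [Finite S] [Fact p.Prime] (C : Cx F E p)
include C

/-- An element of `T` whose action on `W ∩ T` normalizes that of `W` normalizes `W`. -/
theorem normW (hL : Lv T L S) (hc : ClR F E L W) {t : Ω} {c : MulAut ↥(W ⊓ T)} (ht : t ∈ normalizerIn T (W ⊓ T))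
    (hct : ∀ q ∈ W ⊓ T, autFun c q = t * q * t⁻¹)
    (hn : c ∈ Subgroup.normalizer (autInducedBy W (W ⊓ T) : Set (MulAut ↥(W ⊓ T)))) :
    t ∈ Subgroup.normalizer (W : Set Ω) := by
  have hWS : W ≤ S := hc.cl.le
  haveI : Finite W := finite_of_le hWS
  haveI : Finite ↥(W ⊓ T) := finite_of_le (inf_le_left.trans hWS)
  refine mem_normalizer_of_conj_le' (fun w hw => ?_)
  have hwN : w ∈ normalizerIn S (W ⊓ T) := mem_norm_inf C hWS hw
  have hw' : normAct (W ⊓ T) hwN.2 ∈ autInducedBy W (W ⊓ T) := normAct_mem_autInducedBy W (W ⊓ T) hwN.2 hw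
  have h1 := (Subgroup.mem_normalizer_iff.1 hn _).1 hw'
  obtain ⟨w', hw'N, ew'⟩ := inT_iff.1 h1
  have htL : t ∈ L := hL.tl ht.1
  have hwL : w ∈ L := hc.le hw
  have hd : w'⁻¹ * (t * w * t⁻¹) ∈ centralizerIn L (W ⊓ T) := by
    refine mem_cent.2 ⟨L.mul_mem (L.inv_mem (hc.le hw'N.1)) (L.mul_mem (L.mul_mem htL hwL) (L.inv_mem htL)), fun q hq => ?_⟩
    refine comm_of_conj ?_
    have hq' : t⁻¹ * q * t ∈ W ⊓ T := conj_inv_mem ht.2 hq
    have h2 := ew' q hq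
    rw [autFun_mul_apply, autFun_mul_apply] at h2
    have e1 : autFun c⁻¹ q = t⁻¹ * q * t := by
      have h3 := hct _ hq'
      have e2 : t * (t⁻¹ * q * t) * t⁻¹ = q := by group
      rw [e2] at h3
      rw [← h3, autFun_inv_apply, h3]
    rw [e1, normAct_fun hwN.2 hq', hct _ (norm_conj hwN.2 hq')] at h2
    rw [← h2]
    group
  have := W.mul_mem hw'N.1 (ClR.cent_le C hc hd)
  simpa using this

/-- `p'`-elements of `VI` lie in `Vv`. -/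
theorem VI_pp (hPS : P ≤ S) {α : MulAut P} (hα : α ∈ VI F E p P) {m : ℕ} (hm : m.Coprime p) (hαm : α ^ m = 1) :
    α ∈ Vv F E p P := by
  haveI : Finite P := finite_of_le hPS
  haveI : Finite (MulAut P) := Cfsg.Agent.Lib.Fusion.Basic.finite_mulAut_of_finite (A := P)
  obtain ⟨a, ha, b, hb, rfl⟩ := exists_mul_of_mem_sup' (Inn_norm C hPS) hα
  have hn := Subgroup.mem_normalizer_iff.1 (Inn_norm C hPS ha)
  have e : a * b = (a * b * a⁻¹) * a := by group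
  have hIp : IsPGroup p (autInducedBy P P) := isPGroup_autInducedBy P (C.hS.to_le hPS)
  obtain ⟨j, hj⟩ := IsPGroup.iff_card.1 hIp
  have hpow : a ^ p ^ j = 1 := by
    have := pow_card_eq_one' (x := (⟨a, ha⟩ : autInducedBy P P))
    rw [hj] at this
    exact congrArg Subtype.val this
  rw [e]
  refine mem_of_sub (H := Vv F E p P) (p := p) ((hn b).1 hb) (fun x hx => (hn x).1 hx) hpow ?_ hm
  rw [← e]
  exact hαm

theorem fl_syl (hL : Lv T L S) (hc : ClR F E L W) (hQ : FlQ S E p W Q₀) :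
    IsSylowIn p (autInducedBy L W) (aSub (fam C hL) hc) := by
  have A := fam (p := p) C hL
  obtain ⟨rfl, hG, hs⟩ := hQ
  have hWS : W ≤ S := hc.cl.le
  haveI : Finite W := finite_of_le hWS
  haveI : Finite ↥(W ⊓ T) := finite_of_le (inf_le_left.trans hWS)
  haveI : Finite (MulAut W) := Cfsg.Agent.Lib.Fusion.Basic.finite_mulAut_of_finite (A := W)
  haveI : Finite (MulAut ↥(W ⊓ T)) := Cfsg.Agent.Lib.Fusion.Basic.finite_mulAut_of_finite (A := ↥(W ⊓ T))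
  have hQT : W ⊓ T ≤ T := inf_le_right
  have hle : autInducedBy L W ≤ aSub (fam C hL) hc := Cfsg.Agent.Lib.FusionExt.G1.inducedBy_le (fam C hL) hc
  rw [isSylowIn_iff_maximal hle]
  refine ⟨isPGroup_autInducedBy W (C.hS.to_le hL.ls), fun D hD hDp hLD => le_antisymm (fun σ hσ => ?_) hLD⟩
  have hσA : Aa F E p L W (autFun σ) := hD hσ
  obtain ⟨-, α, hα, eα⟩ := hσA
  have hσα : σ = α := eq_of_autFun eα
  subst hσα
  obtain ⟨a, ha, b, hb, rfl⟩ := exists_mul_of_mem_sup' (Inn_norm C hWS) hα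
  have haL : a ∈ autInducedBy L W := autInducedBy_mono W hc.le ha
  have hbD : b ∈ D := by
    have := D.mul_mem (D.inv_mem (hLD haL)) hσ
    simpa using this
  refine Subgroup.mul_mem _ haL ?_
  -- the restrictions
  let Kh : Subgroup (MulAut ↥(W ⊓ T)) :=
    { carrier := {k | ∃ v ∈ D ⊓ Vv F E p W, ∀ q ∈ W ⊓ T, autFun k q = autFun v q}
      one_mem' := ⟨1, Subgroup.one_mem _, fun q _ => by rw [autFun_one_apply, autFun_one_apply]⟩
      mul_mem' := by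
        rintro k₁ k₂ ⟨v₁, hv₁, e₁⟩ ⟨v₂, hv₂, e₂⟩
        refine ⟨v₁ * v₂, Subgroup.mul_mem _ hv₁ hv₂, fun q hq => ?_⟩
        rw [autFun_mul_apply, autFun_mul_apply, e₂ q hq, e₁ _ ?_]
        rw [← e₂ q hq]
        exact autFun_mem _ hq
      inv_mem' := by
        rintro k ⟨v, hv, e⟩
        refine ⟨v⁻¹, Subgroup.inv_mem _ hv, fun q hq => ?_⟩
        have h1 := e _ (autFun_mem k⁻¹ hq)
        rw [autFun_apply_inv] at h1
        calc autFun k⁻¹ q = autFun v⁻¹ (autFun v (autFun k⁻¹ q)) := (autFun_inv_apply v _).symm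
          _ = autFun v⁻¹ q := by rw [← h1] }
  have hKp : IsPGroup p Kh := by
    rintro ⟨k, v, hv, e⟩
    obtain ⟨j, hj⟩ := hDp ⟨v, hv.1⟩
    have hj' : v ^ p ^ j = 1 := congrArg Subtype.val hj
    refine ⟨j, Subtype.ext ?_⟩
    show k ^ p ^ j = 1
    refine eq_of_autFun (fun q hq => ?_)
    have := pow_restrict (x := v) (y := k) inf_le_left (fun w hw => (e w hw).symm) (p ^ j) q hq
    rw [← this, hj', autFun_one_apply, autFun_one_apply]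
  have hKB : Kh ≤ E.autGroup (W ⊓ T) ⊓ Subgroup.normalizer (autInducedBy W (W ⊓ T) : Set (MulAut ↥(W ⊓ T))) := by
    rintro k ⟨v, hv, e⟩
    have hA := vv_A1 C hWS hv.2
    refine ⟨mem_aut_of_mp (hA.me.congr (fun q hq => (e q hq).symm)), mem_normalizer_of_conj_le' (fun m hm => ?_)⟩
    obtain ⟨w, hw, ew⟩ := inT_iff.1 hm
    have hvw : autFun v w ∈ W := autFun_mem _ hw.1
    have hvwN : autFun v w ∈ normalizerIn S (W ⊓ T) := mem_norm_inf C hWS hvw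
    refine inT_iff.2 ⟨autFun v w, ⟨hvw, hvwN.2⟩, fun q hq => ?_⟩
    have hq' : autFun k⁻¹ q ∈ W ⊓ T := autFun_mem _ hq
    have h1 := e _ hq'
    rw [autFun_apply_inv] at h1
    have hwq : w * autFun k⁻¹ q * w⁻¹ ∈ W ⊓ T := norm_conj hw.2 hq'
    rw [autFun_mul_apply, autFun_mul_apply, ew _ hq', e _ hwq, hA.mp.map_conj hw.1 hq'.1]
    rw [← h1]
  have hN : autInducedBy T (W ⊓ T) ⊓ Subgroup.normalizer (autInducedBy W (W ⊓ T) : Set (MulAut ↥(W ⊓ T))) ≤ Kh := by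
    rintro k ⟨hk, hkn⟩
    obtain ⟨t, ht, et⟩ := inT_iff.1 hk
    have htW := normW C hL hc ht et hkn
    have hv : normAct W htW ∈ D ⊓ Vv F E p W :=
      ⟨hLD (normAct_mem_autInducedBy L W htW (hL.tl ht.1)),
        mem_Vv_T hWS (normAct_mem_autInducedBy T W htW ht.1)⟩
    exact ⟨_, hv, fun q hq => by rw [et q hq, normAct_fun htW hq.1]⟩
  have hlN : autInducedBy T (W ⊓ T) ⊓ Subgroup.normalizer (autInducedBy W (W ⊓ T) : Set (MulAut ↥(W ⊓ T))) ≤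
      E.autGroup (W ⊓ T) ⊓ Subgroup.normalizer (autInducedBy W (W ⊓ T) : Set (MulAut ↥(W ⊓ T))) :=
    inf_le_inf_right _ (autInducedBy_le_autGroup E hQT)
  have hmax := ((isSylowIn_iff_maximal hlN).1 hs).2 Kh hKB hKp hN
  -- the restriction of `b`
  have hbA := vv_A1 C hWS hb
  obtain ⟨bh, hbhB, ebh⟩ := toAut' hbA.me hbA.img_inf
  have hbh : bh ∈ Kh := ⟨b, ⟨hbD, hb⟩, ebh⟩
  rw [hmax] at hbh
  obtain ⟨t, ht, et⟩ := inT_iff.1 hbh.1
  have htW := normW C hL hc ht et hbh.2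
  have hζ : (normAct W htW)⁻¹ * b ∈ Vv F E p W :=
    Subgroup.mul_mem _ (Subgroup.inv_mem _ (mem_Vv_T hWS (normAct_mem_autInducedBy T W htW ht.1))) hb
  have hid : ∀ q ∈ W ⊓ T, autFun ((normAct W htW)⁻¹ * b) q = q := by
    intro q hq
    have h1 : autFun b q = t * q * t⁻¹ := by rw [← ebh q hq, et q hq]
    rw [autFun_mul_apply, h1, ← normAct_fun htW hq.1, autFun_inv_apply]
  obtain ⟨z, hz, ez⟩ := pi_W C hc.cl hζ hid
  have e2 : b = normAct W htW * ((normAct W htW)⁻¹ * b) := by group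
  rw [e2]
  have hC : IsC W (normAct W htW * ((normAct W htW)⁻¹ * b)) (t * z) := (isC_normAct htW).mul ez
  exact mem_T_of_isC hC (L.mul_mem (hL.tl ht.1) (hL.tl (mem_zz.1 hz).1))

theorem fl_ext (hL : Lv T L S) (hW : Fl' F E p L W) (hf : Aa F E p L W f) (hm : ∃ m : ℕ, m.Coprime p ∧ ∀ x ∈ W, f^[m] x = x)
    (hWX : W ≤ X) (hXN : X ≤ normalizerIn L W) (hcomp : ∀ x ∈ X, ∃ x' ∈ X, ∀ w ∈ W, f (x * w * x⁻¹) = x' * f w * x'⁻¹) :
    ∃ f', Aa F E p L X f' ∧ ∀ w ∈ W, f' w = f w := by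
  obtain ⟨hc, Q₀, rfl, hG, -⟩ := hW
  obtain ⟨-, α, hα, eα⟩ := hf
  obtain ⟨m, hm, hfm⟩ := hm
  have hWS : W ≤ S := hc.cl.le
  have hfn := hG.at_.1
  have hU := hc.cl.uc
  have hQT : W ⊓ T ≤ T := inf_le_right
  have hXL : X ≤ L := hXN.trans inf_le_left
  have hXS : X ≤ S := hXL.trans hL.ls
  haveI : Finite W := finite_of_le hWS
  haveI : Finite X := finite_of_le hXS
  haveI : Finite ↥(W ⊓ T) := finite_of_le (inf_le_left.trans hWS)
  haveI : Finite (MulAut W) := Cfsg.Agent.Lib.Fusion.Basic.finite_mulAut_of_finite (A := W)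
  have hαeq : ∀ x ∈ W, autFun α x = f x := fun x hx => (eα x hx).symm
  have hαm : α ^ m = 1 := by
    refine eq_of_autFun (fun x hx => ?_)
    have h4 := iterate_autFun (a := α) m (⟨x, hx⟩ : W)
    rw [← autFun_coe] at h4
    rw [← h4, autFun_one_apply, iterate_congr (img_autFun α).1 hαeq m hx]
    exact hfm x hx
  have hαV : α ∈ Vv F E p W := VI_pp C hWS hα hm hαm
  have hA := vv_A1 C hWS hαV
  have hit : ∀ x ∈ W ⊓ T, (autFun α)^[m] x = x := by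
    intro x hx
    have h4 := iterate_autFun (a := α) m (⟨x, hx.1⟩ : W)
    rw [← autFun_coe] at h4
    rw [h4, hαm]
    exact autFun_one_apply _
  have hXN₀ : X ≤ normalizerIn S (W ⊓ T) := fun x hx => norm_inf C ⟨hXS hx, (hXN hx).2⟩
  let Xt : Subgroup Ω := X ⊔ centralizerIn S (W ⊓ T)
  have hXnS : X ≤ Subgroup.normalizer ((centralizerIn S (W ⊓ T) : Subgroup Ω) : Set Ω) := by
    intro w hw
    have hn : w ∈ normalizerIn S (W ⊓ T) := hXN₀ hw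
    rw [Subgroup.mem_normalizer_iff]
    intro d
    constructor
    · intro hd
      exact conj_cent' hn hd
    · intro hd
      have h1 := conj_cent' ((normalizerIn S (W ⊓ T)).inv_mem hn) hd
      have e1 : w⁻¹ * (w * d * w⁻¹) * w⁻¹⁻¹ = d := by group
      rwa [e1] at h1
  have hdec : ∀ {x : Ω}, x ∈ Xt → ∃ w ∈ X, ∃ d ∈ centralizerIn S (W ⊓ T), x = w * d := fun hx =>
    exists_mul_of_mem_sup' hXnS hx
  have hconj : ∀ {x w d q : Ω}, d ∈ centralizerIn S (W ⊓ T) → x = w * d → q ∈ W ⊓ T → x * q * x⁻¹ = w * q * w⁻¹ := by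
    intro x w d q hd e hq
    have h1 : q * d = d * q := (mem_cent.1 hd).2 q hq
    rw [e]
    calc w * d * q * (w * d)⁻¹ = w * (d * q) * d⁻¹ * w⁻¹ := by group
      _ = w * (q * d) * d⁻¹ * w⁻¹ := by rw [h1]
      _ = _ := by group
  have hQXt : W ⊓ T ≤ Xt := (inf_le_left.trans hWX).trans le_sup_left
  have hXtN : Xt ≤ normalizerIn S (W ⊓ T) := sup_le hXN₀ cent_le_norm
  obtain ⟨ξ, hξ, hξi, hξQ, hξt, hξE, m', hm', hξm⟩ := GE C hfn hU hA.me hA.img_inf hm hit hQXt hXtN le_sup_right (by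
    intro x hx
    obtain ⟨w, hw, d, hd, e⟩ := hdec hx
    obtain ⟨x', hx', ex'⟩ := hcomp w hw
    refine ⟨x', Subgroup.mem_sup_left hx', fun q hq => ?_⟩
    rw [hconj hd e hq, hαeq _ (norm_conj (hXN hw).2 hq.1), hαeq _ hq.1]
    exact ex' q hq.1)
  have hinfX : Xt ⊓ T ≤ X := by
    rintro y ⟨hy, hyT⟩
    obtain ⟨x₁, hx₁, d, hd, e⟩ := hdec hy
    obtain ⟨w, hw, hwt⟩ := hc.cov x₁ (hXL hx₁)
    set t := w⁻¹ * x₁ with ht
    have htX : t ∈ X := X.mul_mem (X.inv_mem (hWX hw)) hx₁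
    have ex₁ : x₁ = w * t := by
      rw [ht]
      group
    have htN := hXN₀ htX
    have hwc : ∀ q ∈ W ⊓ T, w * q * w⁻¹ = (y * t⁻¹) * q * (y * t⁻¹)⁻¹ := by
      intro q hq
      have hq' : t⁻¹ * q * t ∈ W ⊓ T := conj_inv_mem htN.2 hq
      have h1 := hconj hd e hq'
      calc w * q * w⁻¹ = x₁ * (t⁻¹ * q * t) * x₁⁻¹ := by
            rw [ex₁]
            group
        _ = y * (t⁻¹ * q * t) * y⁻¹ := h1.symm
        _ = _ := by group
    have hyt : y * t⁻¹ ∈ T := T.mul_mem hyT (T.inv_mem hwt)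
    have hE : Mp E (W ⊓ T) (fun q => w * q * w⁻¹) :=
      (Mp.conj hQT hyt).congr (fun q hq => (hwc q hq).symm)
    obtain ⟨q₁, hq₁, eq₁⟩ := hc.cl.ie w hw hE
    have hz : (q₁ * t)⁻¹ * y ∈ zz T (W ⊓ T) := by
      refine mem_zz.2 ⟨T.mul_mem (T.inv_mem (T.mul_mem hq₁.2 hwt)) hyT, fun q hq => ?_⟩
      refine comm_of_conj ?_
      rw [hconj hd e hq, ex₁]
      have hq' : t * q * t⁻¹ ∈ W ⊓ T := norm_conj htN.2 hq
      have h1 := eq₁ _ hq'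
      calc w * t * q * (w * t)⁻¹ = w * (t * q * t⁻¹) * w⁻¹ := by group
        _ = q₁ * (t * q * t⁻¹) * q₁⁻¹ := h1
        _ = _ := by group
    have hzQ := hU.self C.hTS hz
    have e2 : y = (q₁ * t) * ((q₁ * t)⁻¹ * y) := by group
    rw [e2]
    exact X.mul_mem (X.mul_mem (hWX hq₁.1) htX) (hWX hzQ.1)
  have hξX : ∀ x ∈ X, ξ x ∈ X := by
    intro x hx
    have hxt : x ∈ Xt := Subgroup.mem_sup_left hx
    have e1 : ξ x = x * (x⁻¹ * ξ x) := by group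
    rw [e1]
    exact X.mul_mem hx (hinfX ⟨Subgroup.mul_mem _ (Subgroup.inv_mem _ hxt) (hξi.1 x hxt), hξt x hxt⟩)
  have hξW : ∀ w ∈ W, ξ w ∈ W := by
    intro w hw
    have hwt : w ∈ Xt := Subgroup.mem_sup_left (hWX hw)
    have hz : (autFun α w)⁻¹ * ξ w ∈ zz T (W ⊓ T) := by
      refine mem_zz.2 ⟨?_, fun y hy => ?_⟩
      · have e1 : (autFun α w)⁻¹ * ξ w = (w⁻¹ * autFun α w)⁻¹ * (w⁻¹ * ξ w) := by group
        rw [e1]
        exact T.mul_mem (T.inv_mem (hA.mt w hw)) (hξt w hwt)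
      · obtain ⟨q, hq, rfl⟩ := hA.img_inf.2 y hy
        refine comm_of_conj ?_
        have hwq : w * q * w⁻¹ ∈ W ⊓ T := norm_conj (mem_norm_inf C hWS hw).2 hq
        rw [← hξQ q hq, ← hξ.map_conj hwt (hQXt hq), hξQ _ hwq, hA.mp.map_conj hw hq.1, hξQ q hq]
    have e1 : ξ w = autFun α w * ((autFun α w)⁻¹ * ξ w) := by group
    rw [e1]
    exact W.mul_mem (autFun_mem _ hw) (hU.self C.hTS hz).1
  have hξXm : Mp F X ξ := hξ.restrict le_sup_left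
  have hξWm : Mp F W ξ := hξXm.restrict hWX
  obtain ⟨ξ₁, -, eξ₁⟩ := toAut' hξXm (img_self hξXm hξX)
  obtain ⟨ξ₂, -, eξ₂⟩ := toAut' hξWm (img_self hξWm hξW)
  have hPa₁ : Pa F E p X (autFun ξ₁) := by
    refine ⟨⟨hξXm.congr (fun x hx => (eξ₁ x hx).symm), img_autFun _, fun x hx => ?_, ?_⟩, m', hm', fun x hx => ?_⟩
    · rw [eξ₁ x hx]
      exact hξt x (Subgroup.mem_sup_left hx)
    · exact (hξE.restrict (inf_le_inf_right T le_sup_left)).congr (fun x hx => (eξ₁ x hx.1).symm)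
    · rw [iterate_congr (img_autFun ξ₁).1 eξ₁ m' hx]
      exact hξm x (Subgroup.mem_sup_left hx)
  have hPa₂ : Pa F E p W (autFun ξ₂) := by
    refine ⟨⟨hξWm.congr (fun x hx => (eξ₂ x hx).symm), img_autFun _, fun x hx => ?_, ?_⟩, m', hm', fun x hx => ?_⟩
    · rw [eξ₂ x hx]
      exact hξt x (Subgroup.mem_sup_left (hWX hx))
    · exact (hξE.restrict (inf_le_inf_right T (hWX.trans le_sup_left))).congr (fun x hx => (eξ₂ x hx.1).symm)
    · rw [iterate_congr (img_autFun ξ₂).1 eξ₂ m' hx]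
      exact hξm x (Subgroup.mem_sup_left (hWX hx))
  have hζ : ξ₂⁻¹ * α ∈ Vv F E p W := Subgroup.mul_mem _ (Subgroup.inv_mem _ (Subgroup.subset_closure (Or.inl hPa₂))) hαV
  have hid : ∀ q ∈ W ⊓ T, autFun (ξ₂⁻¹ * α) q = q := by
    intro q hq
    rw [autFun_mul_apply]
    have h1 : autFun α q = autFun ξ₂ q := by rw [eξ₂ q hq.1, hξQ q hq]
    rw [h1, autFun_inv_apply]
  obtain ⟨z, hz, ez⟩ := pi_W C hc.cl hζ hid
  have hzQ := hU.self C.hTS hz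
  have hzX : z ∈ Subgroup.normalizer (X : Set Ω) := Subgroup.le_normalizer (hWX hzQ.1)
  refine ⟨fun x => ξ (z * x * z⁻¹), ⟨ClR.up C hL hc hWX hXL, ξ₁ * normAct X hzX,
    Subgroup.mul_mem _ (mem_VI_V (Subgroup.subset_closure (Or.inl hPa₁))) (mem_VI_inn (hWX hzQ.1) (isC_normAct hzX)), fun x hx => ?_⟩, fun w hw => ?_⟩
  · rw [autFun_mul_apply, normAct_fun hzX hx, eξ₁ _ (norm_conj hzX hx)]
  · show ξ (z * w * z⁻¹) = f w
    have hzw : z * w * z⁻¹ ∈ W := W.mul_mem (W.mul_mem hzQ.1 hw) (W.inv_mem hzQ.1)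
    have h1 : autFun α w = autFun ξ₂ (autFun (ξ₂⁻¹ * α) w) := by
      rw [autFun_mul_apply, autFun_apply_inv]
    rw [← hαeq w hw, h1, ez w hw, eξ₂ _ hzw]

theorem fl_exist (hL : Lv T L S) (hU : ClR F E L U) : ∃ W φ, Fl' F E p L W ∧ LP F E p L U φ ∧ Img U φ W := by
  have A := fam (p := p) C hL
  have hUS : U ≤ S := hU.cl.le
  have hUN : U ≤ normalizerIn L (U ⊓ T) := fun x hx => ⟨hU.le hx, (mem_norm_inf C hUS hx).2⟩
  obtain ⟨θ₁, Q₁, hd₁, hi₁, hdisj⟩ := reach C hL _ _ (U ⊓ T) U rfl rfl inf_le_right inf_le_left hUN hU.cov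
  have hf₁ := lp_fr C hL hd₁
  have hm₁ := hf₁.mp
  have hUc₁ : Uc F T Q₁ := hU.cl.uc.conj C.hT (hm₁.restrict inf_le_left) hi₁
  have hG₁ : Good S E Q₁ := hdisj.resolve_left (not_not.2 (hUc₁.self C.hTS))
  obtain ⟨U₁, hU₁⟩ := hm₁.exists_img
  obtain ⟨hQ₁T, hQ₁U₁, hU₁N, hU₁c, -⟩ := lp_image C hL hd₁ inf_le_right inf_le_left hUN hU.cov hi₁ hU₁
  have hU₁cl : ClR F E L U₁ := Fr.clr C hL hU hf₁ hU₁
  have hfn₁ := hG₁.at_.1
  have hQ₁S : Q₁ ≤ S := hQ₁T.trans C.hTS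
  haveI : Finite Q₁ := finite_of_le hQ₁S
  haveI : Finite (MulAut Q₁) := Cfsg.Agent.Lib.Fusion.Basic.finite_mulAut_of_finite (A := Q₁)
  have hNLS : normalizerIn L Q₁ ≤ normalizerIn S Q₁ := inf_le_inf_right _ hL.ls
  -- groups
  let Mh : Subgroup (MulAut Q₁) := autInducedBy L Q₁
  let B : Subgroup (MulAut Q₁) := E.autGroup Q₁
  have hBM : ∀ m ∈ Mh, ∀ β ∈ B, m * β * m⁻¹ ∈ B := fun m hm β hβ =>
    aut_norm C (autInducedBy_mono Q₁ hL.ls hm) hβ hQ₁T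
  have hTM : autInducedBy T Q₁ ≤ Mh := autInducedBy_mono Q₁ hL.tl
  have hTB : autInducedBy T Q₁ ≤ B := autInducedBy_le_autGroup E hQ₁T
  have hinf : B ⊓ Mh = autInducedBy T Q₁ :=
    le_antisymm (fun α hα => cap_T C hfn₁ hα.1 (autInducedBy_mono Q₁ hL.ls hα.2)) (le_inf hTB hTM)
  have hMp : IsPGroup p Mh := isPGroup_autInducedBy Q₁ (C.hS.to_le hL.ls)
  have hsy : IsSylowIn p Mh (B ⊔ Mh) := sylow_sup hMp hBM (by rw [hinf]; exact C.syl_E hfn₁)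
  have hMN : Mh ≤ Subgroup.normalizer (B : Set (MulAut Q₁)) := by
    intro y hy
    rw [Subgroup.mem_normalizer_iff]
    intro β
    refine ⟨fun hβ => hBM y hy β hβ, fun hβ => ?_⟩
    have := hBM y⁻¹ (Subgroup.inv_mem _ hy) _ hβ
    simpa [mul_assoc] using this
  have hU₁M : autInducedBy U₁ Q₁ ≤ Mh := autInducedBy_mono Q₁ hU₁cl.le
  obtain ⟨Wh, g₀, hWhM, hg₀, hconj, hsyl⟩ := exists_fn hsy le_sup_right hU₁M
  have hg₀' : g₀ ∈ Mh ⊔ B := by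
    rw [sup_comm]
    exact hg₀
  obtain ⟨mh, hmh, b, hb, rfl⟩ := exists_mul_of_mem_sup' hMN hg₀'
  obtain ⟨m, hm, em⟩ := inT_iff.1 hmh
  -- the map `b`
  have hcb : ∀ u ∈ U₁, ∃ u' ∈ normalizerIn L Q₁, ∀ q ∈ Q₁, autFun b (u * q * u⁻¹) = u' * autFun b q * u'⁻¹ := by
    intro u hu
    have huN := hU₁N hu
    have h1 : normAct Q₁ huN.2 ∈ autInducedBy U₁ Q₁ := normAct_mem_autInducedBy U₁ Q₁ huN.2 hu
    have h2 : mh * b * normAct Q₁ huN.2 * (mh * b)⁻¹ ∈ Wh := by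
      rw [← hconj]
      exact conj_mem_conjMap h1
    have h3 : b * normAct Q₁ huN.2 * b⁻¹ ∈ Mh := by
      have := Mh.mul_mem (Mh.mul_mem (Mh.inv_mem hmh) (hWhM h2)) hmh
      have e : mh⁻¹ * (mh * b * normAct Q₁ huN.2 * (mh * b)⁻¹) * mh = b * normAct Q₁ huN.2 * b⁻¹ := by group
      rwa [e] at this
    obtain ⟨u', hu', eu'⟩ := inT_iff.1 h3
    refine ⟨u', hu', fun q hq => ?_⟩
    rw [← eu' _ (autFun_mem b hq), conj_fun, normAct_fun huN.2 hq]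
  obtain ⟨θ₂, hd₂, hθ₂⟩ := AL C hL hfn₁ hUc₁ hb hQ₁U₁ hU₁N hU₁c hcb
  have hm₂ := (lp_fr C hL hd₂).mp
  obtain ⟨U₂, hU₂⟩ := hm₂.exists_img
  obtain ⟨Q₂', hQ₂'⟩ := (hm₂.restrict hQ₁U₁).exists_img
  have hU₂L : U₂ ≤ L := fun y hy => by
    obtain ⟨u, hu, rfl⟩ := hU₂.2 y hy
    exact (lp_image C hL hd₂ hQ₁T hQ₁U₁ hU₁N hU₁c hQ₂' hU₂).2.2.1 (hU₂.1 u hu) |>.1
  have hd₃ : LP F E p L U₁ (fun x => m * θ₂ x * m⁻¹) := hd₂.comp A hU₂.1 (lp_conj C hL hm.1 hU₂L)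
  have hf₃ := lp_fr C hL hd₃
  have hm₃ := hf₃.mp
  obtain ⟨W, hW⟩ := hm₃.exists_img
  have hθ₃ : ∀ q ∈ Q₁, m * θ₂ q * m⁻¹ = autFun (mh * b) q := by
    intro q hq
    rw [hθ₂ q hq, autFun_mul_apply, em _ (autFun_mem b hq)]
  have hinfW : W ⊓ T = Q₁ := by
    have h1 := C.img_inf hm₃ hW
    have h2 : U₁ ⊓ T = Q₁ := (C.img_inf hm₁ hU₁).unique hi₁
    rw [h2] at h1
    exact h1.unique ((img_autFun (mh * b)).congr (fun q hq => (hθ₃ q hq).symm))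
  have hWcl : ClR F E L W := Fr.clr C hL hU₁cl hf₃ hW
  have hWS : W ≤ S := hWcl.cl.le
  have hWN : W ≤ normalizerIn L Q₁ := fun x hx => by
    have := mem_norm_inf C hWS hx
    rw [hinfW] at this
    exact ⟨hWcl.le hx, this.2⟩
  -- the action of `W`
  have hact : ∀ u ∈ U₁, ∀ (hn : u ∈ Subgroup.normalizer (Q₁ : Set Ω)), ∀ q ∈ Q₁,
      autFun (mh * b * normAct Q₁ hn * (mh * b)⁻¹) q = (m * θ₂ u * m⁻¹) * q * (m * θ₂ u * m⁻¹)⁻¹ := by
    intro u hu hn q hq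
    have hq' : autFun (mh * b)⁻¹ q ∈ Q₁ := autFun_mem _ hq
    have h1 := hm₃.map_conj hu (hQ₁U₁ hq')
    have h1' : m * θ₂ (u * autFun (mh * b)⁻¹ q * u⁻¹) * m⁻¹ =
      (m * θ₂ u * m⁻¹) * (m * θ₂ (autFun (mh * b)⁻¹ q) * m⁻¹) * (m * θ₂ u * m⁻¹)⁻¹ := h1
    rw [hθ₃ _ hq', hθ₃ _ (norm_conj hn hq'), autFun_apply_inv] at h1'
    rw [← h1', autFun_mul_apply, autFun_mul_apply, normAct_fun hn hq']
  have hWh : autInducedBy W Q₁ = Wh := by
    rw [← hconj]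
    apply le_antisymm
    · intro α hα
      obtain ⟨y, hy, ey⟩ := inT_iff.1 hα
      obtain ⟨u, hu, rfl⟩ := hW.2 y hy.1
      have huN := hU₁N hu
      have h1 : α = (mh * b) * normAct Q₁ huN.2 * (mh * b)⁻¹ :=
        eq_of_autFun (fun q hq => by rw [ey q hq, hact u hu huN.2 q hq])
      rw [h1]
      exact conj_mem_conjMap (normAct_mem_autInducedBy U₁ Q₁ huN.2 hu)
    · rintro _ ⟨α, hα, rfl⟩
      obtain ⟨u, hu, eu⟩ := inT_iff.1 hα
      have h1 : α = normAct Q₁ hu.2 := eq_of_autFun (fun q hq => by rw [eu q hq, normAct_fun hu.2 hq])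
      subst h1
      refine inT_iff.2 ⟨m * θ₂ u * m⁻¹, ?_, hact u hu.1 hu.2⟩
      have hy := hW.1 u hu.1
      exact ⟨hy, (hWN hy).2⟩
  refine ⟨W, fun x => m * θ₂ (θ₁ x) * m⁻¹, ⟨hWcl, Q₁, hinfW, hG₁, ?_⟩, hd₁.comp A hU₁.1 hd₃, hU₁.comp hW⟩
  rw [hWh]
  -- intersection with `B`
  have hle₁ : normalizerIn Mh Wh ≤ normalizerIn (B ⊔ Mh) Wh := inf_le_inf_right _ le_sup_right
  have hDle : B ⊓ Subgroup.normalizer (Wh : Set (MulAut Q₁)) ≤ normalizerIn (B ⊔ Mh) Wh :=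
    inf_le_inf_right _ le_sup_left
  have hBnorm : B ⊔ Mh ≤ Subgroup.normalizer (B : Set (MulAut Q₁)) := sup_le Subgroup.le_normalizer hMN
  have hs := IsSylowIn.inf_normal hsyl hle₁ hDle (fun x hx d hd =>
    ⟨(Subgroup.mem_normalizer_iff.1 (hBnorm hx.1) d).1 hd.1, Subgroup.mul_mem _ (Subgroup.mul_mem _ hx.2 hd.2) (Subgroup.inv_mem _ hx.2)⟩)
  have e : normalizerIn Mh Wh ⊓ (B ⊓ Subgroup.normalizer (Wh : Set (MulAut Q₁))) =
      autInducedBy T Q₁ ⊓ Subgroup.normalizer (Wh : Set (MulAut Q₁)) := by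
    apply le_antisymm
    · intro x hx
      refine ⟨?_, hx.2.2⟩
      rw [← hinf]
      exact ⟨hx.2.1, hx.1.1⟩
    · intro x hx
      exact ⟨⟨hTM hx.1, hx.2⟩, hTB hx.1, hx.2⟩
  rw [e] at hs
  exact hs

theorem flS (hL : Lv T L S) : FlS (fam C hL) p (Fl' F E p L) where
  uc h := h.1
  syl h := by
    obtain ⟨hc, Q₀, hQ⟩ := h
    exact fl_syl C hL hc hQ
  ext h1 h2 h3 h4 h5 h6 := fl_ext C hL h1 h2 h3 h4 h5 h6
  exist h := fl_exist C hL h

/-- **The main theorem at a level.** -/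
theorem main_L (hL : Lv T L S) (X : Subgroup Ω) (hX : ClR F E L X) :
    Cfsg.Agent.Lib.FusionExt.G3.Lp L (Aa F E p L) X ∧ Cfsg.Agent.Lib.FusionExt.G3.II L (Aa F E p L) X := by
  haveI : Finite L := finite_of_le hL.ls
  exact Cfsg.Agent.Lib.FusionExt.G3.main_ind (C.hS.to_le hL.ls) (fam C hL) (flS C hL) X hX

end fin

end Cfsg.Agent.Lib.FusionExt.ER5e
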