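import Cfsg.Agent.Lib.FusionExt.ER5e

/-!
# The product `E·R`: the system on `R` (helper92)
-/

set_option autoImplicit false
set_option linter.unusedSectionVars false
set_option maxHeartbeats 1000000

namespace Cfsg.Agent.Lib.FusionExt.ER6a

open Cfsg Cfsg.FusionSystem Cfsg.Agent.Lib.Fusion.Basic Cfsg.Agent.Lib.Fusion.GroupSystem
open Cfsg.Agent.Lib.FusionExt.MapApi Cfsg.Agent.Lib.FusionExt.PowerSys Cfsg.Agent.Lib.FusionExt.LowPi
open Cfsg.Agent.Lib.FusionExt.PrimeRes1 Cfsg.Agent.Lib.Fusion.Saturation Cfsg.Agent.Lib.Fusion.Saturation2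
open Cfsg.Agent.Lib.FusionExt.Invariant Cfsg.Agent.Lib.FusionExt.CentE
open Cfsg.Agent.Lib.FusionExt.ER0 Cfsg.Agent.Lib.FusionExt.ER1 Cfsg.Agent.Lib.FusionExt.ER2 Cfsg.Agent.Lib.FusionExt.ER3
open Cfsg.Agent.Lib.FusionExt.ER4 Cfsg.Agent.Lib.FusionExt.ER5a Cfsg.Agent.Lib.FusionExt.ER5b Cfsg.Agent.Lib.FusionExt.ER5c Cfsg.Agent.Lib.FusionExt.ER5d Cfsg.Agent.Lib.FusionExt.ER5e
open Cfsg.Agent.Lib.FusionExt.Normal
open Cfsg.Agent.Lib.FusionExt.Glue1 (Uc Uc.self Uc.conj Uc.up uc_top normAct_fun conj_fun inT_iff nm_map)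
open Cfsg.Agent.Lib.FusionExt.Glue2 (conjMap_mul conjMap_one conjMap_inv conjMap_inv' conjMap_card conjMap_eq_of_norm norm_of_conjMap_eq exists_fn)
open Cfsg.Agent.Lib.FusionExt.Meet3 (exists_iso eq_of_autFun autFun_congr_apply)
open Cfsg.Agent.Lib.FusionExt.Glue3 (comm_of_conj)
open Cfsg.Agent.Lib.FusionExt.G1 (Fam Dp aSub mem_aSub)
open Cfsg.Agent.Lib.FusionExt.G2 (FlS)

universe u

variable {Ω : Type u} [Group Ω] {S T L R : Subgroup Ω} {F : FusionSystem S} {E : FusionSystem T} {p : ℕ}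
variable {X X' Y Z P P' Q Q₀ Q₁ Q₂ Q₄ U W U' W' : Subgroup Ω} {f f' g h φ ψ a δ χ ρ : Ω → Ω}

theorem conj_inv_conj (w : Ω) (X : Subgroup Ω) : conjMap w⁻¹ (conjMap w X) = X := by
  ext x
  rw [mem_conjMap, mem_conjMap]
  have e : w⁻¹ * (w⁻¹⁻¹ * x * w⁻¹) * w = x := by group
  rw [e]

theorem conj_of_mem {r : Ω} (hr : r ∈ X) : conjMap r X = X := by
  ext x
  rw [mem_conjMap]
  constructor
  · intro hx
    have := X.mul_mem (X.mul_mem hr hx) (X.inv_mem hr)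
    have e : r * (r⁻¹ * x * r) * r⁻¹ = x := by group
    rwa [e] at this
  · intro hx
    exact X.mul_mem (X.mul_mem (X.inv_mem hr) hx) hr

theorem img_conj {r : Ω} : Img X (fun x => r * x * r⁻¹) (conjMap r X) :=
  ⟨fun _ hx => conj_mem_conjMap hx, fun y hy => ⟨r⁻¹ * y * r, mem_conjMap.1 hy, by group⟩⟩

section cx

variable (C : Cx F E p)
include C

theorem conj_T_eq {r : Ω} (hr : r ∈ S) : conjMap r T = T := by
  ext x
  rw [mem_conjMap]
  constructor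
  · intro hx
    have := sc_conj_mem F C.hT hr hx
    have e : r * (r⁻¹ * x * r) * r⁻¹ = x := by group
    rwa [e] at this
  · intro hx
    have := sc_conj_mem F C.hT (S.inv_mem hr) hx
    simpa using this

theorem conj_sup {r : Ω} (hr : r ∈ S) : conjMap r (X ⊔ T) = conjMap r X ⊔ T := by
  have := Subgroup.map_sup X T (MulAut.conj r).toMonoidHom
  have h2 : conjMap r T = T := conj_T_eq C hr
  show (X ⊔ T).map (MulAut.conj r).toMonoidHom = conjMap r X ⊔ T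
  rw [this]
  congr 1

theorem lv_sup (hX : X ≤ S) : Lv T (X ⊔ T) S := ⟨le_sup_right, sup_le hX C.hTS⟩

theorem lv_conj {r : Ω} (hr : r ∈ S) (hL : Lv T L S) : Lv T (conjMap r L) S := by
  refine ⟨?_, ?_⟩
  · rw [← conj_T_eq C hr]
    exact Subgroup.map_mono hL.tl
  · rintro _ ⟨x, hx, rfl⟩
    exact S.mul_mem (S.mul_mem hr (hL.ls hx)) (S.inv_mem hr)

/-- The level of a subgroup is normalized by the subgroup. -/
theorem norm_sup (hX : X ≤ S) {x : Ω} (hx : x ∈ X ⊔ T) : x ∈ Subgroup.normalizer ((X ⊔ T : Subgroup Ω) : Set Ω) :=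
  Subgroup.le_normalizer hx

/-- Decomposition of elements of a level. -/
theorem dec_sup (hX : X ≤ S) {x : Ω} (hx : x ∈ X ⊔ T) : ∃ y ∈ X, ∃ t ∈ T, x = y * t := by
  refine exists_mul_of_mem_sup' (fun w hw => ?_) hx
  rw [Subgroup.mem_normalizer_iff]
  intro t
  constructor
  · intro ht
    exact sc_conj_mem F C.hT (hX hw) ht
  · intro ht
    have := sc_conj_mem F C.hT (S.inv_mem (hX hw)) ht
    have e : w⁻¹ * (w * t * w⁻¹) * w⁻¹⁻¹ = t := by group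
    rwa [e] at this

end cx

section fin

variable [Finite S] [Fact p.Prime] (C : Cx F E p)
include C

theorem clR_conj (hL : Lv T L S) (h : ClR F E L P) {r : Ω} (hr : r ∈ S) : ClR F E (conjMap r L) (conjMap r P) := by
  have hPS : P ≤ S := h.cl.le
  refine ⟨Cl.tr C h.cl (Mp.conj hPS hr) img_conj, Subgroup.map_mono h.le, fun y hy => ?_⟩
  obtain ⟨x, hx, ht⟩ := h.cov _ (mem_conjMap.1 hy)
  refine ⟨r * x * r⁻¹, conj_mem_conjMap hx, ?_⟩
  have := sc_conj_mem F C.hT hr ht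
  have e : r * (x⁻¹ * (r⁻¹ * y * r)) * r⁻¹ = (r * x * r⁻¹)⁻¹ * y := by group
  rwa [e] at this

theorem Aa_conj (hL : Lv T L S) (h : Aa F E p L P f) {r : Ω} (hr : r ∈ S) :
    Aa F E p (conjMap r L) (conjMap r P) (fun x => r * f (r⁻¹ * x * r) * r⁻¹) := by
  obtain ⟨hc, α, hα, e⟩ := h
  have hPS : P ≤ S := hc.cl.le
  obtain ⟨α', hα', e'⟩ := VI_tr C (Mp.conj hPS hr) img_conj hα
  refine ⟨clR_conj C hL hc hr, α', hα', fun y hy => ?_⟩
  have hy' := mem_conjMap.1 hy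
  have h1 := e' _ hy'
  have e1 : r * (r⁻¹ * y * r) * r⁻¹ = y := by group
  show r * f (r⁻¹ * y * r) * r⁻¹ = autFun α' y
  rw [e _ hy']
  rw [e1] at h1
  exact h1.symm

/-- Transport of paths. -/
theorem Dp_conj (hL : Lv T L S) (hd : LP F E p L X f) {r : Ω} (hr : r ∈ S) :
    LP F E p (conjMap r L) (conjMap r X) (fun x => r * f (r⁻¹ * x * r) * r⁻¹) := by
  have hL' := lv_conj C hr hL
  induction hd with
  | nil hX h1 =>
    refine .nil (Subgroup.map_mono hX) (fun x hx => ?_)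
    show r * _ * r⁻¹ = x
    rw [h1 _ (mem_conjMap.1 hx)]
    group
  | @cons X' Y' P' g' h' f' h1 h2 h3 h4 h5 ih =>
    refine .cons (Aa_conj C hL h1 hr) (Subgroup.map_mono h2) (Y := conjMap r Y') ?_ ih (fun x hx => ?_)
    · refine ⟨fun x hx => ?_, fun y hy => ?_⟩
      · exact conj_mem_conjMap (h3.1 _ (mem_conjMap.1 hx))
      · obtain ⟨x, hx, e⟩ := h3.2 _ (mem_conjMap.1 hy)
        refine ⟨r * x * r⁻¹, conj_mem_conjMap hx, ?_⟩
        show r * g' (r⁻¹ * (r * x * r⁻¹) * r) * r⁻¹ = y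
        have e1 : r⁻¹ * (r * x * r⁻¹) * r = x := by group
        rw [e1, e]
        group
    · have e1 : r⁻¹ * (r * g' (r⁻¹ * x * r) * r⁻¹) * r = g' (r⁻¹ * x * r) := by group
      show r * f' (r⁻¹ * x * r) * r⁻¹ = r * h' (r⁻¹ * (r * g' (r⁻¹ * x * r) * r⁻¹) * r) * r⁻¹
      rw [e1, h5 _ (mem_conjMap.1 hx)]

/-- The level of the image of a map of the level `X T`. -/
theorem level_img (hX : X ≤ S) (hf : Fr F E (X ⊔ T) X f) (hi : Img X f Y) : Y ⊔ T = X ⊔ T := by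
  obtain ⟨h1, h2, r, hr, h3, -⟩ := hf
  have hrS : r ∈ S := (lv_sup C hX).ls hr
  have hYL : Y ≤ X ⊔ T := fun y hy => by
    obtain ⟨x, hx, rfl⟩ := hi.2 y hy
    have e : f x = (r * x * r⁻¹) * ((r * x * r⁻¹)⁻¹ * f x) := by group
    rw [e]
    exact Subgroup.mul_mem _ (Subgroup.mul_mem _ (Subgroup.mul_mem _ hr (h2 hx)) (Subgroup.inv_mem _ hr)) (Subgroup.mem_sup_right (h3 x hx))
  refine le_antisymm (sup_le hYL le_sup_right) ?_
  have h4 : conjMap r (X ⊔ T) ≤ Y ⊔ T := by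
    rw [conj_sup C hrS]
    refine sup_le ?_ le_sup_right
    rintro _ ⟨x, hx, rfl⟩
    show r * x * r⁻¹ ∈ Y ⊔ T
    have e : r * x * r⁻¹ = f x * ((r * x * r⁻¹)⁻¹ * f x)⁻¹ := by group
    rw [e]
    exact Subgroup.mul_mem _ (Subgroup.mem_sup_left (hi.1 x hx)) (Subgroup.inv_mem _ (Subgroup.mem_sup_right (h3 x hx)))
  rwa [conj_of_mem hr] at h4

/-- Restriction of an edge. -/
theorem edge_res (hL : Lv T L S) (h : Aa F E p L P f) (hX : X ≤ P) :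
    ∃ w ∈ P, ∃ g₁, LP F E p (X ⊔ T) X g₁ ∧ ∀ x ∈ X, f x = w * g₁ x * w⁻¹ := by
  obtain ⟨hc, α, hα, e⟩ := h
  have hPS : P ≤ S := hc.cl.le
  have hXS : X ≤ S := hX.trans hPS
  haveI : Finite P := finite_of_le hPS
  obtain ⟨w, hw, b, hb, eb⟩ := VI_dec C hPS hα
  have hA := vv_A1 C hPS hb
  have hLX := lv_sup C hXS
  -- the subgroup `U = X (P ∩ T)`
  have hXn : X ≤ Subgroup.normalizer ((P ⊓ T : Subgroup Ω) : Set Ω) := fun x hx => (mem_norm_inf C hPS (hX hx)).2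
  let U : Subgroup Ω := X ⊔ (P ⊓ T)
  have hUP : U ≤ P := sup_le hX inf_le_left
  have hdec : ∀ {u : Ω}, u ∈ U → ∃ x ∈ X, ∃ t ∈ P ⊓ T, u = x * t := fun hu => exists_mul_of_mem_sup' hXn hu
  have hUinf : U ⊓ T = P ⊓ T := le_antisymm (inf_le_inf_right T hUP) (le_inf le_sup_right inf_le_right)
  have hUL : U ≤ X ⊔ T := sup_le le_sup_left (inf_le_right.trans le_sup_right)
  have hUcl : ClR F E (X ⊔ T) U := by
    refine ⟨⟨hUP.trans hPS, by rw [hUinf]; exact hc.cl.uc, fun x hx hxE => ?_⟩, hUL, fun r hr => ?_⟩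
    · rw [hUinf] at hxE ⊢
      exact hc.cl.ie x (hUP hx) hxE
    · obtain ⟨y, hy, t, ht, rfl⟩ := dec_sup C hXS hr
      exact ⟨y, Subgroup.mem_sup_left hy, by simpa using ht⟩
  have hbU : ∀ u ∈ U, autFun b u ∈ U := fun u hu => by
    have e1 : autFun b u = u * (u⁻¹ * autFun b u) := by group
    rw [e1]
    refine U.mul_mem hu (Subgroup.mem_sup_right ⟨P.mul_mem (P.inv_mem (hUP hu)) (autFun_mem b (hUP hu)), hA.mt u (hUP hu)⟩)
  obtain ⟨v', hv', ev'⟩ := res_Vv C hc.cl hUP hb hbU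
  have hAa : Aa F E p (X ⊔ T) U (autFun v') := ⟨hUcl, v', mem_VI_V hv', fun _ _ => rfl⟩
  refine ⟨w, hw, autFun v', Cfsg.Agent.Lib.FusionExt.G1.Dp.edge (fam C hLX) hAa (le_sup_left : X ≤ U), fun x hx => ?_⟩
  rw [e x (hX hx), eb x (hX hx), ev' x (Subgroup.mem_sup_left hx)]

/-- **Restriction of paths.** -/
theorem path_res (hL : Lv T L S) (hd : LP F E p L X f) (hX' : X' ≤ X) :
    ∃ r ∈ L, ∃ g', LP F E p (X' ⊔ T) X' g' ∧ ∀ x ∈ X', f x = r * g' x * r⁻¹ := by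
  have A := fam (p := p) C hL
  induction hd generalizing X' with
  | nil hX h1 =>
    have hXS : X' ≤ S := (hX'.trans hX).trans hL.ls
    exact ⟨1, L.one_mem, fun x => x, Cfsg.Agent.Lib.FusionExt.G1.Dp.refl le_sup_left, fun x hx => by
      rw [h1 x (hX' hx)]
      group⟩
  | @cons X₁ Y₁ P₁ g₁ h₁ f₁ h1 h2 h3 h4 h5 ih =>
    have hXP : X' ≤ P₁ := hX'.trans h2
    have hPS : P₁ ≤ S := h1.1.cl.le
    have hXS : X' ≤ S := hXP.trans hPS
    obtain ⟨w, hw, k, hk, ek⟩ := edge_res C hL h1 hXP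
    have hLX := lv_sup C hXS
    have AX := fam (p := p) C hLX
    have hkf := lp_fr C hLX hk
    obtain ⟨X₂, hX₂⟩ := hkf.mp.exists_img
    have hX₂S : X₂ ≤ S := hkf.mp.img_le hX₂
    -- the image in `Y₁`
    let X₃ := conjMap w X₂
    have hX₃ : X₃ ≤ Y₁ := by
      rintro _ ⟨z, hz, rfl⟩
      obtain ⟨x, hx, rfl⟩ := hX₂.2 z hz
      show w * k x * w⁻¹ ∈ Y₁
      rw [← ek x hx]
      exact h3.1 x (hX' hx)
    obtain ⟨r₂, hr₂, k₂, hk₂, ek₂⟩ := ih hX₃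
    have hwL : w ∈ L := h1.1.le hw
    have hwS : w ∈ S := hPS hw
    have hY₁S : Y₁ ≤ S := (lp_fr C hL h4).le.trans hL.ls
    have hX₃S : X₃ ≤ S := hX₃.trans hY₁S
    have hk₃ := Dp_conj C (lv_sup C hX₃S) hk₂ (S.inv_mem hwS)
    have e1 : conjMap w⁻¹ X₃ = X₂ := conj_inv_conj w X₂
    rw [conj_sup C (S.inv_mem hwS), e1, level_img C hXS hkf hX₂] at hk₃
    refine ⟨r₂ * w, L.mul_mem hr₂ hwL, _, hk.comp AX hX₂.1 hk₃, fun x hx => ?_⟩
    have hkx : w * k x * w⁻¹ ∈ X₃ := conj_mem_conjMap (hX₂.1 x hx)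
    show f₁ x = r₂ * w * (w⁻¹ * k₂ (w⁻¹⁻¹ * k x * w⁻¹) * w⁻¹⁻¹) * (r₂ * w)⁻¹
    rw [h5 x (hX' hx), ek x hx, ek₂ _ hkx]
    have e2 : w⁻¹⁻¹ * k x * w⁻¹ = w * k x * w⁻¹ := by rw [inv_inv]
    rw [e2]
    group

/-- The maps of the product. -/
structure Dn (F : FusionSystem S) (E : FusionSystem T) (p : ℕ) (R X : Subgroup Ω) (f : Ω → Ω) : Prop where
  le : X ≤ R
  lab : ∃ r ∈ R, ∃ g, LP F E p (X ⊔ T) X g ∧ ∀ x ∈ X, f x = r * g x * r⁻¹

/-- Hypotheses on `R`. -/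
structure Lv₂ (T R S : Subgroup Ω) : Prop where
  tr : T ≤ R
  rs : R ≤ S

omit C in
theorem Lv₂.sup_le (hR : Lv₂ T R S) (hX : X ≤ R) : X ⊔ T ≤ R := _root_.sup_le hX hR.tr

theorem Dn.mp (hR : Lv₂ T R S) (h : Dn F E p R X f) : Mp F X f := by
  obtain ⟨hX, r, hr, g, hg, e⟩ := h
  have hXS : X ≤ S := hX.trans hR.rs
  have hf := lp_fr C (lv_sup C hXS) hg
  obtain ⟨Y, hY⟩ := hf.mp.exists_img
  have hYS : Y ≤ S := hf.mp.img_le hY
  exact (hf.mp.comp hY.1 (Mp.conj hYS (hR.rs hr))).congr (fun x hx => (e x hx).symm)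

theorem dnAx (hR : Lv₂ T R S) : SysAx R (Dn F E p R) where
  congr := by
    rintro X f g ⟨h1, r, hr, k, hk, e⟩ e'
    exact ⟨h1, r, hr, k, hk, fun x hx => by rw [← e' x hx, e x hx]⟩
  le h := h.le
  mem := by
    rintro X f x ⟨h1, r, hr, k, hk, e⟩ hx
    rw [e x hx]
    have A := fam (p := p) C (lv_sup C (h1.trans hR.rs))
    exact R.mul_mem (R.mul_mem hr (hR.sup_le h1 (hk.mem_T A hx))) (R.inv_mem hr)
  mul h hx hy := (Dn.mp C hR h).map_mul hx hy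
  inj h hx hy e := (Dn.mp C hR h).inj hx hy e
  conj := by
    intro X a hX ha
    exact ⟨hX, a, ha, fun x => x, Cfsg.Agent.Lib.FusionExt.G1.Dp.refl le_sup_left, fun _ _ => rfl⟩
  comp := by
    rintro X Y f g ⟨h1, r, hr, f₀, hf₀, ef⟩ hm ⟨k1, s, hs, g₀, hg₀, eg⟩
    have hXS : X ≤ S := h1.trans hR.rs
    have hYS : Y ≤ S := k1.trans hR.rs
    have hrS : r ∈ S := hR.rs hr
    have hLX := lv_sup C hXS
    have AX := fam (p := p) C hLX
    have hff := lp_fr C hLX hf₀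
    obtain ⟨X₀, hX₀⟩ := hff.mp.exists_img
    have hg₁ := Dp_conj C (lv_sup C hYS) hg₀ (S.inv_mem hrS)
    rw [conj_sup C (S.inv_mem hrS)] at hg₁
    have hle : X₀ ≤ conjMap r⁻¹ Y := fun z hz => by
      obtain ⟨x, hx, rfl⟩ := hX₀.2 z hz
      rw [mem_conjMap, inv_inv]
      rw [← ef x hx]
      exact hm x hx
    have hY₁S : conjMap r⁻¹ Y ≤ S := by
      rintro _ ⟨z, hz, rfl⟩
      exact S.mul_mem (S.mul_mem (S.inv_mem hrS) (hYS hz)) (S.inv_mem (S.inv_mem hrS))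
    obtain ⟨r', hr', g', hg', eg'⟩ := path_res C (lv_sup C hY₁S) hg₁ hle
    rw [level_img C hXS hff hX₀] at hg'
    have hr'R : r' ∈ R := by
      have h2 : conjMap r⁻¹ Y ⊔ T ≤ R := by
        refine _root_.sup_le ?_ hR.tr
        rintro _ ⟨z, hz, rfl⟩
        exact R.mul_mem (R.mul_mem (R.inv_mem hr) (k1 hz)) (R.inv_mem (R.inv_mem hr))
      exact h2 hr'
    refine ⟨h1, s * r * r', R.mul_mem (R.mul_mem hs hr) hr'R, _, hf₀.comp AX hX₀.1 hg', fun x hx => ?_⟩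
    have h3 := eg' _ (hX₀.1 x hx)
    have h4 : r⁻¹ * g₀ (r⁻¹⁻¹ * f₀ x * r⁻¹) * r⁻¹⁻¹ = r' * g' (f₀ x) * r'⁻¹ := h3
    have e5 : r⁻¹⁻¹ * f₀ x * r⁻¹ = f x := by
      rw [ef x hx, inv_inv]
    rw [e5, inv_inv] at h4
    show g (f x) = s * r * r' * g' (f₀ x) * (s * r * r')⁻¹
    rw [eg _ (hm x hx)]
    have e6 : g₀ (f x) = r * (r⁻¹ * g₀ (f x) * r) * r⁻¹ := by group
    rw [e6, h4]
    group
  inv := by
    rintro X Y f ⟨h1, r, hr, f₀, hf₀, ef⟩ hi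
    have hXS : X ≤ S := h1.trans hR.rs
    have hrS : r ∈ S := hR.rs hr
    have hLX := lv_sup C hXS
    have AX := fam (p := p) C hLX
    have hff := lp_fr C hLX hf₀
    obtain ⟨X₀, hX₀⟩ := hff.mp.exists_img
    have hX₀S : X₀ ≤ S := hff.mp.img_le hX₀
    obtain ⟨k₀, hk₀, k1, k2, k3⟩ := hf₀.inv AX hX₀
    have hk₁ := Dp_conj C hLX hk₀ hrS
    rw [← level_img C hXS hff hX₀, conj_sup C hrS] at hk₁
    have hYe : conjMap r X₀ = Y := by
      have hi' : Img X (fun x => r * f₀ x * r⁻¹) (conjMap r X₀) := hX₀.comp img_conj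
      exact hi'.unique (hi.congr ef)
    rw [hYe] at hk₁
    have hYR : Y ≤ R := fun y hy => by
      obtain ⟨x, hx, rfl⟩ := hi.2 y hy
      rw [ef x hx]
      exact R.mul_mem (R.mul_mem hr (hR.sup_le h1 (hf₀.mem_T AX hx))) (R.inv_mem hr)
    refine ⟨fun y => r⁻¹ * (r * k₀ (r⁻¹ * y * r) * r⁻¹) * r⁻¹⁻¹, ⟨hYR, r⁻¹, R.inv_mem hr, _, hk₁, fun _ _ => rfl⟩, fun x hx => ?_⟩
    show r⁻¹ * (r * k₀ (r⁻¹ * f x * r) * r⁻¹) * r⁻¹⁻¹ = x
    have e1 : r⁻¹ * f x * r = f₀ x := by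
      rw [ef x hx]
      group
    rw [e1, k1 x hx]
    group

/-- **The product system.** -/
noncomputable def DD (hR : Lv₂ T R S) : FusionSystem R := mkSys (dnAx (p := p) C hR)

theorem mp_DD {hR : Lv₂ T R S} : Mp (DD C hR) X f ↔ Dn F E p R X f := mp_mkSys (dnAx C hR)

theorem DD_sub (hR : Lv₂ T R S) : (DD C hR).IsSubsystemOf F := by
  intro P φ hφ
  exact Cfsg.Agent.Lib.FusionExt.PowerE.hom_of_mp (Dn.mp C hR ((mp_DD C).1 (mp_of_hom hφ)))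

end fin

end Cfsg.Agent.Lib.FusionExt.ER6a
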