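import Cfsg.Agent.Lib.FusionExt.ER6a

/-!
# The product `E·R`: the centric condition (helper92)
-/

set_option autoImplicit false
set_option linter.unusedSectionVars false
set_option maxHeartbeats 1000000

namespace Cfsg.Agent.Lib.FusionExt.ER6b

open Cfsg Cfsg.FusionSystem Cfsg.Agent.Lib.Fusion.Basic Cfsg.Agent.Lib.Fusion.GroupSystem
open Cfsg.Agent.Lib.FusionExt.MapApi Cfsg.Agent.Lib.FusionExt.PowerSys Cfsg.Agent.Lib.FusionExt.LowPi
open Cfsg.Agent.Lib.FusionExt.PrimeRes1 Cfsg.Agent.Lib.Fusion.Saturation Cfsg.Agent.Lib.Fusion.Saturation2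
open Cfsg.Agent.Lib.FusionExt.Invariant Cfsg.Agent.Lib.FusionExt.CentE
open Cfsg.Agent.Lib.FusionExt.ER0 Cfsg.Agent.Lib.FusionExt.ER1 Cfsg.Agent.Lib.FusionExt.ER2 Cfsg.Agent.Lib.FusionExt.ER3
open Cfsg.Agent.Lib.FusionExt.ER4 Cfsg.Agent.Lib.FusionExt.ER5a Cfsg.Agent.Lib.FusionExt.ER5b Cfsg.Agent.Lib.FusionExt.ER5c Cfsg.Agent.Lib.FusionExt.ER5d Cfsg.Agent.Lib.FusionExt.ER5e
open Cfsg.Agent.Lib.FusionExt.ER6a
open Cfsg.Agent.Lib.FusionExt.SatCrit1 (le_opAut)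
open Cfsg.Agent.Lib.FusionExt.Normal
open Cfsg.Agent.Lib.FusionExt.Glue1 (Uc Uc.self Uc.conj Uc.up uc_top normAct_fun conj_fun inT_iff nm_map)
open Cfsg.Agent.Lib.FusionExt.Meet3 (exists_iso eq_of_autFun autFun_congr_apply)
open Cfsg.Agent.Lib.FusionExt.Glue3 (comm_of_conj)
open Cfsg.Agent.Lib.FusionExt.G1 (Fam Dp aSub mem_aSub)
open Cfsg.Agent.Lib.FusionExt.G2 (FlS)

universe u

variable {Ω : Type u} [Group Ω] {S T L R : Subgroup Ω} {F : FusionSystem S} {E : FusionSystem T} {p : ℕ}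
variable {X X' Y Z P P' Q Q₀ Q₁ Q₂ Q₄ U W U' W' : Subgroup Ω} {f f' g h φ ψ a δ χ ρ : Ω → Ω}

/-- Automorphisms fixing a subgroup pointwise. -/
def fixSub (W Q : Subgroup Ω) : Subgroup (MulAut W) where
  carrier := {a | ∀ q ∈ Q, autFun a q = q}
  one_mem' := fun q _ => autFun_one_apply q
  mul_mem' := by
    intro a b ha hb q hq
    rw [autFun_mul_apply, hb q hq, ha q hq]
  inv_mem' := by
    intro a ha q hq
    have := autFun_inv_apply a q
    rwa [ha q hq] at this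

theorem mem_fixSub {a : MulAut W} {Q : Subgroup Ω} : a ∈ fixSub W Q ↔ ∀ q ∈ Q, autFun a q = q := Iff.rfl

section fin

variable [Finite S] [Fact p.Prime] (C : Cx F E p)
include C

/-- Labels of powers. -/
theorem label_pow {a : MulAut W} {r₀ : Ω} (hr₀ : r₀ ∈ S) (hlab : ∀ x ∈ W, (r₀ * x * r₀⁻¹)⁻¹ * autFun a x ∈ T) (j : ℕ) :
    ∀ x ∈ W, (r₀ ^ j * x * (r₀ ^ j)⁻¹)⁻¹ * autFun (a ^ j) x ∈ T := by
  induction j with
  | zero =>
    intro x _
    rw [pow_zero, pow_zero, autFun_one_apply]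
    have e : (1 * x * (1 : Ω)⁻¹)⁻¹ * x = 1 := by group
    rw [e]
    exact T.one_mem
  | succ j ih =>
    intro x hx
    rw [pow_succ a j, autFun_mul_apply]
    have hy : autFun a x ∈ W := autFun_mem a hx
    have h1 := ih _ hy
    have h2 := hlab x hx
    have hrj : r₀ ^ j ∈ S := S.pow_mem hr₀ j
    have h3 := sc_conj_mem F C.hT hrj h2
    have e : (r₀ ^ (j + 1) * x * (r₀ ^ (j + 1))⁻¹)⁻¹ * autFun (a ^ j) (autFun a x) =
        (r₀ ^ j * ((r₀ * x * r₀⁻¹)⁻¹ * autFun a x) * (r₀ ^ j)⁻¹) *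
          ((r₀ ^ j * autFun a x * (r₀ ^ j)⁻¹)⁻¹ * autFun (a ^ j) (autFun a x)) := by
      rw [pow_succ]
      group
    rw [e]
    exact T.mul_mem h3 h1

omit C [Finite S] [Fact p.Prime] in
theorem stab_pow {b : MulAut W} {Q : Subgroup Ω} (hQ : Q ≤ W) (hfix : ∀ q ∈ Q, autFun b q = q) (hst : ∀ x ∈ W, x⁻¹ * autFun b x ∈ Q) (j : ℕ) :
    ∀ x ∈ W, autFun (b ^ j) x = x * (x⁻¹ * autFun b x) ^ j := by
  induction j with
  | zero =>
    intro x _
    rw [pow_zero, autFun_one_apply, pow_zero, mul_one]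
  | succ j ih =>
    intro x hx
    rw [pow_succ b j, autFun_mul_apply, ih _ (autFun_mem b hx)]
    have hd := hst x hx
    have e1 : autFun b x = x * (x⁻¹ * autFun b x) := by group
    have e2 : autFun b (autFun b x) = autFun b x * (x⁻¹ * autFun b x) := by
      conv_lhs => rw [e1]
      rw [autFun_mul b hx (hQ hd), hfix _ hd]
    have e3 : (autFun b x)⁻¹ * autFun b (autFun b x) = x⁻¹ * autFun b x := by
      rw [e2]
      group
    have e4 : x * (x⁻¹ * autFun b x) = autFun b x := by group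
    rw [e3, pow_succ', ← mul_assoc, e4]

/-- Automorphisms fixing `W ∩ T` and with a label are `p`-elements. -/
theorem fix_pgroup (hWS : W ≤ S) {a : MulAut W} {r₀ : Ω} (hr₀ : r₀ ∈ S)
    (hlab : ∀ x ∈ W, (r₀ * x * r₀⁻¹)⁻¹ * autFun a x ∈ T) (hfix : ∀ q ∈ W ⊓ T, autFun a q = q) :
    ∃ k : ℕ, a ^ p ^ k = 1 := by
  haveI : Finite W := finite_of_le hWS
  haveI : Finite (MulAut W) := Cfsg.Agent.Lib.Fusion.Basic.finite_mulAut_of_finite (A := W)
  obtain ⟨B₀, hB₀⟩ := C.hS ⟨r₀, hr₀⟩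
  have hB₀' : r₀ ^ p ^ B₀ = 1 := congrArg Subtype.val hB₀
  obtain ⟨u, v, e, ⟨k, hk⟩, ⟨q, hq, hqe⟩, hdv⟩ := exists_parts' (p := p) a B₀
  obtain ⟨w, rfl⟩ := hdv
  -- the power is trivial modulo `T`
  have h1 : ∀ x ∈ W, x⁻¹ * autFun (a ^ p ^ B₀) x ∈ T := by
    intro x hx
    have h2 := label_pow C hr₀ hlab (p ^ B₀) x hx
    rw [hB₀'] at h2
    have e2 : (1 * x * (1 : Ω)⁻¹)⁻¹ = x⁻¹ := by group
    rwa [e2] at h2
  have h2 : ∀ j : ℕ, ∀ x ∈ W, x⁻¹ * autFun ((a ^ p ^ B₀) ^ j) x ∈ T := by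
    intro j
    induction j with
    | zero =>
      intro x _
      rw [pow_zero, autFun_one_apply, inv_mul_cancel]
      exact T.one_mem
    | succ j ih =>
      intro x hx
      rw [pow_succ, autFun_mul_apply]
      have e2 : x⁻¹ * autFun ((a ^ p ^ B₀) ^ j) (autFun (a ^ p ^ B₀) x) =
          (x⁻¹ * autFun (a ^ p ^ B₀) x) * ((autFun (a ^ p ^ B₀) x)⁻¹ * autFun ((a ^ p ^ B₀) ^ j) (autFun (a ^ p ^ B₀) x)) := by group
      rw [e2]
      exact T.mul_mem (h1 x hx) (ih _ (autFun_mem _ hx))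
  let b : MulAut W := a ^ (p ^ B₀ * w)
  have hbT : ∀ x ∈ W, x⁻¹ * autFun b x ∈ T := fun x hx => by
    show x⁻¹ * autFun (a ^ (p ^ B₀ * w)) x ∈ T
    rw [pow_mul]
    exact h2 w x hx
  have hbfix : b ∈ fixSub W (W ⊓ T) := Subgroup.pow_mem _ (show a ∈ fixSub W (W ⊓ T) from hfix) _
  have hbQ : ∀ x ∈ W, x⁻¹ * autFun b x ∈ W ⊓ T := fun x hx =>
    ⟨W.mul_mem (W.inv_mem hx) (autFun_mem b hx), hbT x hx⟩
  have hWp : IsPGroup p W := C.hS.to_le hWS
  obtain ⟨n, hn⟩ := IsPGroup.iff_card.1 hWp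
  have hb1 : b ^ p ^ n = 1 := by
    refine eq_of_autFun (fun x hx => ?_)
    rw [stab_pow inf_le_left hbfix hbQ (p ^ n) x hx, autFun_one_apply]
    have h3 := pow_card_eq_one' (x := (⟨x⁻¹ * autFun b x, (hbQ x hx).1⟩ : W))
    rw [hn] at h3
    have h4 : (x⁻¹ * autFun b x) ^ p ^ n = 1 := congrArg Subtype.val h3
    rw [h4, mul_one]
  have hb2 : b = 1 := one_of_two_orders (p := p) hq hqe hb1
  refine ⟨k, ?_⟩
  have e3 : a = a ^ u := by
    have h5 : a ^ (p ^ B₀ * w) = 1 := hb2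
    rw [h5, mul_one] at e
    exact e
  rw [e3]
  exact hk

variable (hR : Lv₂ T R S)
include hR

theorem dn_of_lp (hL : Lv T L S) (hLR : L ≤ R) (hd : LP F E p L X g) : Dn F E p R X g := by
  obtain ⟨r, hr, g', hg', e⟩ := path_res C hL hd le_rfl
  exact ⟨(lp_fr C hL hd).le.trans hLR, r, hLR hr, g', hg', e⟩

theorem dn_fr (h : Dn F E p R X f) : Fr F E R X f := by
  have hm := Dn.mp C hR h
  obtain ⟨hX, r, hr, g, hg, e⟩ := h
  have hXS : X ≤ S := hX.trans hR.rs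
  obtain ⟨h1, h2, r₀, hr₀, h3, h4⟩ := lp_fr C (lv_sup C hXS) hg
  refine ⟨hm, hX, r * r₀, R.mul_mem hr (hR.sup_le hX hr₀), fun x hx => ?_, h4.congr (fun y hy => ?_)⟩
  · have h5 := sc_conj_mem F C.hT (hR.rs hr) (h3 x hx)
    have e1 : (r * r₀ * x * (r * r₀)⁻¹)⁻¹ * f x = r * ((r₀ * x * r₀⁻¹)⁻¹ * g x) * r⁻¹ := by
      rw [e x hx]
      group
    rw [e1]
    exact h5
  · show r₀⁻¹ * g y * r₀ = (r * r₀)⁻¹ * f y * (r * r₀)
    rw [e y hy.1]
    group

/-- Case B: the condition on centralizers forces `Cl`. -/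
theorem cl_of_cent (D : FusionSystem R) (hD : ∀ {X f}, Mp D X f ↔ Dn F E p R X f) (hP : P ≤ R) (hall : ∀ P'', D.IsConj P P'' → centralizerIn R (P'' ⊓ T) ≤ P'') :
    Cl F E P := by
  have hPS : P ≤ S := hP.trans hR.rs
  have hLP := lv_sup C hPS
  have hUN : P ≤ normalizerIn (P ⊔ T) (P ⊓ T) := fun x hx => ⟨Subgroup.mem_sup_left hx, (mem_norm_inf C hPS hx).2⟩
  have hcov : Cov T (P ⊔ T) P := fun r hr => by
    obtain ⟨y, hy, t, ht, rfl⟩ := dec_sup C hPS hr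
    exact ⟨y, hy, by simpa using ht⟩
  obtain ⟨θ, Q', hd, hi, hdisj⟩ := reach C hLP _ _ (P ⊓ T) P rfl rfl inf_le_right inf_le_left hUN hcov
  have hf := lp_fr C hLP hd
  have hm := hf.mp
  obtain ⟨P₁, hP₁⟩ := hm.exists_img
  have hinf : P₁ ⊓ T = Q' := (C.img_inf hm hP₁).unique hi
  have hdn := dn_of_lp C hR hLP (hR.sup_le hP) hd
  have hconj : D.IsConj P P₁ := (hD.2 hdn).isConj hP₁
  have hC := hall P₁ hconj
  rw [hinf] at hC
  have hP₁S : P₁ ≤ S := hm.img_le hP₁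
  have hP₁T : Q' ≤ P₁ := by
    rw [← hinf]
    exact inf_le_left
  have hz : zz T Q' ≤ Q' := by
    intro z hz
    have h1 : z ∈ centralizerIn R Q' := mem_cent.2 ⟨hR.tr (mem_zz.1 hz).1, (mem_zz.1 hz).2⟩
    rw [← hinf]
    exact ⟨hC h1, (mem_zz.1 hz).1⟩
  have hG : Good S E Q' := hdisj.resolve_left (not_not.2 hz)
  have hfn := hG.at_.1
  have hcl : Cl F E P₁ := by
    refine ⟨hP₁S, by rw [hinf]; exact C.uc_of_fn hfn hz, fun x hx hxE => ?_⟩
    rw [hinf] at hxE ⊢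
    have hxN : x ∈ normalizerIn S Q' := by
      have := mem_norm_inf C hP₁S hx
      rwa [hinf] at this
    obtain ⟨t, ht, et⟩ := C.es_cap hfn hxN hxE
    have hxR : x ∈ R := (hD.2 hdn).img_le hP₁ hx
    have hd' : t⁻¹ * x ∈ centralizerIn R Q' :=
      mem_cent.2 ⟨R.mul_mem (R.inv_mem (hR.tr ht.1)) hxR, fun q hq => comm_of_conj (et q hq)⟩
    have htP : t ∈ P₁ := by
      have := P₁.mul_mem hx (P₁.inv_mem (hC hd'))
      simpa using this
    refine ⟨t, ?_, et⟩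
    rw [← hinf]
    exact ⟨htP, ht.1⟩
  obtain ⟨k, hk, -, -, hkI⟩ := hm.inverse hP₁
  exact Cl.tr C hcl hk hkI

omit [Finite S] [Fact p.Prime] C hR in
/-- **The set of good subgroups of `D`.** -/
def HH (F : FusionSystem S) (E : FusionSystem T) (D : FusionSystem R) : Set (Subgroup Ω) :=
  {P | P ≤ R ∧ Cl F E P ∧ ∀ P'', D.IsConj P P'' → centralizerIn R (P'' ⊓ T) ≤ P''}

theorem HH_conj (D : FusionSystem R) (hD : ∀ {X f}, Mp D X f ↔ Dn F E p R X f) (hP : P ∈ HH F E D) (hc : D.IsConj P Q) : Q ∈ HH F E D := by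
  obtain ⟨h1, h2, h3⟩ := hP
  obtain ⟨f, hf, hi⟩ := mp_of_conj hc
  have hdn := hD.1 hf
  exact ⟨hf.img_le hi, Cl.tr C h2 (Dn.mp C hR hdn) hi, fun P'' hc' => h3 P'' (isConj_trans _ hc hc')⟩

/-- The star condition. -/
theorem HH_star (D : FusionSystem R) (hD : ∀ {X f}, Mp D X f ↔ Dn F E p R X f) (hcen : D.IsCentric P) (hnot : P ∉ HH F E D) :
    ∃ Q, D.IsConj P Q ∧
      ¬ (autInducedBy R Q ⊓ (pCore p ↥(D.autGroup Q)).map (D.autGroup Q).subtype ≤ Inn Q) := by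
  have hPR : P ≤ R := hcen.1
  have hex : ∃ P'', D.IsConj P P'' ∧ ¬ centralizerIn R (P'' ⊓ T) ≤ P'' := by
    by_contra hcon
    push_neg at hcon
    exact hnot ⟨hPR, cl_of_cent C hR D hD hPR hcon, hcon⟩
  obtain ⟨W, hW, hWc⟩ := hex
  have hWR : W ≤ R := isConj_right_le _ hW
  have hWS : W ≤ S := hWR.trans hR.rs
  haveI : Finite W := finite_of_le hWS
  haveI : Finite R := finite_of_le hR.rs
  haveI : Finite (MulAut W) := Cfsg.Agent.Lib.Fusion.Basic.finite_mulAut_of_finite (A := W)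
  -- an element of the centralizer normalizing `W`
  have hWn : W ≤ Subgroup.normalizer ((centralizerIn R (W ⊓ T) : Subgroup Ω) : Set Ω) := by
    intro w hw
    have hn : w ∈ normalizerIn S (W ⊓ T) := mem_norm_inf C hWS hw
    have hwR := hWR hw
    rw [Subgroup.mem_normalizer_iff]
    intro d
    constructor
    · intro hd
      exact mem_cent.2 ⟨R.mul_mem (R.mul_mem hwR (mem_cent.1 hd).1) (R.inv_mem hwR), (mem_cent.1 (conj_cent' hn (mem_cent.2 ⟨hR.rs (mem_cent.1 hd).1, (mem_cent.1 hd).2⟩))).2⟩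
    · intro hd
      have h1 := conj_cent' ((normalizerIn S (W ⊓ T)).inv_mem hn) (mem_cent.2 ⟨hR.rs (mem_cent.1 hd).1, (mem_cent.1 hd).2⟩)
      have e1 : w⁻¹ * (w * d * w⁻¹) * w⁻¹⁻¹ = d := by group
      rw [e1] at h1
      have hdR : d ∈ R := by
        have := R.mul_mem (R.mul_mem (R.inv_mem hwR) (mem_cent.1 hd).1) hwR
        rwa [show w⁻¹ * (w * d * w⁻¹) * w = d by group] at this
      exact mem_cent.2 ⟨hdR, (mem_cent.1 h1).2⟩
  let V : Subgroup Ω := W ⊔ centralizerIn R (W ⊓ T)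
  have hVR : V ≤ R := _root_.sup_le hWR inf_le_left
  have hWV : W < V := by
    refine lt_of_le_of_ne le_sup_left (fun e => hWc ?_)
    intro x hx
    exact e.symm.le (Subgroup.mem_sup_right hx)
  haveI : Finite V := finite_of_le (hVR.trans hR.rs)
  have hVp : IsPGroup p V := C.hS.to_le (hVR.trans hR.rs)
  have hlt := lt_normalizerIn hVp hWV
  obtain ⟨y, hy, hyW⟩ := SetLike.exists_of_lt hlt
  obtain ⟨w, hw, c, hc, rfl⟩ := exists_mul_of_mem_sup' hWn hy.1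
  have hcN : c ∈ Subgroup.normalizer (W : Set Ω) := by
    have := Subgroup.mul_mem _ (Subgroup.le_normalizer (W.inv_mem hw)) hy.2
    simpa using this
  have hcW : c ∉ W := fun h => hyW (W.mul_mem hw h)
  have hcR : c ∈ R := (mem_cent.1 hc).1
  -- the normal `p`-subgroup
  let Lh : Subgroup (MulAut W) := D.autGroup W ⊓ fixSub W (W ⊓ T)
  have hLop := le_opAut (F := D) (p := p) (R := W) (W := Lh) inf_le_left (by
    rintro ⟨a, ha⟩
    have hdn : Dn F E p R W (autFun a) := hD.1 (mp_autFun hWR ha.1)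
    obtain ⟨-, -, r₀, hr₀, h3, -⟩ := dn_fr C hR hdn
    obtain ⟨k, hk⟩ := fix_pgroup C hWS (hR.rs hr₀) h3 ha.2
    exact ⟨k, Subtype.ext hk⟩) (by
    intro b hb a ha
    refine ⟨Subgroup.mul_mem _ (Subgroup.mul_mem _ hb ha.1) (Subgroup.inv_mem _ hb), fun q hq => ?_⟩
    have hdn : Dn F E p R W (autFun b) := hD.1 (mp_autFun hWR hb)
    have hA := (Dn.mp C hR hdn)
    have hIb := C.img_inf hA (img_autFun b)
    obtain ⟨q₀, hq₀, rfl⟩ := hIb.2 q hq
    rw [conj_fun, ha.2 q₀ hq₀])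
  refine ⟨W, hW, fun hle => hcW ?_⟩
  have hcA : normAct W hcN ∈ autInducedBy R W := normAct_mem_autInducedBy R W hcN hcR
  have hcL : normAct W hcN ∈ Lh := by
    refine ⟨autInducedBy_le_autGroup _ hWR hcA, fun q hq => ?_⟩
    rw [normAct_fun hcN hq.1]
    have := (mem_cent.1 hc).2 q hq
    rw [← this]
    group
  obtain ⟨⟨z, hz⟩, ez⟩ := hle ⟨hcA, hLop hcL⟩
  have hcent : z⁻¹ * c ∈ centralizerIn R W := by
    refine mem_cent.2 ⟨R.mul_mem (R.inv_mem (hWR hz)) hcR, fun v hv => comm_of_conj ?_⟩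
    have h1 := normAct_fun hcN hv
    have h2 : autFun (normAct W hcN) v = z * v * z⁻¹ := by
      rw [← ez, autFun_of_mem _ hv]
      rfl
    rw [← h1, h2]
  have hz2 := hcen.2 W hW hcent
  have := W.mul_mem hz hz2
  simpa using this

end fin

end Cfsg.Agent.Lib.FusionExt.ER6b
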