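import Cfsg.Agent.Lib.FusionExt.ER6b

/-!
# The product `E·R`: generation (helper92)
-/

set_option autoImplicit false
set_option linter.unusedSectionVars false
set_option maxHeartbeats 1000000

namespace Cfsg.Agent.Lib.FusionExt.ER6c

open Cfsg Cfsg.FusionSystem Cfsg.Agent.Lib.Fusion.Basic Cfsg.Agent.Lib.Fusion.GroupSystem
open Cfsg.Agent.Lib.FusionExt.MapApi Cfsg.Agent.Lib.FusionExt.PowerSys Cfsg.Agent.Lib.FusionExt.LowPi
open Cfsg.Agent.Lib.FusionExt.PrimeRes1 Cfsg.Agent.Lib.Fusion.Saturation Cfsg.Agent.Lib.Fusion.Saturation2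
open Cfsg.Agent.Lib.FusionExt.Invariant Cfsg.Agent.Lib.FusionExt.CentE
open Cfsg.Agent.Lib.FusionExt.ER0 Cfsg.Agent.Lib.FusionExt.ER1 Cfsg.Agent.Lib.FusionExt.ER2 Cfsg.Agent.Lib.FusionExt.ER3
open Cfsg.Agent.Lib.FusionExt.ER4 Cfsg.Agent.Lib.FusionExt.ER5a Cfsg.Agent.Lib.FusionExt.ER5b Cfsg.Agent.Lib.FusionExt.ER5c Cfsg.Agent.Lib.FusionExt.ER5d Cfsg.Agent.Lib.FusionExt.ER5e
open Cfsg.Agent.Lib.FusionExt.ER6a Cfsg.Agent.Lib.FusionExt.ER6b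
open Cfsg.Agent.Lib.FusionExt.Normal
open Cfsg.Agent.Lib.FusionExt.Glue1 (Uc Uc.self Uc.conj Uc.up uc_top normAct_fun conj_fun inT_iff nm_map)
open Cfsg.Agent.Lib.FusionExt.Meet3 (exists_iso eq_of_autFun autFun_congr_apply)
open Cfsg.Agent.Lib.FusionExt.Glue3 (comm_of_conj)
open Cfsg.Agent.Lib.FusionExt.G1 (Fam Dp aSub mem_aSub)
open Cfsg.Agent.Lib.FusionExt.G2 (FlS)

universe u

variable {Ω : Type u} [Group Ω] {S T L R : Subgroup Ω} {F : FusionSystem S} {E : FusionSystem T} {p : ℕ}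
variable {X X' Y Y₂ Z P P' Q Q₀ Q₁ Q₂ Q₄ U W U' W' : Subgroup Ω} {f f' g h φ ψ a δ χ ρ e : Ω → Ω}

section fin

variable [Finite S] [Fact p.Prime] (C : Cx F E p) (hR : Lv₂ T R S)
include C hR

/-- The centralizer condition propagates from a good subgroup. -/
theorem cent_tr (hcl : Cl F E Y) (hG : GoodAt S E (Y ⊓ T)) (hC : centralizerIn R (Y ⊓ T) ≤ Y) (he : Dn F E p R Y e) (hI : Img Y e Y₂) :
    centralizerIn R (Y₂ ⊓ T) ≤ Y₂ := by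
  have hm := Dn.mp C hR he
  have hcl₂ : Cl F E Y₂ := Cl.tr C hcl hm hI
  have hIQ := C.img_inf hm hI
  obtain ⟨-, hYR, r₀, hr₀, h3, h4⟩ := dn_fr C hR he
  have hr₀S : r₀ ∈ S := hR.rs hr₀
  have hI₁ : Img (Y ⊓ T) (fun y => r₀⁻¹ * e y * r₀) (conjMap r₀⁻¹ (Y₂ ⊓ T)) := by
    have h5 := hIQ.comp (img_conj (r := r₀⁻¹))
    exact h5.congr (fun y _ => by rw [inv_inv])
  intro x hx
  have hx₁ : r₀⁻¹ * x * r₀ ∈ centralizerIn S (conjMap r₀⁻¹ (Y₂ ⊓ T)) := by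
    refine mem_cent.2 ⟨S.mul_mem (S.mul_mem (S.inv_mem hr₀S) (hR.rs (mem_cent.1 hx).1)) hr₀S, fun y hy => ?_⟩
    have hy' := mem_conjMap.1 hy
    rw [inv_inv] at hy'
    have h5 := (mem_cent.1 hx).2 _ hy'
    have e1 : y = r₀⁻¹ * (r₀ * y * r₀⁻¹) * r₀ := by group
    calc y * (r₀⁻¹ * x * r₀) = r₀⁻¹ * ((r₀ * y * r₀⁻¹) * x) * r₀ := by group
      _ = r₀⁻¹ * (x * (r₀ * y * r₀⁻¹)) * r₀ := by rw [h5]
      _ = _ := by group
  obtain ⟨t, ht, c, hc, ex⟩ := cent_good C hG h4 hI₁ hx₁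
  have hcR : c ∈ R := by
    have h5 : c = t⁻¹ * (r₀⁻¹ * x * r₀) := by rw [ex]; group
    rw [h5]
    exact R.mul_mem (R.inv_mem (hR.tr ht)) (R.mul_mem (R.mul_mem (R.inv_mem hr₀) (mem_cent.1 hx).1) hr₀)
  have hcY : c ∈ Y := hC (mem_cent.2 ⟨hcR, (mem_cent.1 hc).2⟩)
  have hec : e c ∈ Y₂ := hI.1 c hcY
  have hY₂S : Y₂ ≤ S := hcl₂.le
  have hτ := h3 c hcY
  have ht₁ : x * (e c)⁻¹ ∈ T := by
    have h5 : x = r₀ * (t * c) * r₀⁻¹ := by rw [← ex]; group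
    have h6 : x * (e c)⁻¹ = (r₀ * t * r₀⁻¹) * (e c * ((r₀ * c * r₀⁻¹)⁻¹ * e c)⁻¹ * (e c)⁻¹) := by
      rw [h5]
      group
    rw [h6]
    refine T.mul_mem ?_ ?_
    · exact sc_conj_mem F C.hT hr₀S ht
    · exact sc_conj_mem F C.hT (hY₂S hec) (T.inv_mem hτ)
  set t₁ := x * (e c)⁻¹ with ht₁e
  have hen := mem_norm_inf C hY₂S hec
  have hxt : x = t₁ * e c := by
    rw [ht₁e]
    group
  have hcq : ∀ q ∈ Y₂ ⊓ T, e c * q * (e c)⁻¹ = t₁⁻¹ * q * t₁⁻¹⁻¹ := by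
    intro q hq
    have h5 := (mem_cent.1 hx).2 q hq
    have h6 : x * q * x⁻¹ = q := by
      rw [← h5]
      group
    rw [hxt] at h6
    have h7 : t₁⁻¹ * q * t₁⁻¹⁻¹ = t₁⁻¹ * ((t₁ * e c) * q * (t₁ * e c)⁻¹) * t₁ := by
      rw [h6, inv_inv]
    rw [h7]
    group
  have hEc : Mp E (Y₂ ⊓ T) (fun q => e c * q * (e c)⁻¹) :=
    (Mp.conj inf_le_right (T.inv_mem ht₁)).congr (fun q hq => (hcq q hq).symm)
  obtain ⟨q₁, hq₁, eq₁⟩ := hcl₂.ie _ hec hEc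
  have hz : t₁ * q₁ ∈ zz T (Y₂ ⊓ T) := by
    refine mem_zz.2 ⟨T.mul_mem ht₁ hq₁.2, fun y hy => ?_⟩
    have h5 := eq₁ y hy
    have h6 := hcq y hy
    rw [h6] at h5
    have h7 : t₁ * q₁ * y * (t₁ * q₁)⁻¹ = y := by
      calc t₁ * q₁ * y * (t₁ * q₁)⁻¹ = t₁ * (q₁ * y * q₁⁻¹) * t₁⁻¹ := by group
        _ = t₁ * (t₁⁻¹ * y * t₁⁻¹⁻¹) * t₁⁻¹ := by rw [h5]
        _ = y := by group
    calc y * (t₁ * q₁) = (t₁ * q₁ * y * (t₁ * q₁)⁻¹) * (t₁ * q₁) := by rw [h7]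
      _ = _ := by group
  have hzQ := hcl₂.uc.self C.hTS hz
  have htY : t₁ ∈ Y₂ := by
    have := Y₂.mul_mem hzQ.1 (Y₂.inv_mem hq₁.1)
    simpa using this
  rw [hxt]
  exact Y₂.mul_mem htY hec

/-- Paths through big subgroups lie in any system containing the `Vv`. -/
theorem path_big (E' : FusionSystem R) {n : ℕ}
    (hΦ : ∀ Y : Subgroup Ω, n < Nat.card Y → Y ≤ R → Cl F E Y → ∀ v ∈ Vv F E p Y, Mp E' Y (autFun v))
    (hL : Lv T L S) (hLR : L ≤ R) (hd : LP F E p L X g) (hc : n < Nat.card X) : Mp E' X g := by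
  have A := fam (p := p) C hL
  induction hd with
  | nil hX h1 => exact (Mp.refl (hX.trans hLR)).congr (fun x hx => (h1 x hx).symm)
  | @cons X₁ Y₁ P₁ g₁ h₁ f₁ h1 h2 h3 h4 h5 ih =>
    obtain ⟨hcl, α, hα, eα⟩ := h1
    have hPS : P₁ ≤ S := hcl.cl.le
    have hPR : P₁ ≤ R := hcl.le.trans hLR
    haveI : Finite P₁ := finite_of_le hPS
    obtain ⟨w, hw, b, hb, eb⟩ := VI_dec C hPS hα
    have hcard : n < Nat.card P₁ := lt_of_lt_of_le hc (Subgroup.card_le_of_le h2)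
    have hbE := hΦ P₁ hcard hPR hcl.cl b hb
    have hg₁ : Mp E' P₁ g₁ := by
      have h0 : Mp E' P₁ (fun x => w * autFun b x * w⁻¹) := hbE.comp (fun x hx => autFun_mem b hx) (Mp.conj hPR (hPR hw))
      exact h0.congr (fun x hx => by show w * autFun b x * w⁻¹ = g₁ x; rw [eα x hx, eb x hx])
    have hc' : n < Nat.card Y₁ := by
      have := (hg₁.restrict h2).card_img h3
      rw [this]
      exact hc
    exact ((hg₁.restrict h2).comp h3.1 (ih hc')).congr (fun x hx => (h5 x hx).symm)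

/-- A member of `VI` trivial on `Y ∩ T` is inner. -/
theorem inner_of_triv (hcl : Cl F E Y) {ζ : MulAut Y} (hζ : ζ ∈ VI F E p Y) (hid : ∀ q ∈ Y ⊓ T, autFun ζ q = q) :
    ∃ y₃ ∈ Y, IsC Y ζ y₃ := by
  have hYS : Y ≤ S := hcl.le
  haveI : Finite Y := finite_of_le hYS
  obtain ⟨w₂, hw₂, b, hb, eb⟩ := VI_dec C hYS hζ
  have hA := vv_A1 C hYS hb
  have hw₂N := mem_norm_inf C hYS hw₂
  have hbq : ∀ q ∈ Y ⊓ T, autFun b q = w₂⁻¹ * q * w₂⁻¹⁻¹ := by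
    intro q hq
    have h1 := hid q hq
    rw [eb q hq.1] at h1
    rw [inv_inv]
    calc autFun b q = w₂⁻¹ * (w₂ * autFun b q * w₂⁻¹) * w₂ := by group
      _ = _ := by rw [h1]
  obtain ⟨q₁, hq₁, eq₁⟩ := hcl.ie _ (Y.inv_mem hw₂) (hA.me.congr hbq)
  have hq₁N : q₁ ∈ Subgroup.normalizer (Y : Set Ω) := Subgroup.le_normalizer hq₁.1
  have hb' : (normAct Y hq₁N)⁻¹ * b ∈ Vv F E p Y :=
    Subgroup.mul_mem _ (Subgroup.inv_mem _ (mem_Vv_T hYS (normAct_mem_autInducedBy T Y hq₁N hq₁.2))) hb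
  have hid' : ∀ q ∈ Y ⊓ T, autFun ((normAct Y hq₁N)⁻¹ * b) q = q := by
    intro q hq
    rw [autFun_mul_apply, hbq q hq, eq₁ q hq, ← normAct_fun hq₁N hq.1, autFun_inv_apply]
  obtain ⟨z, hz, ez⟩ := pi_W C hcl hb' hid'
  have hzQ := hcl.uc.self C.hTS hz
  refine ⟨w₂ * (q₁ * z), Y.mul_mem hw₂ (Y.mul_mem hq₁.1 hzQ.1), fun v hv => ?_⟩
  have h1 : b = normAct Y hq₁N * ((normAct Y hq₁N)⁻¹ * b) := by group
  have h2 : IsC Y b (q₁ * z) := by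
    rw [h1]
    exact (isC_normAct hq₁N).mul ez
  rw [eb v hv, h2 v hv]
  group

/-- The main step at a good subgroup. -/
theorem gen_good (D : FusionSystem R) (hD : ∀ {X f}, Mp D X f ↔ Dn F E p R X f) (E' : FusionSystem R)
    (hE' : ∀ P ∈ HH F E D, D.Hom P ⊆ E'.Hom P)
    (hΦ : ∀ Y' : Subgroup Ω, Nat.card Y < Nat.card Y' → Y' ≤ R → Cl F E Y' → ∀ v ∈ Vv F E p Y', Mp E' Y' (autFun v))
    (hYR : Y ≤ R) (hcl : Cl F E Y) (hG : Good S E (Y ⊓ T)) {v : MulAut Y} (hv : v ∈ Vv F E p Y) : Mp E' Y (autFun v) := by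
  have hYS : Y ≤ S := hcl.le
  haveI : Finite Y := finite_of_le hYS
  have hfn := hG.at_.1
  have hLY := lv_sup C hYS
  have hYL : Y ≤ Y ⊔ T := le_sup_left
  have hcovY : ∀ r ∈ Y ⊔ T, ∃ x ∈ Y, x⁻¹ * r ∈ T := fun r hr => by
    obtain ⟨y, hy, t, ht, rfl⟩ := dec_sup C hYS hr
    exact ⟨y, hy, by simpa using ht⟩
  by_cases hCY : centralizerIn R (Y ⊓ T) ≤ Y
  · -- `Y` is good for `D`
    have hAa : Aa F E p (Y ⊔ T) Y (autFun v) := ⟨⟨hcl, hYL, hcovY⟩, v, mem_VI_V hv, fun _ _ => rfl⟩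
    have hdn : Dn F E p R Y (autFun v) :=
      dn_of_lp C hR hLY (hR.sup_le hYR) (Cfsg.Agent.Lib.FusionExt.G1.Dp.edge (fam C hLY) hAa le_rfl)
    have hHH : Y ∈ HH F E D := by
      refine ⟨hYR, hcl, fun P'' hc => ?_⟩
      obtain ⟨f, hf, hi⟩ := mp_of_conj hc
      exact cent_tr C hR hcl hG.at_ hCY (hD.1 hf) hi
    obtain ⟨φ, hφ, eφ⟩ := hD.2 hdn
    exact ⟨φ, hE' Y hHH hφ, eφ⟩
  -- the bigger subgroup
  have hYn : Y ≤ Subgroup.normalizer ((centralizerIn R (Y ⊓ T) : Subgroup Ω) : Set Ω) := by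
    intro w hw
    have hn : w ∈ normalizerIn S (Y ⊓ T) := mem_norm_inf C hYS hw
    have hwR := hYR hw
    rw [Subgroup.mem_normalizer_iff]
    intro d
    constructor
    · intro hd
      exact mem_cent.2 ⟨R.mul_mem (R.mul_mem hwR (mem_cent.1 hd).1) (R.inv_mem hwR), (mem_cent.1 (conj_cent' hn (mem_cent.2 ⟨hR.rs (mem_cent.1 hd).1, (mem_cent.1 hd).2⟩))).2⟩
    · intro hd
      have h1 := conj_cent' ((normalizerIn S (Y ⊓ T)).inv_mem hn) (mem_cent.2 ⟨hR.rs (mem_cent.1 hd).1, (mem_cent.1 hd).2⟩)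
      have e1 : w⁻¹ * (w * d * w⁻¹) * w⁻¹⁻¹ = d := by group
      rw [e1] at h1
      have hdR : d ∈ R := by
        have := R.mul_mem (R.mul_mem (R.inv_mem hwR) (mem_cent.1 hd).1) hwR
        rwa [show w⁻¹ * (w * d * w⁻¹) * w = d by group] at this
      exact mem_cent.2 ⟨hdR, (mem_cent.1 h1).2⟩
  let Xp : Subgroup Ω := Y ⊔ centralizerIn R (Y ⊓ T)
  have hXpR : Xp ≤ R := sup_le hYR inf_le_left
  have hXpS : Xp ≤ S := hXpR.trans hR.rs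
  haveI : Finite Xp := finite_of_le hXpS
  have hYXp : Y ≤ Xp := le_sup_left
  have hdec : ∀ {x : Ω}, x ∈ Xp → ∃ y ∈ Y, ∃ c ∈ centralizerIn R (Y ⊓ T), x = y * c := fun hx =>
    exists_mul_of_mem_sup' hYn hx
  have hconj : ∀ {x y c q : Ω}, c ∈ centralizerIn R (Y ⊓ T) → x = y * c → q ∈ Y ⊓ T → x * q * x⁻¹ = y * q * y⁻¹ := by
    intro x y c q hc e hq
    have h1 : q * c = c * q := (mem_cent.1 hc).2 q hq
    rw [e]
    calc y * c * q * (y * c)⁻¹ = y * (c * q) * c⁻¹ * y⁻¹ := by group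
      _ = y * (q * c) * c⁻¹ * y⁻¹ := by rw [h1]
      _ = _ := by group
  have hinf : Xp ⊓ T = Y ⊓ T := by
    refine le_antisymm ?_ (inf_le_inf_right T hYXp)
    have h1 : Xp ≤ YY S T Y := sup_le le_YY (fun c hc => cent_le_YY (mem_cent.2 ⟨hR.rs (mem_cent.1 hc).1, (mem_cent.1 hc).2⟩))
    rw [← inf_YY C hcl]
    exact inf_le_inf_right T h1
  have hcard : Nat.card Y < Nat.card Xp :=
    Cfsg.Agent.Lib.FusionExt.SatCrit1.card_lt_of_lt (S := S) hYXp (fun e => hCY (fun c hc => by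
      have : c ∈ Xp := Subgroup.mem_sup_right hc
      exact e.symm.le this)) hXpS
  have hclp : Cl F E Xp := by
    refine ⟨hXpS, by rw [hinf]; exact hcl.uc, fun x hx hxE => ?_⟩
    rw [hinf] at hxE ⊢
    obtain ⟨y, hy, c, hc, ex⟩ := hdec hx
    obtain ⟨q, hq, eq⟩ := hcl.ie y hy (hxE.congr (fun z hz => hconj hc ex hz))
    exact ⟨q, hq, fun z hz => by rw [hconj hc ex hz, eq z hz]⟩
  have hA := vv_A1 C hYS hv
  obtain ⟨vh, hvh, evh⟩ := toAut' hA.me hA.img_inf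
  have hLp := lv_sup C hXpS
  have hLpR : Xp ⊔ T ≤ R := hR.sup_le hXpR
  have hXpN : Xp ≤ normalizerIn (Xp ⊔ T) (Y ⊓ T) := fun x hx => by
    have h1 := mem_norm_inf C hXpS hx
    rw [hinf] at h1
    exact ⟨Subgroup.mem_sup_left hx, h1.2⟩
  have hcov : Cov T (Xp ⊔ T) Xp := fun r hr => by
    obtain ⟨y, hy, t, ht, rfl⟩ := dec_sup C hXpS hr
    exact ⟨y, hy, by simpa using ht⟩
  have hYN : ∀ {y : Ω}, y ∈ Y → y ∈ Subgroup.normalizer ((Y ⊓ T : Subgroup Ω) : Set Ω) := fun hy => (mem_norm_inf C hYS hy).2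
  obtain ⟨θ, hd, hθ⟩ := AL C hLp hfn hcl.uc hvh (inf_le_left.trans hYXp) hXpN hcov (fun u hu => by
    obtain ⟨y, hy, c, hc, eu⟩ := hdec hu
    have hvy : autFun v y ∈ Y := autFun_mem v hy
    refine ⟨autFun v y, ⟨Subgroup.mem_sup_left (hYXp hvy), hYN hvy⟩, fun q hq => ?_⟩
    rw [hconj hc eu hq, evh _ (norm_conj (hYN hy) hq), evh q hq, hA.mp.map_conj hy hq.1])
  have hθE : Mp E' Xp θ := path_big C hR E' hΦ hLp hLpR hd hcard
  have hfr := lp_fr C hLp hd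
  have hm := hfr.mp
  have hθq : ∀ q ∈ Y ⊓ T, θ q = autFun v q := fun q hq => by rw [hθ q hq, evh q hq]
  -- `θ` maps `Xp` to itself
  have hθX : ∀ x ∈ Xp, θ x ∈ Xp := by
    intro x hx
    obtain ⟨y, hy, c, hc, ex⟩ := hdec hx
    have hvy : autFun v y ∈ Y := autFun_mem v hy
    have hθx : θ x ∈ R := hLpR (hd.mem_T (fam C hLp) hx)
    have hcent : (autFun v y)⁻¹ * θ x ∈ centralizerIn R (Y ⊓ T) := by
      refine mem_cent.2 ⟨R.mul_mem (R.inv_mem (hYR hvy)) hθx, fun z hz => comm_of_conj ?_⟩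
      obtain ⟨q, hq, rfl⟩ := hA.img_inf.2 z hz
      have h1 := hm.map_conj hx (hYXp hq.1)
      rw [hconj hc ex hq, hθq _ (norm_conj (hYN hy) hq), hθq q hq, hA.mp.map_conj hy hq.1] at h1
      exact h1.symm
    have e1 : θ x = autFun v y * ((autFun v y)⁻¹ * θ x) := by group
    rw [e1]
    exact Xp.mul_mem (hYXp hvy) (Subgroup.mem_sup_right hcent)
  have hI : Img Xp θ Xp := img_self hm hθX
  have hXpcl : ClR F E (Xp ⊔ T) Xp := ⟨hclp, le_sup_left, hcov⟩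
  obtain ⟨-, αp, hαp, eαp⟩ := (main_L C hLp Xp hXpcl).1 θ hd hI
  obtain ⟨w, hw, β, hβ, eβ⟩ := VI_dec C hXpS hαp
  obtain ⟨y₀', hy₀', c₀, hc₀, ew⟩ := hdec (Xp.inv_mem hw)
  have hβA := vv_A1 C hXpS hβ
  obtain ⟨y₀, hy₀e⟩ : ∃ y, y = y₀'⁻¹ := ⟨_, rfl⟩
  obtain ⟨c₁, hc₁e⟩ : ∃ c, c = c₀⁻¹ := ⟨_, rfl⟩
  have hy₀ : y₀ ∈ Y := by
    rw [hy₀e]
    exact Y.inv_mem hy₀'
  have hc₁ : c₁ ∈ centralizerIn R (Y ⊓ T) := by
    rw [hc₁e]
    exact Subgroup.inv_mem _ hc₀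
  have hw₁ : w = c₁ * y₀ := by
    rw [hc₁e, hy₀e]
    have := congrArg (fun z => z⁻¹) ew
    simpa using this
  have hc₁R : c₁ ∈ R := (mem_cent.1 hc₁).1
  have hgE : Mp E' Xp (fun x => c₁⁻¹ * θ x * c₁⁻¹⁻¹) :=
    hθE.comp (fun x hx => hθX x hx) (Mp.conj hXpR (R.inv_mem hc₁R))
  have hgβ : ∀ x ∈ Xp, c₁⁻¹ * θ x * c₁⁻¹⁻¹ = y₀ * autFun β x * y₀⁻¹ := by
    intro x hx
    rw [eαp x hx, eβ x hx, hw₁]
    group
  have hβY : ∀ u ∈ Y, autFun β u ∈ Y := by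
    intro u hu
    have h1 : u⁻¹ * autFun β u ∈ Xp ⊓ T :=
      ⟨Xp.mul_mem (Xp.inv_mem (hYXp hu)) (autFun_mem β (hYXp hu)), hβA.mt u (hYXp hu)⟩
    rw [hinf] at h1
    have e1 : autFun β u = u * (u⁻¹ * autFun β u) := by group
    rw [e1]
    exact Y.mul_mem hu h1.1
  obtain ⟨β', hβ', eβ'⟩ := res_Vv C hclp hYXp hβ hβY
  have hy₀N : y₀ ∈ Subgroup.normalizer (Y : Set Ω) := Subgroup.le_normalizer hy₀
  let γ : MulAut Y := normAct Y hy₀N * β'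
  have hγ : γ ∈ VI F E p Y := Subgroup.mul_mem _ (mem_VI_inn hy₀ (isC_normAct hy₀N)) (mem_VI_V hβ')
  have hγe : ∀ y ∈ Y, autFun γ y = c₁⁻¹ * θ y * c₁⁻¹⁻¹ := by
    intro y hy
    show autFun (normAct Y hy₀N * β') y = _
    rw [autFun_mul_apply, normAct_fun hy₀N (autFun_mem β' hy), eβ' y hy, hgβ y (hYXp hy)]
  have hζ : v⁻¹ * γ ∈ VI F E p Y := Subgroup.mul_mem _ (Subgroup.inv_mem _ (mem_VI_V hv)) hγ
  have hγq : ∀ q ∈ Y ⊓ T, autFun γ q = autFun v q := by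
    intro q hq
    rw [hγe q hq.1, hθq q hq]
    have h1 := (mem_cent.1 hc₁).2 _ (hA.img_inf.1 q hq)
    rw [inv_inv]
    calc c₁⁻¹ * autFun v q * c₁ = c₁⁻¹ * (autFun v q * c₁) := by group
      _ = c₁⁻¹ * (c₁ * autFun v q) := by rw [h1]
      _ = _ := by group
  have hid : ∀ q ∈ Y ⊓ T, autFun (v⁻¹ * γ) q = q := by
    intro q hq
    rw [autFun_mul_apply, hγq q hq, autFun_inv_apply]
  obtain ⟨y₃, hy₃, ey₃⟩ := inner_of_triv C hR hcl hζ hid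
  have hy₃N : y₃ ∈ Subgroup.normalizer (Y : Set Ω) := Subgroup.le_normalizer hy₃
  have hinv := ey₃.inv hy₃N
  have hvγ : v = γ * (v⁻¹ * γ)⁻¹ := by group
  have hgY : Mp E' Y (fun y => c₁⁻¹ * θ (y₃⁻¹ * y * y₃⁻¹⁻¹) * c₁⁻¹⁻¹) := by
    have h0 : Mp E' Y (fun y => y₃⁻¹ * y * y₃⁻¹⁻¹) := Mp.conj hYR (hYR (Y.inv_mem hy₃))
    refine h0.comp (Y := Xp) (fun y hy => hYXp (Y.mul_mem (Y.mul_mem (Y.inv_mem hy₃) hy) (Y.inv_mem (Y.inv_mem hy₃)))) hgE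
  refine hgY.congr (fun y hy => ?_)
  have hy' : y₃⁻¹ * y * y₃⁻¹⁻¹ ∈ Y := Y.mul_mem (Y.mul_mem (Y.inv_mem hy₃) hy) (Y.inv_mem (Y.inv_mem hy₃))
  show c₁⁻¹ * θ (y₃⁻¹ * y * y₃⁻¹⁻¹) * c₁⁻¹⁻¹ = autFun v y
  rw [← hγe _ hy', ← hinv y hy, ← autFun_mul_apply, ← hvγ]

/-- **Generation.** -/
theorem gen_core (D : FusionSystem R) (hD : ∀ {X f}, Mp D X f ↔ Dn F E p R X f) (E' : FusionSystem R)
    (hE' : ∀ P ∈ HH F E D, D.Hom P ⊆ E'.Hom P) :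
    ∀ (n : ℕ) (Y : Subgroup Ω), Nat.card R - Nat.card Y = n → Y ≤ R → Cl F E Y → ∀ v ∈ Vv F E p Y, Mp E' Y (autFun v) := by
  haveI := C.finT
  haveI : Finite R := finite_of_le hR.rs
  intro n
  induction n using Nat.strong_induction_on with
  | _ n ih =>
  intro Y hn hYR hcl v hv
  have hYS : Y ≤ S := hcl.le
  have hΦ : ∀ Y' : Subgroup Ω, Nat.card Y < Nat.card Y' → Y' ≤ R → Cl F E Y' → ∀ v ∈ Vv F E p Y', Mp E' Y' (autFun v) := by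
    intro Y' hc hY'R hcl' v' hv'
    have h1 : Nat.card Y' ≤ Nat.card R := Subgroup.card_le_of_le hY'R
    exact ih _ (by omega) Y' rfl hY'R hcl' v' hv'
  by_cases hQe : Y ⊓ T = T
  · have hG : Good S E (Y ⊓ T) := by
      rw [hQe]
      exact good_top C
    exact gen_good C hR D hD E' hE' hΦ hYR hcl hG hv
  have hlt : Y ⊓ T < T := lt_of_le_of_ne inf_le_right hQe
  have hlt1 := lt_normalizerIn C.hTp hlt
  have hLY := lv_sup C hYS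
  have hLYR : Y ⊔ T ≤ R := hR.sup_le hYR
  let U : Subgroup Ω := normalizerIn (Y ⊔ T) (Y ⊓ T)
  have hYU : Y ≤ U := fun x hx => ⟨Subgroup.mem_sup_left hx, (mem_norm_inf C hYS hx).2⟩
  have hcovU : Cov T (Y ⊔ T) U := fun r hr => by
    obtain ⟨y, hy, t, ht, rfl⟩ := dec_sup C hYS hr
    exact ⟨y, hYU hy, by simpa using ht⟩
  have hcard : Nat.card Y < Nat.card U := by
    refine Cfsg.Agent.Lib.FusionExt.SatCrit1.card_lt_of_lt (S := S) hYU (fun e => ?_) (inf_le_left.trans hLY.ls)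
    obtain ⟨t, ht, ht2⟩ := SetLike.exists_of_lt hlt1
    apply ht2
    have h1 : t ∈ U := ⟨Subgroup.mem_sup_right ht.1, ht.2⟩
    exact ⟨e.symm.le h1, ht.1⟩
  obtain ⟨θ, Q', hd, hi, hdisj⟩ := reach C hLY _ _ (Y ⊓ T) U rfl rfl inf_le_right (inf_le_left.trans hYU) le_rfl hcovU
  have hθE : Mp E' U θ := path_big C hR E' hΦ hLY hLYR hd hcard
  have hf := lp_fr C hLY hd
  have hm := hf.mp
  have hmY := hm.restrict hYU
  obtain ⟨Y', hY'⟩ := hmY.exists_img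
  have hinf : Y' ⊓ T = Q' := (C.img_inf hmY hY').unique hi
  have hcl' : Cl F E Y' := Cl.tr C hcl hmY hY'
  have hz : zz T Q' ≤ Q' := by
    rw [← hinf]
    exact hcl'.uc.self C.hTS
  have hG : Good S E (Y' ⊓ T) := by
    rw [hinf]
    exact hdisj.resolve_left (not_not.2 hz)
  have hY'R : Y' ≤ R := fun y hy => by
    obtain ⟨x, hx, rfl⟩ := hY'.2 y hy
    exact hLYR (hd.mem_T (fam C hLY) (hYU hx))
  obtain ⟨v', hv', ev'⟩ := Vv_tr C hmY hY' hv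
  have hc' : Nat.card Y' = Nat.card Y := hmY.card_img hY'
  have hv'E := gen_good C hR D hD E' hE' (by rw [hc']; exact hΦ) hY'R hcl' hG hv'
  obtain ⟨k, hk, k1, k2, k3⟩ := (hθE.restrict hYU).inverse hY'
  refine (((hθE.restrict hYU).comp (fun y hy => hY'.1 y hy) hv'E).comp (fun y hy => autFun_mem v' (hY'.1 y hy)) hk).congr (fun y hy => ?_)
  show k (autFun v' (θ y)) = autFun v y
  rw [ev' y hy, k1 _ (autFun_mem v hy)]

theorem HH_gen (D : FusionSystem R) (hD : ∀ {X f}, Mp D X f ↔ Dn F E p R X f) (E' : FusionSystem R)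
    (hE' : ∀ P ∈ HH F E D, D.Hom P ⊆ E'.Hom P) : D ≤ E' := by
  intro P φ hφ
  obtain ⟨hPR, r, hr, g, hg, e⟩ := hD.1 (mp_of_hom hφ)
  have hPS : P ≤ S := hPR.trans hR.rs
  have hLP := lv_sup C hPS
  haveI : Finite P := finite_of_le hPS
  have hpos : 0 < Nat.card P := Nat.card_pos
  have hgE : Mp E' P g := path_big C hR E' (n := 0)
    (fun Y _ hYR hcl v hv => gen_core C hR D hD E' hE' _ Y rfl hYR hcl v hv) hLP (hR.sup_le hPR) hg hpos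
  have hf := lp_fr C hLP hg
  obtain ⟨Y, hY⟩ := hf.mp.exists_img
  have hYR : Y ≤ R := hgE.img_le hY
  refine Cfsg.Agent.Lib.FusionExt.PowerE.hom_of_mp ((hgE.comp hY.1 (Mp.conj hYR hr)).congr (fun x hx => (e x hx).symm))

end fin

end Cfsg.Agent.Lib.FusionExt.ER6c
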