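import Cfsg.Agent.Lib.FusionExt.ER6c

/-!
# The product `E·R`: good positions in `D` (helper92)
-/

set_option autoImplicit false
set_option linter.unusedSectionVars false
set_option maxHeartbeats 1000000

namespace Cfsg.Agent.Lib.FusionExt.ER6d

open Cfsg Cfsg.FusionSystem Cfsg.Agent.Lib.Fusion.Basic Cfsg.Agent.Lib.Fusion.GroupSystem
open Cfsg.Agent.Lib.FusionExt.MapApi Cfsg.Agent.Lib.FusionExt.PowerSys Cfsg.Agent.Lib.FusionExt.LowPi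
open Cfsg.Agent.Lib.FusionExt.PrimeRes1 Cfsg.Agent.Lib.Fusion.Saturation Cfsg.Agent.Lib.Fusion.Saturation2
open Cfsg.Agent.Lib.FusionExt.Invariant Cfsg.Agent.Lib.FusionExt.CentE
open Cfsg.Agent.Lib.FusionExt.ER0 Cfsg.Agent.Lib.FusionExt.ER1 Cfsg.Agent.Lib.FusionExt.ER2 Cfsg.Agent.Lib.FusionExt.ER3
open Cfsg.Agent.Lib.FusionExt.ER4 Cfsg.Agent.Lib.FusionExt.ER5a Cfsg.Agent.Lib.FusionExt.ER5b Cfsg.Agent.Lib.FusionExt.ER5c Cfsg.Agent.Lib.FusionExt.ER5d Cfsg.Agent.Lib.FusionExt.ER5e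
open Cfsg.Agent.Lib.FusionExt.ER6a Cfsg.Agent.Lib.FusionExt.ER6b Cfsg.Agent.Lib.FusionExt.ER6c
open Cfsg.Agent.Lib.FusionExt.Normal
open Cfsg.Agent.Lib.FusionExt.Glue1 (Uc Uc.self Uc.conj Uc.up uc_top normAct_fun conj_fun inT_iff nm_map)
open Cfsg.Agent.Lib.FusionExt.Glue2 (exists_fn)
open Cfsg.Agent.Lib.FusionExt.Meet3 (exists_iso eq_of_autFun autFun_congr_apply)
open Cfsg.Agent.Lib.FusionExt.Glue3 (comm_of_conj)
open Cfsg.Agent.Lib.FusionExt.G1 (Fam Dp aSub mem_aSub)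
open Cfsg.Agent.Lib.FusionExt.G2 (FlS)

universe u

variable {Ω : Type u} [Group Ω] {S T L R : Subgroup Ω} {F : FusionSystem S} {E : FusionSystem T} {p : ℕ}
variable {X X' Y Y₂ Z P P' Q Q₀ Q₁ Q₂ Q₄ U W U' W' : Subgroup Ω} {f f' g h φ ψ a δ χ ρ e : Ω → Ω}

/-- The position of a subgroup. -/
structure Pos (S : Subgroup Ω) (E : FusionSystem T) (p : ℕ) (R W Q₀ : Subgroup Ω) : Prop where
  inf : W ⊓ T = Q₀
  good : Good S E Q₀
  syl : IsSylowIn p (normalizerIn (autInducedBy R Q₀) (autInducedBy W Q₀))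
    (normalizerIn (E.autGroup Q₀ ⊔ autInducedBy R Q₀) (autInducedBy W Q₀))

section fin

variable [Finite S] [Fact p.Prime] (C : Cx F E p) (hR : Lv₂ T R S)
include C

theorem normalizerIn_conj {s : Ω} (hs : s ∈ S) : normalizerIn T (conjMap s Q) = conjMap s (normalizerIn T Q) := by
  ext x
  rw [mem_conjMap]
  show (x ∈ T ∧ x ∈ Subgroup.normalizer (conjMap s Q : Set Ω)) ↔ (s⁻¹ * x * s ∈ T ∧ s⁻¹ * x * s ∈ Subgroup.normalizer (Q : Set Ω))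
  rw [normalizer_conjMap, mem_conjMap]
  refine and_congr_left (fun _ => ?_)
  constructor
  · intro hx
    have := sc_conj_mem F C.hT (S.inv_mem hs) hx
    simpa using this
  · intro hx
    have := sc_conj_mem F C.hT hs hx
    have e1 : s * (s⁻¹ * x * s) * s⁻¹ = x := by group
    rwa [e1] at this

theorem conj_isConj {s : Ω} (hs : s ∈ S) (hc : E.IsConj X Y) : E.IsConj (conjMap s X) (conjMap s Y) := by
  obtain ⟨f, hf, hi⟩ := mp_of_conj hc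
  have h1 := C.conj_E hf hs
  refine h1.isConj ⟨fun x hx => ?_, fun y hy => ?_⟩
  · exact conj_mem_conjMap (hi.1 _ (mem_conjMap.1 hx))
  · obtain ⟨x, hx, e1⟩ := hi.2 _ (mem_conjMap.1 hy)
    refine ⟨s * x * s⁻¹, conj_mem_conjMap hx, ?_⟩
    show s * f (s⁻¹ * (s * x * s⁻¹) * s) * s⁻¹ = y
    have e2 : s⁻¹ * (s * x * s⁻¹) * s = x := by group
    rw [e2, e1]
    group

theorem goodAt_conj {s : Ω} (hs : s ∈ S) (hG : GoodAt S E Q) : GoodAt S E (conjMap s Q) := by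
  obtain ⟨hfn, h2⟩ := hG
  haveI := C.finT
  have hsi := S.inv_mem hs
  have hback : ∀ Y, conjMap s⁻¹ (conjMap s Y) = Y := fun Y => conj_inv_conj s Y
  have hback' : ∀ Y, conjMap s (conjMap s⁻¹ Y) = Y := fun Y => by
    have := conj_inv_conj s⁻¹ Y
    rwa [inv_inv] at this
  have hcard : ∀ Y, Nat.card (normalizerIn T (conjMap s Y)) = Nat.card (normalizerIn T Y) := fun Y => by
    rw [normalizerIn_conj C hs]
    exact Subgroup.card_map_of_injective (MulEquiv.injective _)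
  refine ⟨⟨?_, fun Q' hQ' => ?_⟩, fun s₁ hs₁ hc => ?_⟩
  · rw [← conj_T_eq C hs]
    exact Subgroup.map_mono hfn.1
  · have h3 := conj_isConj C hsi hQ'
    rw [hback] at h3
    have h4 := hfn.2 _ h3
    rw [hcard]
    have h5 := hcard (conjMap s⁻¹ Q')
    rw [hback'] at h5
    rw [h5]
    exact h4
  · have h3 := conj_isConj C hsi hc
    rw [hback] at h3
    have e1 : conjMap s⁻¹ (conjMap s₁ (conjMap s Q)) = conjMap (s⁻¹ * s₁ * s) Q := by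
      ext x
      rw [mem_conjMap, mem_conjMap, mem_conjMap, mem_conjMap]
      have e2 : s⁻¹ * (s₁⁻¹ * (s⁻¹⁻¹ * x * s⁻¹) * s₁) * s = (s⁻¹ * s₁ * s)⁻¹ * x * (s⁻¹ * s₁ * s) := by group
      rw [e2]
    rw [e1] at h3
    obtain ⟨t, ht, n, hn, e3⟩ := h2 _ (S.mul_mem (S.mul_mem hsi hs₁) hs) h3
    refine ⟨s * t * s⁻¹, sc_conj_mem F C.hT hs ht, s * n * s⁻¹, ⟨S.mul_mem (S.mul_mem hs hn.1) hsi, ?_⟩, ?_⟩
    · show s * n * s⁻¹ ∈ Subgroup.normalizer (conjMap s Q : Set Ω)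
      rw [normalizer_conjMap]
      exact conj_mem_conjMap hn.2
    · have e4 : s₁ = s * (s⁻¹ * s₁ * s) * s⁻¹ := by group
      rw [e4, e3]
      group

theorem good_conj {s : Ω} (hs : s ∈ S) (hG : Good S E Q) : Good S E (conjMap s Q) := by
  have hit : ∀ k : ℕ, ∀ Q : Subgroup Ω, (normalizerIn T)^[k] (conjMap s Q) = conjMap s ((normalizerIn T)^[k] Q) := by
    intro k
    induction k with
    | zero => intro Q; rfl
    | succ k ih =>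
      intro Q
      rw [Function.iterate_succ_apply, Function.iterate_succ_apply, normalizerIn_conj C hs, ih]
  intro k
  rw [hit]
  exact goodAt_conj C hs (hG k)

include hR

/-- A subgroup of `R` in `Cl` is conjugate to a subgroup in good position. -/
theorem exists_pos (hPR : P ≤ R) (hcl : Cl F E P) :
    ∃ W Q₀ φ, Dn F E p R P φ ∧ Img P φ W ∧ Pos S E p R W Q₀ := by
  have hPS : P ≤ S := hcl.le
  have hLP := lv_sup C hPS
  have hUN : P ≤ normalizerIn (P ⊔ T) (P ⊓ T) := fun x hx => ⟨Subgroup.mem_sup_left hx, (mem_norm_inf C hPS hx).2⟩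
  have hcov : Cov T (P ⊔ T) P := fun r hr => by
    obtain ⟨y, hy, t, ht, rfl⟩ := dec_sup C hPS hr
    exact ⟨y, hy, by simpa using ht⟩
  obtain ⟨θ₁, Q₁, hd₁, hi₁, hdisj⟩ := reach C hLP _ _ (P ⊓ T) P rfl rfl inf_le_right inf_le_left hUN hcov
  have hf₁ := lp_fr C hLP hd₁
  have hm₁ := hf₁.mp
  have hdn₁ := dn_of_lp C hR hLP (hR.sup_le hPR) hd₁
  have hUc₁ : Uc F T Q₁ := hcl.uc.conj C.hT (hm₁.restrict inf_le_left) hi₁
  have hG₁ : Good S E Q₁ := hdisj.resolve_left (not_not.2 (hUc₁.self C.hTS))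
  obtain ⟨U₁, hU₁⟩ := hm₁.exists_img
  obtain ⟨hQ₁T, hQ₁U₁, hU₁N', hU₁c, -⟩ := lp_image C hLP hd₁ inf_le_right inf_le_left hUN hcov hi₁ hU₁
  have hU₁R : U₁ ≤ R := fun y hy => by
    obtain ⟨x, hx, rfl⟩ := hU₁.2 y hy
    exact hR.sup_le hPR (hd₁.mem_T (fam C hLP) hx)
  have hU₁S : U₁ ≤ S := hU₁R.trans hR.rs
  have hinf₁ : U₁ ⊓ T = Q₁ := (C.img_inf hm₁ hU₁).unique hi₁
  have hLU := lv_sup C hU₁S
  have hU₁N : U₁ ≤ normalizerIn (U₁ ⊔ T) Q₁ := fun x hx => by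
    have := mem_norm_inf C hU₁S hx
    rw [hinf₁] at this
    exact ⟨Subgroup.mem_sup_left hx, this.2⟩
  have hU₁c' : Cov T (U₁ ⊔ T) U₁ := fun r hr => by
    obtain ⟨y, hy, t, ht, rfl⟩ := dec_sup C hU₁S hr
    exact ⟨y, hy, by simpa using ht⟩
  have hfn₁ := hG₁.at_.1
  have hQ₁S : Q₁ ≤ S := hQ₁T.trans C.hTS
  haveI : Finite Q₁ := finite_of_le hQ₁S
  haveI : Finite (MulAut Q₁) := Cfsg.Agent.Lib.Fusion.Basic.finite_mulAut_of_finite (A := Q₁)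
  let Mh : Subgroup (MulAut Q₁) := autInducedBy R Q₁
  let B : Subgroup (MulAut Q₁) := E.autGroup Q₁
  have hBM : ∀ m ∈ Mh, ∀ β ∈ B, m * β * m⁻¹ ∈ B := fun m hm β hβ =>
    aut_norm C (autInducedBy_mono Q₁ hR.rs hm) hβ hQ₁T
  have hTM : autInducedBy T Q₁ ≤ Mh := autInducedBy_mono Q₁ hR.tr
  have hTB : autInducedBy T Q₁ ≤ B := autInducedBy_le_autGroup E hQ₁T
  have hinf : B ⊓ Mh = autInducedBy T Q₁ :=
    le_antisymm (fun α hα => cap_T C hfn₁ hα.1 (autInducedBy_mono Q₁ hR.rs hα.2)) (le_inf hTB hTM)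
  have hMp : IsPGroup p Mh := isPGroup_autInducedBy Q₁ (C.hS.to_le hR.rs)
  have hsy : IsSylowIn p Mh (B ⊔ Mh) := sylow_sup hMp hBM (by rw [hinf]; exact C.syl_E hfn₁)
  have hMN : Mh ≤ Subgroup.normalizer (B : Set (MulAut Q₁)) := by
    intro y hy
    rw [Subgroup.mem_normalizer_iff]
    intro β
    refine ⟨fun hβ => hBM y hy β hβ, fun hβ => ?_⟩
    have := hBM y⁻¹ (Subgroup.inv_mem _ hy) _ hβ
    simpa [mul_assoc] using this
  have hU₁M : autInducedBy U₁ Q₁ ≤ Mh := autInducedBy_mono Q₁ hU₁R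
  obtain ⟨Wh, g₀, hWhM, hg₀, hconj, hsyl⟩ := exists_fn hsy le_sup_right hU₁M
  have hg₀' : g₀ ∈ Mh ⊔ B := by
    rw [sup_comm]
    exact hg₀
  obtain ⟨mh, hmh, b, hb, rfl⟩ := exists_mul_of_mem_sup' hMN hg₀'
  obtain ⟨m, hm, em⟩ := inT_iff.1 hmh
  have hcb : ∀ u ∈ U₁, ∃ u' ∈ normalizerIn (U₁ ⊔ T) Q₁, ∀ q ∈ Q₁, autFun b (u * q * u⁻¹) = u' * autFun b q * u'⁻¹ := by
    intro u hu
    have huN := hU₁N hu
    have h1 : normAct Q₁ huN.2 ∈ autInducedBy U₁ Q₁ := normAct_mem_autInducedBy U₁ Q₁ huN.2 hu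
    have h2 : mh * b * normAct Q₁ huN.2 * (mh * b)⁻¹ ∈ Wh := by
      rw [← hconj]
      exact conj_mem_conjMap h1
    have h3 : b * normAct Q₁ huN.2 * b⁻¹ ∈ Mh := by
      have := Mh.mul_mem (Mh.mul_mem (Mh.inv_mem hmh) (hWhM h2)) hmh
      have e : mh⁻¹ * (mh * b * normAct Q₁ huN.2 * (mh * b)⁻¹) * mh = b * normAct Q₁ huN.2 * b⁻¹ := by group
      rwa [e] at this
    obtain ⟨u', hu', eu'⟩ := inT_iff.1 h3
    refine compat_L C hLU hfn₁ hb huN ⟨hR.rs hu'.1, hu'.2⟩ (fun q hq => ?_)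
    rw [← eu' _ (autFun_mem b hq), conj_fun, normAct_fun huN.2 hq]
  obtain ⟨θ₂, hd₂, hθ₂⟩ := AL C hLU hfn₁ hUc₁ hb hQ₁U₁ hU₁N hU₁c' hcb
  have hm₂ := (lp_fr C hLU hd₂).mp
  have hdn₂ := dn_of_lp C hR hLU (hR.sup_le hU₁R) hd₂
  -- composing
  have hU₁D : Dn F E p R P (fun x => m * θ₂ (θ₁ x) * m⁻¹) := by
    have hA := dnAx (p := p) C hR
    have h1 := hA.comp hdn₁ hU₁.1 hdn₂
    obtain ⟨U₂, hU₂⟩ := hm₂.exists_img
    have hU₂R : U₂ ≤ R := fun y hy => by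
      obtain ⟨x, hx, rfl⟩ := hU₂.2 y hy
      exact hA.mem hdn₂ hx
    exact hA.comp h1 (fun x hx => hU₂.1 _ (hU₁.1 x hx)) (hA.conj hU₂R hm.1)
  have hm₃ : Mp F U₁ (fun x => m * θ₂ x * m⁻¹) := by
    obtain ⟨U₂, hU₂⟩ := hm₂.exists_img
    exact hm₂.comp hU₂.1 (Mp.conj (hm₂.img_le hU₂) (hR.rs hm.1))
  obtain ⟨W, hW⟩ := hm₃.exists_img
  have hθ₃ : ∀ q ∈ Q₁, m * θ₂ q * m⁻¹ = autFun (mh * b) q := by
    intro q hq
    rw [hθ₂ q hq, autFun_mul_apply, em _ (autFun_mem b hq)]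
  have hinfW : W ⊓ T = Q₁ := by
    have h1 := C.img_inf hm₃ hW
    rw [hinf₁] at h1
    exact h1.unique ((img_autFun (mh * b)).congr (fun q hq => (hθ₃ q hq).symm))
  have hWS : W ≤ S := hm₃.img_le hW
  have hWN : W ≤ Subgroup.normalizer (Q₁ : Set Ω) := fun x hx => by
    have := mem_norm_inf C hWS hx
    rw [hinfW] at this
    exact this.2
  have hact : ∀ u ∈ U₁, ∀ (hn : u ∈ Subgroup.normalizer (Q₁ : Set Ω)), ∀ q ∈ Q₁,
      autFun (mh * b * normAct Q₁ hn * (mh * b)⁻¹) q = (m * θ₂ u * m⁻¹) * q * (m * θ₂ u * m⁻¹)⁻¹ := by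
    intro u hu hn q hq
    have hq' : autFun (mh * b)⁻¹ q ∈ Q₁ := autFun_mem _ hq
    have h1 := hm₃.map_conj hu (hQ₁U₁ hq')
    have h1' : m * θ₂ (u * autFun (mh * b)⁻¹ q * u⁻¹) * m⁻¹ =
      (m * θ₂ u * m⁻¹) * (m * θ₂ (autFun (mh * b)⁻¹ q) * m⁻¹) * (m * θ₂ u * m⁻¹)⁻¹ := h1
    rw [hθ₃ _ hq', hθ₃ _ (norm_conj hn hq'), autFun_apply_inv] at h1'
    rw [← h1', autFun_mul_apply, autFun_mul_apply, normAct_fun hn hq']
  have hWh : autInducedBy W Q₁ = Wh := by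
    rw [← hconj]
    apply le_antisymm
    · intro α hα
      obtain ⟨y, hy, ey⟩ := inT_iff.1 hα
      obtain ⟨u, hu, rfl⟩ := hW.2 y hy.1
      have huN := hU₁N hu
      have h1 : α = (mh * b) * normAct Q₁ huN.2 * (mh * b)⁻¹ :=
        eq_of_autFun (fun q hq => by rw [ey q hq, hact u hu huN.2 q hq])
      rw [h1]
      exact conj_mem_conjMap (normAct_mem_autInducedBy U₁ Q₁ huN.2 hu)
    · rintro _ ⟨α, hα, rfl⟩
      obtain ⟨u, hu, eu⟩ := inT_iff.1 hα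
      have h1 : α = normAct Q₁ hu.2 := eq_of_autFun (fun q hq => by rw [eu q hq, normAct_fun hu.2 hq])
      subst h1
      refine inT_iff.2 ⟨m * θ₂ u * m⁻¹, ?_, hact u hu.1 hu.2⟩
      have hy := hW.1 u hu.1
      exact ⟨hy, hWN hy⟩
  refine ⟨W, Q₁, _, hU₁D, hU₁.comp hW, ⟨hinfW, hG₁, ?_⟩⟩
  rw [hWh]
  exact hsyl

/-- An element of `N_R(Q₀)` whose action normalizes that of `W` normalizes `W`. -/
theorem normR (hcl : Cl F E W) (hWR : W ≤ R) (hC : centralizerIn R (W ⊓ T) ≤ W) {m₁ : Ω} {c : MulAut ↥(W ⊓ T)} (hm : m₁ ∈ normalizerIn R (W ⊓ T))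
    (hct : ∀ q ∈ W ⊓ T, autFun c q = m₁ * q * m₁⁻¹)
    (hn : c ∈ Subgroup.normalizer (autInducedBy W (W ⊓ T) : Set (MulAut ↥(W ⊓ T)))) :
    m₁ ∈ Subgroup.normalizer (W : Set Ω) := by
  have hWS : W ≤ S := hcl.le
  haveI : Finite W := finite_of_le hWS
  haveI : Finite ↥(W ⊓ T) := finite_of_le (inf_le_left.trans hWS)
  refine mem_normalizer_of_conj_le' (fun w hw => ?_)
  have hwN : w ∈ normalizerIn S (W ⊓ T) := mem_norm_inf C hWS hw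
  have hw' : normAct (W ⊓ T) hwN.2 ∈ autInducedBy W (W ⊓ T) := normAct_mem_autInducedBy W (W ⊓ T) hwN.2 hw
  have h1 := (Subgroup.mem_normalizer_iff.1 hn _).1 hw'
  obtain ⟨w', hw'N, ew'⟩ := inT_iff.1 h1
  have hd : w'⁻¹ * (m₁ * w * m₁⁻¹) ∈ centralizerIn R (W ⊓ T) := by
    refine mem_cent.2 ⟨R.mul_mem (R.inv_mem (hWR hw'N.1)) (R.mul_mem (R.mul_mem hm.1 (hWR hw)) (R.inv_mem hm.1)), fun q hq => ?_⟩
    refine comm_of_conj ?_
    have hq' : m₁⁻¹ * q * m₁ ∈ W ⊓ T := conj_inv_mem hm.2 hq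
    have h2 := ew' q hq
    rw [autFun_mul_apply, autFun_mul_apply] at h2
    have e1 : autFun c⁻¹ q = m₁⁻¹ * q * m₁ := by
      have h3 := hct _ hq'
      have e2 : m₁ * (m₁⁻¹ * q * m₁) * m₁⁻¹ = q := by group
      rw [e2] at h3
      rw [← h3, autFun_inv_apply, h3]
    rw [e1, normAct_fun hwN.2 hq', hct _ (norm_conj hwN.2 hq')] at h2
    rw [← h2]
    group
  have := W.mul_mem hw'N.1 (hC hd)
  simpa using this

omit hR in
theorem pos_flq (hR : Lv₂ T R S) (hpos : Pos S E p R W Q₀) : FlQ S E p W Q₀ := by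
  obtain ⟨rfl, hG, hsyl⟩ := hpos
  refine ⟨rfl, hG, ?_⟩
  have hfn := hG.at_.1
  have hQT : W ⊓ T ≤ T := inf_le_right
  haveI : Finite ↥(W ⊓ T) := finite_of_le (hQT.trans C.hTS)
  haveI : Finite (MulAut ↥(W ⊓ T)) := Cfsg.Agent.Lib.Fusion.Basic.finite_mulAut_of_finite (A := ↥(W ⊓ T))
  let Mh : Subgroup (MulAut ↥(W ⊓ T)) := autInducedBy R (W ⊓ T)
  let B : Subgroup (MulAut ↥(W ⊓ T)) := E.autGroup (W ⊓ T)
  let Wh : Subgroup (MulAut ↥(W ⊓ T)) := autInducedBy W (W ⊓ T)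
  have hBM : ∀ m ∈ Mh, ∀ β ∈ B, m * β * m⁻¹ ∈ B := fun m hm β hβ =>
    aut_norm C (autInducedBy_mono _ hR.rs hm) hβ hQT
  have hTM : autInducedBy T (W ⊓ T) ≤ Mh := autInducedBy_mono _ hR.tr
  have hTB : autInducedBy T (W ⊓ T) ≤ B := autInducedBy_le_autGroup E hQT
  have hinf : B ⊓ Mh = autInducedBy T (W ⊓ T) :=
    le_antisymm (fun α hα => cap_T C hfn hα.1 (autInducedBy_mono _ hR.rs hα.2)) (le_inf hTB hTM)
  have hMN : Mh ≤ Subgroup.normalizer (B : Set (MulAut ↥(W ⊓ T))) := by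
    intro y hy
    rw [Subgroup.mem_normalizer_iff]
    intro β
    refine ⟨fun hβ => hBM y hy β hβ, fun hβ => ?_⟩
    have := hBM y⁻¹ (Subgroup.inv_mem _ hy) _ hβ
    simpa [mul_assoc] using this
  have hle₁ : normalizerIn Mh Wh ≤ normalizerIn (B ⊔ Mh) Wh := inf_le_inf_right _ le_sup_right
  have hDle : B ⊓ Subgroup.normalizer (Wh : Set (MulAut ↥(W ⊓ T))) ≤ normalizerIn (B ⊔ Mh) Wh :=
    inf_le_inf_right _ le_sup_left
  have hBnorm : B ⊔ Mh ≤ Subgroup.normalizer (B : Set (MulAut ↥(W ⊓ T))) := sup_le Subgroup.le_normalizer hMN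
  have hs := IsSylowIn.inf_normal hsyl hle₁ hDle (fun x hx d hd =>
    ⟨(Subgroup.mem_normalizer_iff.1 (hBnorm hx.1) d).1 hd.1, Subgroup.mul_mem _ (Subgroup.mul_mem _ hx.2 hd.2) (Subgroup.inv_mem _ hx.2)⟩)
  have e : normalizerIn Mh Wh ⊓ (B ⊓ Subgroup.normalizer (Wh : Set (MulAut ↥(W ⊓ T)))) =
      autInducedBy T (W ⊓ T) ⊓ Subgroup.normalizer (Wh : Set (MulAut ↥(W ⊓ T))) := by
    apply le_antisymm
    · intro x hx
      refine ⟨?_, hx.2.2⟩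
      rw [← hinf]
      exact ⟨hx.2.1, hx.1.1⟩
    · intro x hx
      exact ⟨⟨hTM hx.1, hx.2⟩, hTB hx.1, hx.2⟩
  rw [e] at hs
  exact hs

/-- **Automorphisms of a subgroup in good position.** -/
theorem N1 (D : FusionSystem R) (hD : ∀ {X f}, Mp D X f ↔ Dn F E p R X f) (hWR : W ≤ R) (hcl : Cl F E W)
    (hpos : Pos S E p R W Q₀) (hC : centralizerIn R Q₀ ≤ W) (ha : Mp D W a) (hi : Img W a W) :
    ∃ m₁ ∈ normalizerIn R W, ∃ α ∈ VI F E p W, ∀ x ∈ W, a x = m₁ * autFun α x * m₁⁻¹ := by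
  obtain ⟨rfl, hG, hsyl⟩ := hpos
  have hWS : W ≤ S := hcl.le
  haveI : Finite W := finite_of_le hWS
  have hQT : W ⊓ T ≤ T := inf_le_right
  haveI hfQ : Finite ↥(W ⊓ T) := finite_of_le (hQT.trans C.hTS)
  haveI : Finite (MulAut ↥(W ⊓ T)) := Cfsg.Agent.Lib.Fusion.Basic.finite_mulAut_of_finite (A := ↥(W ⊓ T))
  have hfn := hG.at_.1
  have hdn := hD.1 ha
  have hm := Dn.mp C hR hdn
  obtain ⟨-, r, hr, g, hg, ea⟩ := hdn
  have hL₀ := lv_sup C hWS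
  have A := fam (p := p) C hL₀
  obtain ⟨-, -, r₀, hr₀, h3, h4⟩ := lp_fr C hL₀ hg
  have hr₀R : r₀ ∈ R := hR.sup_le hWR hr₀
  have hIQ : Img (W ⊓ T) a (W ⊓ T) := C.img_inf hm hi
  obtain ⟨ρ₀, hρ₀⟩ : ∃ x, x = r * r₀ := ⟨_, rfl⟩
  have hρ₀R : ρ₀ ∈ R := by
    rw [hρ₀]
    exact R.mul_mem hr hr₀R
  have he : Mp E (W ⊓ T) (fun y => r₀⁻¹ * g y * r₀) := h4
  have he2 : ∀ q ∈ W ⊓ T, r₀⁻¹ * g q * r₀ = ρ₀⁻¹ * a q * ρ₀ := by
    intro q hq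
    rw [ea q hq.1, hρ₀]
    group
  have himg : ∀ {ρ : Ω}, Img (W ⊓ T) (fun q => ρ * a q * ρ⁻¹) (conjMap ρ (W ⊓ T)) := fun {ρ} => hIQ.comp img_conj
  have hIe : Img (W ⊓ T) (fun y => r₀⁻¹ * g y * r₀) (conjMap ρ₀⁻¹ (W ⊓ T)) := by
    have h5 := himg (ρ := ρ₀⁻¹)
    exact h5.congr (fun q hq => by
      show ρ₀⁻¹ * a q * ρ₀⁻¹⁻¹ = r₀⁻¹ * g q * r₀
      rw [he2 q hq, inv_inv])
  obtain ⟨t, ht, n, hn, et⟩ := hG.at_.2 ρ₀⁻¹ (S.inv_mem (hR.rs hρ₀R)) (he.isConj hIe)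
  have hc5T : conjMap ρ₀⁻¹ (W ⊓ T) ≤ T := he.img_le hIe
  have he₁ : Mp E (W ⊓ T) (fun y => n * a y * n⁻¹) := by
    refine (he.comp hIe.1 (Mp.conj hc5T (T.inv_mem ht))).congr (fun q hq => ?_)
    show t⁻¹ * (r₀⁻¹ * g q * r₀) * t⁻¹⁻¹ = n * a q * n⁻¹
    rw [he2 q hq]
    have e1 : ρ₀ = (t * n)⁻¹ := by
      rw [← et]
      group
    rw [e1]
    group
  have hI₁ : Img (W ⊓ T) (fun y => n * a y * n⁻¹) (W ⊓ T) :=
    hIQ.comp ⟨fun x hx => norm_conj hn.2 hx, fun y hy => ⟨n⁻¹ * y * n, conj_inv_mem hn.2 hy, by group⟩⟩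
  obtain ⟨b₁, hb₁, eb₁⟩ := toAut' he₁ hI₁
  obtain ⟨ah, -, eah⟩ := toAut' (hm.restrict inf_le_left) hIQ
  have hnR : n⁻¹ ∈ R := by
    have e1 : n⁻¹ = ρ₀ * t := by
      have e2 : ρ₀ = (t * n)⁻¹ := by
        rw [← et]
        group
      rw [e2]
      group
    rw [e1]
    exact R.mul_mem hρ₀R (hR.tr ht)
  have hnN : n⁻¹ ∈ Subgroup.normalizer ((W ⊓ T : Subgroup Ω) : Set Ω) := Subgroup.inv_mem _ hn.2
  let Mh : Subgroup (MulAut ↥(W ⊓ T)) := autInducedBy R (W ⊓ T)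
  let B : Subgroup (MulAut ↥(W ⊓ T)) := E.autGroup (W ⊓ T)
  let Wh : Subgroup (MulAut ↥(W ⊓ T)) := autInducedBy W (W ⊓ T)
  have hah : ah = normAct (W ⊓ T) hnN * b₁ := by
    refine eq_of_autFun (fun q hq => ?_)
    rw [eah q hq, autFun_mul_apply, eb₁ q hq, normAct_fun hnN (hI₁.1 q hq)]
    group
  have hahL : ah ∈ B ⊔ Mh := by
    rw [hah]
    exact Subgroup.mul_mem _ (Subgroup.mem_sup_right (normAct_mem_autInducedBy R _ hnN hnR)) (Subgroup.mem_sup_left hb₁)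
  have hahN : ah ∈ Subgroup.normalizer (Wh : Set (MulAut ↥(W ⊓ T))) := by
    haveI : Finite Wh := inferInstance
    refine mem_normalizer_of_conj_le' (fun m hm' => ?_)
    obtain ⟨w, hw, ew⟩ := inT_iff.1 hm'
    have haw : a w ∈ W := hi.1 w hw.1
    refine inT_iff.2 ⟨a w, ⟨haw, (mem_norm_inf C hWS haw).2⟩, fun q hq => ?_⟩
    have hq' : autFun ah⁻¹ q ∈ W ⊓ T := autFun_mem _ hq
    have h5 := eah _ hq'
    rw [autFun_apply_inv] at h5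
    rw [autFun_mul_apply, autFun_mul_apply, ew _ hq', eah _ (norm_conj hw.2 hq'), hm.map_conj hw.1 hq'.1, ← h5]
  have hBM : ∀ m ∈ Mh, ∀ β ∈ B, m * β * m⁻¹ ∈ B := fun m hm' β hβ =>
    aut_norm C (autInducedBy_mono _ hR.rs hm') hβ hQT
  have hMp : IsPGroup p Mh := isPGroup_autInducedBy _ (C.hS.to_le hR.rs)
  have hle₁ : normalizerIn Mh Wh ≤ normalizerIn (B ⊔ Mh) Wh := inf_le_inf_right _ le_sup_right
  obtain ⟨s, hs, hsb⟩ := sylow_covers hMp hBM (inf_le_left : normalizerIn (B ⊔ Mh) Wh ≤ _) hsyl hle₁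
    (fun s hs b hb => hBM s hs.1 b hb) ah ⟨hahL, hahN⟩
  obtain ⟨m₁, hm₁, em₁⟩ := inT_iff.1 hs.1
  have hm₁W := normR C hR hcl hWR hC hm₁ em₁ hs.2
  have hm₁S : m₁ ∈ S := hR.rs hm₁.1
  -- the map `a₂`
  have ha₂ : ∀ q ∈ W ⊓ T, autFun (s⁻¹ * ah) q = m₁⁻¹ * a q * m₁ := by
    intro q hq
    have hC' : IsC (W ⊓ T) s m₁ := em₁
    have h5 := hC'.inv hm₁.2
    rw [autFun_mul_apply, h5 _ (autFun_mem ah hq), eah q hq]
    group
  have ha₂E : Mp E (W ⊓ T) (fun q => m₁⁻¹ * a q * m₁) := (mp_autFun hQT hsb).congr ha₂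
  obtain ⟨ρ₂, hρ₂⟩ : ∃ x, x = m₁⁻¹ * ρ₀ := ⟨_, rfl⟩
  have hρ₂R : ρ₂ ∈ R := by
    rw [hρ₂]
    exact R.mul_mem (R.inv_mem hm₁.1) hρ₀R
  have hI₂ : Img (W ⊓ T) (fun q => m₁⁻¹ * a q * m₁) (W ⊓ T) :=
    hIQ.comp ⟨fun x hx => by
      have := norm_conj (Subgroup.inv_mem _ hm₁.2) hx
      simpa using this, fun y hy => ⟨m₁ * y * m₁⁻¹, norm_conj hm₁.2 hy, by group⟩⟩
  have hI₅ : Img (W ⊓ T) (fun y => r₀⁻¹ * g y * r₀) (conjMap ρ₂⁻¹ (W ⊓ T)) := by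
    refine (hI₂.comp (img_conj (r := ρ₂⁻¹))).congr (fun q hq => ?_)
    show ρ₂⁻¹ * (m₁⁻¹ * a q * m₁) * ρ₂⁻¹⁻¹ = r₀⁻¹ * g q * r₀
    rw [he2 q hq, hρ₂]
    group
  obtain ⟨t', ht', n', hn', et'⟩ := hG.at_.2 ρ₂⁻¹ (S.inv_mem (hR.rs hρ₂R)) (he.isConj hI₅)
  obtain ⟨k, hk, k1, k2, k3⟩ := he.inverse hI₅
  have hQ₅T : conjMap ρ₂⁻¹ (W ⊓ T) ≤ T := he.img_le hI₅
  have hρ₂e : ρ₂ = n'⁻¹ * t'⁻¹ := by
    have := congrArg (fun z => z⁻¹) et'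
    simpa using this
  have hmt : ∀ q ∈ W ⊓ T, t' * q * t'⁻¹ ∈ conjMap ρ₂⁻¹ (W ⊓ T) := fun q hq => by
    rw [mem_conjMap, inv_inv, hρ₂e]
    have e1 : n'⁻¹ * t'⁻¹ * (t' * q * t'⁻¹) * (n'⁻¹ * t'⁻¹)⁻¹ = n'⁻¹ * q * n'⁻¹⁻¹ := by group
    rw [e1]
    exact norm_conj (Subgroup.inv_mem _ hn'.2) hq
  have hnE : Mp E (W ⊓ T) (fun q => n'⁻¹ * q * n'⁻¹⁻¹) := by
    have h0 : Mp E (W ⊓ T) (fun q => m₁⁻¹ * a (k (t' * q * t'⁻¹)) * m₁) :=
      ((Mp.conj hQT ht').comp hmt hk).comp (fun q hq => k3.1 _ (hmt q hq)) ha₂E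
    refine h0.congr (fun q hq => ?_)
    show m₁⁻¹ * a (k (t' * q * t'⁻¹)) * m₁ = n'⁻¹ * q * n'⁻¹⁻¹
    have h5 := k2 _ (hmt q hq)
    have h6 : r₀⁻¹ * g (k (t' * q * t'⁻¹)) * r₀ = t' * q * t'⁻¹ := h5
    rw [he2 _ (k3.1 _ (hmt q hq))] at h6
    have e1 : a (k (t' * q * t'⁻¹)) = ρ₀ * (t' * q * t'⁻¹) * ρ₀⁻¹ :=
      calc a (k (t' * q * t'⁻¹)) = ρ₀ * (ρ₀⁻¹ * a (k (t' * q * t'⁻¹)) * ρ₀) * ρ₀⁻¹ := by group
        _ = _ := by rw [h6]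
    rw [e1]
    have e2 : m₁⁻¹ * ρ₀ = n'⁻¹ * t'⁻¹ := by
      rw [← hρ₂, hρ₂e]
    calc m₁⁻¹ * (ρ₀ * (t' * q * t'⁻¹) * ρ₀⁻¹) * m₁ = (m₁⁻¹ * ρ₀) * (t' * q * t'⁻¹) * (m₁⁻¹ * ρ₀)⁻¹ := by group
      _ = _ := by
        rw [e2]
        group
  have hn'R : n'⁻¹ ∈ R := by
    have e1 : n'⁻¹ = ρ₂ * t' := by
      rw [hρ₂e]
      group
    rw [e1]
    exact R.mul_mem hρ₂R (hR.tr ht')
  obtain ⟨t'', ht'', et''⟩ := C.es_cap hfn ⟨hR.rs hn'R, Subgroup.inv_mem _ hn'.2⟩ hnE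
  have hd : t''⁻¹ * n'⁻¹ ∈ W := hC (mem_cent.2 ⟨R.mul_mem (R.inv_mem (hR.tr ht''.1)) hn'R, fun q hq => comm_of_conj (et'' q hq)⟩)
  have hs₀ : m₁⁻¹ * r ∈ W ⊔ T := by
    have e1 : m₁⁻¹ * r = t'' * (t''⁻¹ * n'⁻¹) * t'⁻¹ * r₀⁻¹ := by
      have e2 : r = ρ₀ * r₀⁻¹ := by
        rw [hρ₀]
        group
      have e3 : m₁⁻¹ * ρ₀ = n'⁻¹ * t'⁻¹ := by
        rw [← hρ₂, hρ₂e]
      calc m₁⁻¹ * r = (m₁⁻¹ * ρ₀) * r₀⁻¹ := by
            rw [e2]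
            group
        _ = _ := by
            rw [e3]
            group
    rw [e1]
    exact Subgroup.mul_mem _ (Subgroup.mul_mem _ (Subgroup.mul_mem _ (Subgroup.mem_sup_right ht''.1) (Subgroup.mem_sup_left hd))
      (Subgroup.mem_sup_right (T.inv_mem ht'))) (Subgroup.inv_mem _ hr₀)
  obtain ⟨Y₀, hY₀⟩ := (lp_fr C hL₀ hg).mp.exists_img
  have hY₀L : Y₀ ≤ W ⊔ T := fun y hy => by
    obtain ⟨x, hx, rfl⟩ := hY₀.2 y hy
    exact hg.mem_T A hx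
  have hd₂ : LP F E p (W ⊔ T) W (fun x => (m₁⁻¹ * r) * g x * (m₁⁻¹ * r)⁻¹) :=
    hg.comp A hY₀.1 (lp_conj C hL₀ hs₀ hY₀L)
  have hval : ∀ x ∈ W, (m₁⁻¹ * r) * g x * (m₁⁻¹ * r)⁻¹ = m₁⁻¹ * a x * m₁ := by
    intro x hx
    rw [ea x hx]
    group
  have hI : Img W (fun x => (m₁⁻¹ * r) * g x * (m₁⁻¹ * r)⁻¹) W := by
    refine (hi.comp (g := fun x => m₁⁻¹ * x * m₁) ⟨fun x hx => ?_, fun y hy => ⟨m₁ * y * m₁⁻¹, norm_conj hm₁W hy, by group⟩⟩).congr (fun x hx => (hval x hx).symm)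
    have := norm_conj (Subgroup.inv_mem _ hm₁W) hx
    simpa using this
  have hcov : ∀ r ∈ W ⊔ T, ∃ x ∈ W, x⁻¹ * r ∈ T := fun r hr => by
    obtain ⟨y, hy, t, ht, rfl⟩ := dec_sup C hWS hr
    exact ⟨y, hy, by simpa using ht⟩
  have hcl₀ : ClR F E (W ⊔ T) W := ⟨hcl, le_sup_left, hcov⟩
  obtain ⟨-, α, hα, eα⟩ := (main_L C hL₀ W hcl₀).1 _ hd₂ hI
  refine ⟨m₁, ⟨hm₁.1, hm₁W⟩, α, hα, fun x hx => ?_⟩
  rw [← eα x hx]
  show a x = m₁ * ((m₁⁻¹ * r) * g x * (m₁⁻¹ * r)⁻¹) * m₁⁻¹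
  rw [hval x hx]
  group

/-- Fully automized. -/
theorem pos_fa (D : FusionSystem R) (hD : ∀ {X f}, Mp D X f ↔ Dn F E p R X f) (hWR : W ≤ R) (hcl : Cl F E W)
    (hpos : Pos S E p R W Q₀) (hC : centralizerIn R Q₀ ≤ W) : D.IsFullyAutomized p W := by
  have hWS : W ≤ S := hcl.le
  haveI : Finite W := finite_of_le hWS
  haveI : Finite (MulAut W) := Cfsg.Agent.Lib.Fusion.Basic.finite_mulAut_of_finite (A := W)
  have hL₀ := lv_sup C hWS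
  have hcov : ∀ r ∈ W ⊔ T, ∃ x ∈ W, x⁻¹ * r ∈ T := fun r hr => by
    obtain ⟨y, hy, t, ht, rfl⟩ := dec_sup C hWS hr
    exact ⟨y, hy, by simpa using ht⟩
  have hcl₀ : ClR F E (W ⊔ T) W := ⟨hcl, le_sup_left, hcov⟩
  have hfl := fl_syl C hL₀ hcl₀ (pos_flq C hR hpos)
  have hS₀ : aSub (fam C hL₀) hcl₀ = VI F E p W := by
    ext α
    constructor
    · rintro ⟨-, α', hα', e⟩
      have : α = α' := eq_of_autFun e
      rw [this]
      exact hα'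
    · intro hα
      exact ⟨hcl₀, α, hα, fun _ _ => rfl⟩
  rw [hS₀] at hfl
  have hPp : IsPGroup p (autInducedBy R W) := isPGroup_autInducedBy W (C.hS.to_le hR.rs)
  have hPn : ∀ y ∈ autInducedBy R W, ∀ b ∈ VI F E p W, y * b * y⁻¹ ∈ VI F E p W := by
    intro y hy b hb
    have hyF : y ∈ F.autGroup W := autInducedBy_le_autGroup F hWS (autInducedBy_mono W hR.rs hy)
    obtain ⟨α', hα', e'⟩ := VI_tr C (mp_autFun hWS hyF) (img_autFun y) hb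
    have : y * b * y⁻¹ = α' := eq_of_autFun (fun x hx => by
      have h1 := e' _ (autFun_mem y⁻¹ hx)
      rw [autFun_apply_inv] at h1
      rw [h1, autFun_mul_apply, autFun_mul_apply])
    rw [this]
    exact hα'
  have hQ₀ := hpos.inf
  have hinf : VI F E p W ⊓ autInducedBy R W = autInducedBy (W ⊔ T) W := by
    apply le_antisymm
    · rintro α ⟨hα, hα₂⟩
      obtain ⟨x, hx, ex⟩ := inT_iff.1 hα₂
      obtain ⟨w, hw, b, hb, eb⟩ := VI_dec C hWS hα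
      have hA := vv_A1 C hWS hb
      have hxS : x ∈ S := hR.rs hx.1
      have hwxN : w⁻¹ * x ∈ normalizerIn S W :=
        ⟨S.mul_mem (S.inv_mem (hWS hw)) hxS, Subgroup.mul_mem _ (Subgroup.inv_mem _ (Subgroup.le_normalizer hw)) hx.2⟩
      have hbc : ∀ v ∈ W, autFun b v = (w⁻¹ * x) * v * (w⁻¹ * x)⁻¹ := by
        intro v hv
        have h1 := ex v hv
        rw [eb v hv] at h1
        calc autFun b v = w⁻¹ * (w * autFun b v * w⁻¹) * w := by group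
          _ = _ := by
            rw [h1]
            group
      have hwxQ : w⁻¹ * x ∈ normalizerIn S (W ⊓ T) := norm_inf C hwxN
      have hE : Mp E (W ⊓ T) (fun y => (w⁻¹ * x) * y * (w⁻¹ * x)⁻¹) :=
        hA.me.congr (fun y hy => hbc y hy.1)
      have hfn : E.IsFullyNormalized (W ⊓ T) := by
        rw [hQ₀]
        exact hpos.good.at_.1
      obtain ⟨t, ht, et⟩ := C.es_cap hfn hwxQ hE
      have hC' : centralizerIn R (W ⊓ T) ≤ W := by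
        rw [hQ₀]
        exact hC
      have hd : t⁻¹ * (w⁻¹ * x) ∈ W :=
        hC' (mem_cent.2 ⟨R.mul_mem (R.inv_mem (hR.tr ht.1)) (R.mul_mem (R.inv_mem (hWR hw)) hx.1), fun q hq => comm_of_conj (et q hq)⟩)
      have hxL : x ∈ W ⊔ T := by
        have e1 : x = w * t * (t⁻¹ * (w⁻¹ * x)) := by group
        rw [e1]
        exact Subgroup.mul_mem _ (Subgroup.mul_mem _ (Subgroup.mem_sup_left hw) (Subgroup.mem_sup_right ht.1)) (Subgroup.mem_sup_left hd)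
      exact inT_iff.2 ⟨x, ⟨hxL, hx.2⟩, ex⟩
    · intro α hα
      refine ⟨?_, autInducedBy_mono W (hR.sup_le hWR) hα⟩
      obtain ⟨x, hx, ex⟩ := inT_iff.1 hα
      obtain ⟨w, hw, t, ht, rfl⟩ := dec_sup C hWS hx.1
      have htN : t ∈ Subgroup.normalizer (W : Set Ω) := by
        have := Subgroup.mul_mem _ (Subgroup.inv_mem _ (Subgroup.le_normalizer hw)) hx.2
        simpa using this
      have hwN : w ∈ Subgroup.normalizer (W : Set Ω) := Subgroup.le_normalizer hw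
      have e1 : α = normAct W hwN * normAct W htN := eq_of_autFun (fun v hv => by
        rw [ex v hv, autFun_mul_apply, normAct_fun htN hv, normAct_fun hwN (norm_conj htN hv)]
        group)
      rw [e1]
      exact Subgroup.mul_mem _ (mem_VI_inn hw (isC_normAct hwN)) (mem_VI_V (mem_Vv_T hWS (normAct_mem_autInducedBy T W htN ht)))
  have hsy : IsSylowIn p (VI F E p W ⊓ autInducedBy R W) (VI F E p W) := by
    rw [hinf]
    exact hfl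
  have hsup := sylow_sup hPp hPn hsy
  have he : D.autGroup W = VI F E p W ⊔ autInducedBy R W := by
    apply le_antisymm
    · intro a ha
      obtain ⟨m₁, hm₁, α, hα, ea⟩ := N1 C hR D hD hWR hcl hpos hC (mp_autFun hWR ha) (img_autFun a)
      have e1 : a = normAct W hm₁.2 * α := eq_of_autFun (fun x hx => by
        rw [ea x hx, autFun_mul_apply, normAct_fun hm₁.2 (autFun_mem α hx)])
      rw [e1]
      exact Subgroup.mul_mem _ (Subgroup.mem_sup_right (normAct_mem_autInducedBy R W hm₁.2 hm₁.1)) (Subgroup.mem_sup_left hα)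
    · refine sup_le (fun α hα => ?_) (autInducedBy_le_autGroup D hWR)
      have hAa : Aa F E p (W ⊔ T) W (autFun α) := ⟨hcl₀, α, hα, fun _ _ => rfl⟩
      exact mem_aut_of_mp (hD.2 (dn_of_lp C hR hL₀ (hR.sup_le hWR) (Cfsg.Agent.Lib.FusionExt.G1.Dp.edge (fam C hL₀) hAa le_rfl)))
  refine ⟨hWR, ?_⟩
  rw [he]
  exact hsup

/-- A map in the automizer trivial on `Q₀` is inner. -/
theorem triv_inner (D : FusionSystem R) (hD : ∀ {X f}, Mp D X f ↔ Dn F E p R X f) (hWR : W ≤ R) (hcl : Cl F E W)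
    (hpos : Pos S E p R W Q₀) (hC : centralizerIn R Q₀ ≤ W) {κ : Ω → Ω} (ha : Mp D W κ) (hi : Img W κ W)
    (htriv : ∀ q ∈ Q₀, κ q = q) : ∃ w₀ ∈ W, ∀ x ∈ W, κ x = w₀ * x * w₀⁻¹ := by
  obtain ⟨m₁, hm₁, α, hα, ea⟩ := N1 C hR D hD hWR hcl hpos hC ha hi
  obtain ⟨rfl, hG, -⟩ := hpos
  have hWS : W ≤ S := hcl.le
  haveI : Finite W := finite_of_le hWS
  obtain ⟨w, hw, b, hb, eb⟩ := VI_dec C hWS hα
  have hA := vv_A1 C hWS hb
  have hmN : m₁ * w ∈ Subgroup.normalizer (W : Set Ω) := Subgroup.mul_mem _ hm₁.2 (Subgroup.le_normalizer hw)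
  have hmR : m₁ * w ∈ R := R.mul_mem hm₁.1 (hWR hw)
  obtain ⟨m, hmdef⟩ : ∃ m, m = m₁ * w := ⟨_, rfl⟩
  rw [← hmdef] at hmN hmR
  have hκ : ∀ x ∈ W, κ x = m * autFun b x * m⁻¹ := by
    intro x hx
    rw [ea x hx, eb x hx, hmdef]
    group
  have hbq : ∀ q ∈ W ⊓ T, autFun b q = m⁻¹ * q * m⁻¹⁻¹ := by
    intro q hq
    have h1 := htriv q hq
    rw [hκ q hq.1] at h1
    rw [inv_inv]
    calc autFun b q = m⁻¹ * (m * autFun b q * m⁻¹) * m := by group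
      _ = _ := by rw [h1]
  have hmiN : m⁻¹ ∈ normalizerIn S (W ⊓ T) := norm_inf C ⟨S.inv_mem (hR.rs hmR), Subgroup.inv_mem _ hmN⟩
  obtain ⟨t, ht, et⟩ := C.es_cap hG.at_.1 hmiN (hA.me.congr hbq)
  have hd : t⁻¹ * m⁻¹ ∈ W :=
    hC (mem_cent.2 ⟨R.mul_mem (R.inv_mem (hR.tr ht.1)) (R.inv_mem hmR), fun q hq => comm_of_conj (et q hq)⟩)
  have htN : t⁻¹ ∈ Subgroup.normalizer (W : Set Ω) := by
    have e1 : t⁻¹ = (t⁻¹ * m⁻¹) * m := by group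
    rw [e1]
    exact Subgroup.mul_mem _ (Subgroup.le_normalizer hd) hmN
  have hb₂ : normAct W htN * b ∈ Vv F E p W :=
    Subgroup.mul_mem _ (mem_Vv_T hWS (normAct_mem_autInducedBy T W htN (T.inv_mem ht.1))) hb
  have hid : ∀ q ∈ W ⊓ T, autFun (normAct W htN * b) q = q := by
    intro q hq
    rw [autFun_mul_apply, hbq q hq, et q hq, normAct_fun htN (autFun_mem b hq.1 |> fun _ => ?_)]
    · group
    · have h5 : t * q * t⁻¹ = m⁻¹ * q * m⁻¹⁻¹ := (et q hq).symm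
      rw [h5]
      exact norm_conj (Subgroup.inv_mem _ hmN) hq.1
  obtain ⟨z, hz, ez⟩ := pi_W C hcl hb₂ hid
  have hzQ := hcl.uc.self C.hTS hz
  refine ⟨(t⁻¹ * m⁻¹)⁻¹ * z, W.mul_mem (W.inv_mem hd) hzQ.1, fun x hx => ?_⟩
  have h1 := ez x hx
  rw [autFun_mul_apply, normAct_fun htN (autFun_mem b hx)] at h1
  rw [hκ x hx]
  have e2 : m * autFun b x * m⁻¹ = (t⁻¹ * m⁻¹)⁻¹ * (t⁻¹ * autFun b x * t⁻¹⁻¹) * (t⁻¹ * m⁻¹) := by group
  rw [e2, h1]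
  group

end fin

end Cfsg.Agent.Lib.FusionExt.ER6d
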