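import Cfsg.Agent.Lib.FusionExt.SatCrit3

/-!
# The saturation criterion, part 4: conclusion (helper92)
-/

set_option autoImplicit false

namespace Cfsg.Agent.Lib.FusionExt.SatCrit4

open Cfsg Cfsg.FusionSystem Cfsg.Agent.Lib.Fusion.Basic Cfsg.Agent.Lib.Fusion.GroupSystem
open Cfsg.Agent.Lib.FusionExt.MapApi Cfsg.Agent.Lib.FusionExt.SatCrit1
open Cfsg.Agent.Lib.FusionExt.SatCrit2 Cfsg.Agent.Lib.FusionExt.SatCrit3 Cfsg.Agent.Lib.FusionExt.Normal

universe u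

variable {Ω : Type u} [Group Ω] {S : Subgroup Ω} {F : FusionSystem S} {p : ℕ}
variable [Finite S] [Fact p.Prime] {P₀ R : Subgroup Ω}

/-- A local statement: an extended map induces on `R` a map that extends to `R*`. -/
theorem good_of_ext (hc : Ctx F p P₀) (hR : F.IsConj P₀ R) (hgood : ∀ Q, F.IsConj P₀ Q → Arrow F Q R)
    {Q Q' T : Subgroup Ω} {f θ₁ θ₂ : Ω → Ω} (hQ : F.IsConj P₀ Q) (hQ'S : Q' ≤ S) (hQT : Q ≤ T) (hne : Q ≠ T)
    (hTN : T ≤ normalizerIn S Q) (hf : Mp F T f) (hi : Img Q f Q') (h1 : Mp F (normalizerIn S Q) θ₁)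
    (h1i : Img Q θ₁ R) (h2 : Mp F (normalizerIn S Q') θ₂) (h2i : Img Q' θ₂ R) :
    ∃ e, Ex F p R e ∧ ∀ x ∈ Q, θ₂ (f x) = e (θ₁ x) := by
  have hQS := conj_le hQ
  have hRS := conj_le hR
  have hfN : ∀ y ∈ T, f y ∈ normalizerIn S Q' := fun y hy =>
    ⟨hf.mem_S hy, normalizes_image hf hQT hi hy (hTN hy).2⟩
  obtain ⟨W, hW⟩ := (h1.restrict hTN).exists_img
  obtain ⟨κ, hκ, hκ1, hκ2, hκi⟩ := (h1.restrict hTN).inverse hW
  have hRW : R ≤ W := by
    intro r hr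
    obtain ⟨x, hx, rfl⟩ := h1i.2 r hr
    exact hW.1 x (hQT hx)
  have hWN : W ≤ normalizerIn S R := by
    intro y hy
    obtain ⟨x, hx, rfl⟩ := hW.2 y hy
    exact mem_nm_of_arrow hQS h1 h1i (hTN hx)
  have hcW : Nat.card W = Nat.card T := (h1.restrict hTN).card_img hW
  have hne' : R ≠ W := by
    intro e
    have h3 : Nat.card Q < Nat.card T := card_lt_of_lt hQT hne (hTN.trans inf_le_left)
    have h4 := card_conj hQ
    have h5 := card_conj hR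
    rw [e, hcW] at h5
    omega
  have hκR : Img R κ Q := img_of_inverse hκ1 hQT h1i
  have hEx := E3 hc hR hgood _ W (fun w => θ₂ (f (κ w))) rfl hRW hne' hWN
    ((hκ.comp hκi.1 hf).comp (fun w hw => hfN _ (hκi.1 w hw)) h2)
    (fun w hw => mem_nm_of_arrow hQ'S h2 h2i (hfN _ (hκi.1 w hw)))
    ((hκR.comp hi).comp h2i)
  refine ⟨_, hEx, fun x hx => ?_⟩
  show θ₂ (f x) = θ₂ (f (κ (θ₁ x)))
  rw [hκ1 x (hQT hx)]

/-- Every automorphism of `R` in the system extends to `R*`. -/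
theorem ex_all (hc : Ctx F p P₀) (hR : F.IsConj P₀ R) (hgood : ∀ Q, F.IsConj P₀ Q → Arrow F Q R) :
    ∀ f, Mp F R f → Img R f R → Ex F p R f := by
  have hRS := conj_le hR
  have hRH : R ≤ starSub F p R := le_starSub hc.hS hRS
  have key := hc.all_good
    (fun Q f Q' => ∀ θ₁ θ₂, Mp F (normalizerIn S Q) θ₁ → Img Q θ₁ R → Mp F (normalizerIn S Q') θ₂ → Img Q' θ₂ R →
      ∃ e, Ex F p R e ∧ ∀ x ∈ Q, θ₂ (f x) = e (θ₁ x)) ?_ ?_ ?_ ?_ ?_
  · intro f hf hi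
    obtain ⟨e, he, hfe⟩ := key R R f hR hf hi (fun x => x) (fun x => x) (Mp.refl inf_le_left) (img_refl R)
      (Mp.refl inf_le_left) (img_refl R)
    exact he.congr (fun x hx => (hfe x hx).symm)
  · intro Q f g Q' hfg h θ₁ θ₂ h1 h2 h3 h4
    obtain ⟨e, he, hfe⟩ := h θ₁ θ₂ h1 h2 h3 h4
    exact ⟨e, he, fun x hx => by rw [← hfg x hx, hfe x hx]⟩
  · intro Q a Q' hQ ha hi θ₁ θ₂ h1 h2 h3 h4
    have hQS := conj_le hQ
    have hQ'S : Q' ≤ S := (Mp.conj hQS ha : Mp F Q _).img_le hi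
    exact good_of_ext hc hR hgood hQ hQ'S (le_normalizerIn hQS) (hc.ne_normalizer hQ) le_rfl
      (Mp.conj inf_le_left ha) hi h1 h2 h3 h4
  · intro Q Q' Q'' f g hQ hf hi hg hi' h1 h2 θ₁ θ₃ a1 a2 a3 a4
    have hQ' : F.IsConj P₀ Q' := isConj_trans F hQ (hf.isConj hi)
    obtain ⟨θ₂, b1, b2⟩ := hgood Q' hQ'
    obtain ⟨e₁, he₁, hfe₁⟩ := h1 θ₁ θ₂ a1 a2 b1 b2
    obtain ⟨e₂, he₂, hfe₂⟩ := h2 θ₂ θ₃ b1 b2 a3 a4
    refine ⟨_, he₂.comp he₁ hRH, fun x hx => ?_⟩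
    show θ₃ (g (f x)) = e₂ (e₁ (θ₁ x))
    rw [hfe₂ _ (hi.1 x hx), hfe₁ x hx]
  · intro Q Q' f f' hQ hf hi hf' hi' h1 h2 h θ₁ θ₂ a1 a2 a3 a4
    obtain ⟨e, he, hfe⟩ := h θ₂ θ₁ a3 a4 a1 a2
    obtain ⟨e', he', hee'⟩ := he.inverse hRH
    refine ⟨e', he', fun y hy => ?_⟩
    have hx : f' y ∈ Q := hi'.1 y hy
    have h3 := hfe _ hx
    rw [h2 y hy] at h3
    rw [h3, hee' _ (a4.1 _ hx)]
  · intro X Q Q' f hX hQ hQX hf hi θ₁ θ₂ h1 h2 h3 h4
    have hXS : X ≤ S := hf.le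
    have hQS := conj_le hQ
    obtain ⟨a, b⟩ := hc.exists_T hX hQ hQX hXS
    have hQ'S : Q' ≤ S := (hf.restrict hQX).img_le hi
    exact good_of_ext hc hR hgood hQ hQ'S a b inf_le_right (hf.restrict inf_le_left) hi h1 h2 h3 h4

/-- From an automorphism of `H` agreeing on `R` with an automorphism of `R`. -/
theorem stab_of_agree {H : Subgroup Ω} (hRH : R ≤ H) (c : MulAut H) (α : MulAut R)
    (h : ∀ x : R, ((c ⟨x, hRH x.2⟩ : H) : Ω) = ((α x : R) : Ω)) :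
    ∃ hc : c ∈ stabSub H R, stabRes hRH ⟨c, hc⟩ = α := by
  have hc : c ∈ stabSub H R := by
    intro x
    constructor
    · intro hx
      have e1 : ((c x : H) : Ω) = ((α (α⁻¹ ⟨_, hx⟩) : R) : Ω) := by
        rw [MulAut.apply_inv_self]
      rw [← h] at e1
      have e2 : c x = c ⟨_, hRH (α⁻¹ ⟨_, hx⟩).2⟩ := Subtype.ext e1
      have e3 := c.injective e2
      rw [e3]
      exact (α⁻¹ ⟨_, hx⟩).2
    · intro hx
      rw [h ⟨x, hx⟩]
      exact (α _).2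
  refine ⟨hc, ?_⟩
  ext x
  rw [stabRes_apply]
  exact h x

/-- `R` is fully automized. -/
theorem isFA (hS : IsPGroup p S) (hRH : R ≤ starSub F p R) (hSy : Sy F p (starSub F p R) R)
    (hex : ∀ f, Mp F R f → Img R f R → Ex F p R f) (hRS : R ≤ S) : F.IsFullyAutomized p R := by
  refine isFullyAutomized_of_stab hS starSub_le_S hRH hSy (fun α hα => ?_)
  obtain ⟨-, -, g, g1, g2, g3⟩ := hex _ (mp_autFun hRS hα) (img_autFun α)
  obtain ⟨c, hc, ec⟩ := g1.toAut g2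
  obtain ⟨hst, e⟩ := stab_of_agree hRH c α (fun x => by
    rw [ec, g3 _ x.2, autFun_coe])
  exact ⟨⟨c, hst⟩, hc, e⟩

/-- Adjusting a `p`-subgroup of the stabilizer by an element acting trivially. -/
theorem lemma_K {H : Subgroup Ω} [Finite H] (hRH : R ≤ H) (hSy : Sy F p H R)
    (hUA : autInducedBy S H ⊓ stabSub H R ≤ F.autGroup H ⊓ stabSub H R)
    {X : Subgroup (MulAut H)} (hXB : X ≤ F.autGroup H ⊓ stabSub H R) (hXp : IsPGroup p X)
    (hres : ∀ x ∈ X, ∃ u ∈ autInducedBy S H ⊓ stabSub H R, ∀ r ∈ R, autFun x r = autFun u r) :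
    ∃ k ∈ F.autGroup H ⊓ stabSub H R, (∀ r ∈ R, autFun k r = r) ∧
      ∀ x ∈ X, k * x * k⁻¹ ∈ autInducedBy S H ⊓ stabSub H R := by
  have hstabmem : ∀ u : MulAut H, u ∈ stabSub H R → ∀ r ∈ R, autFun u r ∈ R :=
    fun u hu r hr => (img_stab hu hRH).1 r hr
  let B₀ : Subgroup (MulAut H) :=
    { carrier := {b | b ∈ F.autGroup H ⊓ stabSub H R ∧ ∃ u ∈ autInducedBy S H ⊓ stabSub H R,
        ∀ r ∈ R, autFun b r = autFun u r}
      mul_mem' := by
        rintro a b ⟨h1, u, hu, e⟩ ⟨h2, v, hv, e'⟩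
        refine ⟨Subgroup.mul_mem _ h1 h2, u * v, Subgroup.mul_mem _ hu hv, fun r hr => ?_⟩
        rw [autFun_mul _ _ (hRH hr), autFun_mul _ _ (hRH hr), e' r hr, e _ (hstabmem v hv.2 r hr)]
      one_mem' := ⟨Subgroup.one_mem _, 1, Subgroup.one_mem _, fun _ _ => rfl⟩
      inv_mem' := by
        rintro a ⟨h1, u, hu, e⟩
        have hu' := Subgroup.inv_mem _ hu
        refine ⟨Subgroup.inv_mem _ h1, u⁻¹, hu', fun r hr => ?_⟩
        have hs : autFun u⁻¹ r ∈ R := hstabmem _ hu'.2 r hr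
        have e1 : autFun a (autFun u⁻¹ r) = r := by
          rw [e _ hs, autFun_self_inv u (hRH hr)]
        calc autFun a⁻¹ r = autFun a⁻¹ (autFun a (autFun u⁻¹ r)) := by rw [e1]
          _ = autFun u⁻¹ r := autFun_inv_self a (hRH hs) }
  have hUB₀ : autInducedBy S H ⊓ stabSub H R ≤ B₀ := fun u hu => ⟨hUA hu, u, hu, fun _ _ => rfl⟩
  have hB₀B : B₀ ≤ F.autGroup H ⊓ stabSub H R := fun b hb => hb.1
  have hsyl : IsSylowIn p (autInducedBy S H ⊓ stabSub H R) B₀ := IsSylowIn.mono hSy hUA hUB₀ hB₀B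
  obtain ⟨z, hz, hzc⟩ := IsSylowIn.exists_conj hsyl (C := X) (fun x hx => ⟨hXB hx, hres x hx⟩) hXp
  obtain ⟨hzB, u, hu, ezu⟩ := hz
  refine ⟨u⁻¹ * z, Subgroup.mul_mem _ (Subgroup.inv_mem _ (hUA hu)) hzB, fun r hr => ?_, fun x hx => ?_⟩
  · rw [autFun_mul _ _ (hRH hr), ezu r hr, autFun_inv_self u (hRH hr)]
  · have e : u⁻¹ * z * x * (u⁻¹ * z)⁻¹ = u⁻¹ * (z * x * z⁻¹) * u := by group
    rw [e]
    have hu' := Subgroup.inv_mem _ hu
    have := Subgroup.mul_mem _ (Subgroup.mul_mem _ hu' (hzc x hx)) hu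
    exact this

/-- `R` is receptive. -/
theorem isRec (hc : Ctx F p P₀) (hR : F.IsConj P₀ R) (hgood : ∀ Q, F.IsConj P₀ Q → Arrow F Q R)
    (hRecH : F.IsReceptive (starSub F p R)) (hSy : Sy F p (starSub F p R) R)
    (hFAR : F.IsFullyAutomized p R) (hex : ∀ f, Mp F R f → Img R f R → Ex F p R f) : F.IsReceptive R := by
  have hRS := conj_le hR
  haveI : Finite R := finite_of_le hRS
  have hHS : starSub F p R ≤ S := starSub_le_S
  haveI : Finite (starSub F p R : Subgroup Ω) := finite_of_le hHS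
  have hRH : R ≤ starSub F p R := le_starSub hc.hS hRS
  have hNH : normalizerIn S R ≤ Subgroup.normalizer ((starSub F p R : Subgroup Ω) : Set Ω) :=
    fun z hz => star_normalizer hRS hz
  have hUA := inf_le_inf_right (stabSub (starSub F p R) R) (autInducedBy_le_autGroup F hHS)
  refine ⟨hRS, fun Q φ hφ hr => ?_⟩
  have hf : Mp F Q (extOf φ) := mp_of_hom hφ
  have hi : Img Q (extOf φ) R := by
    refine ⟨fun x hx => ?_, fun y hy => ?_⟩
    · rw [extOf_of_mem φ hx, ← hr]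
      exact ⟨_, rfl⟩
    · rw [← hr] at hy
      obtain ⟨x, rfl⟩ := hy
      exact ⟨x, x.2, extOf_coe φ x⟩
  have hQ : F.IsConj P₀ Q := isConj_trans F hR (isConj_symm F (hf.isConj hi))
  have hQS := conj_le hQ
  have hQN : Q ≤ normalizerIn S Q := le_normalizerIn hQS
  obtain ⟨θ, hθ, hθi⟩ := hgood Q hQ
  obtain ⟨κ, hκ, hκ1, hκ2, hκi⟩ := (hθ.restrict hQN).inverse hθi
  -- the automorphism of `R`
  have hα : Mp F R (fun r => extOf φ (κ r)) := hκ.comp hκi.1 hf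
  have hαi : Img R (fun r => extOf φ (κ r)) R := hκi.comp hi
  obtain ⟨-, -, g₀, g1, g2, g3⟩ := hex _ hα hαi
  obtain ⟨c₀, hc₀, ec₀⟩ := g1.toAut g2
  have hc₀val : ∀ r ∈ R, autFun c₀ r = extOf φ (κ r) := by
    intro r hr
    rw [autFun_of_mem c₀ (hRH hr), ec₀ ⟨r, hRH hr⟩]
    exact g3 r hr
  have hc₀st : c₀ ∈ stabSub (starSub F p R) R := by
    intro x
    constructor
    · intro hx
      obtain ⟨r, hr, e⟩ := hαi.2 _ hx
      have e1 : ((c₀ ⟨r, hRH hr⟩ : starSub F p R) : Ω) = ((c₀ x : starSub F p R) : Ω) := by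
        rw [← autFun_coe, autFun_of_mem c₀ (hRH hr), ← autFun_of_mem c₀ (hRH hr), hc₀val r hr]
        exact e
      have e2 := c₀.injective (Subtype.ext e1)
      rw [← e2]
      exact hr
    · intro hx
      have h5 : autFun c₀ x ∈ R := by
        rw [hc₀val _ hx]
        exact hαi.1 _ hx
      rw [autFun_coe] at h5
      exact h5
  have hc₀B : c₀ ∈ F.autGroup (starSub F p R) ⊓ stabSub (starSub F p R) R := ⟨hc₀, hc₀st⟩
  -- the extender and its image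
  set Nφ := extender S Q φ with hNφ
  have hNφN : Nφ ≤ normalizerIn S Q := extender_le_normalizerIn φ
  obtain ⟨M, hM⟩ := (hθ.restrict hNφN).exists_img
  have hMN : M ≤ normalizerIn S R := by
    intro y hy
    obtain ⟨x, hx, rfl⟩ := hM.2 y hy
    exact mem_nm_of_arrow hQS hθ hθi (hNφN hx)
  set V := M ⊔ starSub F p R with hV
  have hMH : M ≤ Subgroup.normalizer ((starSub F p R : Subgroup Ω) : Set Ω) := hMN.trans hNH
  have hVN : V ≤ normalizerIn S R := sup_le hMN starSub_le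
  have hVS : V ≤ S := hVN.trans inf_le_left
  have hHV : starSub F p R ≤ V := le_sup_right
  have hVH : V ≤ Subgroup.normalizer ((starSub F p R : Subgroup Ω) : Set Ω) := hVN.trans hNH
  have hVp : IsPGroup p V := hc.hS.to_le hVS
  -- action of an element of `V` through `α`
  have hactα : ∀ g ∈ V, ∃ s ∈ normalizerIn S R, ∀ r ∈ R, extOf φ (κ (g * r * g⁻¹)) = s * extOf φ (κ r) * s⁻¹ := by
    intro g hg
    obtain ⟨m, hm, h, hh, rfl⟩ := exists_mul_of_mem_sup' hMH hg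
    have hmN := hMN hm
    have hhN := starSub_le hh
    -- the `m` part
    obtain ⟨y, hy, rfl⟩ := hM.2 m hm
    obtain ⟨hy1, hy2, s₁, hs₁, hy3⟩ := (mem_extender_iff φ).1 hy
    have hs₁conj : ∀ r ∈ R, extOf φ (κ (θ y * r * (θ y)⁻¹)) = s₁ * extOf φ (κ r) * s₁⁻¹ := by
      intro r hr
      have hq := hκi.1 r hr
      have hyq : y * κ r * y⁻¹ ∈ Q := (Subgroup.mem_normalizer_iff.1 hy2 _).1 hq
      have e1 : θ y * r * (θ y)⁻¹ = θ (y * κ r * y⁻¹) := by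
        rw [hθ.map_conj (hNφN hy) (hQN hq), hκ2 r hr]
      rw [e1, hκ1 _ hyq, extOf_of_mem φ hyq, extOf_of_mem φ hq]
      exact hy3 ⟨κ r, hq⟩ hyq
    have hs₁N : s₁ ∈ normalizerIn S R := by
      refine ⟨hs₁, mem_normalizer_of_conj_one (fun r hr => ?_)⟩
      obtain ⟨r', hr', rfl⟩ := hαi.2 r hr
      have e := hs₁conj r' hr'
      show s₁ * extOf φ (κ r') * s₁⁻¹ ∈ R
      rw [← e]
      exact hαi.1 _ ((Subgroup.mem_normalizer_iff.1 hmN.2 r').1 hr')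
    -- the `h` part
    obtain ⟨α', hα', hα'1, hα'2, hα'i⟩ := hα.inverse hαi
    obtain ⟨o, ho, eo⟩ := hh.2.2.transport hα hαi hα'1 hα'2
    obtain ⟨s₂, hs₂, es₂⟩ := (mem_autInducedBy_iff S R o).1 (opAut_le_autInducedBy hFAR ho)
    have hs₂N : s₂ ∈ normalizerIn S R := ⟨hs₂, mem_normalizer_of_conj R o s₂ es₂⟩
    have hs₂conj : ∀ r ∈ R, extOf φ (κ (h * r * h⁻¹)) = s₂ * extOf φ (κ r) * s₂⁻¹ := by
      intro r hr
      have h1 := hαi.1 r hr
      have h2 := eo ⟨_, h1⟩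
      rw [es₂] at h2
      have h3 := hα'1 r hr
      simp only [h3] at h2
      exact h2.symm
    refine ⟨s₁ * s₂, Subgroup.mul_mem _ hs₁N hs₂N, fun r hr => ?_⟩
    have hr₁ : h * r * h⁻¹ ∈ R := (Subgroup.mem_normalizer_iff.1 hhN.2 r).1 hr
    have e0 : θ y * h * r * (θ y * h)⁻¹ = θ y * (h * r * h⁻¹) * (θ y)⁻¹ := by group
    rw [e0, hs₁conj _ hr₁, hs₂conj r hr]
    group
  -- the `p`-subgroup to conjugate
  have hW₀ : autInducedBy V (starSub F p R) ≤ autInducedBy S (starSub F p R) ⊓ stabSub (starSub F p R) R := by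
    intro a ha
    refine ⟨autInducedBy_mono _ hVS ha, fun x => ?_⟩
    obtain ⟨g, hg, hga⟩ := (mem_autInducedBy_iff V _ a).1 ha
    rw [hga]
    exact (Subgroup.mem_normalizer_iff.1 (hVN hg).2 x).symm
  set X := (autInducedBy V (starSub F p R)).map (MulAut.conj c₀).toMonoidHom with hX
  have hXB : X ≤ F.autGroup (starSub F p R) ⊓ stabSub (starSub F p R) R := by
    rintro _ ⟨a, ha, rfl⟩
    exact Subgroup.mul_mem _ (Subgroup.mul_mem _ hc₀B (hUA (hW₀ ha))) (Subgroup.inv_mem _ hc₀B)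
  have hXp : IsPGroup p X := (isPGroup_autInducedBy _ hVp).map _
  have hres : ∀ x ∈ X, ∃ u ∈ autInducedBy S (starSub F p R) ⊓ stabSub (starSub F p R) R,
      ∀ r ∈ R, autFun x r = autFun u r := by
    rintro _ ⟨a, ha, rfl⟩
    obtain ⟨g, hg, hga⟩ := (mem_autInducedBy_iff V _ a).1 ha
    obtain ⟨s, hs, es⟩ := hactα g hg
    have hsH := hNH hs
    refine ⟨normAct _ hsH, ⟨normAct_mem_autInducedBy (K := S) _ hsH hs.1,
      fun z => (Subgroup.mem_normalizer_iff.1 hs.2 z).symm⟩, fun r hr => ?_⟩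
    have hr' : autFun c₀⁻¹ r ∈ R := (img_stab (Subgroup.inv_mem _ hc₀st) hRH).1 r hr
    have e1 : ((MulAut.conj c₀).toMonoidHom a) = c₀ * a * c₀⁻¹ := rfl
    rw [e1, autFun_mul _ _ (hRH hr), autFun_mul _ _ (hRH hr'), autFun_normAct hsH (hRH hr)]
    have e2 : autFun a (autFun c₀⁻¹ r) = g * autFun c₀⁻¹ r * g⁻¹ := by
      rw [autFun_of_mem a (hRH hr'), hga]
    have hgr : g * autFun c₀⁻¹ r * g⁻¹ ∈ R := (Subgroup.mem_normalizer_iff.1 (hVN hg).2 _).1 hr'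
    rw [e2, hc₀val _ hgr, es _ hr', ← hc₀val _ hr', autFun_self_inv c₀ (hRH hr)]
  obtain ⟨k, hkB, hk1, hk2⟩ := lemma_K hRH hSy hUA hXB hXp hres
  have hc' : k * c₀ ∈ F.autGroup (starSub F p R) := Subgroup.mul_mem _ hkB.1 hc₀
  have hc'F : Mp F (starSub F p R) (autFun (k * c₀)) := mp_autFun hHS hc'
  obtain ⟨βh, hβ, hβe⟩ := Mp.ext_rec hRecH hc'F (img_autFun _) hHV (by
    intro y hy
    refine ⟨hVS hy, hVH hy, ?_⟩
    have ha : normAct _ (hVH hy) ∈ autInducedBy V (starSub F p R) := normAct_mem_autInducedBy (K := V) _ _ hy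
    have h1 := hk2 _ (⟨_, ha, rfl⟩ : (MulAut.conj c₀).toMonoidHom (normAct _ (hVH hy)) ∈ X)
    obtain ⟨s, hs, es⟩ := (mem_autInducedBy_iff S _ _).1 h1.1
    refine ⟨s, hs, fun x hx => ?_⟩
    have hm : autFun (k * c₀) x ∈ starSub F p R := autFun_mem _ hx
    have e1 := es ⟨_, hm⟩
    have e2 : k * ((MulAut.conj c₀).toMonoidHom (normAct _ (hVH hy))) * k⁻¹ =
        (k * c₀) * normAct _ (hVH hy) * (k * c₀)⁻¹ := by
      show k * (c₀ * _ * c₀⁻¹) * k⁻¹ = _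
      group
    rw [e2] at e1
    have e3 : (((k * c₀) * normAct _ (hVH hy) * (k * c₀)⁻¹) ⟨_, hm⟩ : starSub F p R) =
        (k * c₀) (normAct _ (hVH hy) ((k * c₀)⁻¹ ⟨_, hm⟩)) := rfl
    have e4 : (k * c₀)⁻¹ ⟨_, hm⟩ = ⟨x, hx⟩ := by
      apply Subtype.ext
      rw [← autFun_coe, autFun_inv_self _ hx]
    rw [e3, e4] at e1
    rw [← e1, ← autFun_coe]
    congr 1)
  have hψ : Mp F Nφ (fun y => βh (θ y)) :=
    (hθ.restrict hNφN).comp (fun y hy => (le_sup_left : M ≤ V) (hM.1 y hy)) hβ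
  obtain ⟨ψ₀, hψ₀, eψ₀⟩ := hψ
  refine ⟨ψ₀, hψ₀, fun x hP hN => ?_⟩
  rw [eψ₀ ⟨x, hN⟩]
  show βh (θ x) = φ ⟨x, hP⟩
  have hθx : θ x ∈ R := hθi.1 x hP
  rw [hβe _ (hRH hθx), autFun_mul _ _ (hRH hθx), hc₀val _ hθx, hκ1 x hP, hk1 _ (hi.1 x hP), extOf_of_mem φ hP]

/-- The key theorem: a conjugacy class satisfying the standing hypotheses has a fully automized
receptive member. -/
theorem key_theorem (hc : Ctx F p P₀) : ∃ R, F.IsConj P₀ R ∧ F.IsFullyAutomized p R ∧ F.IsReceptive R := by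
  obtain ⟨R, hR, hgood, hFAH, hRecH, hSy⟩ := exists_R hc
  have hex := ex_all hc hR hgood
  have hRS := conj_le hR
  have hFA := isFA hc.hS (le_starSub hc.hS hRS) hSy hex hRS
  exact ⟨R, hR, hFA, isRec hc hR hgood hRecH hSy hFA hex⟩

/-- **The saturation criterion.** -/
theorem main (hS : IsPGroup p S) (F : FusionSystem S) (ℋ : Set (Subgroup Ω)) (hℋS : ∀ P ∈ ℋ, P ≤ S)
    (hℋconj : ∀ P ∈ ℋ, ∀ Q, F.IsConj P Q → Q ∈ ℋ)
    (hsat : ∀ P ∈ ℋ, ∃ Q, F.IsConj P Q ∧ F.IsFullyAutomized p Q ∧ F.IsReceptive Q)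
    (hgen : ∀ E : FusionSystem S, (∀ P ∈ ℋ, F.Hom P ⊆ E.Hom P) → F ≤ E)
    (hstar : ∀ P : Subgroup Ω, F.IsCentric P → P ∉ ℋ → ∃ Q, F.IsConj P Q ∧
      ¬ (autInducedBy S Q ⊓ (pCore p ↥(F.autGroup Q)).map (F.autGroup Q).subtype ≤ Inn Q)) :
    F.IsSaturated p := by
  have key : ∀ (m : ℕ) (P : Subgroup Ω), P ≤ S → Nat.card S - Nat.card P = m →
      ∃ Q, F.IsConj P Q ∧ F.IsFullyAutomized p Q ∧ F.IsReceptive Q := by
    intro m
    induction m using Nat.strong_induction_on with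
    | _ m ih =>
    intro P hP hm
    by_cases hPH : P ∈ ℋ
    · exact hsat P hPH
    have hstar' : ∃ Q, F.IsConj P Q ∧ ∃ x ∈ normalizerIn S Q, x ∉ Q ∧ IsOp F p Q (fun y => x * y * x⁻¹) := by
      by_cases hcen : F.IsCentric P
      · obtain ⟨Q, hQ, hn⟩ := hstar P hcen hPH
        rw [SetLike.not_le_iff_exists] at hn
        obtain ⟨γ, ⟨h1, h2⟩, h3⟩ := hn
        obtain ⟨x, hx, hxγ⟩ := (mem_autInducedBy_iff S Q γ).1 h1
        refine ⟨Q, hQ, x, ⟨hx, mem_normalizer_of_conj Q γ x hxγ⟩, fun hxQ => h3 ⟨⟨x, hxQ⟩, ?_⟩, ⟨γ, h2, hxγ⟩⟩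
        ext y
        exact (hxγ y).symm
      · have hn : ∃ Q, F.IsConj P Q ∧ ¬ centralizerIn S Q ≤ Q := by
          by_contra hcon
          push_neg at hcon
          exact hcen ⟨hP, hcon⟩
        obtain ⟨Q, hQ, hQn⟩ := hn
        rw [SetLike.not_le_iff_exists] at hQn
        obtain ⟨x, hx, hxQ⟩ := hQn
        refine ⟨Q, hQ, x, ⟨hx.1, Subgroup.centralizer_le_normalizer _ hx.2⟩, hxQ, IsOp.refl.congr (fun y hy => ?_)⟩
        have := Subgroup.mem_centralizer_iff.1 hx.2 y hy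
        rw [← this]
        group
    have hlt : Nat.card P < Nat.card S := by
      obtain ⟨Q, hQ, x, hxN, hxQ, -⟩ := hstar'
      have hQS : Q ≤ S := isConj_right_le F hQ
      have h1 := card_lt_of_lt hQS (fun e => hxQ (e ▸ hxN.1)) le_rfl
      rw [← isConj_card_eq F hQ] at h1
      exact h1
    refine key_theorem ⟨hS, hP, hlt, fun X hX hcard => ih (Nat.card S - Nat.card X) ?_ X hX rfl, ?_, hstar'⟩
    · have := card_le_S hX
      omega
    · intro E hE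
      apply hgen E
      intro X hXH
      apply hE
      intro hPX
      exact hPH (hℋconj X hXH P (isConj_symm F hPX))
  exact fun P hP => key _ P hP rfl

end Cfsg.Agent.Lib.FusionExt.SatCrit4
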