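import Cfsg.Agent.Lib.FusionExt.ER6d
import Cfsg.Agent.Lib.FusionExt.SatCrit4

/-!
# The product `E·R`: saturation (helper92)
-/

set_option autoImplicit false
set_option linter.unusedSectionVars false
set_option maxHeartbeats 1000000

namespace Cfsg.Agent.Lib.FusionExt.ER6e

open Cfsg Cfsg.FusionSystem Cfsg.Agent.Lib.Fusion.Basic Cfsg.Agent.Lib.Fusion.GroupSystem
open Cfsg.Agent.Lib.FusionExt.MapApi Cfsg.Agent.Lib.FusionExt.PowerSys Cfsg.Agent.Lib.FusionExt.LowPi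
open Cfsg.Agent.Lib.FusionExt.PrimeRes1 Cfsg.Agent.Lib.Fusion.Saturation Cfsg.Agent.Lib.Fusion.Saturation2
open Cfsg.Agent.Lib.FusionExt.Invariant Cfsg.Agent.Lib.FusionExt.CentE
open Cfsg.Agent.Lib.FusionExt.ER0 Cfsg.Agent.Lib.FusionExt.ER1 Cfsg.Agent.Lib.FusionExt.ER2 Cfsg.Agent.Lib.FusionExt.ER3
open Cfsg.Agent.Lib.FusionExt.ER4 Cfsg.Agent.Lib.FusionExt.ER5a Cfsg.Agent.Lib.FusionExt.ER5b Cfsg.Agent.Lib.FusionExt.ER5c Cfsg.Agent.Lib.FusionExt.ER5d Cfsg.Agent.Lib.FusionExt.ER5e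
open Cfsg.Agent.Lib.FusionExt.ER6a Cfsg.Agent.Lib.FusionExt.ER6b Cfsg.Agent.Lib.FusionExt.ER6c Cfsg.Agent.Lib.FusionExt.ER6d
open Cfsg.Agent.Lib.FusionExt.Normal
open Cfsg.Agent.Lib.FusionExt.Glue1 (Uc Uc.self Uc.conj Uc.up uc_top normAct_fun conj_fun inT_iff nm_map)
open Cfsg.Agent.Lib.FusionExt.Meet3 (exists_iso eq_of_autFun autFun_congr_apply)
open Cfsg.Agent.Lib.FusionExt.Glue3 (comm_of_conj)
open Cfsg.Agent.Lib.FusionExt.G1 (Fam Dp aSub mem_aSub)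
open Cfsg.Agent.Lib.FusionExt.G2 (FlS)

universe u

variable {Ω : Type u} [Group Ω] {S T L R : Subgroup Ω} {F : FusionSystem S} {E : FusionSystem T} {p : ℕ}
variable {X X' Y Y₂ Z P P' Q Q₀ Q₁ Q₂ Q₄ U W U' W' : Subgroup Ω} {f f' g h φ ψ a δ χ ρ e : Ω → Ω}

/-- The extender as a set of elements with a companion. -/
theorem ext_prop [Finite P'] {G : FusionSystem R} (φ : P' →* Ω) (hφ : φ ∈ G.Hom P') {n : Ω} (hn : n ∈ extender R P' φ) :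
    n ∈ R ∧ n ∈ Subgroup.normalizer (P' : Set Ω) ∧ ∃ h ∈ R, ∀ x ∈ P', extOf φ (n * x * n⁻¹) = h * extOf φ x * h⁻¹ := by
  unfold extender at hn
  induction hn using Subgroup.closure_induction with
  | mem x hx =>
    obtain ⟨h1, h2, h', hh', e⟩ := hx
    refine ⟨h1, h2, h', hh', fun y hy => ?_⟩
    have hy' : x * y * x⁻¹ ∈ P' := norm_conj h2 hy
    rw [extOf_of_mem _ hy', extOf_of_mem _ hy]
    exact e ⟨y, hy⟩ hy'
  | one =>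
    exact ⟨R.one_mem, Subgroup.one_mem _, 1, R.one_mem, fun x _ => by simp⟩
  | mul x y _ _ hx hy =>
    obtain ⟨h1, h2, h₁, hh₁, e₁⟩ := hx
    obtain ⟨k1, k2, h₂, hh₂, e₂⟩ := hy
    refine ⟨R.mul_mem h1 k1, Subgroup.mul_mem _ h2 k2, h₁ * h₂, R.mul_mem hh₁ hh₂, fun z hz => ?_⟩
    have e3 : x * y * z * (x * y)⁻¹ = x * (y * z * y⁻¹) * x⁻¹ := by group
    rw [e3, e₁ _ (norm_conj k2 hz), e₂ z hz]
    group
  | inv x _ hx =>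
    obtain ⟨h1, h2, h₁, hh₁, e₁⟩ := hx
    refine ⟨R.inv_mem h1, Subgroup.inv_mem _ h2, h₁⁻¹, R.inv_mem hh₁, fun z hz => ?_⟩
    have hz' : x⁻¹ * z * x⁻¹⁻¹ ∈ P' := norm_conj (Subgroup.inv_mem _ h2) hz
    have h3 := e₁ _ hz'
    have e3 : x * (x⁻¹ * z * x⁻¹⁻¹) * x⁻¹ = z := by group
    rw [e3] at h3
    rw [h3]
    group

section fin

variable [Finite S] [Fact p.Prime] (C : Cx F E p) (hR : Lv₂ T R S)
include C hR

/-- The label of the composite map. -/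
theorem rec_label {X₂ Q₂ Q₃ : Subgroup Ω} {θ₁ k₁ : Ω → Ω} {L : Subgroup Ω} (hL : Lv T L S) (hLR : L ≤ R) (hf : Fr F E R X f) (hθ : Fr F E L X₂ θ₁)
    (hQT : Q₂ ≤ X ⊓ T) (hQX : Q₂ ≤ X₂) (hi : Img Q₂ θ₁ Q₃) (hk : ∀ q ∈ Q₂, k₁ (θ₁ q) = q) :
    ∃ ρ ∈ R, Mp E Q₃ (fun z => ρ⁻¹ * f (k₁ z) * ρ) := by
  obtain ⟨-, -, r₁, hr₁, -, h₁⟩ := hf
  obtain ⟨-, -, r₂, hr₂, -, h₂⟩ := hθ
  have hr₂S : r₂ ∈ S := hL.ls hr₂
  have he₁ : Mp E Q₂ (fun y => r₁⁻¹ * f y * r₁) := h₁.restrict hQT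
  have he₂ : Mp E Q₂ (fun y => r₂⁻¹ * θ₁ y * r₂) := h₂.restrict (le_inf hQX (hQT.trans inf_le_right))
  have hi₂ : Img Q₂ (fun y => r₂⁻¹ * θ₁ y * r₂) (conjMap r₂⁻¹ Q₃) :=
    (hi.comp (img_conj (r := r₂⁻¹))).congr (fun x _ => by simp)
  obtain ⟨k₂, hk₂, k21, k22, k23⟩ := he₂.inverse hi₂
  have hc : Mp E (conjMap r₂⁻¹ Q₃) (fun z => r₁⁻¹ * f (k₂ z) * r₁) :=
    hk₂.comp k23.1 he₁
  have hc₂ := C.conj_E hc hr₂S
  have e7 : conjMap r₂ (conjMap r₂⁻¹ Q₃) = Q₃ := by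
    have := conj_inv_conj r₂⁻¹ Q₃
    rwa [inv_inv] at this
  rw [e7] at hc₂
  refine ⟨r₁ * r₂⁻¹, R.mul_mem hr₁ (R.inv_mem (hLR hr₂)), hc₂.congr (fun z hz => ?_)⟩
  obtain ⟨q, hq, rfl⟩ := hi.2 z hz
  have h3 := k21 q hq
  simp only [hk q hq, h3]
  group

/-- The main construction for receptivity. -/
theorem rec_core (D : FusionSystem R) (hD : ∀ {X f}, Mp D X f ↔ Dn F E p R X f) (hcl : Cl F E W)
    {P₂ X₂ : Subgroup Ω} (hf : Mp D P₂ f) (hI : Img P₂ f W) (hPX : P₂ ≤ X₂) (hXR : X₂ ≤ R)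
    (hG₀ : Good S E (W ⊓ T))
    (hXN : ∀ x ∈ X₂, x ∈ Subgroup.normalizer (P₂ : Set Ω) ∧ ∃ h ∈ R, ∀ y ∈ P₂, f (x * y * x⁻¹) = h * f y * h⁻¹) :
    ∃ θ, Dn F E p R X₂ θ ∧ ∀ q ∈ P₂ ⊓ T, θ q = f q := by
  haveI := C.finT
  have hfd := hD.1 hf
  have hfF : Mp F P₂ f := Dn.mp C hR hfd
  have hfr : Fr F E R P₂ f := dn_fr C hR hfd
  have hXS : X₂ ≤ S := hXR.trans hR.rs
  have hL := lv_sup C hXS
  have hLR : X₂ ⊔ T ≤ R := hR.sup_le hXR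
  obtain ⟨k₀, hk₀, -, -, k03⟩ := hfF.inverse hI
  have hcl₂ : Cl F E P₂ := Cl.tr C hcl hk₀ k03
  have hI₂ : Img (P₂ ⊓ T) f (W ⊓ T) := C.img_inf hfF hI
  have hQU : P₂ ⊓ T ≤ X₂ := inf_le_left.trans hPX
  have hUN : X₂ ≤ normalizerIn (X₂ ⊔ T) (P₂ ⊓ T) := fun x hx =>
    ⟨Subgroup.mem_sup_left hx, (norm_inf C ⟨hXS hx, (hXN x hx).1⟩).2⟩
  have hcov : Cov T (X₂ ⊔ T) X₂ := fun r hr => by
    obtain ⟨y, hy, t, ht, rfl⟩ := dec_sup C hXS hr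
    exact ⟨y, hy, by simpa using ht⟩
  obtain ⟨θ₁, Q₃, hd₁, hi₃, hdisj⟩ := reach C hL _ _ (P₂ ⊓ T) X₂ rfl rfl inf_le_right hQU hUN hcov
  have hθ₁ := lp_fr C hL hd₁
  have hθ₁F := hθ₁.mp
  have hU₃ : Uc F T Q₃ := hcl₂.uc.conj C.hT (hθ₁F.restrict hQU) hi₃
  have hG₃ : Good S E Q₃ := hdisj.resolve_left (fun h => h (hU₃.self C.hTS))
  obtain ⟨k₁, hk₁, k11, k12, k13⟩ := (hθ₁F.restrict hQU).inverse hi₃
  obtain ⟨ρ, hρ, he₄⟩ := rec_label C hR hL hLR hfr hθ₁ le_rfl hQU hi₃ k11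
  obtain ⟨U₃, hU₃i⟩ := hθ₁F.exists_img
  have hi₆ : Img Q₃ (fun z => ρ⁻¹ * f (k₁ z) * ρ) (conjMap ρ⁻¹ (W ⊓ T)) :=
    ((k13.comp hI₂).comp (img_conj (r := ρ⁻¹))).congr (fun z _ => by simp)
  have hρS : ρ ∈ S := hR.rs hρ
  have hG₆ := good_conj C (S.inv_mem hρS) hG₀
  obtain ⟨h1, h2, h3, h4, h5⟩ := lp_image C hL hd₁ inf_le_right hQU hUN hcov hi₃ hU₃i
  have hWTfin : Finite ↥(W ⊓ T) := finite_of_le (inf_le_right.trans C.hTS)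
  have hcomp : ∀ u ∈ U₃, ∃ s ∈ normalizerIn S (conjMap ρ⁻¹ (W ⊓ T)), ∀ q ∈ Q₃,
      (fun z => ρ⁻¹ * f (k₁ z) * ρ) (u * q * u⁻¹) = s * (fun z => ρ⁻¹ * f (k₁ z) * ρ) q * s⁻¹ := by
    intro u hu
    obtain ⟨x, hx, rfl⟩ := hU₃i.2 u hu
    obtain ⟨hxn, h, hh, eh⟩ := hXN x hx
    have hhS : h ∈ S := hR.rs hh
    have hhN : h ∈ Subgroup.normalizer ((W ⊓ T : Subgroup Ω) : Set Ω) := by
      refine mem_normalizer_of_conj_le' (U := W ⊓ T) (fun y hy => ?_)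
      obtain ⟨q, hq, rfl⟩ := hI₂.2 y hy
      rw [← eh q hq.1]
      exact hI₂.1 _ (norm_conj (hUN hx).2 hq)
    refine ⟨ρ⁻¹ * h * ρ, ⟨S.mul_mem (S.mul_mem (S.inv_mem hρS) hhS) hρS, ?_⟩, fun q hq => ?_⟩
    · rw [normalizer_conjMap]
      refine mem_conjMap.2 ?_
      have e : (ρ⁻¹)⁻¹ * (ρ⁻¹ * h * ρ) * ρ⁻¹ = h := by group
      rw [e]
      exact hhN
    · obtain ⟨y, hy, rfl⟩ := hi₃.2 q hq
      have hyX := hQU hy
      have e1 : θ₁ x * θ₁ y * (θ₁ x)⁻¹ = θ₁ (x * y * x⁻¹) := (hθ₁F.map_conj hx hyX).symm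
      have hy' : x * y * x⁻¹ ∈ P₂ ⊓ T := norm_conj (hUN hx).2 hy
      simp only [e1, k11 _ hy', k11 _ hy, eh y hy.1]
      group
  obtain ⟨θ₂, hd₂, e₂⟩ := egg C hL _ Q₃ _ U₃ _ rfl hG₃ hG₆ hU₃ he₄ hi₆ h2 h3 h4 hcomp
  refine ⟨fun x => ρ * θ₂ (θ₁ x) * ρ⁻¹, ⟨hXR, ρ, hρ, _, hd₁.comp (fam C hL) hU₃i.1 hd₂, fun _ _ => rfl⟩, fun q hq => ?_⟩
  simp only
  rw [e₂ _ (hi₃.1 q hq), k11 q hq]
  group

/-- The second part: adjusting by an inner automorphism. -/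
theorem rec_core2 (D : FusionSystem R) (hD : ∀ {X f}, Mp D X f ↔ Dn F E p R X f) (hWR : W ≤ R) (hcl : Cl F E W)
    (hpos : Pos S E p R W Q₀) (hC : centralizerIn R Q₀ ≤ W)
    {P₂ X₂ : Subgroup Ω} (hf : Mp D P₂ f) (hI : Img P₂ f W) (hPX : P₂ ≤ X₂) {θ : Ω → Ω} (hθ : Dn F E p R X₂ θ)
    (e : ∀ q ∈ P₂ ⊓ T, θ q = f q) : ∃ ψ, Mp D X₂ ψ ∧ ∀ y ∈ P₂, ψ y = f y := by
  have hPos := hpos
  obtain ⟨rfl, hG₀, -⟩ := hpos
  haveI : Finite R := finite_of_le hR.rs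
  have hWS : W ≤ S := hcl.le
  have hP₂R : P₂ ≤ R := hf.le
  have hθD : Mp D X₂ θ := hD.2 hθ
  have hθP := hθD.restrict hPX
  have hfF : Mp F P₂ f := Dn.mp C hR (hD.1 hf)
  have hI₂ : Img (P₂ ⊓ T) f (W ⊓ T) := C.img_inf hfF hI
  have hm : ∀ y ∈ P₂, θ y ∈ W := by
    intro y hy
    have hc : (f y)⁻¹ * θ y ∈ centralizerIn R (W ⊓ T) := by
      refine mem_cent.2 ⟨R.mul_mem (R.inv_mem (hf.mem_S hy)) (hθP.mem_S hy), fun z hz => ?_⟩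
      obtain ⟨q, hq, rfl⟩ := hI₂.2 z hz
      have hqy : y * q * y⁻¹ ∈ P₂ ⊓ T :=
        norm_conj (mem_norm_inf C (hP₂R.trans hR.rs) hy).2 hq
      have e1 : θ y * f q * (θ y)⁻¹ = f y * f q * (f y)⁻¹ :=
        calc θ y * f q * (θ y)⁻¹ = θ y * θ q * (θ y)⁻¹ := by rw [e q hq]
          _ = θ (y * q * y⁻¹) := (hθP.map_conj hy hq.1).symm
          _ = f (y * q * y⁻¹) := e _ hqy
          _ = _ := hf.map_conj hy hq.1
      exact comm_of_conj e1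
    have h2 := hC hc
    have e2 : θ y = f y * ((f y)⁻¹ * θ y) := by group
    rw [e2]
    exact W.mul_mem (hI.1 y hy) h2
  have himg : Img P₂ θ W := img_of_card hθP hm (le_of_eq (hf.card_img hI)) hWR
  obtain ⟨k, hk, k1, k2, k3⟩ := hθP.inverse himg
  have hκ : Mp D W (fun z => f (k z)) := hk.comp k3.1 hf
  have hκi : Img W (fun z => f (k z)) W := k3.comp hI
  have htriv : ∀ q ∈ W ⊓ T, f (k q) = q := by
    intro q hq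
    obtain ⟨q₁, hq₁, rfl⟩ := hI₂.2 q hq
    rw [← e q₁ hq₁, k1 q₁ hq₁.1]
    exact (e q₁ hq₁).symm
  obtain ⟨w₀, hw₀, ew⟩ := triv_inner C hR D hD hWR hcl hPos hC hκ hκi htriv
  obtain ⟨Y, hY⟩ := hθD.exists_img
  refine ⟨fun x => w₀ * θ x * w₀⁻¹, hθD.comp hY.1 (Mp.conj (hθD.img_le hY) (hWR hw₀)), fun y hy => ?_⟩
  have h3 := ew (θ y) (hm y hy)
  simp only [k1 y hy] at h3
  exact h3.symm

theorem pos_rec (D : FusionSystem R) (hD : ∀ {X f}, Mp D X f ↔ Dn F E p R X f) (hWR : W ≤ R) (hcl : Cl F E W)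
    (hpos : Pos S E p R W Q₀) (hC : centralizerIn R Q₀ ≤ W) : D.IsReceptive W := by
  refine ⟨hWR, fun P' φ hφ hr => ?_⟩
  haveI hfR : Finite R := finite_of_le hR.rs
  haveI := C.finT
  have hPos := hpos
  obtain ⟨rfl, hG₀, -⟩ := hpos
  have hWS : W ≤ S := hcl.le
  have hf : Mp D P' (extOf φ) := mp_of_hom hφ
  have hP'R : P' ≤ R := hf.le
  have hP'S : P' ≤ S := hP'R.trans hR.rs
  haveI : Finite P' := finite_of_le hP'S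
  have hI : Img P' (extOf φ) W := by
    refine ⟨fun x hx => ?_, fun y hy => ?_⟩
    · rw [extOf_of_mem φ hx, ← hr]
      exact ⟨_, rfl⟩
    · rw [← hr] at hy
      obtain ⟨x, rfl⟩ := hy
      exact ⟨x, x.2, extOf_coe φ x⟩
  have hPN : P' ≤ extender R P' φ := by
    intro z hz
    have hN' : z ∈ Subgroup.normalizer (P' : Set Ω) := Subgroup.le_normalizer hz
    have hzR : φ ⟨z, hz⟩ ∈ R := by
      have := hf.mem_S hz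
      rwa [extOf_of_mem φ hz] at this
    refine mem_extender_of φ (hP'R hz) hN' hzR (fun x => ?_)
    have h1 := hf.map_conj hz x.2
    rw [extOf_of_mem φ (norm_conj hN' x.2), extOf_of_mem φ hz, extOf_of_mem φ x.2] at h1
    exact h1
  have hNR : extender R P' φ ≤ R := fun x hx => (ext_prop φ hφ hx).1
  obtain ⟨θ, hθ, eθ⟩ := rec_core C hR D hD hcl hf hI hPN hNR hG₀ (fun x hx => (ext_prop φ hφ hx).2)
  obtain ⟨ψ, hψ, eψ⟩ := rec_core2 C hR D hD hWR hcl hPos hC hf hI hPN hθ eθ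
  obtain ⟨ψ₀, hψ₀, e⟩ := hψ
  refine ⟨ψ₀, hψ₀, fun x hP hN => ?_⟩
  have e1 := e ⟨x, hN⟩
  rw [e1, eψ x hP, extOf_of_mem φ hP]

/-- **The product system is saturated.** -/
theorem DD_sat (D : FusionSystem R) (hD : ∀ {X f}, Mp D X f ↔ Dn F E p R X f) : D.IsSaturated p := by
  haveI hfR : Finite R := finite_of_le hR.rs
  have hsat : ∀ P ∈ HH F E D, ∃ Q, D.IsConj P Q ∧ D.IsFullyAutomized p Q ∧ D.IsReceptive Q := by
    intro P hP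
    obtain ⟨W, Q₀, φ, hdn, hi, hpos⟩ := exists_pos C hR hP.1 hP.2.1
    have hconj : D.IsConj P W := (hD.2 hdn).isConj hi
    have hWH : W ∈ HH F E D := HH_conj C hR D hD hP hconj
    have hC : centralizerIn R Q₀ ≤ W := by
      have := hWH.2.2 W (isConj_refl D hWH.1)
      rwa [hpos.inf] at this
    exact ⟨W, hconj, pos_fa C hR D hD hWH.1 hWH.2.1 hpos hC, pos_rec C hR D hD hWH.1 hWH.2.1 hpos hC⟩
  exact Cfsg.Agent.Lib.FusionExt.SatCrit4.main (C.hS.to_le hR.rs) D (HH F E D) (fun P h => h.1)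
    (fun P hP Q hc => HH_conj C hR D hD hP hc) hsat (fun E' hE' => HH_gen C hR D hD E' hE')
    (fun P hcen hnot => HH_star C hR D hD hcen hnot)

end fin

end Cfsg.Agent.Lib.FusionExt.ER6e
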