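import Cfsg.Agent.Lib.FusionExt.ER6e
import Cfsg.Agent.Lib.FusionExt.PIndex
import Cfsg.Agent.Lib.FusionExt.Hyperfocal

/-!
# The product `E·R`: hyperfocal subgroup and residual (helper92)
-/

set_option autoImplicit false
set_option linter.unusedSectionVars false
set_option maxHeartbeats 1000000

namespace Cfsg.Agent.Lib.FusionExt.ER7a

open Cfsg Cfsg.FusionSystem Cfsg.Agent.Lib.Fusion.Basic Cfsg.Agent.Lib.Fusion.GroupSystem
open Cfsg.Agent.Lib.FusionExt.MapApi Cfsg.Agent.Lib.FusionExt.PowerSys Cfsg.Agent.Lib.FusionExt.LowPi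
open Cfsg.Agent.Lib.FusionExt.PrimeRes1 Cfsg.Agent.Lib.Fusion.Saturation Cfsg.Agent.Lib.Fusion.Saturation2
open Cfsg.Agent.Lib.FusionExt.Invariant Cfsg.Agent.Lib.FusionExt.CentE
open Cfsg.Agent.Lib.FusionExt.ER0 Cfsg.Agent.Lib.FusionExt.ER1 Cfsg.Agent.Lib.FusionExt.ER2 Cfsg.Agent.Lib.FusionExt.ER3
open Cfsg.Agent.Lib.FusionExt.ER4 Cfsg.Agent.Lib.FusionExt.ER5a Cfsg.Agent.Lib.FusionExt.ER5b Cfsg.Agent.Lib.FusionExt.ER5c Cfsg.Agent.Lib.FusionExt.ER5d Cfsg.Agent.Lib.FusionExt.ER5e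
open Cfsg.Agent.Lib.FusionExt.ER6a Cfsg.Agent.Lib.FusionExt.ER6b Cfsg.Agent.Lib.FusionExt.ER6c Cfsg.Agent.Lib.FusionExt.ER6d Cfsg.Agent.Lib.FusionExt.ER6e
open Cfsg.Agent.Lib.FusionExt.Normal
open Cfsg.Agent.Lib.FusionExt.Glue1 (Uc Uc.self Uc.conj Uc.up uc_top normAct_fun conj_fun inT_iff nm_map)
open Cfsg.Agent.Lib.FusionExt.Meet3 (exists_iso eq_of_autFun autFun_congr_apply)
open Cfsg.Agent.Lib.FusionExt.Glue3 (comm_of_conj)
open Cfsg.Agent.Lib.FusionExt.G1 (Fam Dp aSub mem_aSub)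

universe u

variable {Ω : Type u} [Group Ω] {S T L R : Subgroup Ω} {F : FusionSystem S} {E : FusionSystem T} {p : ℕ}
variable {X X' Y Z P P' Q Q₀ U W : Subgroup Ω} {f g : Ω → Ω}

theorem exists_pow_inv {G : Type*} [Group G] [Fact p.Prime] {g : G} {m B : ℕ} (hg : g ^ p ^ B = 1) (hm : m.Coprime p) :
    ∃ k : ℕ, (g ^ m) ^ k = g := by
  have hp : p.Prime := Fact.out
  have hco : Nat.Coprime m (p ^ B) := Nat.Coprime.pow_right B hm
  rcases Nat.eq_zero_or_pos B with rfl | hB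
  · have : g = 1 := by simpa using hg
    exact ⟨0, by simp [this]⟩
  · have h1 : 1 < p ^ B := Nat.one_lt_pow hB.ne' hp.one_lt
    obtain ⟨k, hk⟩ := Nat.exists_mul_mod_eq_one_of_coprime hco h1
    refine ⟨k, ?_⟩
    rw [← pow_mul]
    conv_rhs => rw [← pow_one g]
    refine (pow_eq_pow_iff_modEq).2 ?_
    have h2 : orderOf g ∣ p ^ B := orderOf_dvd_of_pow_eq_one hg
    refine Nat.ModEq.of_dvd h2 ?_
    show m * k % p ^ B = 1 % p ^ B
    rw [hk.2, Nat.mod_eq_of_lt h1]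

section general

variable [Finite S] [Fact p.Prime]

/-- A `p'`-automorphism acting as an element of `S` modulo `K` acts trivially modulo `K`. -/
theorem stab_mod (hS : IsPGroup p S) {K : Subgroup Ω} (hK : ∀ s ∈ S, ∀ t ∈ K, s * t * s⁻¹ ∈ K) {a : MulAut W} {r : Ω} (hr : r ∈ S)
    (hlab : ∀ x ∈ W, (r * x * r⁻¹)⁻¹ * autFun a x ∈ K) {m : ℕ} (hm : m.Coprime p) (ha : a ^ m = 1) :
    ∀ x ∈ W, x⁻¹ * autFun a x ∈ K := by
  have hpow : ∀ j : ℕ, ∀ x ∈ W, (r ^ j * x * (r ^ j)⁻¹)⁻¹ * autFun (a ^ j) x ∈ K := by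
    intro j
    induction j with
    | zero =>
      intro x _
      rw [pow_zero, pow_zero, autFun_one_apply]
      have e : (1 * x * (1 : Ω)⁻¹)⁻¹ * x = 1 := by group
      rw [e]
      exact K.one_mem
    | succ j ih =>
      intro x hx
      rw [pow_succ a j, autFun_mul_apply]
      have hy : autFun a x ∈ W := autFun_mem a hx
      have h1 := ih _ hy
      have h2 := hlab x hx
      have hrj : r ^ j ∈ S := S.pow_mem hr j
      have h3 := hK _ hrj _ h2
      have e : (r ^ (j + 1) * x * (r ^ (j + 1))⁻¹)⁻¹ * autFun (a ^ j) (autFun a x) =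
          (r ^ j * ((r * x * r⁻¹)⁻¹ * autFun a x) * (r ^ j)⁻¹) *
            ((r ^ j * autFun a x * (r ^ j)⁻¹)⁻¹ * autFun (a ^ j) (autFun a x)) := by
        rw [pow_succ]
        group
      rw [e]
      exact K.mul_mem h3 h1
  have hs : ∀ x ∈ W, (r ^ m * x * (r ^ m)⁻¹)⁻¹ * x ∈ K := by
    intro x hx
    have := hpow m x hx
    rwa [ha, autFun_one_apply] at this
  have hi : ∀ i : ℕ, ∀ x ∈ W, ((r ^ m) ^ i * x * ((r ^ m) ^ i)⁻¹)⁻¹ * x ∈ K := by
    intro i
    induction i with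
    | zero =>
      intro x _
      have e : ((r ^ m) ^ 0 * x * ((r ^ m) ^ 0)⁻¹)⁻¹ * x = 1 := by simp
      rw [e]
      exact K.one_mem
    | succ i ih =>
      intro x hx
      have hsi : (r ^ m) ^ i ∈ S := S.pow_mem (S.pow_mem hr m) i
      have h3 := hK _ hsi _ (hs x hx)
      have e : ((r ^ m) ^ (i + 1) * x * ((r ^ m) ^ (i + 1))⁻¹)⁻¹ * x =
          ((r ^ m) ^ i * ((r ^ m * x * (r ^ m)⁻¹)⁻¹ * x) * ((r ^ m) ^ i)⁻¹) * (((r ^ m) ^ i * x * ((r ^ m) ^ i)⁻¹)⁻¹ * x) := by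
        rw [pow_succ (r ^ m) i]
        group
      rw [e]
      exact K.mul_mem h3 (ih x hx)
  obtain ⟨B, hB⟩ := hS ⟨r, hr⟩
  have hB' : r ^ p ^ B = 1 := congrArg Subtype.val hB
  obtain ⟨k, hk⟩ := exists_pow_inv (p := p) hB' hm
  intro x hx
  have h1 := hi k x hx
  rw [hk] at h1
  have h2 := hlab x hx
  have e : x⁻¹ * autFun a x = ((r * x * r⁻¹)⁻¹ * x)⁻¹ * ((r * x * r⁻¹)⁻¹ * autFun a x) := by group
  rw [e]
  exact K.mul_mem (K.inv_mem h1) h2

/-- Coprime stability along `K ≤ A`. -/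
theorem stab_two (hS : IsPGroup p S) {K A : Subgroup Ω} (hK : ∀ s ∈ S, ∀ t ∈ K, s * t * s⁻¹ ∈ K) (hKA : K ≤ A) (hWS : W ≤ S) {a : MulAut W}
    {m : ℕ} (hm : m.Coprime p) (ha : a ^ m = 1) (h1 : ∀ x ∈ W, x⁻¹ * autFun a x ∈ A) (h2 : ∀ y ∈ W ⊓ A, y⁻¹ * autFun a y ∈ K) :
    ∀ x ∈ W, x⁻¹ * autFun a x ∈ K := by
  have hst : ∀ y ∈ W ⊓ A, autFun a y ∈ W ⊓ A := by
    intro y hy
    refine ⟨autFun_mem a hy.1, ?_⟩
    have e : autFun a y = y * (y⁻¹ * autFun a y) := by group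
    rw [e]
    exact A.mul_mem hy.2 (hKA (h2 y hy))
  have hit : ∀ j : ℕ, ∀ y ∈ W ⊓ A, autFun (a ^ j) y ∈ W ⊓ A ∧ y⁻¹ * autFun (a ^ j) y ∈ K := by
    intro j
    induction j with
    | zero =>
      intro y hy
      rw [pow_zero, autFun_one_apply, inv_mul_cancel]
      exact ⟨hy, K.one_mem⟩
    | succ j ih =>
      intro y hy
      rw [pow_succ', autFun_mul_apply]
      obtain ⟨h3, h4⟩ := ih y hy
      refine ⟨hst _ h3, ?_⟩
      have e : y⁻¹ * autFun a (autFun (a ^ j) y) = (y⁻¹ * autFun (a ^ j) y) * ((autFun (a ^ j) y)⁻¹ * autFun a (autFun (a ^ j) y)) := by group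
      rw [e]
      exact K.mul_mem h4 (h2 _ h3)
  intro x hx
  set d := x⁻¹ * autFun a x with hd
  have hdW : d ∈ W ⊓ A := ⟨W.mul_mem (W.inv_mem hx) (autFun_mem a hx), h1 x hx⟩
  have hP : ∀ j : ℕ, (x * d ^ j)⁻¹ * autFun (a ^ j) x ∈ K := by
    intro j
    induction j with
    | zero =>
      rw [pow_zero, pow_zero, autFun_one_apply]
      have e : (x * 1)⁻¹ * x = 1 := by group
      rw [e]
      exact K.one_mem
    | succ j ih =>
      rw [pow_succ a j, autFun_mul_apply]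
      have e1 : autFun a x = x * d := by rw [hd]; group
      rw [e1, autFun_mul _ hx hdW.1]
      have h3 := hK d (hWS hdW.1 |> fun h => h) |> fun _ => (0 : ℕ)
      have h4 := (hit j d hdW).2
      have h5 := hK d⁻¹ (S.inv_mem (hWS hdW.1)) _ ih
      have e2 : (x * d ^ (j + 1))⁻¹ * (autFun (a ^ j) x * autFun (a ^ j) d) =
          (d⁻¹ * ((x * d ^ j)⁻¹ * autFun (a ^ j) x) * d⁻¹⁻¹) * (d⁻¹ * autFun (a ^ j) d) := by
        rw [pow_succ]
        group
      rw [e2]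
      exact K.mul_mem h5 h4
  have h3 := hP m
  rw [ha, autFun_one_apply] at h3
  have e3 : (x * d ^ m)⁻¹ * x = (d ^ m)⁻¹ := by group
  rw [e3] at h3
  have h4 : d ^ m ∈ K := by simpa using K.inv_mem h3
  obtain ⟨B, hB⟩ := hS ⟨d, hWS hdW.1⟩
  have hB' : d ^ p ^ B = 1 := congrArg Subtype.val hB
  obtain ⟨k, hk⟩ := exists_pow_inv (p := p) hB' hm
  rw [← hk]
  exact K.pow_mem h4 k

end general

section hyp

variable {G : FusionSystem R} [Fact p.Prime]

/-- A subgroup containing all commutators with `p'`-automorphisms contains the hyperfocal subgroup. -/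
theorem hyp_le_of_pp {K : Subgroup Ω} (h : ∀ P, P ≤ R → ∀ a ∈ G.autGroup P, ∀ m : ℕ, m.Coprime p → a ^ m = 1 → ∀ x ∈ P, x⁻¹ * autFun a x ∈ K) :
    G.hyperfocalSubgroup p ≤ K := by
  refine (Subgroup.closure_le _).2 ?_
  rintro y ⟨P, α, x, hP, hα, rfl⟩
  have key : ∀ α ∈ pResidual p (G.autGroup P), ∀ x ∈ P, x⁻¹ * autFun (α : MulAut P) x ∈ K := by
    intro α hα
    induction hα using Subgroup.closure_induction with
    | mem b hb =>
      intro x hx
      refine h P hP _ b.2 (orderOf b) hb ?_ x hx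
      have := pow_orderOf_eq_one b
      exact congrArg Subtype.val this
    | one =>
      intro x _
      have : ((1 : G.autGroup P) : MulAut P) = 1 := rfl
      rw [this, autFun_one_apply, inv_mul_cancel]
      exact K.one_mem
    | mul b c _ _ hb hc =>
      intro x hx
      have e : ((b * c : G.autGroup P) : MulAut P) = (b : MulAut P) * (c : MulAut P) := rfl
      rw [e, autFun_mul_apply]
      have e2 : x⁻¹ * autFun (b : MulAut P) (autFun (c : MulAut P) x) =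
          (x⁻¹ * autFun (c : MulAut P) x) * ((autFun (c : MulAut P) x)⁻¹ * autFun (b : MulAut P) (autFun (c : MulAut P) x)) := by group
      rw [e2]
      exact K.mul_mem (hc x hx) (hb _ (autFun_mem _ hx))
    | inv b _ hb =>
      intro x hx
      have e : ((b⁻¹ : G.autGroup P) : MulAut P) = (b : MulAut P)⁻¹ := rfl
      rw [e]
      have h1 := hb _ (autFun_mem (b : MulAut P)⁻¹ hx)
      rw [autFun_apply_inv] at h1
      have e2 : x⁻¹ * autFun (b : MulAut P)⁻¹ x = ((autFun (b : MulAut P)⁻¹ x)⁻¹ * x)⁻¹ := by group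
      rw [e2]
      exact K.inv_mem h1
  have h3 := key α hα x x.2
  rwa [autFun_coe] at h3

/-- The commutators with `p'`-automorphisms lie in the hyperfocal subgroup. -/
theorem mem_hyp_of_pp (hP : P ≤ R) {a : MulAut P} (ha : a ∈ G.autGroup P) {m : ℕ} (hm : m.Coprime p) (ham : a ^ m = 1) {x : Ω} (hx : x ∈ P) :
    x⁻¹ * autFun a x ∈ G.hyperfocalSubgroup p := by
  have h1 := Cfsg.Agent.Lib.FusionExt.Hyperfocal.hyperfocal_gen (F := G) hP ⟨a, ha⟩ (p := p) (Subgroup.subset_closure ?_) ⟨x, hx⟩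
  · rwa [← autFun_coe] at h1
  · have h2 : orderOf (⟨a, ha⟩ : G.autGroup P) ∣ m := by
      refine orderOf_dvd_of_pow_eq_one (Subtype.ext ?_)
      exact ham
    exact Nat.Coprime.coprime_dvd_left h2 hm

end hyp

section cx

variable [Finite S] [Fact p.Prime] (C : Cx F E p) (hR : Lv₂ T R S)
include C

/-- The hyperfocal subgroup of `E` is normalized by `S`. -/
theorem hyp_conj_S {s t : Ω} (hs : s ∈ S) (ht : t ∈ E.hyperfocalSubgroup p) : s * t * s⁻¹ ∈ E.hyperfocalSubgroup p := by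
  have hle : E.hyperfocalSubgroup p ≤ (E.hyperfocalSubgroup p).comap (MulAut.conj s).toMonoidHom := by
    refine hyp_le_of_pp (fun P hP a ha m hm ham x hx => ?_)
    have hPS := hP.trans C.hTS
    have hm₁ : Mp E P (autFun a) := mp_autFun hP ha
    have hm₂ := C.conj_E hm₁ hs
    have hi : Img (conjMap s P) (fun x => s * autFun a (s⁻¹ * x * s) * s⁻¹) (conjMap s P) := by
      refine ⟨fun y hy => ?_, fun y hy => ?_⟩
      · exact conj_mem_conjMap (autFun_mem a (mem_conjMap.1 hy))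
      · have h1 := mem_conjMap.1 hy
        refine ⟨s * autFun a⁻¹ (s⁻¹ * y * s) * s⁻¹, conj_mem_conjMap (autFun_mem a⁻¹ h1), ?_⟩
        have e : s⁻¹ * (s * autFun a⁻¹ (s⁻¹ * y * s) * s⁻¹) * s = autFun a⁻¹ (s⁻¹ * y * s) := by group
        simp only [e, autFun_apply_inv]
        group
    obtain ⟨a', ha', e'⟩ := toAut' hm₂ hi
    have hTinv : conjMap s P ≤ T := hm₂.le
    have ham' : a' ^ m = 1 := by
      refine eq_of_autFun (fun y hy => ?_)
      have h1 := pow_along (χ := fun z => s * z * s⁻¹) (x := a) (y := a') (fun w hw => by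
        have := e' _ (conj_mem_conjMap hw)
        rw [this]
        have e2 : s⁻¹ * (s * w * s⁻¹) * s = w := by group
        rw [e2]) m (s⁻¹ * y * s) (mem_conjMap.1 hy)
      have e3 : s * (s⁻¹ * y * s) * s⁻¹ = y := by group
      simp only [e3] at h1
      rw [h1, ham, autFun_one_apply, autFun_one_apply]
      group
    have h3 := mem_hyp_of_pp hTinv ha' hm ham' (conj_mem_conjMap hx : s * x * s⁻¹ ∈ conjMap s P)
    rw [e' _ (conj_mem_conjMap hx)] at h3
    have e4 : s⁻¹ * (s * x * s⁻¹) * s = x := by group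
    rw [e4] at h3
    have e5 : (s * x * s⁻¹)⁻¹ * (s * autFun a x * s⁻¹) = s * (x⁻¹ * autFun a x) * s⁻¹ := by group
    rw [e5] at h3
    exact h3
  exact hle ht

include hR

/-- **`p'`-automorphisms of subgroups of `T` in `E·R` are in `E`.** -/
theorem aut_E_of_coprime {a : MulAut W} (hWT : W ≤ T) (hdn : Dn F E p R W (autFun a)) {m : ℕ} (hm : m.Coprime p) (ha : a ^ m = 1) :
    a ∈ E.autGroup W := by
  obtain ⟨-, -, r, hr, -, h4⟩ := dn_fr C hR hdn
  have hrS : r ∈ S := hR.rs hr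
  have hmE : Mp E W (fun y => r⁻¹ * autFun a y * r) := h4.restrict (le_inf le_rfl hWT)
  have hit : ∀ j : ℕ, Mp E W (fun y => (r ^ j)⁻¹ * autFun (a ^ j) y * r ^ j) := by
    intro j
    induction j with
    | zero =>
      refine (Mp.refl hWT).congr (fun y _ => ?_)
      simp only [pow_zero, autFun_one_apply]
      group
    | succ j ih =>
      have h1 := C.conj_E hmE (S.inv_mem (S.pow_mem hrS j))
      have hm1 : ∀ y ∈ W, (r ^ j)⁻¹ * autFun (a ^ j) y * r ^ j ∈ conjMap (r ^ j)⁻¹ W := by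
        intro y hy
        have := conj_mem_conjMap (g := (r ^ j)⁻¹) (autFun_mem (a ^ j) hy)
        simpa using this
      refine (ih.comp hm1 h1).congr (fun y hy => ?_)
      rw [pow_succ' a j, autFun_mul_apply]
      have e : ((r ^ j)⁻¹)⁻¹ * ((r ^ j)⁻¹ * autFun (a ^ j) y * r ^ j) * (r ^ j)⁻¹ = autFun (a ^ j) y := by group
      rw [e, pow_succ r j]
      group
  obtain ⟨B, hB⟩ := C.hS ⟨r, hrS⟩
  have hB' : r ^ p ^ B = 1 := congrArg Subtype.val hB
  have h1 : Mp E W (autFun (a ^ p ^ B)) := (hit (p ^ B)).congr (fun y _ => by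
    simp only [hB']
    group)
  have h2 : a ^ p ^ B ∈ E.autGroup W := mem_aut_of_mp h1
  haveI hfinW : Finite W := finite_of_le (hWT.trans C.hTS)
  haveI : Finite (MulAut W) := Cfsg.Agent.Lib.Fusion.Basic.finite_mulAut_of_finite (A := W)
  have hp : p.Prime := Fact.out
  have hco : Nat.Coprime (p ^ B) m := Nat.Coprime.pow_left B hm.symm
  obtain ⟨k, hk⟩ : ∃ k : ℕ, (a ^ p ^ B) ^ k = a := by
    have h3 := exists_pow_inv (p := p) (g := a) (m := p ^ B) (B := 0)
    rcases Nat.lt_or_ge 1 m with h1m | h1m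
    · obtain ⟨k, hk⟩ := Nat.exists_mul_mod_eq_one_of_coprime hco h1m
      refine ⟨k, ?_⟩
      rw [← pow_mul]
      conv_rhs => rw [← pow_one a]
      refine (pow_eq_pow_iff_modEq).2 (Nat.ModEq.of_dvd (orderOf_dvd_of_pow_eq_one ha) ?_)
      show p ^ B * k % m = 1 % m
      rw [hk.2, Nat.mod_eq_of_lt h1m]
    · have hm0 : m ≠ 0 := by
        rintro rfl
        have : Nat.gcd 0 p = 1 := hm
        rw [Nat.gcd_zero_left] at this
        exact hp.one_lt.ne' this
      have hm1 : m = 1 := by omega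
      rw [hm1, pow_one] at ha
      exact ⟨0, by simp [ha]⟩
  rw [← hk]
  exact Subgroup.pow_mem _ h2 k

/-- `p'`-automorphisms in `E·R` act trivially modulo the hyperfocal subgroup of `E`. -/
theorem pp_dn_hyp {a : MulAut W} (hdn : Dn F E p R W (autFun a)) {m : ℕ} (hm : m.Coprime p) (ha : a ^ m = 1) :
    ∀ x ∈ W, x⁻¹ * autFun a x ∈ E.hyperfocalSubgroup p := by
  have hWR : W ≤ R := hdn.le
  have hWS : W ≤ S := hWR.trans hR.rs
  obtain ⟨hmF, -, r, hr, h3, -⟩ := dn_fr C hR hdn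
  have hKA : E.hyperfocalSubgroup p ≤ T := Cfsg.Agent.Lib.FusionExt.Hyperfocal.hyperfocal_le (F := E) (p := p)
  have h1 : ∀ x ∈ W, x⁻¹ * autFun a x ∈ T :=
    stab_mod C.hS (fun s hs t ht => sc_conj_mem F C.hT hs ht) (hR.rs hr) h3 hm ha
  refine stab_two C.hS (fun s hs t ht => hyp_conj_S C hs ht) hKA hWS hm ha h1 (fun y hy => ?_)
  have hI : Img (W ⊓ T) (autFun a) (W ⊓ T) := C.img_inf hmF (img_autFun a)
  haveI : Finite R := finite_of_le hR.rs
  have hmD : Dn F E p R (W ⊓ T) (autFun a) := (mp_DD C (hR := hR)).1 (((mp_DD C (hR := hR)).2 hdn).restrict inf_le_left)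
  obtain ⟨b, -, eb⟩ := toAut' (hmF.restrict inf_le_left) hI
  have hbm : b ^ m = 1 := by
    refine eq_of_autFun (fun w hw => ?_)
    have h5 := pow_restrict (x := a) (y := b) inf_le_left (fun w hw => (eb w hw).symm) m w hw
    rw [← h5, ha, autFun_one_apply, autFun_one_apply]
  have hdb : Dn F E p R (W ⊓ T) (autFun b) := (dnAx C hR).congr hmD (fun x hx => (eb x hx).symm)
  have hb := aut_E_of_coprime C hR inf_le_right hdb hm hbm
  have h5 := mem_hyp_of_pp inf_le_right hb hm hbm hy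
  rwa [eb y hy] at h5

/-- **`hyp(E·R) ≤ hyp(E)`.** -/
theorem hyp_le (D : FusionSystem R) (hD : ∀ {X f}, Mp D X f ↔ Dn F E p R X f) : D.hyperfocalSubgroup p ≤ E.hyperfocalSubgroup p :=
  hyp_le_of_pp (fun P hP a ha m hm ham x hx => pp_dn_hyp C hR (hD.1 (mp_autFun hP ha)) hm ham x hx)

/-- Automizers of `E` at `E`-centric fully normalized subgroups are in `Vv`. -/
theorem aut_le_Vv (hfn : E.IsFullyNormalized P) (hcz : zz T P ≤ P) {a : MulAut P} (ha : a ∈ E.autGroup P) : a ∈ VI F E p P := by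
  have hPT : P ≤ T := hfn.1
  haveI : Finite P := finite_of_le (hPT.trans C.hTS)
  haveI : Finite (MulAut P) := Cfsg.Agent.Lib.Fusion.Basic.finite_mulAut_of_finite (A := P)
  obtain ⟨u, v, e, ⟨k, hk⟩, ⟨q, hq, hqe⟩, -⟩ := exists_parts' (p := p) a 0
  refine Subgroup.mem_sup_right ?_
  rw [e]
  have hau : a ^ u ∈ E.autGroup P := Subgroup.pow_mem _ ha u
  have hav : a ^ v ∈ E.autGroup P := Subgroup.pow_mem _ ha v
  refine Subgroup.mul_mem _ (Subgroup.subset_closure (Or.inr ?_)) (Subgroup.subset_closure (Or.inl ?_))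
  · have hle : Subgroup.zpowers (a ^ u) ≤ E.autGroup P := Subgroup.zpowers_le.2 hau
    have hp : IsPGroup p (Subgroup.zpowers (a ^ u)) := by
      rintro ⟨β, hβ⟩
      obtain ⟨i, rfl⟩ := Subgroup.mem_zpowers_iff.1 hβ
      refine ⟨k, Subtype.ext ?_⟩
      show ((a ^ u) ^ i) ^ p ^ k = 1
      rw [← zpow_natCast, ← zpow_mul, mul_comm, zpow_mul, zpow_natCast, hk, one_zpow]
    obtain ⟨b, hb, ebc⟩ := (C.syl_E hfn).exists_conj hle hp
    obtain ⟨t, ht, et⟩ := inT_iff.1 (ebc _ (Subgroup.mem_zpowers _))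
    refine ⟨P, autFun b, t, C.mp_E (mp_autFun hPT hb), img_autFun b, ht, fun x hx => ?_⟩
    rw [← et _ (autFun_mem b hx), conj_fun]
  · refine ⟨⟨C.mp_E (mp_autFun hPT hav), img_autFun _, fun x hx => ?_, (mp_autFun hPT hav).restrict inf_le_left⟩, q, hq, fun x hx => ?_⟩
    · exact T.mul_mem (T.inv_mem (hPT hx)) (hPT (autFun_mem _ hx))
    · have h1 := iterate_autFun (a := a ^ v) q (⟨x, hx⟩ : P)
      rw [hqe] at h1
      exact h1

/-- **`E ≤ E·R`.** -/
theorem E_le_D (D : FusionSystem R) (hD : ∀ {X f}, Mp D X f ↔ Dn F E p R X f) (P : Subgroup Ω) : E.Hom P ⊆ D.Hom P := by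
  intro φ hφ
  haveI := C.finT
  refine Cfsg.Agent.Lib.Fusion.Alperin.alperin_induction E C.hTp C.hEs (fun P φ => φ ∈ D.Hom P) ?_ ?_ ?_ ?_ P φ hφ
  · intro P hP α hα
    have hfn : E.IsFullyNormalized P := by
      rcases hP with rfl | hP
      · exact fn_top C
      · exact hP.2.1
    have hcz : zz T P ≤ P := by
      rcases hP with rfl | hP
      · exact inf_le_left
      · exact hP.1.2 P (isConj_refl E hP.1.1)
    have hPT : P ≤ T := hfn.1
    have hinf : P ⊓ T = P := inf_eq_left.2 hPT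
    have hcl : ClR F E T P := by
      refine ⟨⟨hPT.trans C.hTS, ?_, fun x hx _ => ?_⟩, hPT, fun r hr => ⟨1, P.one_mem, by simpa using hr⟩⟩
      · rw [hinf]
        exact C.uc_of_fn hfn hcz
      · exact ⟨x, ⟨hx, hPT hx⟩, fun _ _ => rfl⟩
    have hL : Lv T T S := ⟨le_rfl, C.hTS⟩
    have ha : Aa F E p T P (autFun α) := ⟨hcl, α, aut_le_Vv C hR hfn hcz hα, fun _ _ => rfl⟩
    have hd : LP F E p T P (autFun α) := Cfsg.Agent.Lib.FusionExt.G1.Dp.edge (fam C hL) ha le_rfl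
    have hm : Mp D P (autFun α) := hD.2 (dn_of_lp C hR hL hR.tr hd)
    exact Cfsg.Agent.Lib.FusionExt.PowerE.hom_of_mp (hm.congr (fun x hx => by
      rw [extOf_of_mem _ hx, autFun_of_mem α hx]
      rfl))
  · intro P Q h φ _ hφ
    exact restrict_mem D h hφ
  · intro P Q R' e e' _ _ h h'
    exact isoHom_trans_mem D h h'
  · intro P Q e _ h
    exact isoHom_symm_mem D h

/-- **`hyp(E·R) = hyp(E)`.** -/
theorem hyp_eq (D : FusionSystem R) (hD : ∀ {X f}, Mp D X f ↔ Dn F E p R X f) : D.hyperfocalSubgroup p = E.hyperfocalSubgroup p := by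
  refine le_antisymm (hyp_le C hR D hD) (hyp_le_of_pp (fun P hP a ha m hm ham x hx => ?_))
  have hPR : P ≤ R := hP.trans hR.tr
  have ha' : a ∈ D.autGroup P := by
    have h1 : Mp D P (autFun a) := by
      obtain ⟨φ, hφ, e⟩ := mp_autFun hP ha
      exact ⟨φ, E_le_D C hR D hD P hφ, e⟩
    exact mem_aut_of_mp h1
  exact mem_hyp_of_pp hPR ha' hm ham hx

/-- **The residuals of `E·R` and of `E` coincide.** -/
theorem res_eq (D : FusionSystem R) (hD : ∀ {X f}, Mp D X f ↔ Dn F E p R X f) (D₁ : FusionSystem (D.hyperfocalSubgroup p))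
    (E₁ : FusionSystem (E.hyperfocalSubgroup p)) (h₁ : D.IsPResidual p D₁) (h₂ : E.IsPResidual p E₁) (P : Subgroup Ω) :
    D₁.Hom P = E₁.Hom P := by
  haveI hfR : Finite R := finite_of_le hR.rs
  have hfD : D.hyperfocalSubgroup p ≤ S := by
    exact (Cfsg.Agent.Lib.FusionExt.Hyperfocal.hyperfocal_le (F := D) (p := p)).trans hR.rs
  haveI : Finite (D.hyperfocalSubgroup p) := finite_of_le hfD
  have hTp : IsPGroup p (D.hyperfocalSubgroup p) := C.hS.to_le hfD
  have heq := hyp_eq C hR D hD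
  have hle : E.hyperfocalSubgroup p ≤ T := Cfsg.Agent.Lib.FusionExt.Hyperfocal.hyperfocal_le (F := E) (p := p)
  have i₂ : E₁.HasPPowerIndexIn D p := by
    refine ⟨fun Q φ hφ => E_le_D C hR D hD Q (h₂.2.1 Q hφ), heq.le, fun Q hQ => ?_⟩
    refine (Subgroup.map_le_iff_le_comap).2 ((Subgroup.closure_le _).2 ?_)
    intro b hb
    have hQT : Q ≤ T := hQ.trans hle
    have hQR : Q ≤ R := hQT.trans hR.tr
    have hm : Nat.Coprime (orderOf b) p := hb
    have hbm : (b : MulAut Q) ^ orderOf b = 1 := congrArg Subtype.val (pow_orderOf_eq_one b)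
    have hbE := aut_E_of_coprime C hR hQT (hD.1 (mp_autFun hQR b.2)) hm hbm
    have h5 := h₂.2.2.2 Q hQ
    refine h5 ⟨⟨b, hbE⟩, Subgroup.subset_closure ?_, rfl⟩
    have h6 : orderOf (⟨b, hbE⟩ : E.autGroup Q) ∣ orderOf b := by
      refine orderOf_dvd_of_pow_eq_one (Subtype.ext ?_)
      exact hbm
    exact Nat.Coprime.coprime_dvd_left h6 hm
  exact Cfsg.Agent.Lib.FusionExt.PIndex.hom_eq_of_hasPPowerIndex hTp heq h₁.1 h₂.1 h₁.2 i₂ P

end cx

end Cfsg.Agent.Lib.FusionExt.ER7a
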