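import Cfsg.Agent.Lib.FusionExt.ER7a
import Cfsg.Agent.Lib.FusionExt.PPowerNormal

/-!
# The residual of a normal subsystem is normal (helper92)
-/

set_option autoImplicit false
set_option linter.unusedSectionVars false
set_option maxHeartbeats 1000000

namespace Cfsg.Agent.Lib.FusionExt.ER7b

open Cfsg Cfsg.FusionSystem Cfsg.Agent.Lib.Fusion.Basic Cfsg.Agent.Lib.Fusion.GroupSystem
open Cfsg.Agent.Lib.FusionExt.MapApi Cfsg.Agent.Lib.FusionExt.PowerSys Cfsg.Agent.Lib.FusionExt.LowPi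
open Cfsg.Agent.Lib.FusionExt.PrimeRes1 Cfsg.Agent.Lib.Fusion.Saturation Cfsg.Agent.Lib.Fusion.Saturation2
open Cfsg.Agent.Lib.FusionExt.Invariant Cfsg.Agent.Lib.FusionExt.CentE
open Cfsg.Agent.Lib.FusionExt.ER0 Cfsg.Agent.Lib.FusionExt.ER1 Cfsg.Agent.Lib.FusionExt.ER2 Cfsg.Agent.Lib.FusionExt.ER3
open Cfsg.Agent.Lib.FusionExt.ER6a Cfsg.Agent.Lib.FusionExt.ER6b Cfsg.Agent.Lib.FusionExt.ER6e Cfsg.Agent.Lib.FusionExt.ER7a
open Cfsg.Agent.Lib.FusionExt.Normal Cfsg.Agent.Lib.FusionExt.PIndex Cfsg.Agent.Lib.FusionExt.PPowerNormal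
open Cfsg.Agent.Lib.FusionExt.Glue1 (Uc Uc.self Uc.conj Uc.up uc_top normAct_fun conj_fun inT_iff nm_map)
open Cfsg.Agent.Lib.FusionExt.Meet3 (exists_iso eq_of_autFun autFun_congr_apply)

universe u

variable {Ω : Type u} [Group Ω] {S T L R : Subgroup Ω} {F : FusionSystem S} {E : FusionSystem T} {p : ℕ}
variable {X X' Y Z P P' Q Q₀ U W : Subgroup Ω} {f g : Ω → Ω}

theorem ext_transport {K : Subgroup Ω} {G : FusionSystem K} {T₀ C₁ C₂ : Subgroup Ω} {α : MulAut T₀} (e : C₁ = C₂)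
    (h : ∃ β ∈ G.autGroup (T₀ ⊔ C₁),
      (∀ x : T₀, ((β (Subgroup.inclusion le_sup_left x) : ↥(T₀ ⊔ C₁)) : Ω) = ((α x : T₀) : Ω)) ∧
      ∀ c : ↥(T₀ ⊔ C₁), (c : Ω) ∈ C₁ → (c : Ω)⁻¹ * ((β c : ↥(T₀ ⊔ C₁)) : Ω) ∈ T₀ ⊓ Subgroup.centralizer (T₀ : Set Ω)) :
    ∃ β ∈ G.autGroup (T₀ ⊔ C₂),
      (∀ x : T₀, ((β (Subgroup.inclusion le_sup_left x) : ↥(T₀ ⊔ C₂)) : Ω) = ((α x : T₀) : Ω)) ∧
      ∀ c : ↥(T₀ ⊔ C₂), (c : Ω) ∈ C₂ → (c : Ω)⁻¹ * ((β c : ↥(T₀ ⊔ C₂)) : Ω) ∈ T₀ ⊓ Subgroup.centralizer (T₀ : Set Ω) := by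
  subst e
  exact h

section res

variable [Finite S] [Fact p.Prime] (C : Cx F E p) {T₀ : Subgroup Ω} (hT₀ : T₀ = E.hyperfocalSubgroup p) {E₁ : FusionSystem T₀}
  (hs₁ : E₁.IsSaturated p) (hi₁ : E₁.HasPPowerIndexIn E p)

include hi₁ in
/-- `p'`-automorphisms of `E` are in the residual. -/
theorem pp_mem_res (hQ : Q ≤ T₀) {a : MulAut Q} (ha : a ∈ E.autGroup Q) {m : ℕ} (hm : m.Coprime p) (ham : a ^ m = 1) : a ∈ E₁.autGroup Q := by
  refine hi₁.2.2 Q hQ ⟨⟨a, ha⟩, Subgroup.subset_closure ?_, rfl⟩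
  have h6 : orderOf (⟨a, ha⟩ : E.autGroup Q) ∣ m := by
    refine orderOf_dvd_of_pow_eq_one (Subtype.ext ?_)
    exact ham
  exact Nat.Coprime.coprime_dvd_left h6 hm

include C hT₀ in
theorem T₀_le : T₀ ≤ T := by
  rw [hT₀]
  exact Cfsg.Agent.Lib.FusionExt.Hyperfocal.hyperfocal_le (F := E) (p := p)

include C

/-- The hyperfocal subgroup of `E` is preserved by the automorphisms of `T` in `F`. -/
theorem hyp_tr {ψ : Ω → Ω} (hψ : Mp F T ψ) {t : Ω} (ht : t ∈ E.hyperfocalSubgroup p) : ψ t ∈ E.hyperfocalSubgroup p := by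
  let K : Subgroup Ω :=
    { carrier := {t | t ∈ T ∧ ψ t ∈ E.hyperfocalSubgroup p}
      one_mem' := ⟨T.one_mem, by rw [hψ.map_one]; exact Subgroup.one_mem _⟩
      mul_mem' := fun {a b} ha hb => ⟨T.mul_mem ha.1 hb.1, by rw [hψ.map_mul ha.1 hb.1]; exact Subgroup.mul_mem _ ha.2 hb.2⟩
      inv_mem' := fun {a} ha => ⟨T.inv_mem ha.1, by rw [hψ.map_inv ha.1]; exact Subgroup.inv_mem _ ha.2⟩ }
  have hle : E.hyperfocalSubgroup p ≤ K := by
    refine hyp_le_of_pp (fun P hP a ha m hm ham x hx => ?_)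
    have hxT := hP hx
    have haxT := hP (autFun_mem a hx)
    refine ⟨T.mul_mem (T.inv_mem hxT) haxT, ?_⟩
    rw [hψ.map_mul (T.inv_mem hxT) haxT, hψ.map_inv hxT]
    obtain ⟨X', hX'⟩ := (hψ.restrict hP).exists_img
    obtain ⟨f', hf', ef'⟩ := C.tr_E' (mp_autFun hP ha) hψ hX'
    have hI' : Img X' f' X' := by
      refine ⟨fun y hy => ?_, fun y hy => ?_⟩
      · obtain ⟨u, hu, rfl⟩ := hX'.2 y hy
        rw [ef' u hu]
        exact hX'.1 _ (autFun_mem a hu)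
      · obtain ⟨u, hu, rfl⟩ := hX'.2 y hy
        refine ⟨ψ (autFun a⁻¹ u), hX'.1 _ (autFun_mem a⁻¹ hu), ?_⟩
        rw [ef' _ (autFun_mem a⁻¹ hu), autFun_apply_inv]
    obtain ⟨a', ha', ea'⟩ := toAut' hf' hI'
    have hX'T : X' ≤ T := hf'.le
    have ham' : a' ^ m = 1 := by
      refine eq_of_autFun (fun y hy => ?_)
      obtain ⟨u, hu, rfl⟩ := hX'.2 y hy
      rw [pow_along (χ := ψ) (x := a) (y := a') (fun w hw => by
        rw [ea' _ (hX'.1 w hw), ef' w hw]) m u hu, ham, autFun_one_apply, autFun_one_apply]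
    have h3 := mem_hyp_of_pp hX'T ha' hm ham' (hX'.1 x hx)
    rwa [ea' _ (hX'.1 x hx), ef' x hx] at h3
  exact (hle ht).2

include hT₀ in
/-- The hyperfocal subgroup of `E` is strongly closed in `F`. -/
theorem sc_T₀ : F.StronglyClosed T₀ := by
  haveI := C.finT
  have hTle := T₀_le C hT₀
  refine ⟨hTle.trans C.hTS, fun R₀ hR₀ φ hφ x => ?_⟩
  obtain ⟨α, hα, φ₀, hφ₀, e⟩ := C.hFr R₀ (hR₀.trans hTle) φ hφ
  have hsc : E.StronglyClosed (E.hyperfocalSubgroup p) := Cfsg.Agent.Lib.FusionExt.Hyperfocal.stronglyClosed_hyperfocal E C.hTp C.hEs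
  have hR₁ : R₀ ≤ E.hyperfocalSubgroup p := hR₀.trans hT₀.le
  have h1 : φ₀ x ∈ E.hyperfocalSubgroup p := hsc.2 R₀ hR₁ φ₀ hφ₀ x
  have h0 : φ₀ x ∈ T₀ := hT₀.symm.le h1
  have hT : φ₀ x ∈ T := hTle h0
  have h2 : autFun α (φ₀ x) ∈ E.hyperfocalSubgroup p := hyp_tr C (mp_autFun C.hTS hα) h1
  have h3 : φ x ∈ E.hyperfocalSubgroup p := by
    rw [e x hT, ← autFun_of_mem α hT]
    exact h2
  exact hT₀.symm.le h3

include hT₀ hi₁ hs₁ in
/-- Transport of maps of the residual along automorphisms of `T₀` in `F`. -/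
theorem res_tr {ψ : Ω → Ω} (hψ : Mp F T₀ ψ) (him : ∀ x ∈ T₀, ψ x ∈ T₀) : ∀ (P : Subgroup Ω) (φ : P →* Ω), φ ∈ E₁.Hom P →
    ∀ X', Img P ψ X' → ∃ f', Mp E₁ X' f' ∧ ∀ x : P, f' (ψ x) = ψ (φ x) := by
  have hTle := T₀_le C hT₀
  have hT₀S : T₀ ≤ S := hTle.trans C.hTS
  haveI : Finite T₀ := finite_of_le hT₀S
  have hT₀p : IsPGroup p T₀ := C.hS.to_le hT₀S
  refine Cfsg.Agent.Lib.Fusion.Alperin.alperin_induction E₁ hT₀p hs₁
    (fun P φ => ∀ X', Img P ψ X' → ∃ f', Mp E₁ X' f' ∧ ∀ x : P, f' (ψ x) = ψ (φ x)) ?_ ?_ ?_ ?_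
  · intro P hP α hα
    have hfn : E₁.IsFullyNormalized P := by
      rcases hP with rfl | hP
      · exact isFullyNormalized_top E₁ hT₀p
      · exact hP.2.1
    have hPT : P ≤ T₀ := hfn.1
    have hA := isFullyAutomized_of_isFullyNormalized E₁ hT₀p hs₁ hfn
    haveI : Finite P := finite_of_le hPT
    haveI : Finite (MulAut P) := Cfsg.Agent.Lib.Fusion.Basic.finite_mulAut_of_finite (A := P)
    let K : Subgroup (MulAut P) :=
      { carrier := {a | ∀ X', Img P ψ X' → ∃ f', Mp E₁ X' f' ∧ ∀ x ∈ P, f' (ψ x) = ψ (autFun a x)}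
        one_mem' := by
          intro X' hX'
          refine ⟨fun y => y, Mp.refl (fun y hy => ?_), fun x _ => ?_⟩
          · obtain ⟨u, hu, rfl⟩ := hX'.2 y hy
            exact him u (hPT hu)
          · rw [autFun_one_apply]
        mul_mem' := by
          intro a b ha hb X' hX'
          obtain ⟨f₁, hf₁, e₁⟩ := ha X' hX'
          obtain ⟨f₂, hf₂, e₂⟩ := hb X' hX'
          refine ⟨fun y => f₁ (f₂ y), hf₂.comp (fun y hy => ?_) hf₁, fun x hx => ?_⟩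
          · obtain ⟨u, hu, rfl⟩ := hX'.2 y hy
            rw [e₂ u hu]
            exact hX'.1 _ (autFun_mem b hu)
          · simp only
            rw [e₂ x hx, e₁ _ (autFun_mem b hx), autFun_mul_apply]
        inv_mem' := by
          intro a ha X' hX'
          obtain ⟨f₁, hf₁, e₁⟩ := ha X' hX'
          have hI : Img X' f₁ X' := by
            refine ⟨fun y hy => ?_, fun y hy => ?_⟩
            · obtain ⟨u, hu, rfl⟩ := hX'.2 y hy
              rw [e₁ u hu]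
              exact hX'.1 _ (autFun_mem a hu)
            · obtain ⟨u, hu, rfl⟩ := hX'.2 y hy
              refine ⟨ψ (autFun a⁻¹ u), hX'.1 _ (autFun_mem a⁻¹ hu), ?_⟩
              rw [e₁ _ (autFun_mem a⁻¹ hu), autFun_apply_inv]
          obtain ⟨k, hk, k1, -, -⟩ := hf₁.inverse hI
          refine ⟨k, hk, fun x hx => ?_⟩
          have h5 := k1 _ (hX'.1 _ (autFun_mem a⁻¹ hx))
          rw [e₁ _ (autFun_mem a⁻¹ hx), autFun_apply_inv] at h5
          exact h5 }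
    have hle : E₁.autGroup P ≤ K := by
      refine Cfsg.Agent.Lib.FusionExt.Hyperfocal.aut_le_of_isFullyAutomized E₁ hA K ?_ ?_
      · refine (Subgroup.map_le_iff_le_comap).2 ((Subgroup.closure_le _).2 ?_)
        intro b hb X' hX'
        have hm : Nat.Coprime (orderOf b) p := hb
        have hbm : (b : MulAut P) ^ orderOf b = 1 := congrArg Subtype.val (pow_orderOf_eq_one b)
        have hbE : (b : MulAut P) ∈ E.autGroup P := autGroup_le_of_subsystem hi₁.1 hPT b.2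
        have hP₂ : P ≤ T := hPT.trans hTle
        obtain ⟨f', hf', ef'⟩ := C.tr_E (mp_autFun hP₂ hbE) (fun x hx => hPT (autFun_mem _ hx)) hPT hTle hψ hX'
        have hI' : Img X' f' X' := by
          refine ⟨fun y hy => ?_, fun y hy => ?_⟩
          · obtain ⟨u, hu, rfl⟩ := hX'.2 y hy
            rw [ef' u hu]
            exact hX'.1 _ (autFun_mem _ hu)
          · obtain ⟨u, hu, rfl⟩ := hX'.2 y hy
            refine ⟨ψ (autFun (b : MulAut P)⁻¹ u), hX'.1 _ (autFun_mem _ hu), ?_⟩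
            rw [ef' _ (autFun_mem _ hu), autFun_apply_inv]
        obtain ⟨a', ha', ea'⟩ := toAut' hf' hI'
        have hX'T : X' ≤ T₀ := fun y hy => by
          obtain ⟨u, hu, rfl⟩ := hX'.2 y hy
          exact him u (hPT hu)
        have ham' : a' ^ orderOf b = 1 := by
          refine eq_of_autFun (fun y hy => ?_)
          obtain ⟨u, hu, rfl⟩ := hX'.2 y hy
          rw [pow_along (χ := ψ) (x := (b : MulAut P)) (y := a') (fun w hw => by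
            rw [ea' _ (hX'.1 w hw), ef' w hw]) _ u hu, hbm, autFun_one_apply, autFun_one_apply]
        have ha₁ := pp_mem_res hi₁ hX'T ha' hm ham'
        refine ⟨autFun a', mp_autFun hX'T ha₁, fun x hx => ?_⟩
        rw [ea' _ (hX'.1 x hx), ef' x hx]
        rfl
      · intro a ha X' hX'
        obtain ⟨t, ht, et⟩ := inT_iff.1 ha
        have hX'T : X' ≤ T₀ := fun y hy => by
          obtain ⟨u, hu, rfl⟩ := hX'.2 y hy
          exact him u (hPT hu)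
        refine ⟨fun y => ψ t * y * (ψ t)⁻¹, Mp.conj hX'T (him t ht.1), fun x hx => ?_⟩
        rw [et x hx, hψ.map_conj ht.1 (hPT hx)]
    intro X' hX'
    obtain ⟨f', hf', e'⟩ := hle hα X' hX'
    refine ⟨f', hf', fun x => ?_⟩
    rw [e' x x.2, autFun_coe]
    rfl
  · intro P Q' h φ hφ hC X' hX'
    have hPT : P ≤ T₀ := (E₁.le_of_mem hφ).1
    obtain ⟨P₁, hP₁⟩ := (hψ.restrict hPT).exists_img
    obtain ⟨f', hf', e'⟩ := hC P₁ hP₁
    have hle : X' ≤ P₁ := fun y hy => by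
      obtain ⟨u, hu, rfl⟩ := hX'.2 y hy
      exact hP₁.1 u (h hu)
    exact ⟨f', hf'.restrict hle, fun x => e' ⟨x, h x.2⟩⟩
  · intro P Q' R' e e' he he' h h' X' hX'
    have hQT : Q' ≤ T₀ := (E₁.le_of_mem he').1
    obtain ⟨Y', hY'⟩ := (hψ.restrict hQT).exists_img
    obtain ⟨f₁, hf₁, e₁⟩ := h X' hX'
    obtain ⟨f₂, hf₂, e₂⟩ := h' Y' hY'
    have hev : ∀ x : P, (isoHom e) x = ((e x : Q') : Ω) := fun _ => rfl
    refine ⟨fun y => f₂ (f₁ y), hf₁.comp (fun y hy => ?_) hf₂, fun x => ?_⟩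
    · obtain ⟨u, hu, rfl⟩ := hX'.2 y hy
      rw [e₁ ⟨u, hu⟩, hev]
      exact hY'.1 _ (e ⟨u, hu⟩).2
    · simp only
      rw [e₁ x, hev, e₂ (e x)]
      rfl
  · intro P Q' e he h X' hX'
    have hPT : P ≤ T₀ := (E₁.le_of_mem he).1
    obtain ⟨Y', hY'⟩ := (hψ.restrict hPT).exists_img
    obtain ⟨f₁, hf₁, e₁⟩ := h Y' hY'
    have hev : ∀ x : P, (isoHom e) x = ((e x : Q') : Ω) := fun _ => rfl
    have hI : Img Y' f₁ X' := by
      refine ⟨fun y hy => ?_, fun y hy => ?_⟩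
      · obtain ⟨u, hu, rfl⟩ := hY'.2 y hy
        rw [e₁ ⟨u, hu⟩, hev]
        exact hX'.1 _ (e ⟨u, hu⟩).2
      · obtain ⟨u, hu, rfl⟩ := hX'.2 y hy
        refine ⟨ψ (e.symm ⟨u, hu⟩ : P), hY'.1 _ (e.symm ⟨u, hu⟩).2, ?_⟩
        rw [e₁ (e.symm ⟨u, hu⟩), hev]
        simp
    obtain ⟨k, hk, k1, -, -⟩ := hf₁.inverse hI
    refine ⟨k, hk, fun x => ?_⟩
    have h5 := k1 _ (hY'.1 _ (e.symm x).2)
    rw [e₁ (e.symm x), hev] at h5
    simpa using h5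

include hT₀ hi₁ hs₁ in
/-- The invariance clause. -/
theorem res_inv : InvClause F E₁ := by
  intro P hPT φ hφ α hα
  have hTle := T₀_le C hT₀
  have hψ : Mp F T₀ (autFun α) := mp_autFun (hTle.trans C.hTS) hα
  have hI : Img P (autFun α) ((P.subgroupOf T₀).map (T₀.subtype.comp α.toMonoidHom)) := by
    refine ⟨fun x hx => ?_, fun y hy => ?_⟩
    · rw [autFun_of_mem α (hPT hx)]
      exact ⟨⟨x, hPT hx⟩, hx, rfl⟩
    · obtain ⟨u, hu, rfl⟩ := hy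
      refine ⟨u, hu, ?_⟩
      rw [autFun_coe]
      rfl
  obtain ⟨f', ⟨χ, hχ, eχ⟩, e'⟩ := res_tr C hT₀ hs₁ hi₁ hψ (fun x hx => autFun_mem α hx) P φ hφ _ hI
  refine ⟨χ, hχ, fun x hφx hαx => ?_⟩
  rw [eχ]
  have h1 := e' x
  rw [autFun_of_mem α (hPT x.2), autFun_of_mem α hφx] at h1
  exact h1

include hT₀ hi₁ hs₁ in
/-- The residual is normal in `E`. -/
theorem res_normal_E : E₁.IsNormalIn E p := by
  have hTle := T₀_le C hT₀
  haveI := C.finT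
  have hsc : E.StronglyClosed (E.hyperfocalSubgroup p) := Cfsg.Agent.Lib.FusionExt.Hyperfocal.stronglyClosed_hyperfocal E C.hTp C.hEs
  refine isNormalIn_of_ppower C.hTp C.hEs hTle ?_ hT₀.symm.le hs₁ hi₁
  refine ⟨fun n hn g => ?_⟩
  have h1 : (n : Ω) ∈ E.hyperfocalSubgroup p := hT₀.le hn
  have h2 := Cfsg.Agent.Lib.FusionExt.Hyperfocal.hyperfocal_conj_mem E g.2 h1
  exact hT₀.symm.le h2

include hT₀ hi₁ hs₁ in
/-- The Frattini condition. -/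
theorem res_frat (P : Subgroup Ω) (hP : P ≤ T₀) (φ : P →* Ω) (hφ : φ ∈ F.Hom P) :
    ∃ α ∈ F.autGroup T₀, ∃ φ₀ ∈ E₁.Hom P, ∀ (x : P) (hx : φ₀ x ∈ T₀), φ x = ((α ⟨φ₀ x, hx⟩ : T₀) : Ω) := by
  have hTle := T₀_le C hT₀
  have hNE := res_normal_E C hT₀ hs₁ hi₁
  obtain ⟨α₀, hα₀, φ₁, hφ₁, e₀⟩ := C.hFr P (hP.trans hTle) φ hφ
  obtain ⟨α', hα', φ₀, hφ₀, e'⟩ := hNE.1.2.2.2.2.2 P hP φ₁ hφ₁
  have hsc := sc_T₀ C hT₀
  have hm₀ : Mp F T (autFun α₀) := mp_autFun C.hTS hα₀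
  have hm' : Mp E T₀ (autFun α') := mp_autFun hTle hα'
  have hcomp : Mp F T₀ (fun y => autFun α₀ (autFun α' y)) := (C.mp_E hm').comp (fun y hy => hTle (autFun_mem α' hy)) hm₀
  have him : ∀ y ∈ T₀, autFun α₀ (autFun α' y) ∈ T₀ := by
    intro y hy
    have hy₂ := autFun_mem α' hy
    have h3 := hyp_tr C hm₀ (hT₀.le hy₂)
    exact hT₀.symm.le h3
  haveI : Finite T₀ := finite_of_le (hTle.trans C.hTS)
  obtain ⟨a, ha, ea⟩ := toAut' hcomp (img_self hcomp him)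
  refine ⟨a, ha, φ₀, hφ₀, fun x hx => ?_⟩
  have hx₁ : φ₁ x ∈ T := (E.le_of_mem hφ₁).2 x
  rw [e₀ x hx₁, ← autFun_of_mem a hx, ea _ hx, ← autFun_of_mem α₀ hx₁, e' x hx, autFun_of_mem α' hx]

include hT₀ hi₁ in
/-- The residual has `p`-power index in `E·R`. -/
theorem res_index (hR : Lv₂ T R S) (D : FusionSystem R) (hD : ∀ {X f}, Mp D X f ↔ Dn F E p R X f) : E₁.HasPPowerIndexIn D p := by
  have hTle := T₀_le C hT₀
  refine ⟨fun Q φ hφ => E_le_D C hR D hD Q (hi₁.1 Q hφ), (hyp_le C hR D hD).trans hT₀.symm.le, fun Q hQ => ?_⟩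
  refine (Subgroup.map_le_iff_le_comap).2 ((Subgroup.closure_le _).2 ?_)
  intro b hb
  have hQT : Q ≤ T := hQ.trans hTle
  have hQR : Q ≤ R := hQT.trans hR.tr
  have hm : Nat.Coprime (orderOf b) p := hb
  have hbm : (b : MulAut Q) ^ orderOf b = 1 := congrArg Subtype.val (pow_orderOf_eq_one b)
  have hbE := aut_E_of_coprime C hR hQT (hD.1 (mp_autFun hQR b.2)) hm hbm
  exact pp_mem_res hi₁ hQ hbE hm hbm

include hT₀ hi₁ hs₁ in
/-- The extension condition. -/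
theorem res_ext : ∀ α ∈ E₁.autGroup T₀, ExtProp F α := by
  intro α hα
  have hTle := T₀_le C hT₀
  have hR₀ : Lv₂ T (T ⊔ centralizerIn S T₀) S := ⟨le_sup_left, sup_le C.hTS inf_le_left⟩
  have hD₀ : ∀ {X f}, Mp (DD C hR₀) X f ↔ Dn F E p (T ⊔ centralizerIn S T₀) X f := mp_DD C
  have hsat := DD_sat C hR₀ (DD C hR₀) hD₀
  have hidx : E₁.HasPPowerIndexIn (DD C hR₀) p := res_index C hT₀ hi₁ hR₀ (DD C hR₀) hD₀
  have hsc := sc_T₀ C hT₀
  have hsub := DD_sub C hR₀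
  haveI : Finite (T ⊔ centralizerIn S T₀ : Subgroup Ω) := finite_of_le hR₀.rs
  have hL₀p : IsPGroup p (T ⊔ centralizerIn S T₀ : Subgroup Ω) := C.hS.to_le hR₀.rs
  have hsc₀ : (DD C hR₀).StronglyClosed T₀ := ⟨hTle.trans hR₀.tr, fun R' hR' φ hφ x => hsc.2 R' hR' φ (hsub R' hφ) x⟩
  have h := extProp_of_ppower hL₀p hsat hsc₀ hs₁ hidx α hα
  have e : centralizerIn (T ⊔ centralizerIn S T₀) T₀ = centralizerIn S T₀ := by
    ext c
    constructor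
    · intro hc
      exact mem_cent.2 ⟨hR₀.rs (mem_cent.1 hc).1, (mem_cent.1 hc).2⟩
    · intro hc
      exact mem_cent.2 ⟨Subgroup.mem_sup_right hc, (mem_cent.1 hc).2⟩
  unfold ExtProp at h
  obtain ⟨β, hβ, h1, h2⟩ := ext_transport e h
  have hUle : T₀ ⊔ centralizerIn S T₀ ≤ T ⊔ centralizerIn S T₀ := sup_le_sup_right hTle _
  exact ⟨β, autGroup_le_of_subsystem hsub hUle hβ, h1, h2⟩

include hT₀ hi₁ hs₁ in
/-- **The residual of a normal subsystem is normal.** -/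
theorem res_normal : E₁.IsNormalIn F p :=
  ⟨⟨hs₁, C.hF, fun Q φ hφ => C.hsub Q (hi₁.1 Q hφ), sc_T₀ C hT₀, res_inv C hT₀ hs₁ hi₁, res_frat C hT₀ hs₁ hi₁⟩,
    res_ext C hT₀ hs₁ hi₁⟩

end res

end Cfsg.Agent.Lib.FusionExt.ER7b
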