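import Cfsg.Agent.Lib.FusionExt.ER7b
import Cfsg.Agent.Lib.FusionExt.PowerMain

/-!
# The product `E·R`: uniqueness (helper92)
-/

set_option autoImplicit false
set_option linter.unusedSectionVars false
set_option maxHeartbeats 1000000

namespace Cfsg.Agent.Lib.FusionExt.ER7c

open Cfsg Cfsg.FusionSystem Cfsg.Agent.Lib.Fusion.Basic Cfsg.Agent.Lib.Fusion.GroupSystem
open Cfsg.Agent.Lib.FusionExt.MapApi Cfsg.Agent.Lib.FusionExt.PowerSys Cfsg.Agent.Lib.FusionExt.LowPi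
open Cfsg.Agent.Lib.FusionExt.PrimeRes1 Cfsg.Agent.Lib.Fusion.Saturation Cfsg.Agent.Lib.Fusion.Saturation2
open Cfsg.Agent.Lib.FusionExt.Invariant Cfsg.Agent.Lib.FusionExt.CentE
open Cfsg.Agent.Lib.FusionExt.ER0 Cfsg.Agent.Lib.FusionExt.ER1 Cfsg.Agent.Lib.FusionExt.ER2 Cfsg.Agent.Lib.FusionExt.ER3
open Cfsg.Agent.Lib.FusionExt.ER4 Cfsg.Agent.Lib.FusionExt.ER5a Cfsg.Agent.Lib.FusionExt.ER5b Cfsg.Agent.Lib.FusionExt.ER5c
open Cfsg.Agent.Lib.FusionExt.ER6a Cfsg.Agent.Lib.FusionExt.ER6b Cfsg.Agent.Lib.FusionExt.ER6c Cfsg.Agent.Lib.FusionExt.ER6e Cfsg.Agent.Lib.FusionExt.ER7a Cfsg.Agent.Lib.FusionExt.ER7b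
open Cfsg.Agent.Lib.FusionExt.Normal Cfsg.Agent.Lib.FusionExt.PIndex
open Cfsg.Agent.Lib.FusionExt.Glue1 (Uc Uc.self Uc.conj Uc.up uc_top normAct_fun conj_fun inT_iff nm_map)
open Cfsg.Agent.Lib.FusionExt.Meet3 (exists_iso eq_of_autFun autFun_congr_apply)
open Cfsg.Agent.Lib.FusionExt.Glue3 (comm_of_conj)

universe u

variable {Ω : Type u} [Group Ω] {S T L R : Subgroup Ω} {F : FusionSystem S} {E : FusionSystem T} {p : ℕ}
variable {X X' Y Z P P' Q Q₀ U W : Subgroup Ω} {f g : Ω → Ω}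

/-- A saturated subsystem over `R` with the same residual over `T`. -/
structure Gs (F : FusionSystem S) (E : FusionSystem T) (p : ℕ) (G : FusionSystem R) : Prop where
  sat : G.IsSaturated p
  sub : G.IsSubsystemOf F
  le : ∀ P, E.Hom P ⊆ G.Hom P
  hyp : G.hyperfocalSubgroup p ≤ T
  pp : ∀ P, P ≤ T → ∀ a ∈ G.autGroup P, ∀ m : ℕ, m.Coprime p → a ^ m = 1 → a ∈ E.autGroup P

section general

variable [Fact p.Prime]

/-- Maps of a saturated system act as elements of the base modulo a subgroup containing the hyperfocal subgroup. -/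
theorem sat_label [Finite R] (hRp : IsPGroup p R) {G : FusionSystem R} (hG : G.IsSaturated p) {K : Subgroup Ω}
    (hK : ∀ s ∈ R, ∀ t ∈ K, s * t * s⁻¹ ∈ K) (hhyp : G.hyperfocalSubgroup p ≤ K) (hf : Mp G X f) :
    ∃ r ∈ R, ∀ x ∈ X, (r * x * r⁻¹)⁻¹ * f x ∈ K := by
  have main := Cfsg.Agent.Lib.Fusion.Alperin.alperin_induction G hRp hG
    (fun P φ => ∃ r ∈ R, ∀ x : P, (r * (x : Ω) * r⁻¹)⁻¹ * φ x ∈ K) ?_ ?_ ?_ ?_
  · obtain ⟨φ, hφ, e⟩ := hf
    obtain ⟨r, hr, h⟩ := main X φ hφ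
    exact ⟨r, hr, fun x hx => by
      have := h ⟨x, hx⟩
      rwa [e] at this⟩
  · intro P hP α hα
    have hfn : G.IsFullyNormalized P := by
      rcases hP with rfl | hP
      · exact isFullyNormalized_top G hRp
      · exact hP.2.1
    have hPR : P ≤ R := hfn.1
    have hA := isFullyAutomized_of_isFullyNormalized G hRp hG hfn
    haveI : Finite P := finite_of_le hPR
    haveI : Finite (MulAut P) := Cfsg.Agent.Lib.Fusion.Basic.finite_mulAut_of_finite (A := P)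
    let K₁ : Subgroup (MulAut P) :=
      { carrier := {a | ∃ r ∈ R, ∀ x ∈ P, (r * x * r⁻¹)⁻¹ * autFun a x ∈ K}
        one_mem' := ⟨1, R.one_mem, fun x _ => by
          rw [autFun_one_apply]
          have e : (1 * x * (1 : Ω)⁻¹)⁻¹ * x = 1 := by group
          rw [e]
          exact K.one_mem⟩
        mul_mem' := by
          rintro a b ⟨r₁, hr₁, h₁⟩ ⟨r₂, hr₂, h₂⟩
          refine ⟨r₁ * r₂, R.mul_mem hr₁ hr₂, fun x hx => ?_⟩
          rw [autFun_mul_apply]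
          have e : (r₁ * r₂ * x * (r₁ * r₂)⁻¹)⁻¹ * autFun a (autFun b x) =
              (r₁ * ((r₂ * x * r₂⁻¹)⁻¹ * autFun b x) * r₁⁻¹) * ((r₁ * autFun b x * r₁⁻¹)⁻¹ * autFun a (autFun b x)) := by group
          rw [e]
          exact K.mul_mem (hK _ hr₁ _ (h₂ x hx)) (h₁ _ (autFun_mem b hx))
        inv_mem' := by
          rintro a ⟨r, hr, h⟩
          refine ⟨r⁻¹, R.inv_mem hr, fun x hx => ?_⟩
          have h1 := h _ (autFun_mem a⁻¹ hx)
          rw [autFun_apply_inv] at h1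
          have h2 := hK _ (R.inv_mem hr) _ (K.inv_mem h1)
          have e : (r⁻¹ * x * r⁻¹⁻¹)⁻¹ * autFun a⁻¹ x = r⁻¹ * ((r * autFun a⁻¹ x * r⁻¹)⁻¹ * x)⁻¹ * r⁻¹⁻¹ := by group
          rw [e]
          exact h2 }
    have hle : G.autGroup P ≤ K₁ := by
      refine Cfsg.Agent.Lib.FusionExt.Hyperfocal.aut_le_of_isFullyAutomized G hA K₁ ?_ ?_
      · refine (Subgroup.map_le_iff_le_comap).2 ((Subgroup.closure_le _).2 ?_)
        intro b hb
        have hm : Nat.Coprime (orderOf b) p := hb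
        have hbm : (b : MulAut P) ^ orderOf b = 1 := congrArg Subtype.val (pow_orderOf_eq_one b)
        refine ⟨1, R.one_mem, fun x hx => ?_⟩
        have h1 := hhyp (mem_hyp_of_pp hPR b.2 hm hbm hx)
        have e : (1 * x * (1 : Ω)⁻¹)⁻¹ = x⁻¹ := by group
        rw [e]
        exact h1
      · intro a ha
        obtain ⟨t, ht, et⟩ := inT_iff.1 ha
        refine ⟨t, ht.1, fun x hx => ?_⟩
        rw [et x hx, inv_mul_cancel]
        exact K.one_mem
    obtain ⟨r, hr, h⟩ := hle hα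
    refine ⟨r, hr, fun x => ?_⟩
    have := h x x.2
    rwa [autFun_coe] at this
  · rintro P Q' h φ - ⟨r, hr, h'⟩
    exact ⟨r, hr, fun x => h' ⟨x, h x.2⟩⟩
  · rintro P Q' R' e e' - - ⟨r₁, hr₁, h₁⟩ ⟨r₂, hr₂, h₂⟩
    refine ⟨r₂ * r₁, R.mul_mem hr₂ hr₁, fun x => ?_⟩
    have h3 := h₁ x
    have h4 := h₂ (e x)
    have hev : ∀ x : P, (isoHom e) x = ((e x : Q') : Ω) := fun _ => rfl
    have hev' : ∀ y : Q', (isoHom e') y = ((e' y : R') : Ω) := fun _ => rfl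
    have hev₂ : (isoHom (e.trans e')) x = ((e' (e x) : R') : Ω) := rfl
    rw [hev] at h3
    rw [hev'] at h4
    rw [hev₂]
    have e5 : (r₂ * r₁ * (x : Ω) * (r₂ * r₁)⁻¹)⁻¹ * ((e' (e x) : R') : Ω) =
        (r₂ * ((r₁ * (x : Ω) * r₁⁻¹)⁻¹ * ((e x : Q') : Ω)) * r₂⁻¹) * ((r₂ * ((e x : Q') : Ω) * r₂⁻¹)⁻¹ * ((e' (e x) : R') : Ω)) := by group
    rw [e5]
    exact K.mul_mem (hK _ hr₂ _ h3) h4
  · rintro P Q' e - ⟨r, hr, h⟩
    refine ⟨r⁻¹, R.inv_mem hr, fun y => ?_⟩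
    have h1 := h (e.symm y)
    have hev : ∀ x : P, (isoHom e) x = ((e x : Q') : Ω) := fun _ => rfl
    rw [hev, MulEquiv.apply_symm_apply] at h1
    have h2 := hK _ (R.inv_mem hr) _ (K.inv_mem h1)
    have hev₂ : (isoHom e.symm) y = ((e.symm y : P) : Ω) := rfl
    rw [hev₂]
    have e5 : (r⁻¹ * (y : Ω) * r⁻¹⁻¹)⁻¹ * ((e.symm y : P) : Ω) = r⁻¹ * ((r * ((e.symm y : P) : Ω) * r⁻¹)⁻¹ * (y : Ω))⁻¹ * r⁻¹⁻¹ := by group
    rw [e5]
    exact h2

end general

section cx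

variable [Finite S] [Fact p.Prime] (C : Cx F E p) (hR : Lv₂ T R S)
include C hR

omit C hR in
theorem pow_of_iter {a : MulAut W} {m : ℕ} (h : ∀ x ∈ W, (autFun a)^[m] x = x) : a ^ m = 1 := by
  ext x
  have h1 := iterate_autFun (a := a) m x
  rw [h x x.2] at h1
  exact h1.symm

omit C hR in
theorem iter_of_pow {a : MulAut W} {m : ℕ} (h : a ^ m = 1) : ∀ x ∈ W, (autFun a)^[m] x = x := by
  intro x hx
  have h1 := iterate_autFun (a := a) m (⟨x, hx⟩ : W)
  rw [h] at h1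
  exact h1

/-- Elements of `E·R` of order prime to `p` are in `Pa`. -/
theorem pa_of_dn {a : MulAut W} (hdn : Dn F E p R W (autFun a)) {m : ℕ} (hm : m.Coprime p) (ha : a ^ m = 1) : Pa F E p W (autFun a) := by
  have hWR : W ≤ R := hdn.le
  have hmF := Dn.mp C hR hdn
  have hKA : E.hyperfocalSubgroup p ≤ T := Cfsg.Agent.Lib.FusionExt.Hyperfocal.hyperfocal_le (F := E) (p := p)
  have hI : Img (W ⊓ T) (autFun a) (W ⊓ T) := C.img_inf hmF (img_autFun a)
  haveI : Finite R := finite_of_le hR.rs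
  have hmD : Dn F E p R (W ⊓ T) (autFun a) := (mp_DD C (hR := hR)).1 (((mp_DD C (hR := hR)).2 hdn).restrict inf_le_left)
  obtain ⟨b, -, eb⟩ := toAut' (hmF.restrict inf_le_left) hI
  have hbm : b ^ m = 1 := by
    refine eq_of_autFun (fun w hw => ?_)
    have h5 := pow_restrict (x := a) (y := b) inf_le_left (fun w hw => (eb w hw).symm) m w hw
    rw [← h5, ha, autFun_one_apply, autFun_one_apply]
  have hdb : Dn F E p R (W ⊓ T) (autFun b) := (dnAx C hR).congr hmD (fun x hx => (eb x hx).symm)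
  have hb := aut_E_of_coprime C hR inf_le_right hdb hm hbm
  refine ⟨⟨hmF, img_autFun a, fun x hx => hKA (pp_dn_hyp C hR hdn hm ha x hx), ?_⟩, m, hm, iter_of_pow ha⟩
  exact (mp_autFun inf_le_right hb).congr eb

variable {G : FusionSystem R}

/-- The core of the comparison: `p'`-automorphisms in `Pa` are in any system with the right residual, when `W ∩ T` is
fully normalized in the level. -/
theorem claim_core (hG : Gs F E p G) (hLR : L ≤ R) {Gl : FusionSystem L} (hs : Gl.IsSaturated p)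
    (hi : Gl.HasPPowerIndexIn G p) (hTL : T ≤ L) (hcl : ClR F E L W) (hfn : Gl.IsFullyNormalized (W ⊓ T)) {a : MulAut W}
    (ha : Pa F E p W (autFun a)) : a ∈ Gl.autGroup W := by
  have hWL : W ≤ L := hcl.le
  have hWR : W ≤ R := hWL.trans hLR
  have hWS : W ≤ S := hWR.trans hR.rs
  have hLS : L ≤ S := hLR.trans hR.rs
  haveI : Finite L := finite_of_le hLS
  haveI : Finite W := finite_of_le hWS
  haveI : Finite (MulAut W) := Cfsg.Agent.Lib.Fusion.Basic.finite_mulAut_of_finite (A := W)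
  have hLp : IsPGroup p L := C.hS.to_le hLS
  have hAL : W ⊓ T ≤ L := inf_le_right.trans hTL
  have hAW : W ⊓ T ≤ W := inf_le_left
  have hAT : W ⊓ T ≤ T := inf_le_right
  obtain ⟨⟨hmF, hI, hmt, hme⟩, m, hm, hmi⟩ := ha
  have ham : a ^ m = 1 := pow_of_iter hmi
  have hIA : Img (W ⊓ T) (autFun a) (W ⊓ T) := C.img_inf hmF (img_autFun a)
  obtain ⟨b, hbE, eb⟩ := toAut' hme hIA
  have hbm : b ^ m = 1 := by
    refine eq_of_autFun (fun w hw => ?_)
    have h5 := pow_restrict (x := a) (y := b) hAW (fun w hw => (eb w hw).symm) m w hw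
    rw [← h5, ham, autFun_one_apply, autFun_one_apply]
  have hbG : b ∈ G.autGroup (W ⊓ T) := by
    obtain ⟨φ, hφ, e⟩ := mp_autFun hAT hbE
    exact mem_aut_of_mp ⟨φ, hG.le _ hφ, e⟩
  have hbL : b ∈ Gl.autGroup (W ⊓ T) := by
    refine hi.2.2 _ hAL ⟨⟨b, hbG⟩, Subgroup.subset_closure ?_, rfl⟩
    have h6 : orderOf (⟨b, hbG⟩ : G.autGroup (W ⊓ T)) ∣ m := by
      refine orderOf_dvd_of_pow_eq_one (Subtype.ext ?_)
      exact hbm
    exact Nat.Coprime.coprime_dvd_left h6 hm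
  have hφ : autHom b ∈ Gl.Hom (W ⊓ T) := autHom_mem Gl hAL hbL
  have hrec := isReceptive_of_isFullyNormalized Gl hLp hs hfn
  have hext : W ≤ extender L (W ⊓ T) (autHom b) := by
    intro x hx
    have hxN := (mem_norm_inf C hWS hx).2
    refine mem_extender_of (autHom b) (hWL hx) hxN (hWL (autFun_mem a hx)) (fun y => ?_)
    have hy := y.2
    have hy' := norm_conj hxN hy
    have e1 : autHom b ⟨x * y * x⁻¹, hy'⟩ = autFun b (x * y * x⁻¹) := by
      rw [autFun_of_mem b hy']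
      rfl
    have e2 : autHom b y = autFun b y := by
      rw [autFun_coe]
      rfl
    rw [e1, e2, eb _ hy', eb _ hy]
    exact hmF.map_conj hx hy.1
  obtain ⟨ψ, hψ, hψv⟩ := IsReceptive.exists_extension Gl hrec hφ (autHom_range b) hext hAW
  have hβ₀ : Mp Gl W (extOf ψ) := mp_of_hom hψ
  have hβ₀A : ∀ q ∈ W ⊓ T, extOf ψ q = autFun a q := by
    intro q hq
    rw [extOf_of_mem ψ hq.1, ← eb q hq, autFun_of_mem b hq]
    exact hψv ⟨q, hq⟩
  have hβ₀m : ∀ x ∈ W, extOf ψ x ∈ W := by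
    intro x hx
    have hxN := (mem_norm_inf C hWS hx).2
    have hd : (autFun a x)⁻¹ * extOf ψ x ∈ centralizerIn L (W ⊓ T) := by
      refine mem_cent.2 ⟨L.mul_mem (L.inv_mem (hWL (autFun_mem a hx))) (hβ₀.mem_S hx), fun q hq => ?_⟩
      obtain ⟨q₀, hq₀, rfl⟩ := hIA.2 q hq
      have hq₁ := norm_conj hxN hq₀
      refine comm_of_conj ?_
      calc extOf ψ x * autFun a q₀ * (extOf ψ x)⁻¹ = extOf ψ x * extOf ψ q₀ * (extOf ψ x)⁻¹ := by rw [hβ₀A q₀ hq₀]
        _ = extOf ψ (x * q₀ * x⁻¹) := (hβ₀.map_conj hx hq₀.1).symm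
        _ = autFun a (x * q₀ * x⁻¹) := hβ₀A _ hq₁
        _ = _ := hmF.map_conj hx hq₀.1
    have h1 := ClR.cent_le C hcl hd
    have e : extOf ψ x = autFun a x * ((autFun a x)⁻¹ * extOf ψ x) := by group
    rw [e]
    exact W.mul_mem (autFun_mem a hx) h1
  obtain ⟨β, hβ, eβ⟩ := toAut' hβ₀ (img_self hβ₀ hβ₀m)
  obtain ⟨u, v, e, ⟨k, hk⟩, ⟨q, hq, hqe⟩, -⟩ := exists_parts' (p := p) β 0
  have hrestr : ∀ j : ℕ, ∀ w ∈ W ⊓ T, autFun (β ^ j) w = autFun (b ^ j) w :=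
    pow_restrict (x := β) (y := b) hAW (fun w hw => by rw [eβ w hw.1, hβ₀A w hw, eb w hw])
  have hbu : b ^ u = 1 := by
    have h1 : (b ^ u) ^ p ^ k = 1 := by
      refine eq_of_autFun (fun w hw => ?_)
      rw [← pow_mul, ← hrestr _ w hw, pow_mul, hk, autFun_one_apply, autFun_one_apply]
    have h2 : (b ^ u) ^ m = 1 := by
      rw [← pow_mul, mul_comm, pow_mul, hbm, one_pow]
    haveI : Finite ↥(W ⊓ T) := finite_of_le (hAT.trans C.hTS)
    exact one_of_two_orders (p := p) hm h2 h1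
  have hv : ∀ w ∈ W ⊓ T, autFun (β ^ v) w = autFun a w := by
    intro w hw
    have h1 := hrestr (u + v) w hw
    rw [pow_add, pow_add, ← e, hbu, one_mul, eβ w hw.1, hβ₀A w hw] at h1
    rw [hrestr v w hw, ← h1]
  have hβ₁L : β ^ v ∈ Gl.autGroup W := Subgroup.pow_mem _ hβ v
  have hβ₁G : β ^ v ∈ G.autGroup W := Cfsg.Agent.Lib.FusionExt.PIndex.autGroup_le_of_subsystem hi.1 hWL hβ₁L
  have hβ₁F : β ^ v ∈ F.autGroup W := Cfsg.Agent.Lib.FusionExt.PIndex.autGroup_le_of_subsystem hG.sub hWR hβ₁G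
  have hpa₁ : Pa F E p W (autFun (β ^ v)) := by
    refine ⟨⟨mp_autFun hWS hβ₁F, img_autFun _, fun x hx => ?_, hme.congr (fun x hx => (hv x hx).symm)⟩, q, hq, iter_of_pow hqe⟩
    exact hG.hyp (mem_hyp_of_pp hWR hβ₁G hq hqe hx)
  have hζ : (β ^ v)⁻¹ * a ∈ VI F E p W :=
    Subgroup.mem_sup_right (Subgroup.mul_mem _ (Subgroup.inv_mem _ (Subgroup.subset_closure (Or.inl hpa₁)))
      (Subgroup.subset_closure (Or.inl ⟨⟨hmF, hI, hmt, hme⟩, m, hm, hmi⟩)))
  have hid : ∀ q ∈ W ⊓ T, autFun ((β ^ v)⁻¹ * a) q = q := by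
    intro q hq
    rw [autFun_mul_apply, ← hv q hq, autFun_inv_apply]
  obtain ⟨y₃, hy₃, ey₃⟩ := inner_of_triv C hR hcl.cl hζ hid
  have hmc : Mp Gl W (fun x => y₃ * x * y₃⁻¹) := Mp.conj hWL (hWL hy₃)
  have hmf : Mp Gl W (fun x => autFun (β ^ v) (y₃ * x * y₃⁻¹)) :=
    hmc.comp (fun x hx => W.mul_mem (W.mul_mem hy₃ hx) (W.inv_mem hy₃)) (mp_autFun hWL hβ₁L)
  refine mem_aut_of_mp (hmf.congr (fun x hx => ?_))
  have h1 := ey₃ x hx
  rw [autFun_mul_apply] at h1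
  rw [← h1, autFun_apply_inv]

/-- **The comparison**: `p'`-automorphisms in `Pa` are in any system with the right residual. -/
theorem claim_X (hG : Gs F E p G) (hQR : Q ≤ R) (hcl : Cl F E Q) {a : MulAut Q} (ha : Pa F E p Q (autFun a)) : a ∈ G.autGroup Q := by
  have hQS : Q ≤ S := hcl.le
  have hLR : Q ⊔ T ≤ R := hR.sup_le hQR
  have hLS : Q ⊔ T ≤ S := hLR.trans hR.rs
  haveI : Finite R := finite_of_le hR.rs
  haveI : Finite ↥(Q ⊔ T) := finite_of_le hLS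
  have hRp : IsPGroup p R := C.hS.to_le hR.rs
  have hLp : IsPGroup p ↥(Q ⊔ T) := C.hS.to_le hLS
  have hTL : T ≤ Q ⊔ T := le_sup_right
  obtain ⟨Gl, ⟨hs, hi⟩, -⟩ := Cfsg.Agent.Lib.FusionExt.PowerMain.main hRp G hG.sat (Q ⊔ T) hLR (hG.hyp.trans hTL)
  have hhyp : Gl.hyperfocalSubgroup p ≤ T := by
    refine hyp_le_of_pp (fun P hP a' ha' m hm ham x hx => ?_)
    exact hG.hyp (mem_hyp_of_pp (hP.trans hLR) (Cfsg.Agent.Lib.FusionExt.PIndex.autGroup_le_of_subsystem hi.1 hP ha') hm ham hx)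
  have hAL : Q ⊓ T ≤ Q ⊔ T := inf_le_right.trans hTL
  obtain ⟨A', hc, hfn⟩ := exists_isFullyNormalized Gl hAL
  obtain ⟨ρ, hρ, hρN, hρi⟩ := nm_map hLp hs hfn hc
  have hQN : Q ≤ normalizerIn (Q ⊔ T) (Q ⊓ T) := fun x hx => ⟨Subgroup.mem_sup_left hx, (mem_norm_inf C hQS hx).2⟩
  have hρQ := hρ.restrict hQN
  obtain ⟨W', hW⟩ := hρQ.exists_img
  have hρG : Mp G Q ρ := Cfsg.Agent.Lib.FusionExt.PowerE.mp_sub hi.1 hρQ
  have hρF : Mp F Q ρ := Cfsg.Agent.Lib.FusionExt.PowerE.mp_sub hG.sub hρG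
  have hcl' : Cl F E W' := Cl.tr C hcl hρF hW
  have hinf : W' ⊓ T = A' := Img.unique (C.img_inf hρF hW) hρi
  have hW'L : W' ≤ Q ⊔ T := hρQ.img_le hW
  obtain ⟨r₀, hr₀, el⟩ := sat_label hLp hs (K := T) (fun s hs t ht => sc_conj_mem F C.hT (hLS hs) ht) hhyp hρQ
  have hr₀S : r₀ ∈ S := hLS hr₀
  have hcov : ∀ r ∈ Q ⊔ T, ∃ x ∈ W', x⁻¹ * r ∈ T := by
    intro r hr
    have hr₁ : r₀⁻¹ * r * r₀ ∈ Q ⊔ T := (Q ⊔ T).mul_mem ((Q ⊔ T).mul_mem ((Q ⊔ T).inv_mem hr₀) hr) hr₀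
    obtain ⟨y, hy, t, ht, e⟩ := dec_sup C hQS hr₁
    refine ⟨ρ y, hW.1 y hy, ?_⟩
    have e1 : r = (r₀ * y * r₀⁻¹) * (r₀ * t * r₀⁻¹) := by
      have : r = r₀ * (r₀⁻¹ * r * r₀) * r₀⁻¹ := by group
      rw [this, e]
      group
    have h2 := el y hy
    have h3 := sc_conj_mem F C.hT hr₀S ht
    have e2 : (ρ y)⁻¹ * r = ((r₀ * y * r₀⁻¹)⁻¹ * ρ y)⁻¹ * (r₀ * t * r₀⁻¹) := by
      conv_lhs => rw [e1]
      group
    rw [e2]
    exact T.mul_mem (T.inv_mem h2) h3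
  have hclR : ClR F E (Q ⊔ T) W' := ⟨hcl', hW'L, hcov⟩
  obtain ⟨⟨hmF, hI, hmt, hme⟩, m, hm, hmi⟩ := ha
  have ham : a ^ m = 1 := pow_of_iter hmi
  obtain ⟨k, hk, k1, k2, k3⟩ := hρQ.inverse hW
  have hkF : Mp F W' k := Cfsg.Agent.Lib.FusionExt.PowerE.mp_sub hG.sub (Cfsg.Agent.Lib.FusionExt.PowerE.mp_sub hi.1 hk)
  have hf₁ : Mp F W' (fun y => ρ (autFun a (k y))) := (hkF.comp k3.1 hmF).comp (fun y hy => autFun_mem a (k3.1 y hy)) hρF
  have hf₁I : Img W' (fun y => ρ (autFun a (k y))) W' := (k3.comp hI).comp hW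
  obtain ⟨a', ha', ea'⟩ := toAut' hf₁ hf₁I
  have hfe : ∀ x ∈ Q, autFun a' (ρ x) = ρ (autFun a x) := by
    intro x hx
    rw [ea' _ (hW.1 x hx), k1 x hx]
  have hA1 := A1.tr C ⟨hmF, hI, hmt, hme⟩ hρF hW hfe
  have ham' : a' ^ m = 1 := by
    refine eq_of_autFun (fun y hy => ?_)
    obtain ⟨u, hu, rfl⟩ := hW.2 y hy
    rw [pow_along (χ := ρ) (x := a) (y := a') hfe m u hu, ham, autFun_one_apply, autFun_one_apply]
  have hpa' : Pa F E p W' (autFun a') := ⟨hA1, m, hm, iter_of_pow ham'⟩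
  have hfn' : Gl.IsFullyNormalized (W' ⊓ T) := by
    rw [hinf]
    exact hfn
  have ha'L := claim_core C hR hG hLR hs hi hTL hclR hfn' hpa'
  have hmf : Mp Gl Q (fun x => k (autFun a' (ρ x))) :=
    (hρQ.comp hW.1 (mp_autFun hW'L ha'L)).comp (fun x hx => autFun_mem a' (hW.1 x hx)) hk
  have hma : Mp Gl Q (autFun a) := hmf.congr (fun x hx => by
    rw [hfe x hx, k1 _ (autFun_mem a hx)])
  exact mem_aut_of_mp (Cfsg.Agent.Lib.FusionExt.PowerE.mp_sub hi.1 hma)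

/-- The conjugates of a radical centric subgroup contain the centralizer of their intersection with `T`. -/
theorem star_rad (G' : FusionSystem R) (hsub : G'.IsSubsystemOf F)
    (hlab : ∀ {X f}, Mp G' X f → ∃ r ∈ R, ∀ x ∈ X, (r * x * r⁻¹)⁻¹ * f x ∈ T)
    (hcen : G'.IsCentric P) (hrad : G'.IsRadical p P) (hc : G'.IsConj P W) : centralizerIn R (W ⊓ T) ≤ W := by
  by_contra hWc
  have hPR : P ≤ R := hcen.1
  have hPS : P ≤ S := hPR.trans hR.rs
  have hWR : W ≤ R := isConj_right_le _ hc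
  have hWS : W ≤ S := hWR.trans hR.rs
  haveI : Finite W := finite_of_le hWS
  haveI : Finite P := finite_of_le hPS
  haveI : Finite R := finite_of_le hR.rs
  haveI : Finite (MulAut W) := Cfsg.Agent.Lib.Fusion.Basic.finite_mulAut_of_finite (A := W)
  haveI : Finite (MulAut P) := Cfsg.Agent.Lib.Fusion.Basic.finite_mulAut_of_finite (A := P)
  have hWn : W ≤ Subgroup.normalizer ((centralizerIn R (W ⊓ T) : Subgroup Ω) : Set Ω) := by
    intro w hw
    have hn : w ∈ normalizerIn S (W ⊓ T) := mem_norm_inf C hWS hw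
    have hwR := hWR hw
    rw [Subgroup.mem_normalizer_iff]
    intro d
    constructor
    · intro hd
      exact mem_cent.2 ⟨R.mul_mem (R.mul_mem hwR (mem_cent.1 hd).1) (R.inv_mem hwR), (mem_cent.1 (conj_cent' hn (mem_cent.2 ⟨hR.rs (mem_cent.1 hd).1, (mem_cent.1 hd).2⟩))).2⟩
    · intro hd
      have h1 := conj_cent' ((normalizerIn S (W ⊓ T)).inv_mem hn) (mem_cent.2 ⟨hR.rs (mem_cent.1 hd).1, (mem_cent.1 hd).2⟩)
      have e1 : w⁻¹ * (w * d * w⁻¹) * w⁻¹⁻¹ = d := by group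
      rw [e1] at h1
      have hdR : d ∈ R := by
        have := R.mul_mem (R.mul_mem (R.inv_mem hwR) (mem_cent.1 hd).1) hwR
        rwa [show w⁻¹ * (w * d * w⁻¹) * w = d by group] at this
      exact mem_cent.2 ⟨hdR, (mem_cent.1 h1).2⟩
  let V : Subgroup Ω := W ⊔ centralizerIn R (W ⊓ T)
  have hVR : V ≤ R := _root_.sup_le hWR inf_le_left
  have hWV : W < V := by
    refine lt_of_le_of_ne le_sup_left (fun e => hWc ?_)
    intro x hx
    exact e.symm.le (Subgroup.mem_sup_right hx)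
  haveI : Finite V := finite_of_le (hVR.trans hR.rs)
  have hVp : IsPGroup p V := C.hS.to_le (hVR.trans hR.rs)
  have hlt := lt_normalizerIn hVp hWV
  obtain ⟨y, hy, hyW⟩ := SetLike.exists_of_lt hlt
  obtain ⟨w, hw, c, hc', rfl⟩ := exists_mul_of_mem_sup' hWn hy.1
  have hcN : c ∈ Subgroup.normalizer (W : Set Ω) := by
    have := Subgroup.mul_mem _ (Subgroup.le_normalizer (W.inv_mem hw)) hy.2
    simpa using this
  have hcW : c ∉ W := fun h => hyW (W.mul_mem hw h)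
  have hcR : c ∈ R := (mem_cent.1 hc').1
  obtain ⟨ε, hε, hεi⟩ := mp_of_conj hc
  have hεF : Mp F P ε := Cfsg.Agent.Lib.FusionExt.PowerE.mp_sub hsub hε
  obtain ⟨k, hk, k1, k2, k3⟩ := hε.inverse hεi
  have hIT := C.img_inf hεF hεi
  have hf₀ : Mp G' P (fun x => c * ε x * c⁻¹) := hε.comp hεi.1 (Mp.conj hWR hcR)
  have hf₁ : Mp G' P (fun x => k (c * ε x * c⁻¹)) := hf₀.comp (fun x hx => norm_conj hcN (hεi.1 x hx)) hk
  have hf₁m : ∀ x ∈ P, k (c * ε x * c⁻¹) ∈ P := fun x hx => k3.1 _ (norm_conj hcN (hεi.1 x hx))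
  obtain ⟨α, hα, eα⟩ := toAut' hf₁ (img_self hf₁ hf₁m)
  have hαfix : α ∈ fixSub P (P ⊓ T) := by
    intro q hq
    rw [eα q hq.1]
    have h3 := (mem_cent.1 hc').2 _ (hIT.1 q hq)
    have e : c * ε q * c⁻¹ = ε q := by
      rw [← h3]
      group
    rw [e, k1 q hq.1]
  let Lh : Subgroup (MulAut P) := G'.autGroup P ⊓ fixSub P (P ⊓ T)
  have hLp : IsPGroup p Lh := by
    rintro ⟨a, ha⟩
    obtain ⟨r₀, hr₀, h3⟩ := hlab (mp_autFun hPR ha.1)
    obtain ⟨k', hk'⟩ := fix_pgroup C hPS (hR.rs hr₀) h3 ha.2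
    exact ⟨k', Subtype.ext hk'⟩
  have hnorm : ∀ γ ∈ G'.autGroup P, ∀ a ∈ Lh, γ * a * γ⁻¹ ∈ Lh := by
    intro b hb a ha
    refine ⟨Subgroup.mul_mem _ (Subgroup.mul_mem _ hb ha.1) (Subgroup.inv_mem _ hb), fun q hq => ?_⟩
    have hA := Cfsg.Agent.Lib.FusionExt.PowerE.mp_sub hsub (mp_autFun hPR hb)
    have hIb := C.img_inf hA (img_autFun b)
    obtain ⟨q₀, hq₀, rfl⟩ := hIb.2 q hq
    rw [conj_fun, ha.2 q₀ hq₀]
  have hLe := radical_le_inn G' hrad Lh inf_le_left hnorm hLp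
  obtain ⟨⟨z, hz⟩, ez⟩ := hLe ⟨hα, hαfix⟩
  have hα' : ∀ x ∈ P, autFun α x = z * x * z⁻¹ := by
    intro x hx
    rw [← ez, autFun_of_mem _ hx]
    rfl
  have hd : (ε z)⁻¹ * c ∈ centralizerIn R W := by
    refine mem_cent.2 ⟨R.mul_mem (R.inv_mem (hWR (hεi.1 z hz))) hcR, fun v hv => comm_of_conj ?_⟩
    obtain ⟨x, hx, rfl⟩ := hεi.2 v hv
    have h1 := eα x hx
    rw [hα' x hx] at h1
    have h2 := congrArg ε h1
    rw [k2 _ (norm_conj hcN (hεi.1 x hx)), hε.map_conj hz hx] at h2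
    exact h2.symm
  have hz2 := hcen.2 W hc hd
  have := W.mul_mem (hεi.1 z hz) hz2
  exact hcW (by simpa using this)

/-- Radical centric subgroups are in the class, as soon as `E·R` is contained in the system. -/
theorem cl_of_rad (G' : FusionSystem R) (hDG : ∀ {X f}, Dn F E p R X f → Mp G' X f) (hsub : G'.IsSubsystemOf F)
    (hlab : ∀ {X f}, Mp G' X f → ∃ r ∈ R, ∀ x ∈ X, (r * x * r⁻¹)⁻¹ * f x ∈ T)
    (hcen : G'.IsCentric P) (hrad : G'.IsRadical p P) : Cl F E P := by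
  haveI : Finite R := finite_of_le hR.rs
  refine ER6b.cl_of_cent C hR (DD C hR) (mp_DD C) hcen.1 (fun P'' hc => ?_)
  obtain ⟨f', hf', hi⟩ := mp_of_conj hc
  have hG' : Mp G' P f' := hDG ((mp_DD C).1 hf')
  exact star_rad C hR G' hsub hlab hcen hrad (hG'.isConj hi)

/-- The top is in the class. -/
theorem cl_top : Cl F E R := by
  haveI : Finite R := finite_of_le hR.rs
  refine ER6b.cl_of_cent C hR (DD C hR) (mp_DD C) le_rfl (fun P'' hc => ?_)
  have hle := isConj_right_le _ hc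
  obtain ⟨f', hf', hi⟩ := mp_of_conj hc
  have hcard := hf'.card_img hi
  have e : P'' = R := Subgroup.eq_of_le_of_card_ge hle (le_of_eq hcard.symm)
  rw [e]
  exact inf_le_left

/-- **`E·R` is contained in every system with the right residual.** -/
theorem D_le_G (hG : Gs F E p G) {X : Subgroup Ω} {f : Ω → Ω} (h : Dn F E p R X f) : Mp G X f := by
  haveI : Finite R := finite_of_le hR.rs
  have hRp : IsPGroup p R := C.hS.to_le hR.rs
  have hsat := DD_sat C hR (DD C hR) (mp_DD C)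
  have hle : DD C hR ≤ G := by
    refine Cfsg.Agent.Lib.Fusion.Alperin.alperin_goldschmidt (DD C hR) hRp hsat G (fun P hP => ?_)
    have hfn : (DD C hR).IsFullyNormalized P := by
      rcases hP with rfl | hP
      · exact isFullyNormalized_top _ hRp
      · exact hP.2.1
    have hPR : P ≤ R := hfn.1
    have hA := isFullyAutomized_of_isFullyNormalized _ hRp hsat hfn
    have hcl : Cl F E P := by
      rcases hP with rfl | hP
      · exact cl_top C hR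
      · refine cl_of_rad C hR (DD C hR) (fun h => (mp_DD C).2 h) (DD_sub C hR) (fun h => ?_) hP.1
          (Cfsg.Agent.Lib.Fusion.Alperin.isRadical_of_isEssential _ hRp hP)
        obtain ⟨-, -, r, hr, h3, -⟩ := dn_fr C hR ((mp_DD C).1 h)
        exact ⟨r, hr, h3⟩
    refine Cfsg.Agent.Lib.FusionExt.Hyperfocal.aut_le_of_isFullyAutomized _ hA (G.autGroup P) ?_ (autInducedBy_le_autGroup G hPR)
    refine (Subgroup.map_le_iff_le_comap).2 ((Subgroup.closure_le _).2 ?_)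
    intro b hb
    have hm : Nat.Coprime (orderOf b) p := hb
    have hbm : (b : MulAut P) ^ orderOf b = 1 := congrArg Subtype.val (pow_orderOf_eq_one b)
    exact claim_X C hR hG hPR hcl (pa_of_dn C hR ((mp_DD C).1 (mp_autFun hPR b.2)) hm hbm)
  obtain ⟨φ, hφ, e⟩ := (mp_DD C (hR := hR)).2 h
  exact ⟨φ, hle X hφ, e⟩

/-- **Every system with the right residual is contained in `E·R`.** -/
theorem G_le_D (hG : Gs F E p G) {X : Subgroup Ω} {f : Ω → Ω} (h : Mp G X f) : Dn F E p R X f := by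
  haveI : Finite R := finite_of_le hR.rs
  have hRp : IsPGroup p R := C.hS.to_le hR.rs
  have hle : G ≤ DD C hR := by
    refine Cfsg.Agent.Lib.Fusion.Alperin.alperin_goldschmidt G hRp hG.sat _ (fun P hP => ?_)
    have hfn : G.IsFullyNormalized P := by
      rcases hP with rfl | hP
      · exact isFullyNormalized_top _ hRp
      · exact hP.2.1
    have hPR : P ≤ R := hfn.1
    have hPS : P ≤ S := hPR.trans hR.rs
    have hA := isFullyAutomized_of_isFullyNormalized _ hRp hG.sat hfn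
    have hcl : Cl F E P := by
      rcases hP with rfl | hP
      · exact cl_top C hR
      · exact cl_of_rad C hR G (fun h => D_le_G C hR hG h) hG.sub
          (fun h => sat_label hRp hG.sat (K := T) (fun s hs t ht => sc_conj_mem F C.hT (hR.rs hs) ht) hG.hyp h) hP.1
          (Cfsg.Agent.Lib.Fusion.Alperin.isRadical_of_isEssential _ hRp hP)
    refine Cfsg.Agent.Lib.FusionExt.Hyperfocal.aut_le_of_isFullyAutomized _ hA ((DD C hR).autGroup P) ?_ (autInducedBy_le_autGroup _ hPR)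
    refine (Subgroup.map_le_iff_le_comap).2 ((Subgroup.closure_le _).2 ?_)
    intro b hb
    have hm : Nat.Coprime (orderOf b) p := hb
    have hbm : (b : MulAut P) ^ orderOf b = 1 := congrArg Subtype.val (pow_orderOf_eq_one b)
    have hbG : (b : MulAut P) ∈ G.autGroup P := b.2
    have hbF : (b : MulAut P) ∈ F.autGroup P := Cfsg.Agent.Lib.FusionExt.PIndex.autGroup_le_of_subsystem hG.sub hPR hbG
    have hmF : Mp F P (autFun (b : MulAut P)) := mp_autFun hPS hbF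
    have hmG : Mp G P (autFun (b : MulAut P)) := mp_autFun hPR hbG
    have hI : Img (P ⊓ T) (autFun (b : MulAut P)) (P ⊓ T) := C.img_inf hmF (img_autFun _)
    obtain ⟨b', hb', eb'⟩ := toAut' (hmG.restrict inf_le_left) hI
    have hb'm : b' ^ orderOf b = 1 := by
      refine eq_of_autFun (fun w hw => ?_)
      have h5 := pow_restrict (x := (b : MulAut P)) (y := b') inf_le_left (fun w hw => (eb' w hw).symm) (orderOf b) w hw
      rw [← h5, hbm, autFun_one_apply, autFun_one_apply]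
    have hb'E := hG.pp _ inf_le_right b' hb' _ hm hb'm
    have hpa : Pa F E p P (autFun (b : MulAut P)) :=
      ⟨⟨hmF, img_autFun _, fun x hx => hG.hyp (mem_hyp_of_pp hPR hbG hm hbm hx), (mp_autFun inf_le_right hb'E).congr eb'⟩, _, hm, iter_of_pow hbm⟩
    have hcov : ∀ r ∈ P ⊔ T, ∃ x ∈ P, x⁻¹ * r ∈ T := fun r hr => by
      obtain ⟨y, hy, t, ht, rfl⟩ := dec_sup C hPS hr
      exact ⟨y, hy, by simpa using ht⟩
    have hL := lv_sup C hPS
    have ha : Aa F E p (P ⊔ T) P (autFun (b : MulAut P)) :=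
      ⟨⟨hcl, le_sup_left, hcov⟩, _, Subgroup.mem_sup_right (Subgroup.subset_closure (Or.inl hpa)), fun _ _ => rfl⟩
    have hd : LP F E p (P ⊔ T) P (autFun (b : MulAut P)) := Cfsg.Agent.Lib.FusionExt.G1.Dp.edge (fam C hL) ha le_rfl
    exact mem_aut_of_mp ((mp_DD C).2 (dn_of_lp C hR hL (hR.sup_le hPR) hd))
  obtain ⟨φ, hφ, e⟩ := h
  exact (mp_DD C).1 ⟨φ, hle X hφ, e⟩

/-- **Uniqueness of `E·R`.** -/
theorem U_iff (hG : Gs F E p G) {X : Subgroup Ω} {f : Ω → Ω} : Mp G X f ↔ Dn F E p R X f :=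
  ⟨G_le_D C hR hG, D_le_G C hR hG⟩

end cx

end Cfsg.Agent.Lib.FusionExt.ER7c
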