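import Cfsg.Agent.Lib.FusionExt.ER7c

/-!
# The product `E·R`: transport along maps of `F` on overgroups of `T`; full normalization in `E·R` (helper92)
-/

set_option autoImplicit false
set_option linter.unusedSectionVars false
set_option maxHeartbeats 1000000

namespace Cfsg.Agent.Lib.FusionExt.ER8a

open Cfsg Cfsg.FusionSystem Cfsg.Agent.Lib.Fusion.Basic Cfsg.Agent.Lib.Fusion.GroupSystem
open Cfsg.Agent.Lib.FusionExt.MapApi Cfsg.Agent.Lib.FusionExt.PowerSys Cfsg.Agent.Lib.FusionExt.LowPi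
open Cfsg.Agent.Lib.FusionExt.PrimeRes1 Cfsg.Agent.Lib.Fusion.Saturation Cfsg.Agent.Lib.Fusion.Saturation2
open Cfsg.Agent.Lib.FusionExt.Invariant Cfsg.Agent.Lib.FusionExt.CentE
open Cfsg.Agent.Lib.FusionExt.ER0 Cfsg.Agent.Lib.FusionExt.ER1 Cfsg.Agent.Lib.FusionExt.ER2 Cfsg.Agent.Lib.FusionExt.ER3
open Cfsg.Agent.Lib.FusionExt.ER4 Cfsg.Agent.Lib.FusionExt.ER5a Cfsg.Agent.Lib.FusionExt.ER5b Cfsg.Agent.Lib.FusionExt.ER5c Cfsg.Agent.Lib.FusionExt.ER5d Cfsg.Agent.Lib.FusionExt.ER5e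
open Cfsg.Agent.Lib.FusionExt.ER6a Cfsg.Agent.Lib.FusionExt.ER6b Cfsg.Agent.Lib.FusionExt.ER6c Cfsg.Agent.Lib.FusionExt.ER6e Cfsg.Agent.Lib.FusionExt.ER7a Cfsg.Agent.Lib.FusionExt.ER7b Cfsg.Agent.Lib.FusionExt.ER7c
open Cfsg.Agent.Lib.FusionExt.Normal Cfsg.Agent.Lib.FusionExt.PIndex
open Cfsg.Agent.Lib.FusionExt.Glue1 (Uc Uc.self Uc.conj Uc.up uc_top normAct_fun conj_fun inT_iff nm_map)
open Cfsg.Agent.Lib.FusionExt.Meet3 (exists_iso eq_of_autFun autFun_congr_apply)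
open Cfsg.Agent.Lib.FusionExt.Glue3 (comm_of_conj)

universe u

variable {Ω : Type u} [Group Ω] {S T L L' R R' : Subgroup Ω} {F : FusionSystem S} {E : FusionSystem T} {p : ℕ}
variable {X X' Y Y' Z P P' Q Q₀ U W W' : Subgroup Ω} {f f' g g' h k lam : Ω → Ω}

section basic

variable [Finite S] [Fact p.Prime] (C : Cx F E p) (hR : Lv₂ T R S)
include C

include hR

theorem dn_res (h : Dn F E p R X f) (hY : Y ≤ X) : Dn F E p R Y f := by
  haveI : Finite R := finite_of_le hR.rs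
  exact (mp_DD C (hR := hR)).1 (((mp_DD C (hR := hR)).2 h).restrict hY)

theorem dn_comp (h : Dn F E p R X f) (hm : ∀ x ∈ X, f x ∈ Y) (h' : Dn F E p R Y g) : Dn F E p R X (fun x => g (f x)) := by
  haveI : Finite R := finite_of_le hR.rs
  exact (mp_DD C (hR := hR)).1 (((mp_DD C (hR := hR)).2 h).comp hm ((mp_DD C (hR := hR)).2 h'))

theorem dn_inv (h : Dn F E p R X f) (hi : Img X f Y) :
    ∃ k, Dn F E p R Y k ∧ (∀ x ∈ X, k (f x) = x) ∧ (∀ y ∈ Y, f (k y) = y) ∧ Img Y k X := by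
  haveI : Finite R := finite_of_le hR.rs
  obtain ⟨k, hk, h1, h2, h3⟩ := ((mp_DD C (hR := hR)).2 h).inverse hi
  exact ⟨k, (mp_DD C (hR := hR)).1 hk, h1, h2, h3⟩

theorem dn_congr (h : Dn F E p R X f) (e : ∀ x ∈ X, f x = g x) : Dn F E p R X g := by
  haveI : Finite R := finite_of_le hR.rs
  exact (mp_DD C (hR := hR)).1 (((mp_DD C (hR := hR)).2 h).congr e)

theorem dn_refl (hX : X ≤ R) : Dn F E p R X (fun x => x) :=
  ⟨hX, 1, R.one_mem, fun x => x, Cfsg.Agent.Lib.FusionExt.G1.Dp.refl le_sup_left, fun x _ => by group⟩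

theorem dn_conj (hX : X ≤ R) {r : Ω} (hr : r ∈ R) : Dn F E p R X (fun x => r * x * r⁻¹) :=
  ⟨hX, r, hr, fun x => x, Cfsg.Agent.Lib.FusionExt.G1.Dp.refl le_sup_left, fun _ _ => rfl⟩

omit hR in
theorem dn_mono (h : Dn F E p R X f) (hRR' : R ≤ R') : Dn F E p R' X f := by
  obtain ⟨h1, r, hr, g, hg, e⟩ := h
  exact ⟨h1.trans hRR', r, hRR' hr, g, hg, e⟩

end basic

section tr

variable [Finite S] [Fact p.Prime] (C : Cx F E p)
include C

/-- Images of a level under a map of `F`. -/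
theorem lv_img (hL : T ≤ L) (hm : Mp F L lam) (hi : Img L lam L') : T ≤ L' := by
  haveI := C.finT
  have hI := C.img_inf hm hi
  have e : L ⊓ T = T := inf_eq_right.2 hL
  rw [e] at hI
  have hle : L' ⊓ T ≤ T := inf_le_right
  have hc : Nat.card T = Nat.card ↥(L' ⊓ T) := ((hm.restrict hL).card_img hI).symm
  have h1 : L' ⊓ T = T := Subgroup.eq_of_le_of_card_ge hle (le_of_eq hc)
  rw [← h1]
  exact inf_le_left

theorem lam_T (hL : T ≤ L) (hm : Mp F L lam) (hi : Img L lam L') : Img T lam T := by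
  have hI := C.img_inf hm hi
  have h1 : T ≤ L' := lv_img C hL hm hi
  rwa [inf_eq_right.2 hL, inf_eq_right.2 h1] at hI

/-- Image of `X ⊔ T`. -/
theorem img_sup (hL : T ≤ L) (hXL : X ≤ L) (hm : Mp F L lam) (hi : Img L lam L') (hX : Img X lam X') : Img (X ⊔ T) lam (X' ⊔ T) := by
  have hT := lam_T C hL hm hi
  have hXT : X ⊔ T ≤ L := sup_le hXL hL
  have hmm := hm.restrict hXT
  constructor
  · refine maps_sup hmm (fun a ha => Subgroup.mem_sup_left (hX.1 a ha)) (fun b hb => Subgroup.mem_sup_right (hT.1 b hb))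
  · intro y hy
    obtain ⟨Y, hY⟩ := hmm.exists_img
    have hle : X' ⊔ T ≤ Y := sup_le (fun z hz => by
      obtain ⟨x, hx, rfl⟩ := hX.2 z hz
      exact hY.1 x (Subgroup.mem_sup_left hx)) (fun z hz => by
      obtain ⟨x, hx, rfl⟩ := hT.2 z hz
      exact hY.1 x (Subgroup.mem_sup_right hx))
    exact hY.2 y (hle hy)

/-- Transport of the family. -/
theorem Aa_tr (hL : Lv T L S) (hL' : Lv T L' S) (hm : Mp F L lam) (hi : Img L lam L') (h : Aa F E p L P f) (hP : Img P lam P')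
    (hff : ∀ x ∈ P, f' (lam x) = lam (f x)) : Aa F E p L' P' f' := by
  obtain ⟨hc, α, hα, e⟩ := h
  have hPS : P ≤ S := hc.cl.le
  have hmP := hm.restrict hc.le
  obtain ⟨α', hα', e'⟩ := VI_tr C hmP hP hα
  have hP'L : P' ≤ L' := fun y hy => by
    obtain ⟨x, hx, rfl⟩ := hP.2 y hy
    exact hi.1 x (hc.le hx)
  refine ⟨⟨Cl.tr C hc.cl hmP hP, hP'L, fun z hz => ?_⟩, α', hα', fun y hy => ?_⟩
  · obtain ⟨r, hr, rfl⟩ := hi.2 z hz
    obtain ⟨w, hw, ht⟩ := hc.cov r hr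
    refine ⟨lam w, hP.1 w hw, ?_⟩
    have hwL := hc.le hw
    have e1 : (lam w)⁻¹ * lam r = lam (w⁻¹ * r) := by
      rw [hm.map_mul (L.inv_mem hwL) hr, hm.map_inv hwL]
    rw [e1]
    exact C.mem_T hm (L.mul_mem (L.inv_mem hwL) hr) ht
  · obtain ⟨x, hx, rfl⟩ := hP.2 y hy
    rw [hff x hx, e x hx, e' x hx]

/-- **Transport of paths along maps of `F` on overgroups of `T`.** -/
theorem Dp_tr (hL : Lv T L S) (hL' : Lv T L' S) (hm : Mp F L lam) (hi : Img L lam L') (hd : LP F E p L X f) :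
    ∀ {X' : Subgroup Ω} {f' : Ω → Ω}, Img X lam X' → (∀ x ∈ X, f' (lam x) = lam (f x)) → LP F E p L' X' f' := by
  induction hd with
  | nil hX h1 =>
    intro X' f' hX' hff
    refine .nil (fun y hy => ?_) (fun y hy => ?_)
    · obtain ⟨x, hx, rfl⟩ := hX'.2 y hy
      exact hi.1 x (hX hx)
    · obtain ⟨x, hx, rfl⟩ := hX'.2 y hy
      rw [hff x hx, h1 x hx]
  | @cons X₁ Y₁ P₁ g₁ h₁ f₁ h1 h2 h3 h4 h5 ih =>
    intro X' f' hX' hff
    obtain ⟨k', hk', k1, k2, k3⟩ := hm.inverse hi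
    have hPL : P₁ ≤ L := h1.1.le
    obtain ⟨P₂, hP₂⟩ := (hm.restrict hPL).exists_img
    have hY₁L : Y₁ ≤ L := by
      have := (lp_fr C hL h4).le
      exact this
    obtain ⟨Y₂, hY₂⟩ := (hm.restrict hY₁L).exists_img
    let g₂ : Ω → Ω := fun y => lam (g₁ (k' y))
    let h₂ : Ω → Ω := fun y => lam (h₁ (k' y))
    have hg₂ : ∀ x ∈ P₁, g₂ (lam x) = lam (g₁ x) := fun x hx => by
      show lam (g₁ (k' (lam x))) = _
      rw [k1 x (hPL hx)]
    have hh₂ : ∀ x ∈ Y₁, h₂ (lam x) = lam (h₁ x) := fun x hx => by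
      show lam (h₁ (k' (lam x))) = _
      rw [k1 x (hY₁L hx)]
    have hA := Aa_tr C hL hL' hm hi h1 hP₂ hg₂
    have hrest := ih hY₂ hh₂
    refine .cons hA (fun y hy => ?_) (Y := Y₂) ?_ hrest (fun y hy => ?_)
    · obtain ⟨x, hx, rfl⟩ := hX'.2 y hy
      exact hP₂.1 x (h2 hx)
    · refine ⟨fun y hy => ?_, fun y hy => ?_⟩
      · obtain ⟨x, hx, rfl⟩ := hX'.2 y hy
        rw [hg₂ x (h2 hx)]
        exact hY₂.1 _ (h3.1 x hx)
      · obtain ⟨u, hu, rfl⟩ := hY₂.2 y hy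
        obtain ⟨x, hx, rfl⟩ := h3.2 u hu
        refine ⟨lam x, hX'.1 x hx, ?_⟩
        rw [hg₂ x (h2 hx)]
    · obtain ⟨x, hx, rfl⟩ := hX'.2 y hy
      rw [hff x hx, h5 x hx, hg₂ x (h2 hx), hh₂ _ (h3.1 x hx)]

/-- **Transport of the maps of `E·R` along maps of `F` on overgroups of `T`.** -/
theorem Dn_tr (hR : Lv₂ T R S) (hR' : R' ≤ S) (hm : Mp F R lam) (hi : Img R lam R') (hd : Dn F E p R X f) (hX : Img X lam X')
    (hff : ∀ x ∈ X, f' (lam x) = lam (f x)) : Dn F E p R' X' f' := by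
  obtain ⟨h1, r, hr, g₀, hg₀, e⟩ := hd
  have hXS : X ≤ S := h1.trans hR.rs
  have hT' : T ≤ R' := lv_img C hR.tr hm hi
  have hX'R' : X' ≤ R' := fun y hy => by
    obtain ⟨x, hx, rfl⟩ := hX.2 y hy
    exact hi.1 x (h1 hx)
  have hX'S : X' ≤ S := hX'R'.trans hR'
  have hsup := img_sup C hR.tr h1 hm hi hX
  have hLe : X ⊔ T ≤ R := sup_le h1 hR.tr
  obtain ⟨k', hk', k1, k2, k3⟩ := hm.inverse hi
  let g₁ : Ω → Ω := fun y => lam (g₀ (k' y))
  have hg₁ : ∀ x ∈ X, g₁ (lam x) = lam (g₀ x) := fun x hx => by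
    show lam (g₀ (k' (lam x))) = _
    rw [k1 x (h1 hx)]
  have hd₁ := Dp_tr C (lv_sup C hXS) (lv_sup C hX'S) (hm.restrict hLe) hsup hg₀ hX hg₁
  refine ⟨hX'R', lam r, hi.1 r hr, g₁, hd₁, fun y hy => ?_⟩
  obtain ⟨x, hx, rfl⟩ := hX.2 y hy
  have hg₀x : g₀ x ∈ R := by
    have A := fam (p := p) C (lv_sup C hXS)
    exact hLe (hg₀.mem_T A hx)
  rw [hff x hx, e x hx, hg₁ x hx, hm.map_conj hr hg₀x]

end tr

section fnD

variable [Finite S] [Fact p.Prime] (C : Cx F E p) (hR : Lv₂ T R S)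
include C hR

/-- **Fully normalized subgroups remain fully normalized in `E·R`.** -/
theorem fn_D (D : FusionSystem R) (hD : ∀ {X f}, Mp D X f ↔ Dn F E p R X f) (hfn : F.IsFullyNormalized W) (hWR : W ≤ R)
    (hcov : ∀ r ∈ R, ∃ u ∈ normalizerIn R W, u⁻¹ * r ∈ T) : D.IsFullyNormalized W := by
  haveI hfR : Finite R := finite_of_le hR.rs
  haveI := C.finT
  have hRp : IsPGroup p R := C.hS.to_le hR.rs
  have hDs : D.IsSaturated p := DD_sat C hR D hD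
  obtain ⟨W₂, hW₂c, hW₂fn⟩ := exists_isFullyNormalized D hWR
  have hFA := isFullyAutomized_of_isFullyNormalized D hRp hDs hW₂fn
  have hrec := isReceptive_of_isFullyNormalized D hRp hDs hW₂fn
  obtain ⟨φ, hφ, hφv, hφr⟩ := exists_normalizer_map D hRp hFA hrec hW₂c
  have he : Mp D (normalizerIn R W) (extOf φ) := mp_of_hom hφ
  have heF : Mp F (normalizerIn R W) (extOf φ) := Dn.mp C hR (hD.1 he)
  obtain ⟨-, -, r₁, hr₁, h3, -⟩ := dn_fr C hR (hD.1 he)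
  have hr₁S : r₁ ∈ S := hR.rs hr₁
  have hFAF := isFullyAutomized_of_isFullyNormalized F C.hS C.hF hfn
  have hrecF := isReceptive_of_isFullyNormalized F C.hS C.hF hfn
  have hconj : F.IsConj W₂ W := by
    obtain ⟨f₀, hf₀, hi₀⟩ := mp_of_conj hW₂c
    obtain ⟨k, hk, -, -, k3⟩ := (Dn.mp C hR (hD.1 hf₀)).inverse hi₀
    exact hk.isConj k3
  obtain ⟨χ, hχ, hχv, hχr⟩ := exists_normalizer_map F C.hS hFAF hrecF hconj
  have hχm : Mp F (normalizerIn S W₂) (extOf χ) := mp_of_hom hχ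
  have hTR : T ≤ R := hR.tr
  have hTS : T ≤ S := C.hTS
  haveI : Finite (normalizerIn T W) := finite_of_le (inf_le_left.trans hTS)
  haveI : Finite (normalizerIn T W₂) := finite_of_le (inf_le_left.trans hTS)
  -- orders of the normalizers in `T`
  have hc1 : Nat.card (normalizerIn T W₂) ≤ Nat.card (normalizerIn T W) := by
    have hm : ∀ t ∈ normalizerIn T W₂, extOf χ t ∈ normalizerIn T W := by
      intro t ht
      have htS : t ∈ normalizerIn S W₂ := ⟨hTS ht.1, ht.2⟩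
      have h1 := hχv ⟨t, htS⟩
      have h2 : extOf χ t = χ ⟨t, htS⟩ := extOf_of_mem χ htS
      rw [h2]
      refine ⟨?_, h1.2⟩
      rw [← h2]
      exact C.mem_T hχm htS ht.1
    refine Nat.card_le_card_of_injective (fun t : normalizerIn T W₂ => (⟨extOf χ t, hm t t.2⟩ : normalizerIn T W)) ?_
    intro a b e
    have hA : (a : Ω) ∈ normalizerIn S W₂ := ⟨hTS a.2.1, a.2.2⟩
    have hB : (b : Ω) ∈ normalizerIn S W₂ := ⟨hTS b.2.1, b.2.2⟩
    exact Subtype.ext (hχm.inj hA hB (congrArg Subtype.val e))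
  have hm2 : ∀ t ∈ normalizerIn T W, extOf φ t ∈ normalizerIn T W₂ := by
    intro t ht
    have htS : t ∈ normalizerIn R W := ⟨hTR ht.1, ht.2⟩
    have h1 := hφv ⟨t, htS⟩
    have h2 : extOf φ t = φ ⟨t, htS⟩ := extOf_of_mem φ htS
    rw [h2]
    refine ⟨?_, h1.2⟩
    rw [← h2]
    exact C.mem_T heF htS ht.1
  have hinj2 : Function.Injective (fun t : normalizerIn T W => (⟨extOf φ t, hm2 t t.2⟩ : normalizerIn T W₂)) := by
    intro a b e
    have hA : (a : Ω) ∈ normalizerIn R W := ⟨hTR a.2.1, a.2.2⟩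
    have hB : (b : Ω) ∈ normalizerIn R W := ⟨hTR b.2.1, b.2.2⟩
    exact Subtype.ext (he.inj hA hB (congrArg Subtype.val e))
  have hsurj : Function.Surjective (fun t : normalizerIn T W => (⟨extOf φ t, hm2 t t.2⟩ : normalizerIn T W₂)) :=
    (Function.Injective.bijective_of_nat_card_le hinj2 hc1).2
  obtain ⟨Y₁, hY₁⟩ := he.exists_img
  have hle : normalizerIn R W₂ ≤ Y₁ := by
    intro r₂ hr₂
    have h0 : r₁⁻¹ * r₂ * r₁ ∈ R := R.mul_mem (R.mul_mem (R.inv_mem hr₁) hr₂.1) hr₁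
    obtain ⟨u, hu, hut⟩ := hcov _ h0
    have h1 := h3 u hu
    have h2 : (extOf φ u)⁻¹ * r₂ ∈ T := by
      have e : (extOf φ u)⁻¹ * r₂ = ((r₁ * u * r₁⁻¹)⁻¹ * extOf φ u)⁻¹ * (r₁ * (u⁻¹ * (r₁⁻¹ * r₂ * r₁)) * r₁⁻¹) := by group
      rw [e]
      exact T.mul_mem (T.inv_mem h1) (sc_conj_mem F C.hT hr₁S hut)
    have hun : extOf φ u ∈ normalizerIn R W₂ := by
      have := hφv ⟨u, hu⟩
      rwa [← extOf_of_mem φ hu] at this
    have hn : (extOf φ u)⁻¹ * r₂ ∈ Subgroup.normalizer (W₂ : Set Ω) :=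
      Subgroup.mul_mem _ (Subgroup.inv_mem _ hun.2) hr₂.2
    obtain ⟨t, ht⟩ := hsurj ⟨_, h2, hn⟩
    have ht' : extOf φ t = (extOf φ u)⁻¹ * r₂ := congrArg Subtype.val ht
    have htN : (t : Ω) ∈ normalizerIn R W := ⟨hTR t.2.1, t.2.2⟩
    have e : r₂ = extOf φ (u * t) := by
      rw [he.map_mul hu htN, ht']
      group
    rw [e]
    exact hY₁.1 _ (Subgroup.mul_mem _ hu htN)
  have hc2 : Nat.card (normalizerIn R W₂) ≤ Nat.card (normalizerIn R W) := by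
    haveI : Finite Y₁ := finite_of_le ((he.img_le hY₁).trans hR.rs)
    have := Subgroup.card_le_of_le hle
    rwa [he.card_img hY₁] at this
  refine ⟨hWR, fun Q' hQ' => ?_⟩
  have h5 := hW₂fn.2 Q' (isConj_trans D (isConj_symm D hW₂c) hQ')
  exact h5.trans hc2

/-- `E·R` is a system as in `Gs`. -/
theorem gs_D (D : FusionSystem R) (hD : ∀ {X f}, Mp D X f ↔ Dn F E p R X f) (hsub : D.IsSubsystemOf F) : Gs F E p D := by
  haveI := C.finT
  refine ⟨DD_sat C hR D hD, hsub, fun P => E_le_D C hR D hD P, ?_, fun P hP a ha m hm ham => ?_⟩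
  · exact (hyp_le C hR D hD).trans (Cfsg.Agent.Lib.FusionExt.Hyperfocal.hyperfocal_le (F := E) (p := p))
  · exact aut_E_of_coprime C hR hP (hD.1 (mp_autFun (hP.trans hR.tr) ha)) hm ham

end fnD

end Cfsg.Agent.Lib.FusionExt.ER8a
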