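import Cfsg.Agent.Lib.FusionExt.ER8a

/-!
# The product `E·R`: the factorization of maps of `F` (helper92)
-/

set_option autoImplicit false
set_option linter.unusedSectionVars false
set_option maxHeartbeats 1000000

namespace Cfsg.Agent.Lib.FusionExt.ER8b

open Cfsg Cfsg.FusionSystem Cfsg.Agent.Lib.Fusion.Basic Cfsg.Agent.Lib.Fusion.GroupSystem
open Cfsg.Agent.Lib.FusionExt.MapApi Cfsg.Agent.Lib.FusionExt.PowerSys Cfsg.Agent.Lib.FusionExt.LowPi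
open Cfsg.Agent.Lib.FusionExt.PrimeRes1 Cfsg.Agent.Lib.Fusion.Saturation Cfsg.Agent.Lib.Fusion.Saturation2
open Cfsg.Agent.Lib.FusionExt.Invariant Cfsg.Agent.Lib.FusionExt.CentE
open Cfsg.Agent.Lib.FusionExt.ER0 Cfsg.Agent.Lib.FusionExt.ER1 Cfsg.Agent.Lib.FusionExt.ER2 Cfsg.Agent.Lib.FusionExt.ER3
open Cfsg.Agent.Lib.FusionExt.ER4 Cfsg.Agent.Lib.FusionExt.ER5a Cfsg.Agent.Lib.FusionExt.ER5b Cfsg.Agent.Lib.FusionExt.ER5c Cfsg.Agent.Lib.FusionExt.ER5d Cfsg.Agent.Lib.FusionExt.ER5e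
open Cfsg.Agent.Lib.FusionExt.ER6a Cfsg.Agent.Lib.FusionExt.ER6b Cfsg.Agent.Lib.FusionExt.ER6c Cfsg.Agent.Lib.FusionExt.ER6e Cfsg.Agent.Lib.FusionExt.ER7a Cfsg.Agent.Lib.FusionExt.ER7b Cfsg.Agent.Lib.FusionExt.ER7c
open Cfsg.Agent.Lib.FusionExt.ER8a
open Cfsg.Agent.Lib.FusionExt.Normal Cfsg.Agent.Lib.FusionExt.PIndex
open Cfsg.Agent.Lib.FusionExt.Glue1 (Uc Uc.self Uc.conj Uc.up uc_top normAct_fun conj_fun inT_iff nm_map)
open Cfsg.Agent.Lib.FusionExt.Meet3 (exists_iso eq_of_autFun autFun_congr_apply)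
open Cfsg.Agent.Lib.FusionExt.Glue3 (comm_of_conj)

universe u

variable {Ω : Type u} [Group Ω] {S T L L' R R' : Subgroup Ω} {F : FusionSystem S} {E : FusionSystem T} {p : ℕ}
variable {X X' Y Y' Z P P' Q Q₀ U W W' W₁ : Subgroup Ω} {f f' g g' h k lam ψ a : Ω → Ω}

/-- The factorization property at `W`. -/
def FzP (F : FusionSystem S) (E : FusionSystem T) (p : ℕ) (W : Subgroup Ω) : Prop :=
  ∀ W' ψ, Mp F W ψ → Img W ψ W' → ∃ e lam, Dn F E p (W' ⊔ T) W' e ∧ Mp F (W ⊔ T) lam ∧ ∀ x ∈ W, lam x = e (ψ x)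

/-- Extension over a subgroup of the normalizer, at a receptive target. -/
theorem ext_set {G : FusionSystem S} (hQ : G.IsReceptive Q) (hf : Mp G X f) (hi : Img X f Q) {Y₀ : Subgroup Ω} (hY : Y₀ ≤ S)
    (hN : Y₀ ≤ Subgroup.normalizer (X : Set Ω)) (h : ∀ y ∈ Y₀, ∃ a ∈ S, ∀ x ∈ X, f (y * x * y⁻¹) = a * f x * a⁻¹) :
    ∃ g, Mp G (X ⊔ Y₀) g ∧ ∀ x ∈ X, g x = f x := by
  have hf' := hf
  obtain ⟨φ, hφ, e⟩ := hf
  have hr : φ.range = Q := Mp.range_eq e hi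
  have hT : X ⊔ Y₀ ≤ extender S X φ := by
    refine sup_le (fun z hz => ?_) (fun y hy => ?_)
    · have hN' : z ∈ Subgroup.normalizer (X : Set Ω) := Subgroup.le_normalizer hz
      refine mem_extender_of φ (hf'.le hz) hN' (hf'.mem_S hz) (fun x => ?_)
      rw [e, e]
      exact hf'.map_conj hz x.2
    · obtain ⟨a, ha, h1⟩ := h y hy
      refine mem_extender_of φ (hY hy) (hN hy) ha (fun x => ?_)
      rw [e, e]
      exact h1 x x.2
  obtain ⟨ψ, hψ, hext⟩ := IsReceptive.exists_extension G hQ hφ hr hT le_sup_left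
  refine ⟨extOf ψ, mp_of_hom hψ, fun x hx => ?_⟩
  rw [extOf_of_mem ψ (Subgroup.mem_sup_left hx), ← e ⟨x, hx⟩]
  exact hext ⟨x, hx⟩

section main

variable [Finite S] [Fact p.Prime] (C : Cx F E p)
include C

/-- An element of the normalizer in the centralizer outside. -/
theorem exists_c (hR : Lv₂ T R S) (hWR : W ≤ R) (hWc : ¬ centralizerIn R (W ⊓ T) ≤ W) :
    ∃ c ∈ centralizerIn R (W ⊓ T), c ∈ Subgroup.normalizer (W : Set Ω) ∧ c ∉ W := by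
  have hWS : W ≤ S := hWR.trans hR.rs
  haveI : Finite W := finite_of_le hWS
  haveI : Finite R := finite_of_le hR.rs
  have hWn : W ≤ Subgroup.normalizer ((centralizerIn R (W ⊓ T) : Subgroup Ω) : Set Ω) := by
    intro w hw
    have hn : w ∈ normalizerIn S (W ⊓ T) := mem_norm_inf C hWS hw
    have hwR := hWR hw
    rw [Subgroup.mem_normalizer_iff]
    intro d
    constructor
    · intro hd
      exact mem_cent.2 ⟨R.mul_mem (R.mul_mem hwR (mem_cent.1 hd).1) (R.inv_mem hwR), (mem_cent.1 (conj_cent' hn (mem_cent.2 ⟨hR.rs (mem_cent.1 hd).1, (mem_cent.1 hd).2⟩))).2⟩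
    · intro hd
      have h1 := conj_cent' ((normalizerIn S (W ⊓ T)).inv_mem hn) (mem_cent.2 ⟨hR.rs (mem_cent.1 hd).1, (mem_cent.1 hd).2⟩)
      have e1 : w⁻¹ * (w * d * w⁻¹) * w⁻¹⁻¹ = d := by group
      rw [e1] at h1
      have hdR : d ∈ R := by
        have := R.mul_mem (R.mul_mem (R.inv_mem hwR) (mem_cent.1 hd).1) hwR
        rwa [show w⁻¹ * (w * d * w⁻¹) * w = d by group] at this
      exact mem_cent.2 ⟨hdR, (mem_cent.1 h1).2⟩
  let V : Subgroup Ω := W ⊔ centralizerIn R (W ⊓ T)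
  have hVR : V ≤ R := _root_.sup_le hWR inf_le_left
  have hWV : W < V := by
    refine lt_of_le_of_ne le_sup_left (fun e => hWc ?_)
    intro x hx
    exact e.symm.le (Subgroup.mem_sup_right hx)
  haveI : Finite V := finite_of_le (hVR.trans hR.rs)
  have hVp : IsPGroup p V := C.hS.to_le (hVR.trans hR.rs)
  have hlt := lt_normalizerIn hVp hWV
  obtain ⟨y, hy, hyW⟩ := SetLike.exists_of_lt hlt
  obtain ⟨w, hw, c, hc', rfl⟩ := exists_mul_of_mem_sup' hWn hy.1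
  have hcN : c ∈ Subgroup.normalizer (W : Set Ω) := by
    have := Subgroup.mul_mem _ (Subgroup.le_normalizer (W.inv_mem hw)) hy.2
    simpa using this
  exact ⟨c, hc', hcN, fun h => hyW (W.mul_mem hw h)⟩

/-- Closedness passes to all conjugates from a fully normalized subgroup. -/
theorem closed_all (hR : Lv₂ T R S) (D : FusionSystem R) (hD : ∀ {X f}, Mp D X f ↔ Dn F E p R X f) (hfn : D.IsFullyNormalized W)
    (hcl : centralizerIn R (W ⊓ T) ≤ W) (hP : D.IsConj W P) : centralizerIn R (P ⊓ T) ≤ P := by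
  haveI : Finite R := finite_of_le hR.rs
  have hRp : IsPGroup p R := C.hS.to_le hR.rs
  have hDs : D.IsSaturated p := DD_sat C hR D hD
  have hPR : P ≤ R := isConj_right_le _ hP
  by_contra hc
  obtain ⟨c, hcC, hcN, hcP⟩ := exists_c C hR hPR hc
  obtain ⟨ρ, hρ, hρN, hρi⟩ := nm_map hRp hDs hfn (isConj_symm D hP)
  have hρF : Mp F (normalizerIn R P) ρ := Dn.mp C hR (hD.1 hρ)
  have hcN' : c ∈ normalizerIn R P := ⟨(mem_cent.1 hcC).1, hcN⟩
  have hPN : P ≤ normalizerIn R P := fun x hx => ⟨hPR hx, Subgroup.le_normalizer hx⟩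
  have h1 : ρ c ∈ centralizerIn R (W ⊓ T) := by
    refine mem_cent.2 ⟨(hρN c hcN').1, fun v hv => (mul_inv_eq_iff_eq_mul.1 ?_).symm⟩
    obtain ⟨q, hq, rfl⟩ := hρi.2 v hv.1
    have hqT : q ∈ T := C.of_mem_T hρF (hPN hq) hv.2
    have h3 := (mem_cent.1 hcC).2 q ⟨hq, hqT⟩
    have e : c * q * c⁻¹ = q := by
      rw [← h3]
      group
    rw [← hρ.map_conj hcN' (hPN hq), e]
  have h2 := hcl h1
  obtain ⟨q, hq, eq⟩ := hρi.2 _ h2
  have := hρ.inj (hPN hq) hcN' eq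
  exact hcP (this ▸ hq)

/-- Conjugation by the normalizer in the level lies in `VI`. -/
theorem conj_VI (hWS : W ≤ S) {n : Ω} (hn : n ∈ normalizerIn (W ⊔ T) W) {c : MulAut W} (hc : IsC W c n) : c ∈ VI F E p W := by
  haveI : Finite W := finite_of_le hWS
  obtain ⟨w, hw, t, ht, rfl⟩ := dec_sup C hWS hn.1
  have hwN : w ∈ Subgroup.normalizer (W : Set Ω) := Subgroup.le_normalizer hw
  have htN : t ∈ Subgroup.normalizer (W : Set Ω) := by
    have := Subgroup.mul_mem _ (Subgroup.inv_mem _ hwN) hn.2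
    simpa using this
  have e : c = normAct W hwN * normAct W htN := by
    apply eq_of_autFun
    intro x hx
    rw [autFun_mul_apply, normAct_fun hwN (autFun_mem _ hx), normAct_fun htN hx, hc x hx]
    group
  rw [e]
  refine Subgroup.mul_mem _ (mem_VI_inn hw (isC_normAct hwN)) (mem_VI_V (mem_Vv_T hWS (inT_iff.2 ⟨t, ⟨ht, htN⟩, fun x hx => normAct_fun htN hx⟩)))

/-- Members of `VI` at a closed subgroup are maps of `E·(W T)`. -/
theorem dn_of_VI (hcl : Cl F E W) {α : MulAut W} (hα : α ∈ VI F E p W) : Dn F E p (W ⊔ T) W (autFun α) := by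
  have hWS : W ≤ S := hcl.le
  have hclr : ClR F E (W ⊔ T) W := ⟨hcl, le_sup_left, fun r hr => by
    obtain ⟨y, hy, t, ht, rfl⟩ := dec_sup C hWS hr
    exact ⟨y, hy, by simpa using ht⟩⟩
  refine ⟨le_sup_left, 1, Subgroup.one_mem _, autFun α, ?_, fun x _ => by group⟩
  exact .cons (g := autFun α) (h := fun x => x) ⟨hclr, α, hα, fun _ _ => rfl⟩ le_rfl (img_autFun α)
    (.nil le_sup_left (fun _ _ => rfl)) (fun _ _ => rfl)

/-- Levels of maps of `E·(W T)`. -/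
theorem dn_level (hWS : W ≤ S) (h : Dn F E p (W ⊔ T) W f) (hi : Img W f W') : W' ⊔ T = W ⊔ T := by
  obtain ⟨-, r, hr, g, hg, e⟩ := h
  have hL := lv_sup C hWS
  have hf := lp_fr C hL hg
  obtain ⟨Y, hY⟩ := hf.mp.exists_img
  have h1 : Y ⊔ T = W ⊔ T := level_img C hWS hf hY
  have hrS : r ∈ S := hL.ls hr
  have h2 : W' = conjMap r Y := by
    refine hi.unique ?_
    have := hY.comp (img_conj (X := Y) (r := r))
    exact this.congr (fun x hx => (e x hx).symm)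
  rw [h2, ← conj_sup C hrS, h1, conj_of_mem hr]

/-- Elements of the level cover modulo `T`. -/
theorem cov_sup (hWS : W ≤ S) : ∀ r ∈ W ⊔ T, ∃ u ∈ normalizerIn (W ⊔ T) W, u⁻¹ * r ∈ T := fun r hr => by
  obtain ⟨y, hy, t, ht, rfl⟩ := dec_sup C hWS hr
  exact ⟨y, ⟨Subgroup.mem_sup_left hy, Subgroup.le_normalizer hy⟩, by simpa using ht⟩

/-- A fully normalized closed subgroup is in the class. -/
theorem cl_of_closed (hfn : F.IsFullyNormalized W) (hcl : centralizerIn (W ⊔ T) (W ⊓ T) ≤ W) : Cl F E W := by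
  have hWS : W ≤ S := hfn.1
  have hR : Lv₂ T (W ⊔ T) S := ⟨le_sup_right, _root_.sup_le hWS C.hTS⟩
  haveI : Finite ↥(W ⊔ T) := finite_of_le hR.rs
  have hfnD := fn_D C hR (DD C hR) (mp_DD C) hfn le_sup_left (cov_sup C hWS)
  exact cl_of_cent C hR (DD C hR) (mp_DD C) le_sup_left (fun P'' hc => closed_all C hR _ (mp_DD C) hfnD hcl hc)

/-- Maps of `F` on a fully normalized subgroup extend over the centralizer in the level. -/
theorem alpha_ext (hfn : F.IsFullyNormalized W) (ha : Mp F W a) (hi : Img W a W) :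
    ∃ g, Mp F (W ⊔ (centralizerIn (W ⊔ T) (W ⊓ T) ⊓ Subgroup.normalizer (W : Set Ω))) g ∧ ∀ x ∈ W, g x = a x := by
  have hWS : W ≤ S := hfn.1
  haveI : Finite W := finite_of_le hWS
  haveI : Finite (MulAut W) := Cfsg.Agent.Lib.Fusion.Basic.finite_mulAut_of_finite (A := W)
  have hFA := isFullyAutomized_of_isFullyNormalized F C.hS C.hF hfn
  have hrec := isReceptive_of_isFullyNormalized F C.hS C.hF hfn
  have hTS : T ≤ S := C.hTS
  let Lh : Subgroup (MulAut W) :=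
    { carrier := {c | c ∈ F.autGroup W ∧ (∀ q ∈ W ⊓ T, autFun c q = q) ∧ ∃ r ∈ W, ∀ x ∈ W, (r * x * r⁻¹)⁻¹ * autFun c x ∈ T}
      one_mem' := ⟨Subgroup.one_mem _, fun q _ => autFun_one_apply q, 1, W.one_mem, fun x _ => by
        rw [autFun_one_apply]
        have e : (1 * x * (1 : Ω)⁻¹)⁻¹ * x = 1 := by group
        rw [e]
        exact T.one_mem⟩
      mul_mem' := by
        rintro c d ⟨h1, h2, r, hr, h3⟩ ⟨k1, k2, u, hu, k3⟩
        refine ⟨Subgroup.mul_mem _ h1 k1, fun q hq => ?_, r * u, W.mul_mem hr hu, fun x hx => ?_⟩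
        · rw [autFun_mul_apply, k2 q hq, h2 q hq]
        · have hy : u * x * u⁻¹ ∈ W := W.mul_mem (W.mul_mem hu hx) (W.inv_mem hu)
          have hτ : (u * x * u⁻¹)⁻¹ * autFun d x ∈ W ⊓ T := ⟨W.mul_mem (W.inv_mem hy) (autFun_mem _ hx), k3 x hx⟩
          have e : autFun d x = (u * x * u⁻¹) * ((u * x * u⁻¹)⁻¹ * autFun d x) := by group
          rw [autFun_mul_apply, e, autFun_mul c hy hτ.1, h2 _ hτ]
          have h4 := T.mul_mem (h3 _ hy) hτ.2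
          have e2 : (r * u * x * (r * u)⁻¹)⁻¹ * (autFun c (u * x * u⁻¹) * ((u * x * u⁻¹)⁻¹ * autFun d x)) =
              (r * (u * x * u⁻¹) * r⁻¹)⁻¹ * autFun c (u * x * u⁻¹) * ((u * x * u⁻¹)⁻¹ * autFun d x) := by group
          rw [e2]
          exact h4
      inv_mem' := by
        rintro c ⟨h1, h2, r, hr, h3⟩
        refine ⟨Subgroup.inv_mem _ h1, fun q hq => ?_, r⁻¹, W.inv_mem hr, fun x hx => ?_⟩
        · have := autFun_inv_apply c q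
          rwa [h2 q hq] at this
        · have hz : autFun c⁻¹ x ∈ W := autFun_mem _ hx
          have h4 := h3 _ hz
          rw [autFun_apply_inv] at h4
          have h5 := sc_conj_mem F C.hT (S.inv_mem (hWS hr)) (T.inv_mem h4)
          have e : (r⁻¹ * x * r⁻¹⁻¹)⁻¹ * autFun c⁻¹ x = r⁻¹ * ((r * autFun c⁻¹ x * r⁻¹)⁻¹ * x)⁻¹ * r⁻¹⁻¹ := by group
          rw [e]
          exact h5 }
  have hLh : ∀ {c}, c ∈ Lh ↔ c ∈ F.autGroup W ∧ (∀ q ∈ W ⊓ T, autFun c q = q) ∧ ∃ r ∈ W, ∀ x ∈ W, (r * x * r⁻¹)⁻¹ * autFun c x ∈ T := Iff.rfl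
  have h1 : Lh ≤ F.autGroup W := fun c hc => hc.1
  have h2 : IsPGroup p Lh := by
    refine isPGroup_of_pow_eq_one (fun c hc => ?_)
    obtain ⟨-, k1, r, hr, k2⟩ := hLh.1 hc
    exact fix_pgroup C hWS (hWS hr) k2 k1
  have h3 : ∀ b ∈ F.autGroup W, ∀ c ∈ Lh, b * c * b⁻¹ ∈ Lh := by
    rintro b hb c ⟨k1, k2, r, hr, k3⟩
    have hbi := Subgroup.inv_mem _ hb
    have hm : Mp F W (autFun b) := mp_autFun hWS hb
    have hmi : Mp F W (autFun b⁻¹) := mp_autFun hWS hbi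
    refine ⟨Subgroup.mul_mem _ (Subgroup.mul_mem _ hb k1) hbi, fun q hq => ?_, autFun b r, autFun_mem _ hr, fun x hx => ?_⟩
    · have hq' : autFun b⁻¹ q ∈ W ⊓ T := ⟨autFun_mem _ hq.1, C.mem_T hmi hq.1 hq.2⟩
      rw [autFun_mul_apply, autFun_mul_apply, k2 _ hq', autFun_apply_inv]
    · have hz : autFun b⁻¹ x ∈ W := autFun_mem _ hx
      have hy : r * autFun b⁻¹ x * r⁻¹ ∈ W := W.mul_mem (W.mul_mem hr hz) (W.inv_mem hr)
      have hτ : (r * autFun b⁻¹ x * r⁻¹)⁻¹ * autFun c (autFun b⁻¹ x) ∈ W ⊓ T := ⟨W.mul_mem (W.inv_mem hy) (autFun_mem _ hz), k3 _ hz⟩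
      have e : autFun c (autFun b⁻¹ x) = (r * autFun b⁻¹ x * r⁻¹) * ((r * autFun b⁻¹ x * r⁻¹)⁻¹ * autFun c (autFun b⁻¹ x)) := by group
      rw [autFun_mul_apply, autFun_mul_apply, e, autFun_mul b hy hτ.1, hm.map_conj hr hz, autFun_apply_inv]
      have e2 : (autFun b r * x * (autFun b r)⁻¹)⁻¹ * (autFun b r * x * (autFun b r)⁻¹ * autFun b ((r * autFun b⁻¹ x * r⁻¹)⁻¹ * autFun c (autFun b⁻¹ x))) =
          autFun b ((r * autFun b⁻¹ x * r⁻¹)⁻¹ * autFun c (autFun b⁻¹ x)) := by group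
      rw [e2]
      exact C.mem_T hm hτ.1 hτ.2
  have hLop := Cfsg.Agent.Lib.FusionExt.SatCrit1.le_opAut h1 h2 h3
  have hLS : Lh ≤ autInducedBy S W := hLop.trans (Cfsg.Agent.Lib.FusionExt.SatCrit1.opAut_le_autInducedBy hFA)
  obtain ⟨α, hα, eα⟩ := toAut' ha hi
  refine ext_set hrec ha hi (fun y hy => ((lv_sup C hWS).ls (mem_cent.1 hy.1).1)) (fun y hy => hy.2) (fun y hy => ?_)
  have hyN := hy.2
  have hyC := mem_cent.1 hy.1
  have hyS : y ∈ S := (lv_sup C hWS).ls hyC.1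
  have hc : normAct W hyN ∈ Lh := by
    refine ⟨autInducedBy_le_autGroup F hWS (normAct_mem_autInducedBy S W hyN hyS), fun q hq => ?_, ?_⟩
    · rw [normAct_fun hyN hq.1, ← hyC.2 q hq]
      group
    · obtain ⟨w, hw, t, ht, e⟩ := dec_sup C hWS hyC.1
      refine ⟨w, hw, fun x hx => ?_⟩
      rw [normAct_fun hyN hx]
      have h5 := sc_conj_mem F C.hT (S.inv_mem (hWS hx)) ht
      have h6 := T.mul_mem h5 (T.inv_mem ht)
      have h7 := sc_conj_mem F C.hT (hWS hw) h6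
      have e2 : (w * x * w⁻¹)⁻¹ * (y * x * y⁻¹) = w * (x⁻¹ * t * x⁻¹⁻¹ * t⁻¹) * w⁻¹ := by
        rw [e]
        group
      rw [e2]
      exact h7
  have hαc := h3 α hα _ hc
  obtain ⟨s, hs, es⟩ := inT_iff.1 (hLS hαc)
  refine ⟨s, hs.1, fun x hx => ?_⟩
  have h4 := es _ (autFun_mem α hx)
  rw [conj_fun, normAct_fun hyN hx] at h4
  have hyx : y * x * y⁻¹ ∈ W := norm_conj hyN hx
  rw [eα _ hyx, eα x hx] at h4
  exact h4

/-- The transport of conjugations by the level at a non-closed fully normalized subgroup. -/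
theorem nm_open (hfn : F.IsFullyNormalized W) (hIH : ∀ W₂, W₂ ≤ S → Nat.card W < Nat.card W₂ → FzP F E p W₂)
    (hWc : ¬ centralizerIn (W ⊔ T) (W ⊓ T) ≤ W) (ha : Mp F W a) (hi : Img W a W) {r : Ω} (hr : r ∈ normalizerIn (W ⊔ T) W) :
    ∃ f, Dn F E p (W ⊔ T) W f ∧ ∀ x ∈ W, f (a x) = a (r * x * r⁻¹) := by
  have hWS : W ≤ S := hfn.1
  have hR : Lv₂ T (W ⊔ T) S := ⟨le_sup_right, _root_.sup_le hWS C.hTS⟩
  haveI : Finite W := finite_of_le hWS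
  have hrS : r ∈ S := hR.rs hr.1
  obtain ⟨Wp, hWp⟩ : ∃ Wp, Wp = W ⊔ (centralizerIn (W ⊔ T) (W ⊓ T) ⊓ Subgroup.normalizer (W : Set Ω)) := ⟨_, rfl⟩
  have hYR : centralizerIn (W ⊔ T) (W ⊓ T) ⊓ Subgroup.normalizer (W : Set Ω) ≤ W ⊔ T := fun y hy => (mem_cent.1 hy.1).1
  have hWpR : Wp ≤ W ⊔ T := hWp ▸ _root_.sup_le le_sup_left hYR
  have hWpS : Wp ≤ S := hWpR.trans hR.rs
  haveI : Finite Wp := finite_of_le hWpS
  have hWWp : W ≤ Wp := hWp ▸ le_sup_left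
  obtain ⟨c, hcC, hcN, hcW⟩ := exists_c C hR le_sup_left hWc
  have hcard : Nat.card W < Nat.card Wp := by
    by_contra hn
    have he := Subgroup.eq_of_le_of_card_ge hWWp (not_lt.1 hn)
    refine hcW ?_
    rw [he, hWp]
    exact Subgroup.mem_sup_right ⟨hcC, hcN⟩
  obtain ⟨g, hg, eg⟩ := alpha_ext C hfn ha hi
  rw [← hWp] at hg
  obtain ⟨Wq, hWq⟩ := hg.exists_img
  have hgR : ∀ y ∈ Wp, g y ∈ W ⊔ T := by
    intro y hy
    have hy' := hy
    rw [hWp] at hy' hg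
    refine maps_sup hg (fun x hx => ?_) (fun z hz => ?_) y hy'
    · rw [eg x hx]
      exact Subgroup.mem_sup_left (hi.1 x hx)
    · obtain ⟨w, hw, t, ht, rfl⟩ := dec_sup C hWS (mem_cent.1 hz.1).1
      have hzm : w * t ∈ W ⊔ (centralizerIn (W ⊔ T) (W ⊓ T) ⊓ Subgroup.normalizer (W : Set Ω)) := Subgroup.mem_sup_right hz
      have hwm : w ∈ W ⊔ (centralizerIn (W ⊔ T) (W ⊓ T) ⊓ Subgroup.normalizer (W : Set Ω)) := Subgroup.mem_sup_left hw
      have htm : t ∈ W ⊔ (centralizerIn (W ⊔ T) (W ⊓ T) ⊓ Subgroup.normalizer (W : Set Ω)) := by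
        have := Subgroup.mul_mem _ (Subgroup.inv_mem _ hwm) hzm
        simpa using this
      rw [hg.map_mul hwm htm, eg w hw]
      exact Subgroup.mul_mem _ (Subgroup.mem_sup_left (hi.1 w hw)) (Subgroup.mem_sup_right (C.mem_T hg htm ht))
  have hWqR : Wq ≤ W ⊔ T := fun y hy => by
    obtain ⟨x, hx, rfl⟩ := hWq.2 y hy
    exact hgR x hx
  have hWq1 : W ≤ Wq := fun y hy => by
    obtain ⟨x, hx, rfl⟩ := hi.2 y hy
    rw [← eg x hx]
    exact hWq.1 x (hWWp hx)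
  have hWqS : Wq ≤ S := hWqR.trans hR.rs
  have hs1 : Wq ⊔ T = W ⊔ T := le_antisymm (_root_.sup_le hWqR le_sup_right) (sup_le_sup_right hWq1 T)
  have hs2 : Wp ⊔ T = W ⊔ T := le_antisymm (_root_.sup_le hWpR le_sup_right) (sup_le_sup_right hWWp T)
  obtain ⟨e, lam, he, hlam, elam⟩ := hIH Wp hWpS hcard Wq g hg hWq
  have he₀ := he
  rw [hs1] at he
  rw [hs2] at hlam
  obtain ⟨W₃, hW₃⟩ := (Dn.mp C hR he).exists_img
  have hl : W₃ ⊔ T = W ⊔ T := by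
    rw [dn_level C hWqS he₀ hW₃, hs1]
  have hW₃R : W₃ ≤ W ⊔ T := by
    rw [← hl]
    exact le_sup_left
  have hI : Img Wp lam W₃ := (hWq.comp hW₃).congr (fun x hx => (elam x hx).symm)
  obtain ⟨L', hL'⟩ := hlam.exists_img
  have hlamR : Img (Wp ⊔ T) lam (W₃ ⊔ T) := img_sup C le_sup_right hWpR hlam hL' hI
  rw [hs2, hl] at hlamR
  have hlr : lam r ∈ W ⊔ T := hlamR.1 r hr.1
  have hrW : ∀ z ∈ Wp, r * z * r⁻¹ ∈ Wp := by
    intro z hz
    have hconj : Mp F Wp (fun z => r * z * r⁻¹) := Mp.conj hWpS hrS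
    rw [hWp] at hz hconj ⊢
    refine maps_sup hconj (fun a ha => Subgroup.mem_sup_left (norm_conj hr.2 ha)) (fun b hb => Subgroup.mem_sup_right ?_) z hz
    have hbR := hYR hb
    have hn : r ∈ normalizerIn S (W ⊓ T) := norm_inf C ⟨hrS, hr.2⟩
    refine Subgroup.mem_inf.2 ⟨?_, ?_⟩
    · exact mem_cent.2 ⟨Subgroup.mul_mem _ (Subgroup.mul_mem _ hr.1 hbR) (Subgroup.inv_mem _ hr.1),
        (mem_cent.1 (conj_cent' hn (mem_cent.2 ⟨hR.rs hbR, (mem_cent.1 hb.1).2⟩))).2⟩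
    · exact Subgroup.mul_mem _ (Subgroup.mul_mem _ hr.2 hb.2) (Subgroup.inv_mem _ hr.2)
  have hm₃ : ∀ y ∈ W₃, lam r * y * (lam r)⁻¹ ∈ W₃ := by
    intro y hy
    obtain ⟨z, hz, rfl⟩ := hI.2 y hy
    rw [← hlam.map_conj hr.1 (hWpR hz)]
    exact hI.1 _ (hrW z hz)
  obtain ⟨k, hk, k1, k2, k3⟩ := dn_inv C hR he hW₃
  have hd₁ : Dn F E p (W ⊔ T) Wq (fun x => lam r * e x * (lam r)⁻¹) := dn_comp C hR he hW₃.1 (dn_conj C hR hW₃R hlr)
  have hd₂ := dn_comp C hR hd₁ (fun x hx => hm₃ _ (hW₃.1 x hx)) hk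
  refine ⟨_, dn_res C hR hd₂ hWq1, fun x hx => ?_⟩
  have hrx : r * x * r⁻¹ ∈ W := norm_conj hr.2 hx
  show k (lam r * e (a x) * (lam r)⁻¹) = _
  have e1 : e (a x) = lam x := by
    rw [elam x (hWWp hx), eg x hx]
  have hxR : x ∈ W ⊔ T := Subgroup.mem_sup_left hx
  rw [e1, ← hlam.map_conj hr.1 hxR, elam _ (hWWp hrx), k1 _ (hWq.1 _ (hWWp hrx)), eg _ hrx]

/-- The transport of conjugations by the level at a fully normalized subgroup. -/
theorem nm (hfn : F.IsFullyNormalized W) (hIH : ∀ W₂, W₂ ≤ S → Nat.card W < Nat.card W₂ → FzP F E p W₂)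
    (ha : Mp F W a) (hi : Img W a W) {r : Ω} (hr : r ∈ normalizerIn (W ⊔ T) W) :
    ∃ f, Dn F E p (W ⊔ T) W f ∧ ∀ x ∈ W, f (a x) = a (r * x * r⁻¹) := by
  have hWS : W ≤ S := hfn.1
  by_cases hcl : centralizerIn (W ⊔ T) (W ⊓ T) ≤ W
  · obtain ⟨α', hα', e⟩ := VI_tr C ha hi (conj_VI C hWS hr (isC_normAct hr.2))
    exact ⟨autFun α', dn_of_VI C (cl_of_closed C hfn hcl) hα', fun x hx => by rw [e x hx, normAct_fun hr.2 hx]⟩
  · exact nm_open C hfn hIH hcl ha hi hr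

/-- The factorization with a fully normalized target. -/
theorem fz_fn (hfn : F.IsFullyNormalized W₁) (hIH : ∀ W₂, W₂ ≤ S → Nat.card W < Nat.card W₂ → FzP F E p W₂)
    (hψ : Mp F W ψ) (hi : Img W ψ W₁) :
    ∃ e lam, Dn F E p (W₁ ⊔ T) W₁ e ∧ Mp F (W ⊔ T) lam ∧ ∀ x ∈ W, lam x = e (ψ x) := by
  have hWS : W ≤ S := hψ.le
  have hW₁S : W₁ ≤ S := hfn.1
  have hR₁ : Lv₂ T (W₁ ⊔ T) S := ⟨le_sup_right, _root_.sup_le hW₁S C.hTS⟩
  have hR : Lv₂ T (W ⊔ T) S := ⟨le_sup_right, _root_.sup_le hWS C.hTS⟩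
  by_cases hTW : T ≤ W
  · refine ⟨fun x => x, ψ, dn_refl C hR₁ le_sup_left, ?_, fun _ _ => rfl⟩
    rwa [sup_eq_left.2 hTW]
  haveI : Finite W := finite_of_le hWS
  haveI : Finite W₁ := finite_of_le hW₁S
  haveI : Finite ↥(W ⊔ T) := finite_of_le hR.rs
  haveI : Finite ↥(W₁ ⊔ T) := finite_of_le hR₁.rs
  haveI : Finite (MulAut W₁) := Cfsg.Agent.Lib.Fusion.Basic.finite_mulAut_of_finite (A := W₁)
  obtain ⟨Ns, hNs⟩ : ∃ Ns, Ns = normalizerIn (W ⊔ T) W := ⟨_, rfl⟩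
  have hNsR : Ns ≤ W ⊔ T := hNs ▸ inf_le_left
  have hNsS : Ns ≤ S := hNsR.trans hR.rs
  haveI : Finite Ns := finite_of_le hNsS
  have hWlt : W < W ⊔ T := lt_of_le_of_ne le_sup_left (fun e => hTW (by rw [e]; exact le_sup_right))
  have hVp : IsPGroup p ↥(W ⊔ T) := C.hS.to_le hR.rs
  have hNlt : W < Ns := hNs ▸ lt_normalizerIn hVp hWlt
  have hNsN : ∀ n ∈ Ns, n ∈ Subgroup.normalizer (W : Set Ω) := fun n hn => by
    rw [hNs] at hn
    exact hn.2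
  have hcard : Nat.card W < Nat.card Ns := by
    by_contra hn
    have he := Subgroup.eq_of_le_of_card_ge hNlt.le (not_lt.1 hn)
    exact absurd he hNlt.ne
  have hcard₁ : Nat.card W = Nat.card W₁ := (hψ.card_img hi).symm
  obtain ⟨ρ, hρ, hρN, hρi⟩ := nm_map C.hS C.hF hfn (hψ.isConj hi)
  have hWN : W ≤ normalizerIn S W := le_normalizerIn hWS
  obtain ⟨k, hk, k1, k2, k3⟩ := (hρ.restrict hWN).inverse hρi
  have ha₁ : Mp F W₁ (fun y => ψ (k y)) := hk.comp k3.1 hψ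
  have ha₁i : Img W₁ (fun y => ψ (k y)) W₁ := k3.comp hi
  have hmain : ∀ n ∈ Ns, ∃ f, Dn F E p (W₁ ⊔ T) W₁ f ∧ ∀ x ∈ W, f (ψ x) = ψ (n * x * n⁻¹) := by
    intro n hn
    have hnS : n ∈ normalizerIn S W := ⟨hNsS hn, hNsN n hn⟩
    have hrN : ρ n ∈ normalizerIn (W₁ ⊔ T) W₁ := by
      refine ⟨?_, (hρN n hnS).2⟩
      obtain ⟨w, hw, t, ht, rfl⟩ := dec_sup C hWS (hNsR hn)
      have htN : t ∈ normalizerIn S W := by
        have := Subgroup.mul_mem _ (Subgroup.inv_mem _ (hWN hw)) hnS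
        simpa using this
      rw [hρ.map_mul (hWN hw) htN]
      exact Subgroup.mul_mem _ (Subgroup.mem_sup_left (hρi.1 w hw)) (Subgroup.mem_sup_right (C.mem_T hρ htN ht))
    obtain ⟨f, hf, ef⟩ := nm C hfn (fun W₂ h1 h2 => hIH W₂ h1 (by rw [hcard₁]; exact h2)) ha₁ ha₁i hrN
    refine ⟨f, hf, fun x hx => ?_⟩
    have h1 : f (ψ (k (ρ x))) = ψ (k (ρ n * ρ x * (ρ n)⁻¹)) := ef _ (hρi.1 x hx)
    have hnx : n * x * n⁻¹ ∈ W := norm_conj (hNsN n hn) hx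
    rw [k1 x hx, ← hρ.map_conj hnS (hWN hx), k1 _ hnx] at h1
    exact h1
  obtain ⟨eI, hee⟩ := exists_iso hψ hi
  have hce := fun (β : MulAut W) (x : Ω) (hx : x ∈ W) => autFun_congr_apply eI hee β hx
  obtain ⟨Yg, hYg⟩ : ∃ Yg : Subgroup (MulAut W₁), Yg = (autInducedBy Ns W).map (MulAut.congr eI).toMonoidHom := ⟨_, rfl⟩
  have hD₁ : ∀ {X f}, Mp (DD C hR₁) X f ↔ Dn F E p (W₁ ⊔ T) X f := mp_DD C
  have hfnD := fn_D C hR₁ (DD C hR₁) hD₁ hfn le_sup_left (cov_sup C hW₁S)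
  have hD₁s := DD_sat C hR₁ (DD C hR₁) hD₁
  have hR₁p : IsPGroup p ↥(W₁ ⊔ T) := C.hS.to_le hR₁.rs
  have hFA := isFullyAutomized_of_isFullyNormalized (DD C hR₁) hR₁p hD₁s hfnD
  have hsyl : IsSylowIn p (autInducedBy (W₁ ⊔ T) W₁) ((DD C hR₁).autGroup W₁) := hFA.2
  have hYle : Yg ≤ (DD C hR₁).autGroup W₁ := by
    rw [hYg]
    rintro _ ⟨β, hβ, rfl⟩
    obtain ⟨n, hn, en⟩ := inT_iff.1 hβ
    obtain ⟨f, hf, ef⟩ := hmain n hn.1
    refine mem_aut_of_mp (hD₁.2 (dn_congr C hR₁ hf (fun y hy => ?_)))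
    obtain ⟨x, hx, rfl⟩ := hi.2 y hy
    rw [ef x hx]
    show _ = autFun (MulAut.congr eI β) (ψ x)
    rw [hce β x hx, en x hx]
  have hYp : IsPGroup p Yg := by
    rw [hYg]
    exact (isPGroup_autInducedBy W (C.hS.to_le hNsS)).map _
  obtain ⟨b, hb, hbc⟩ := hsyl.exists_conj hYle hYp
  have hbD : Dn F E p (W₁ ⊔ T) W₁ (autFun b) := hD₁.1 (mp_autFun le_sup_left hb)
  have hbF : Mp F W₁ (autFun b) := Dn.mp C hR₁ hbD
  have hψ₁ : Mp F W (fun x => autFun b (ψ x)) := hψ.comp hi.1 hbF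
  have hψ₁i : Img W (fun x => autFun b (ψ x)) W₁ := hi.comp (img_autFun b)
  have hrec := isReceptive_of_isFullyNormalized F C.hS C.hF hfn
  obtain ⟨g, hg, eg⟩ := ext_set hrec hψ₁ hψ₁i hNsS hNsN (fun n hn => by
    have hβ : normAct W (hNsN n hn) ∈ autInducedBy Ns W := normAct_mem_autInducedBy Ns W (hNsN n hn) hn
    have hcY : MulAut.congr eI (normAct W (hNsN n hn)) ∈ Yg := by
      rw [hYg]
      exact ⟨_, hβ, rfl⟩
    obtain ⟨r₁, hr₁, er₁⟩ := inT_iff.1 (hbc _ hcY)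
    refine ⟨r₁, hR₁.rs hr₁.1, fun x hx => ?_⟩
    have h4 := er₁ _ (autFun_mem b (hi.1 x hx))
    rw [conj_fun, hce _ x hx, normAct_fun (hNsN n hn) hx] at h4
    exact h4)
  rw [sup_eq_right.2 hNlt.le] at hg
  obtain ⟨W₃, hW₃⟩ := hg.exists_img
  obtain ⟨e₁, lam, he₁, hlam, elam⟩ := hIH Ns hNsS hcard W₃ g hg hW₃
  have hW₁W₃ : W₁ ≤ W₃ := fun y hy => by
    obtain ⟨x, hx, rfl⟩ := hψ₁i.2 y hy
    show autFun b (ψ x) ∈ W₃
    rw [← eg x hx]
    exact hW₃.1 x (hNlt.le hx)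
  have hW₃R : W₃ ≤ W₁ ⊔ T := fun y hy => by
    obtain ⟨n, hn, rfl⟩ := hW₃.2 y hy
    obtain ⟨w, hw, t, ht, rfl⟩ := dec_sup C hWS (hNsR hn)
    have hwm : w ∈ Ns := hNlt.le hw
    have htm : t ∈ Ns := by
      have := Subgroup.mul_mem _ (Subgroup.inv_mem _ hwm) hn
      simpa using this
    rw [hg.map_mul hwm htm, eg w hw]
    exact Subgroup.mul_mem _ (Subgroup.mem_sup_left (hψ₁i.1 w hw)) (Subgroup.mem_sup_right (C.mem_T hg htm ht))
  have hs1 : W₃ ⊔ T = W₁ ⊔ T := le_antisymm (_root_.sup_le hW₃R le_sup_right) (sup_le_sup_right hW₁W₃ T)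
  have hs2 : Ns ⊔ T = W ⊔ T := le_antisymm (_root_.sup_le hNsR le_sup_right) (sup_le_sup_right hNlt.le T)
  rw [hs1] at he₁
  rw [hs2] at hlam
  refine ⟨fun y => e₁ (autFun b y), lam, dn_comp C hR₁ hbD (fun y hy => hW₁W₃ (autFun_mem b hy)) he₁, hlam, fun x hx => ?_⟩
  show lam x = e₁ (autFun b (ψ x))
  rw [elam x (hNlt.le hx), eg x hx]

/-- The inductive step. -/
theorem fz_step (hWS : W ≤ S) (hIH : ∀ W₂, W₂ ≤ S → Nat.card W < Nat.card W₂ → FzP F E p W₂) : FzP F E p W := by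
  intro W' ψ hψ hi
  have hW'S : W' ≤ S := hψ.img_le hi
  haveI : Finite W := finite_of_le hWS
  obtain ⟨W₁, hc, hfn⟩ := exists_isFullyNormalized F hW'S
  obtain ⟨χ, hχ, hχi⟩ := mp_of_conj hc
  have hcard₁ : Nat.card W = Nat.card W' := (hψ.card_img hi).symm
  have hIH' : ∀ W₂, W₂ ≤ S → Nat.card W' < Nat.card W₂ → FzP F E p W₂ := fun W₂ h1 h2 => hIH W₂ h1 (by rw [hcard₁]; exact h2)
  obtain ⟨e₁, lam₁, he₁, hlam₁, elam₁⟩ := fz_fn C hfn hIH (hψ.comp hi.1 hχ) (hi.comp hχi)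
  obtain ⟨e₂, lam₂, he₂, hlam₂, elam₂⟩ := fz_fn C hfn hIH' hχ hχi
  have hW₁S : W₁ ≤ S := hfn.1
  have hR₁ : Lv₂ T (W₁ ⊔ T) S := ⟨le_sup_right, _root_.sup_le hW₁S C.hTS⟩
  have hR' : W' ⊔ T ≤ S := _root_.sup_le hW'S C.hTS
  obtain ⟨W₂, hW₂⟩ := (Dn.mp C hR₁ he₂).exists_img
  obtain ⟨W₄, hW₄⟩ := (Dn.mp C hR₁ he₁).exists_img
  have hl₂ := dn_level C hW₁S he₂ hW₂
  have hl₄ := dn_level C hW₁S he₁ hW₄
  have hI₂ : Img W' lam₂ W₂ := (hχi.comp hW₂).congr (fun x hx => (elam₂ x hx).symm)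
  have hI₁ : Img W lam₁ W₄ := ((hi.comp hχi).comp hW₄).congr (fun x hx => (elam₁ x hx).symm)
  obtain ⟨L₂, hL₂⟩ := hlam₂.exists_img
  have hS₂ : Img (W' ⊔ T) lam₂ (W₂ ⊔ T) := img_sup C le_sup_right le_sup_left hlam₂ hL₂ hI₂
  rw [hl₂] at hS₂
  obtain ⟨k, hk, k1, k2, k3⟩ := hlam₂.inverse hS₂
  obtain ⟨L₁, hL₁⟩ := hlam₁.exists_img
  have hS₁ : Img (W ⊔ T) lam₁ (W₄ ⊔ T) := img_sup C le_sup_right le_sup_left hlam₁ hL₁ hI₁
  rw [hl₄] at hS₁
  obtain ⟨e₂', he₂', i1, i2, i3⟩ := dn_inv C hR₁ he₂ hW₂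
  have hd : Dn F E p (W₁ ⊔ T) W₂ (fun y => e₁ (e₂' y)) := dn_comp C hR₁ he₂' i3.1 he₁
  have hW₂' : Img W₂ k W' := by
    constructor
    · intro y hy
      obtain ⟨x, hx, rfl⟩ := hI₂.2 y hy
      rw [k1 x (Subgroup.mem_sup_left hx)]
      exact hx
    · intro x hx
      exact ⟨lam₂ x, hI₂.1 x hx, k1 x (Subgroup.mem_sup_left hx)⟩
  have hW₂R : W₂ ≤ W₁ ⊔ T := by
    rw [← hl₂]
    exact le_sup_left
  have hDn : Dn F E p (W' ⊔ T) W' (fun y => k (e₁ (e₂' (lam₂ y)))) :=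
    Dn_tr C hR₁ hR' hk k3 hd hW₂' (fun y hy => by
      show k (e₁ (e₂' (lam₂ (k y)))) = _
      rw [k2 y (hW₂R hy)])
  refine ⟨_, fun x => k (lam₁ x), hDn, hlam₁.comp hS₁.1 hk, fun x hx => ?_⟩
  show k (lam₁ x) = k (e₁ (e₂' (lam₂ (ψ x))))
  rw [elam₁ x hx, elam₂ _ (hi.1 x hx), i1 _ (hχi.1 _ (hi.1 x hx))]

/-- **The factorization of the maps of `F`.** -/
theorem fz_all (hWS : W ≤ S) : FzP F E p W := by
  have main : ∀ n : ℕ, ∀ W₀, W₀ ≤ S → Nat.card S ≤ Nat.card W₀ + n → FzP F E p W₀ := by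
    intro n
    induction n with
    | zero =>
      intro W₀ h0 h1
      refine fz_step C h0 (fun W₂ h2 h3 => ?_)
      exfalso
      have := Subgroup.card_le_of_le h2
      omega
    | succ n ih =>
      intro W₀ h0 h1
      exact fz_step C h0 (fun W₂ h2 h3 => ih W₂ h2 (by omega))
  exact main _ W hWS (Nat.le_add_left _ _)

end main

end Cfsg.Agent.Lib.FusionExt.ER8b
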