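import Cfsg.Agent.Lib.FusionExt.ER8b
import Cfsg.Agent.Lib.FusionExt.CharN2
import Cfsg.Agent.Lib.FusionExt.Dich1

/-!
# The normalizer of `X` in `E·(X T)` is normal in the normalizer system (helper92)
-/

set_option autoImplicit false
set_option linter.unusedSectionVars false
set_option maxHeartbeats 1000000

namespace Cfsg.Agent.Lib.FusionExt.ER8c

open Cfsg Cfsg.FusionSystem Cfsg.Agent.Lib.Fusion.Basic Cfsg.Agent.Lib.Fusion.GroupSystem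
open Cfsg.Agent.Lib.FusionExt.MapApi Cfsg.Agent.Lib.FusionExt.PowerSys Cfsg.Agent.Lib.FusionExt.LowPi
open Cfsg.Agent.Lib.FusionExt.PrimeRes1 Cfsg.Agent.Lib.Fusion.Saturation Cfsg.Agent.Lib.Fusion.Saturation2
open Cfsg.Agent.Lib.FusionExt.Invariant Cfsg.Agent.Lib.FusionExt.CentE
open Cfsg.Agent.Lib.FusionExt.ER0 Cfsg.Agent.Lib.FusionExt.ER1 Cfsg.Agent.Lib.FusionExt.ER2 Cfsg.Agent.Lib.FusionExt.ER3
open Cfsg.Agent.Lib.FusionExt.ER4 Cfsg.Agent.Lib.FusionExt.ER5a Cfsg.Agent.Lib.FusionExt.ER5b Cfsg.Agent.Lib.FusionExt.ER5c Cfsg.Agent.Lib.FusionExt.ER5d Cfsg.Agent.Lib.FusionExt.ER5e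
open Cfsg.Agent.Lib.FusionExt.ER6a Cfsg.Agent.Lib.FusionExt.ER6b Cfsg.Agent.Lib.FusionExt.ER6c Cfsg.Agent.Lib.FusionExt.ER6e Cfsg.Agent.Lib.FusionExt.ER7a Cfsg.Agent.Lib.FusionExt.ER7b Cfsg.Agent.Lib.FusionExt.ER7c
open Cfsg.Agent.Lib.FusionExt.ER8a Cfsg.Agent.Lib.FusionExt.ER8b
open Cfsg.Agent.Lib.FusionExt.Normal Cfsg.Agent.Lib.FusionExt.PIndex
open Cfsg.Agent.Lib.FusionExt.Glue1 (Uc Uc.self Uc.conj Uc.up uc_top normAct_fun conj_fun inT_iff nm_map)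
open Cfsg.Agent.Lib.FusionExt.Meet3 (exists_iso eq_of_autFun autFun_congr_apply)
open Cfsg.Agent.Lib.FusionExt.Dich1 (mp_normSys)
open Cfsg.Agent.Lib.FusionExt.CentSys (strongInv_of_mp)
open Cfsg.Agent.Lib.FusionExt.PowerE (hom_of_mp mp_sub)
open Cfsg.Agent.Lib.Fusion.KSystem (isSaturated_normalizerSystem)

universe u

variable {Ω : Type u} [Group Ω] {S T : Subgroup Ω} {F : FusionSystem S} {E : FusionSystem T} {p : ℕ}
variable {X Y Q Q' P W : Subgroup Ω} {f g : Ω → Ω}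

section main

variable [Finite S] [Fact p.Prime] (C : Cx F E p) (hfn : F.IsFullyNormalized X)
  {N : FusionSystem (normalizerIn S X)} (hN : F.IsNormalizerSystem X N)
  {D : FusionSystem (X ⊔ T)} (hR : Lv₂ T (X ⊔ T) S) (hD : ∀ {Y f}, Mp D Y f ↔ Dn F E p (X ⊔ T) Y f)
  {M : FusionSystem (normalizerIn (X ⊔ T) X)} (hM : D.IsNormalizerSystem X M)

include C hfn hN

/-- Values of maps of `N` on the base of `M`. -/
theorem val_TM (hg : Mp N Q f) (hQ : Q ≤ normalizerIn (X ⊔ T) X) {x : Ω} (hx : x ∈ Q) : f x ∈ normalizerIn (X ⊔ T) X := by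
  obtain ⟨h1, h2, g, hg₁, h3, h4⟩ := (mp_normSys hN).1 hg
  refine ⟨?_, (h2 x hx).2⟩
  obtain ⟨u, hu, t, ht, e⟩ := dec_sup C hfn.1 (hQ hx).1
  have hxm : x ∈ Q ⊔ X := Subgroup.mem_sup_left hx
  have hum : u ∈ Q ⊔ X := Subgroup.mem_sup_right hu
  have htm : t ∈ Q ⊔ X := by
    have := Subgroup.mul_mem _ (Subgroup.inv_mem _ hum) hxm
    rw [e] at this
    simpa using this
  rw [← h3 x hx, e, hg₁.map_mul hum htm]
  exact Subgroup.mul_mem _ (Subgroup.mem_sup_left (h4.1 u hu)) (Subgroup.mem_sup_right (C.mem_T hg₁ htm ht))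

/-- The base of `M` is strongly closed in `N`. -/
theorem sc_TM : N.StronglyClosed (normalizerIn (X ⊔ T) X) := by
  have hle : normalizerIn (X ⊔ T) X ≤ normalizerIn S X := fun x hx =>
    ⟨(_root_.sup_le hfn.1 C.hTS) hx.1, hx.2⟩
  refine ⟨hle, fun P hP φ hφ x => ?_⟩
  have := val_TM C hfn hN (mp_of_hom hφ) hP x.2
  rwa [extOf_coe] at this

include hR hD hM

theorem mp_M : Mp M Y f ↔ Y ≤ normalizerIn (X ⊔ T) X ∧ (∀ x ∈ Y, f x ∈ normalizerIn (X ⊔ T) X) ∧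
    ∃ g, Dn F E p (X ⊔ T) (Y ⊔ X) g ∧ (∀ x ∈ Y, g x = f x) ∧ Img X g X := by
  rw [mp_normSys hM]
  constructor
  · rintro ⟨h1, h2, g, hg, h3, h4⟩
    exact ⟨h1, h2, g, hD.1 hg, h3, h4⟩
  · rintro ⟨h1, h2, g, hg, h3, h4⟩
    exact ⟨h1, h2, g, hD.2 hg, h3, h4⟩

/-- `M` lies in `N`. -/
theorem mp_M_N (h : Mp M Y f) : Mp N Y f := by
  obtain ⟨h1, h2, g, hg, h3, h4⟩ := (mp_M C hfn hN hR hD hM).1 h
  have hle : normalizerIn (X ⊔ T) X ≤ normalizerIn S X := fun x hx =>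
    ⟨(_root_.sup_le hfn.1 C.hTS) hx.1, hx.2⟩
  exact (mp_normSys hN).2 ⟨h1.trans hle, fun x hx => hle (h2 x hx), g, Dn.mp C hR hg, h3, h4⟩

/-- **Invariance of `M` in `N`, using the factorization.** -/
theorem inv_step (hPQ : P ≤ Q') (hQ'T : Q' ≤ normalizerIn (X ⊔ T) X) (hf : Mp M P f) (hfQ : ∀ x ∈ P, f x ∈ Q') (hg : Mp N Q' g)
    (hi : Img P g W) : ∃ h, Mp M W h ∧ ∀ x ∈ P, h (g x) = g (f x) := by
  obtain ⟨hP1, hP2, fh, hfh, ef, hfX⟩ := (mp_M C hfn hN hR hD hM).1 hf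
  obtain ⟨h1, h2, gh, hgh, eg, hgX⟩ := (mp_normSys hN).1 hg
  have hQ₁R : Q' ⊔ X ≤ X ⊔ T := _root_.sup_le (hQ'T.trans inf_le_left) le_sup_left
  have hQ₁S : Q' ⊔ X ≤ S := hQ₁R.trans hR.rs
  obtain ⟨Q₂, hQ₂⟩ := hgh.exists_img
  have hgQ : ∀ y ∈ Q' ⊔ X, gh y ∈ X ⊔ T := maps_sup hgh (fun a ha => by
    rw [eg a ha]
    exact (val_TM C hfn hN hg hQ'T ha).1) (fun b hb => Subgroup.mem_sup_left (hgX.1 b hb))
  have hQ₂R : Q₂ ≤ X ⊔ T := fun y hy => by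
    obtain ⟨x, hx, rfl⟩ := hQ₂.2 y hy
    exact hgQ x hx
  have hQ₂S : Q₂ ≤ S := hQ₂R.trans hR.rs
  have hXQ₂ : X ≤ Q₂ := fun y hy => by
    obtain ⟨x, hx, rfl⟩ := hgX.2 y hy
    exact hQ₂.1 x (Subgroup.mem_sup_right hx)
  have hs1 : Q₂ ⊔ T = X ⊔ T := le_antisymm (_root_.sup_le hQ₂R le_sup_right) (sup_le_sup_right hXQ₂ T)
  have hs2 : (Q' ⊔ X) ⊔ T = X ⊔ T := le_antisymm (_root_.sup_le hQ₁R le_sup_right) (sup_le_sup_right le_sup_right T)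
  obtain ⟨e, lam, he, hlam, elam⟩ := fz_all C hQ₁S Q₂ gh hgh hQ₂
  have he₀ := he
  rw [hs1] at he
  rw [hs2] at hlam
  obtain ⟨Q₃, hQ₃⟩ := (Dn.mp C hR he).exists_img
  have hl : Q₃ ⊔ T = X ⊔ T := by
    rw [dn_level C hQ₂S he₀ hQ₃, hs1]
  have hI : Img (Q' ⊔ X) lam Q₃ := (hQ₂.comp hQ₃).congr (fun x hx => (elam x hx).symm)
  obtain ⟨L', hL'⟩ := hlam.exists_img
  have hlamR : Img ((Q' ⊔ X) ⊔ T) lam (Q₃ ⊔ T) := img_sup C le_sup_right hQ₁R hlam hL' hI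
  rw [hs2, hl] at hlamR
  obtain ⟨li, hli, l1, l2, l3⟩ := hlam.inverse hlamR
  obtain ⟨k, hk, k1, k2, k3⟩ := dn_inv C hR he hQ₃
  have hP₁Q₁ : P ⊔ X ≤ Q' ⊔ X := sup_le_sup_right hPQ X
  have hP₁R : P ⊔ X ≤ X ⊔ T := hP₁Q₁.trans hQ₁R
  have hfhF : Mp F (P ⊔ X) fh := Dn.mp C hR hfh
  have hfhQ : ∀ y ∈ P ⊔ X, fh y ∈ Q' ⊔ X := maps_sup hfhF (fun a ha => by
    rw [ef a ha]
    exact Subgroup.mem_sup_left (hfQ a ha)) (fun b hb => Subgroup.mem_sup_right (hfX.1 b hb))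
  obtain ⟨P₂, hP₂⟩ := (hgh.restrict hP₁Q₁).exists_img
  have hP₂le : P₂ ≤ Q₂ := fun y hy => by
    obtain ⟨x, hx, rfl⟩ := hP₂.2 y hy
    exact hQ₂.1 x (hP₁Q₁ hx)
  obtain ⟨P₃, hP₃⟩ := ((Dn.mp C hR he).restrict hP₂le).exists_img
  have hIP : Img (P ⊔ X) lam P₃ := (hP₂.comp hP₃).congr (fun x hx => (elam x (hP₁Q₁ hx)).symm)
  have hd : Dn F E p (X ⊔ T) P₃ (fun y => lam (fh (li y))) :=
    Dn_tr C hR hR.rs hlam hlamR hfh hIP (fun x hx => by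
      show lam (fh (li (lam x))) = lam (fh x)
      rw [l1 x (hP₁R hx)])
  have hval : ∀ x ∈ P ⊔ X, lam (fh (li (e (gh x)))) = e (gh (fh x)) := by
    intro x hx
    rw [← elam x (hP₁Q₁ hx), l1 x (hP₁R hx), elam _ (hfhQ x hx)]
  have hd₀ : Dn F E p (X ⊔ T) P₂ (fun y => k (lam (fh (li (e y))))) := by
    have hd₁ : Dn F E p (X ⊔ T) P₂ (fun y => lam (fh (li (e y)))) := dn_comp C hR (f := e) (g := fun y => lam (fh (li y))) (dn_res C hR he hP₂le) hP₃.1 hd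
    refine dn_comp C hR (f := fun y => lam (fh (li (e y)))) (g := k) hd₁ (fun y hy => ?_) hk
    obtain ⟨x, hx, rfl⟩ := hP₂.2 y hy
    show lam (fh (li (e (gh x)))) ∈ Q₃
    rw [hval x hx]
    exact hQ₃.1 _ (hQ₂.1 _ (hfhQ x hx))
  have key : ∀ x ∈ P ⊔ X, k (lam (fh (li (e (gh x))))) = gh (fh x) := by
    intro x hx
    rw [hval x hx, k1 _ (hQ₂.1 _ (hfhQ x hx))]
  have hWP₂ : W ⊔ X ≤ P₂ := _root_.sup_le (fun y hy => by
    obtain ⟨u, hu, rfl⟩ := hi.2 y hy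
    rw [← eg u (hPQ hu)]
    exact hP₂.1 u (Subgroup.mem_sup_left hu)) (fun y hy => by
    obtain ⟨u, hu, rfl⟩ := hgX.2 y hy
    exact hP₂.1 u (Subgroup.mem_sup_right hu))
  have hXP₂ : X ≤ P₂ := le_sup_right.trans hWP₂
  refine ⟨fun y => k (lam (fh (li (e y)))), (mp_M C hfn hN hR hD hM).2 ⟨?_, ?_, _, dn_res C hR hd₀ hWP₂, fun _ _ => rfl, ?_⟩, fun x hx => ?_⟩
  · intro y hy
    obtain ⟨u, hu, rfl⟩ := hi.2 y hy
    exact val_TM C hfn hN hg hQ'T (hPQ hu)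
  · intro y hy
    obtain ⟨u, hu, rfl⟩ := hi.2 y hy
    show k (lam (fh (li (e (g u))))) ∈ _
    rw [← eg u (hPQ hu), key u (Subgroup.mem_sup_left hu), ef u hu, eg _ (hfQ u hu)]
    exact val_TM C hfn hN hg hQ'T (hfQ u hu)
  · refine img_self (Dn.mp C hR (dn_res C hR hd₀ hXP₂)) (fun y hy => ?_)
    obtain ⟨u, hu, rfl⟩ := hgX.2 y hy
    show k (lam (fh (li (e (gh u))))) ∈ X
    rw [key u (Subgroup.mem_sup_right hu)]
    exact hgX.1 _ (hfX.1 u hu)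
  · show k (lam (fh (li (e (g x))))) = _
    rw [← eg x (hPQ hx), key x (Subgroup.mem_sup_left hx), ef x hx, eg _ (hfQ x hx)]

/-- Extensions of the `p'`-automorphisms of the base of `M`. -/
theorem pp_ext {b : MulAut (normalizerIn (X ⊔ T) X)} (hb : b ∈ M.autGroup (normalizerIn (X ⊔ T) X)) (hq : (orderOf b).Coprime p) :
    ∃ β, Mp N (normalizerIn (X ⊔ T) X ⊔ centralizerIn (normalizerIn S X) (normalizerIn (X ⊔ T) X)) β ∧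
      (∀ t ∈ normalizerIn (X ⊔ T) X, β t = autFun b t) ∧
      ∀ y ∈ centralizerIn (normalizerIn S X) (normalizerIn (X ⊔ T) X), y⁻¹ * β y ∈ normalizerIn (X ⊔ T) X := by
  have hXS : X ≤ S := hfn.1
  have hTS : T ≤ S := C.hTS
  have hTMR : normalizerIn (X ⊔ T) X ≤ X ⊔ T := inf_le_left
  have hRS : X ⊔ T ≤ S := hR.rs
  have hTMS : normalizerIn (X ⊔ T) X ≤ S := hTMR.trans hRS
  haveI : Finite (normalizerIn (X ⊔ T) X) := finite_of_le hTMS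
  haveI : Finite (MulAut (normalizerIn (X ⊔ T) X)) := Cfsg.Agent.Lib.Fusion.Basic.finite_mulAut_of_finite (A := normalizerIn (X ⊔ T) X)
  obtain ⟨TM, hTM⟩ : ∃ TM, TM = normalizerIn (X ⊔ T) X := ⟨_, rfl⟩
  obtain ⟨C₂, hC₂⟩ : ∃ C₂, C₂ = centralizerIn (normalizerIn S X) (normalizerIn (X ⊔ T) X) := ⟨_, rfl⟩
  have hC₂N : C₂ ≤ normalizerIn S X := hC₂ ▸ inf_le_left
  have hC₂S : C₂ ≤ S := hC₂N.trans inf_le_left
  have hX₂S : X ⊔ C₂ ≤ S := _root_.sup_le hXS hC₂S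
  have hR₂ : Lv₂ T ((X ⊔ C₂) ⊔ T) S := ⟨le_sup_right, _root_.sup_le hX₂S hTS⟩
  haveI : Finite ↥((X ⊔ C₂) ⊔ T) := finite_of_le hR₂.rs
  have hD₂ : ∀ {Y f}, Mp (DD C hR₂) Y f ↔ Dn F E p ((X ⊔ C₂) ⊔ T) Y f := mp_DD C
  have hXR₂ : X ≤ (X ⊔ C₂) ⊔ T := le_sup_left.trans le_sup_left
  have hRR₂ : X ⊔ T ≤ (X ⊔ C₂) ⊔ T := sup_le_sup_right le_sup_left T
  have hC₂R₂ : C₂ ≤ (X ⊔ C₂) ⊔ T := le_sup_right.trans le_sup_left
  have hX₂N : X ⊔ C₂ ≤ Subgroup.normalizer (X : Set Ω) := _root_.sup_le Subgroup.le_normalizer (fun c hc => (hC₂N hc).2)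
  have hfnD₂ : (DD C hR₂).IsFullyNormalized X := fn_D C hR₂ (DD C hR₂) hD₂ hfn hXR₂ (fun r hr => by
    obtain ⟨u, hu, t, ht, rfl⟩ := dec_sup C hX₂S hr
    exact ⟨u, ⟨Subgroup.mem_sup_left hu, hX₂N hu⟩, by simpa using ht⟩)
  have hD₂s := DD_sat C hR₂ (DD C hR₂) hD₂
  have hR₂p : IsPGroup p ↥((X ⊔ C₂) ⊔ T) := C.hS.to_le hR₂.rs
  obtain ⟨N₂, hN₂⟩ : ∃ N₂ : FusionSystem (normalizerIn ((X ⊔ C₂) ⊔ T) X), (DD C hR₂).IsNormalizerSystem X N₂ :=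
    ⟨Cfsg.Agent.Lib.FusionExt.Basic.normalizerSystem (DD C hR₂) X hXR₂, fun _ => rfl⟩
  have hN₂s : N₂.IsSaturated p := isSaturated_normalizerSystem hR₂p (DD C hR₂) hD₂s hfnD₂ N₂ hN₂
  have hT₂S : normalizerIn ((X ⊔ C₂) ⊔ T) X ≤ S := inf_le_left.trans hR₂.rs
  haveI : Finite (normalizerIn ((X ⊔ C₂) ⊔ T) X) := finite_of_le hT₂S
  have hT₂p : IsPGroup p (normalizerIn ((X ⊔ C₂) ⊔ T) X) := C.hS.to_le hT₂S
  have hN₂N : ∀ {Y f}, Mp N₂ Y f → Mp N Y f := by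
    intro Y f h
    obtain ⟨h1, h2, g, hg, h3, h4⟩ := (mp_normSys hN₂).1 h
    have hle : normalizerIn ((X ⊔ C₂) ⊔ T) X ≤ normalizerIn S X := fun x hx => ⟨hR₂.rs hx.1, hx.2⟩
    exact (mp_normSys hN).2 ⟨h1.trans hle, fun x hx => hle (h2 x hx), g, Dn.mp C hR₂ (hD₂.1 hg), h3, h4⟩
  have hMN₂ : ∀ {Y f}, Mp M Y f → Mp N₂ Y f := by
    intro Y f h
    obtain ⟨h1, h2, g, hg, h3, h4⟩ := (mp_M C hfn hN hR hD hM).1 h
    have hle : normalizerIn (X ⊔ T) X ≤ normalizerIn ((X ⊔ C₂) ⊔ T) X := fun x hx => ⟨hRR₂ hx.1, hx.2⟩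
    exact (mp_normSys hN₂).2 ⟨h1.trans hle, fun x hx => hle (h2 x hx), g, hD₂.2 (dn_mono C hg hRR₂), h3, h4⟩
  have hTMT₂ : normalizerIn (X ⊔ T) X ≤ normalizerIn ((X ⊔ C₂) ⊔ T) X := fun x hx => ⟨hRR₂ hx.1, hx.2⟩
  have hsc₂ : N₂.StronglyClosed (normalizerIn (X ⊔ T) X) := by
    refine ⟨hTMT₂, fun P hP φ hφ x => ?_⟩
    have := val_TM C hfn hN (hN₂N (mp_of_hom hφ)) hP x.2
    rwa [extOf_coe] at this
  have hfn₂ := Cfsg.Agent.Lib.FusionExt.PPowerNormal.isFullyNormalized_of_stronglyClosed hsc₂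
  have hrec₂ := isReceptive_of_isFullyNormalized N₂ hT₂p hN₂s hfn₂
  have hbM : Mp M (normalizerIn (X ⊔ T) X) (autFun b) := mp_autFun (le_refl _) hb
  have hbN₂ : Mp N₂ (normalizerIn (X ⊔ T) X) (autFun b) := hMN₂ hbM
  obtain ⟨g₀, hg₀, eg₀⟩ := ext_cent hrec₂ hbN₂ (img_autFun b)
  have hCe : centralizerIn (normalizerIn ((X ⊔ C₂) ⊔ T) X) (normalizerIn (X ⊔ T) X) = C₂ := by
    refine le_antisymm (fun c hc => ?_) (fun c hc => ?_)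
    · rw [hC₂]
      obtain ⟨h1, h2⟩ := mem_cent.1 hc
      exact mem_cent.2 ⟨⟨hR₂.rs h1.1, h1.2⟩, h2⟩
    · have h1 := hc
      rw [hC₂] at h1
      obtain ⟨h2, h3⟩ := mem_cent.1 h1
      exact mem_cent.2 ⟨⟨hC₂R₂ hc, h2.2⟩, h3⟩
  have hi' : ∀ z ∈ normalizerIn (X ⊔ T) X, ∃ x ∈ normalizerIn (X ⊔ T) X, g₀ x = z := by
    intro z hz
    obtain ⟨x, hx, rfl⟩ := (img_autFun b).2 z hz
    exact ⟨x, hx, eg₀ x hx⟩
  have hg₀C : ∀ c ∈ C₂, g₀ c ∈ C₂ := by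
    intro c hc
    have h1 : c ∈ centralizerIn (normalizerIn ((X ⊔ C₂) ⊔ T) X) (normalizerIn (X ⊔ T) X) := hCe.symm.le hc
    have h2 := map_cent hg₀ hi' h1
    rw [hCe] at h2
    exact h2
  rw [hCe] at hg₀
  have hVT₂ : normalizerIn (X ⊔ T) X ⊔ C₂ ≤ normalizerIn ((X ⊔ C₂) ⊔ T) X :=
    _root_.sup_le hTMT₂ (fun c hc => ⟨hC₂R₂ hc, (hC₂N hc).2⟩)
  have hg₀V : ∀ x ∈ normalizerIn (X ⊔ T) X ⊔ C₂, g₀ x ∈ normalizerIn (X ⊔ T) X ⊔ C₂ :=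
    maps_sup hg₀ (fun a ha => by
      rw [eg₀ a ha]
      exact Subgroup.mem_sup_left (autFun_mem b ha)) (fun c hc => Subgroup.mem_sup_right (hg₀C c hc))
  have hg₀i := img_self hg₀ hg₀V
  have hpb : Pp N₂ p (normalizerIn (X ⊔ T) X) (autFun b) :=
    ⟨hbN₂, img_autFun b, orderOf b, hq, iter_of_pow (pow_orderOf_eq_one b)⟩
  obtain ⟨f', m, hf', ef', -⟩ := pp_extend' hVT₂ hg₀ hg₀i le_sup_left hpb eg₀
  obtain ⟨hf'm, hf'i, m', hm', hf'it⟩ := id hf'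
  obtain ⟨-, hvals, g₁, hg₁, eg₁, -⟩ := (mp_normSys hN₂).1 hf'm
  have hdn : Dn F E p ((X ⊔ C₂) ⊔ T) (normalizerIn (X ⊔ T) X ⊔ C₂) f' :=
    dn_congr C hR₂ (dn_res C hR₂ (hD₂.1 hg₁) le_sup_left) eg₁
  obtain ⟨a, ha, ea⟩ := toAut' hf'm hf'i
  have hapow : a ^ m' = 1 := pow_of_iter (fun x hx => by
    rw [← iterate_congr hf'i.1 (fun y hy => (ea y hy).symm) m' hx]
    exact hf'it x hx)
  have hdn' : Dn F E p ((X ⊔ C₂) ⊔ T) (normalizerIn (X ⊔ T) X ⊔ C₂) (autFun a) :=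
    dn_congr C hR₂ hdn (fun x hx => (ea x hx).symm)
  have hhyp := pp_dn_hyp C hR₂ hdn' hm' hapow
  have hKA : E.hyperfocalSubgroup p ≤ T := Cfsg.Agent.Lib.FusionExt.Hyperfocal.hyperfocal_le (F := E) (p := p)
  rw [← hC₂]
  refine ⟨f', hN₂N hf'm, fun t ht => ef' t ht, fun y hy => ?_⟩
  have hyV : y ∈ normalizerIn (X ⊔ T) X ⊔ C₂ := Subgroup.mem_sup_right hy
  have h1 := hhyp y hyV
  rw [ea y hyV] at h1
  refine ⟨Subgroup.mem_sup_right (hKA h1), ?_⟩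
  exact Subgroup.mul_mem _ (Subgroup.inv_mem _ (hC₂N hy).2) (hvals y hyV).2

/-- **`M` is normal in `N`.** -/
theorem M_normal : M.IsNormalIn N p := by
  have hNSle : normalizerIn S X ≤ S := inf_le_left
  haveI : Finite (normalizerIn S X) := finite_of_le hNSle
  haveI : Finite ↥(X ⊔ T) := finite_of_le hR.rs
  have hNSp : IsPGroup p (normalizerIn S X) := C.hS.to_le hNSle
  have hNs : N.IsSaturated p := isSaturated_normalizerSystem C.hS F C.hF hfn N hN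
  have hDs := DD_sat C hR D hD
  have hfnD := fn_D C hR D hD hfn le_sup_left (cov_sup C hfn.1)
  have hMs : M.IsSaturated p := isSaturated_normalizerSystem (C.hS.to_le hR.rs) D hDs hfnD M hM
  have hsub : M.IsSubsystemOf N := fun P φ hφ => hom_of_mp (mp_M_N C hfn hN hR hD hM (mp_of_hom hφ))
  have hsc := sc_TM C hfn hN
  have hSI : StrongInv N M := strongInv_of_mp (fun P Q' W f g hPQ hQ'T hf hfQ hg hi =>
    inv_step C hfn hN hR hD hM hPQ hQ'T hf hfQ hg hi)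
  refine ⟨⟨hMs, hNs, (isInvariantIn_iff hNSp hNs hsub hsc).2 hSI⟩, fun α hα => ?_⟩
  obtain ⟨β, hβ, hβR, hβC⟩ := Cfsg.Agent.Lib.FusionExt.CharN.good_of_pp (Y₁ := centralizerIn (normalizerIn S X) (normalizerIn (X ⊔ T) X))
    hNSp hsc hMs inf_le_left (fun b hb hq => pp_ext C hfn hN hR hD hM hb hq) hα
  have hm : ∀ x ∈ normalizerIn (X ⊔ T) X ⊔ centralizerIn (normalizerIn S X) (normalizerIn (X ⊔ T) X),
      β x ∈ normalizerIn (X ⊔ T) X ⊔ centralizerIn (normalizerIn S X) (normalizerIn (X ⊔ T) X) := by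
    refine maps_sup hβ (fun x hx => ?_) (fun c hc => ?_)
    · rw [hβR x hx]
      exact Subgroup.mem_sup_left ((img_autFun α).1 x hx)
    · have e : β c = c * (c⁻¹ * β c) := by group
      rw [e]
      exact Subgroup.mul_mem _ (Subgroup.mem_sup_right hc) (Subgroup.mem_sup_left (hβC c hc))
  obtain ⟨b, hb, hbe⟩ := hβ.toAut (img_self hβ hm)
  refine ⟨b, hb, fun x => ?_, fun c hc => ?_⟩
  · rw [hbe]
    exact (hβR x x.2).trans (autFun_coe α x)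
  · rw [hbe]
    refine ⟨hβC c hc, ?_⟩
    have hi' : ∀ z ∈ normalizerIn (X ⊔ T) X, ∃ x ∈ normalizerIn (X ⊔ T) X, β x = z := by
      intro z hz
      obtain ⟨x, hx, rfl⟩ := (img_autFun α).2 z hz
      exact ⟨x, hx, hβR x hx⟩
    have h1 := map_cent hβ hi' hc
    have hc' : (c : Ω) ∈ Subgroup.centralizer ((normalizerIn (X ⊔ T) X : Subgroup Ω) : Set Ω) := (Subgroup.mem_inf.1 hc).2
    have h1' : β c ∈ Subgroup.centralizer ((normalizerIn (X ⊔ T) X : Subgroup Ω) : Set Ω) := (Subgroup.mem_inf.1 h1).2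
    exact Subgroup.mul_mem _ (Subgroup.inv_mem _ hc') h1'

end main

end Cfsg.Agent.Lib.FusionExt.ER8c
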