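import Cfsg.Agent.Lib.FusionExt.CenQ
import Cfsg.Agent.Lib.FusionExt.CenB

/-!
# Normal subsystems of quasisimple systems; components and normal subsystems (helper92)
-/

set_option autoImplicit false
set_option linter.unusedSectionVars false

namespace Cfsg.Agent.Lib.FusionExt.QS3

open Cfsg Cfsg.FusionSystem Cfsg.Agent.Lib.Fusion.Basic Cfsg.Agent.Lib.Fusion.GroupSystem
open Cfsg.Agent.Lib.FusionExt.MapApi Cfsg.Agent.Lib.FusionExt.Basic Cfsg.Agent.Lib.FusionExt.Normal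
open Cfsg.Agent.Lib.FusionExt.PowerE Cfsg.Agent.Lib.FusionExt.Invariant
open Cfsg.Agent.Lib.FusionExt.CentSys Cfsg.Agent.Lib.FusionExt.Factor Cfsg.Agent.Lib.FusionExt.FactorExt
open Cfsg.Agent.Lib.FusionExt.FactorSat Cfsg.Agent.Lib.FusionExt.PrimeRes1
open Cfsg.Agent.Lib.FusionExt.Comp1 Cfsg.Agent.Lib.FusionExt.PowerSys
open Cfsg.Agent.Lib.FusionExt.LiftA Cfsg.Agent.Lib.Fusion.Center Cfsg.Agent.Lib.FusionExt.Iso4
open Cfsg.Agent.Lib.FusionExt.QS1 Cfsg.Agent.Lib.FusionExt.CenQ Cfsg.Agent.Lib.FusionExt.CenB Cfsg.Agent.Lib.FusionExt.Iso1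

universe u

section dich

variable {Ω : Type u} [Group Ω] {U T₀ : Subgroup Ω} {C : FusionSystem U} {N : FusionSystem T₀} {p : ℕ} [Fact p.Prime]

/-- **A normal subsystem of a quasisimple system is central or over the whole group.** -/
theorem dich [Finite U] (hU : IsPGroup p U) (hC : C.Quasisimple p) (hN : N.IsNormalIn C p) : T₀ ≤ C.center ∨ T₀ = U := by
  obtain ⟨hCs, hyp, hsimple⟩ := hC
  have hZ := isCentral_center C
  have hZU : C.center ≤ U := center_le C
  have hZsc : C.StronglyClosed C.center := sc_central hZ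
  let θ : U →* (U ⧸ C.center.subgroupOf U) := QuotientGroup.mk' (C.center.subgroupOf U)
  have hθ : ∀ s : U, θ s = 1 ↔ (s : Ω) ∈ C.center := fun s => by
    show ((s : U) : U ⧸ C.center.subgroupOf U) = 1 ↔ _
    rw [QuotientGroup.eq_one_iff, Subgroup.mem_subgroupOf]
  have hr : θ.range = ⊤ := MonoidHom.range_eq_top.2 (QuotientGroup.mk'_surjective _)
  obtain ⟨E, hE⟩ := exists_isFactorSystem C θ hZsc hθ hr
  obtain ⟨hEs, hne, hEsimple⟩ := hsimple E hE
  have hTU : T₀ ≤ U := hN.1.2.2.2.1.1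
  haveI : Finite T₀ := finite_of_le hTU
  have hsub : N.IsSubsystemOf C := hN.1.2.2.1
  have hTsc : C.StronglyClosed T₀ := hN.1.2.2.2.1
  let θ₀ : T₀ →* (U ⧸ C.center.subgroupOf U) := θ.comp (Subgroup.inclusion hTU)
  have hθ₀ : ∀ s : T₀, θ₀ s = 1 ↔ (s : Ω) ∈ C.center ⊓ T₀ := fun s => by
    have h1 := hθ (Subgroup.inclusion hTU s)
    constructor
    · intro h
      exact ⟨h1.1 h, s.2⟩
    · intro h
      exact h1.2 h.1
  have hKsc : N.StronglyClosed (C.center ⊓ T₀) := by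
    refine ⟨inf_le_right, fun R hR φ hφ x => ?_⟩
    have h1 := fix_central hZ (mp_of_hom (hsub R hφ)) x.2 (hR x.2).1
    rw [extOf_coe] at h1
    rw [h1]
    exact hR x.2
  obtain ⟨E₀, hE₀⟩ := exists_isFactorSystem N θ₀ hKsc hθ₀ rfl
  have hn : E₀.IsNormalIn E p := image_central hU hN hZ hE hE₀ (fun x hx => by
    rw [tot_of_mem θ₀ hx, tot_of_mem θ (hTU hx)]
    rfl)
  rcases hEsimple _ E₀ hn with h | ⟨h, -⟩
  · left
    intro x hx
    have h1 : θ₀ ⟨x, hx⟩ ∈ θ₀.range := ⟨_, rfl⟩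
    rw [h, Subgroup.mem_bot] at h1
    exact ((hθ₀ _).1 h1).1
  · right
    refine le_antisymm hTU ?_
    rw [← hyp]
    have hdec : ∀ x ∈ U, ∃ t ∈ T₀, ∃ z ∈ C.center, x = t * z := by
      intro x hx
      have h1 : θ ⟨x, hx⟩ ∈ θ₀.range := by
        rw [h]
        exact Subgroup.mem_top _
      obtain ⟨t, ht⟩ := h1
      have h2 : θ (Subgroup.inclusion hTU t) = θ ⟨x, hx⟩ := ht
      have h3 : (Subgroup.inclusion hTU t)⁻¹ * ⟨x, hx⟩ ∈ (θ.ker) := by
        rw [MonoidHom.mem_ker, map_mul, map_inv, h2, inv_mul_cancel]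
      refine ⟨t, t.2, (t : Ω)⁻¹ * x, (hθ _).1 h3, ?_⟩
      group
    refine hyperfocal_le_of_gen (fun P hPU f hf x hx => ?_)
    obtain ⟨g, hg, hgP, hgZ⟩ := ext_central hZ hf.1
    obtain ⟨t, ht, z, hz, e⟩ := hdec x (hPU hx)
    have hzU : z ∈ P ⊔ C.center := Subgroup.mem_sup_right hz
    have hxU : x ∈ P ⊔ C.center := Subgroup.mem_sup_left hx
    have htU : t ∈ P ⊔ C.center := by
      have e' : t = x * z⁻¹ := by rw [e]; group
      rw [e']
      exact Subgroup.mul_mem _ hxU (Subgroup.inv_mem _ hzU)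
    have hgt : g t ∈ T₀ := sc_mp hTsc (hg.restrict inf_le_left) (inf_le_right : (P ⊔ C.center) ⊓ T₀ ≤ T₀) (⟨htU, ht⟩ : t ∈ (P ⊔ C.center) ⊓ T₀)
    rw [← hgP x hx, e, hg.map_mul htU hzU, hgZ z hz]
    have hw : t⁻¹ * g t ∈ T₀ := T₀.mul_mem (T₀.inv_mem ht) hgt
    have h5 := comm_central hZ (hTU hw) hz
    have h6 : (t⁻¹ * g t) * z = z * (t⁻¹ * g t) := by
      calc (t⁻¹ * g t) * z = ((t⁻¹ * g t) * z * (t⁻¹ * g t)⁻¹) * (t⁻¹ * g t) := by group
        _ = z * (t⁻¹ * g t) := by rw [h5]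
    have h7 : (t * z)⁻¹ * (g t * z) = t⁻¹ * g t := by
      calc (t * z)⁻¹ * (g t * z) = z⁻¹ * ((t⁻¹ * g t) * z) := by group
        _ = z⁻¹ * (z * (t⁻¹ * g t)) := by rw [h6]
        _ = t⁻¹ * g t := by group
    rw [h7]
    exact hw

end dich

section comps

variable {Ω : Type u} [Group Ω] {p : ℕ} [Fact p.Prime]

/-- Descending a subnormal chain with meets, with no condition on the groups. -/
theorem reach' {U S : Subgroup Ω} {C : FusionSystem U} {X : FusionSystem S} {q : ℕ} (h : C.IsSubnormalIn X q) :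
    Fact q.Prime → Finite S → IsPGroup q S → ∀ {T : Subgroup Ω} (M : FusionSystem T), M.IsNormalIn X q →
      ∃ N₀ : FusionSystem (U ⊓ T), N₀.IsNormalIn C q ∧ N₀.IsSubsystemOf M := by
  induction h with
  | refl F q =>
    intro _ _ _ T M hM
    have e : _ ⊓ T = T := inf_eq_right.2 hM.1.2.2.2.1.1
    rw [e]
    exact ⟨M, hM, fun _ _ h => h⟩
  | @step T' S C D F q hsub' hDF ih =>
    intro hq hfin hS T M hM
    haveI := hfin
    haveI := hq
    have hTS : T' ≤ S := hDF.1.2.2.2.1.1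
    have hCD := subnormal_sub hsub'
    have hUT' : _ ≤ T' := (D.le_of_mem (hCD _ (subtype_mem C le_rfl))).1
    obtain ⟨D', ⟨-, hD'D, hD'M⟩, -⟩ := Cfsg.Agent.Lib.FusionExt.Meet8.meet_main hS hDF hM
    obtain ⟨N₀, hN₀, hN₀s⟩ := ih hq (finite_of_le hTS) (hS.to_le hTS) D' hD'D
    have e : U ⊓ (T' ⊓ T) = U ⊓ T := by
      rw [← inf_assoc, inf_eq_left.2 hUT']
    rw [← e]
    exact ⟨N₀, hN₀, fun P _ h => hD'M.1.2.2.1 P (hN₀s P h)⟩

/-- A component either lies in a normal subsystem or meets it centrally. -/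
theorem comp_dich {U S T : Subgroup Ω} {C : FusionSystem U} {X : FusionSystem S} {M : FusionSystem T} [Finite S]
    (hS : IsPGroup p S) (hC : C.IsComponentIn X p) (hM : M.IsNormalIn X p) : U ⊓ T ≤ C.center ∨ C.IsSubsystemOf M := by
  obtain ⟨N₀, hN₀, -⟩ := reach' hC.1 inferInstance inferInstance hS M hM
  have hUS : U ≤ S := (X.le_of_mem (subnormal_sub hC.1 U (subtype_mem C le_rfl))).1
  haveI : Finite U := finite_of_le hUS
  rcases dich (hS.to_le hUS) hC.2 hN₀ with h | h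
  · exact Or.inl h
  · exact Or.inr (comp_le_of_normal hS hC hM (inf_eq_left.1 h))

/-- **A component lies in a normal subsystem or centralizes its group.** -/
theorem comp_or_cen {U S T : Subgroup Ω} {C : FusionSystem U} {X : FusionSystem S} {M : FusionSystem T} [Finite S]
    (hS : IsPGroup p S) (hC : C.IsComponentIn X p) (hM : M.IsNormalIn X p) : C.IsSubsystemOf M ∨ Cen X C T := by
  rcases comp_dich hS hC hM with h | h
  · exact Or.inr (cen_chain hC.1 inferInstance inferInstance hS hC.2.1 hC.2.2.1 T hM.1.2.2.2.1 (by rwa [inf_comm]))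
  · exact Or.inl h

/-- A quasisimple subnormal subsystem over a subgroup of a normal subsystem is subnormal in it. -/
theorem subn_reach {U S : Subgroup Ω} {C : FusionSystem U} {X : FusionSystem S} {q : ℕ} (h : C.IsSubnormalIn X q) :
    Fact q.Prime → Finite S → IsPGroup q S → C.Quasisimple q → ∀ {T : Subgroup Ω} (M : FusionSystem T), M.IsNormalIn X q → U ≤ T →
      C.IsSubnormalIn M q := by
  induction h with
  | refl F q =>
    intro _ _ hS hC T M hM hUT
    obtain rfl : T = _ := le_antisymm hM.1.2.2.2.1.1 hUT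
    have hsub := quasi_le hS hC hM
    have e : F = M := sys_ext' (fun X f => ⟨fun h => by
      obtain ⟨φ, hφ, e⟩ := h
      exact ⟨φ, hsub _ hφ, e⟩, fun h => mp_sub hM.1.2.2.1 h⟩)
    rw [← e]
    exact IsSubnormalIn.refl _ _
  | @step T' S C D F q hsub' hDF ih =>
    intro hq hfin hS hC T M hM hUT
    haveI := hfin
    haveI := hq
    have hTS : T' ≤ S := hDF.1.2.2.2.1.1
    have hCD := subnormal_sub hsub'
    have hUT' : U ≤ T' := (D.le_of_mem (hCD _ (subtype_mem C le_rfl))).1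
    obtain ⟨D', ⟨-, hD'D, hD'M⟩, -⟩ := Cfsg.Agent.Lib.FusionExt.Meet8.meet_main hS hDF hM
    have h1 := ih hq (finite_of_le hTS) (hS.to_le hTS) hC D' hD'D (le_inf hUT' hUT)
    exact IsSubnormalIn.step h1 hD'M

end comps

end Cfsg.Agent.Lib.FusionExt.QS3
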