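import Cfsg.Agent.Lib.FusionExt.ER8c
import Cfsg.Agent.Lib.FusionExt.QS3

/-!
# The `A × B` lemma for strongly closed subgroups, and centralizing strongly closed subgroups from the normalizer (helper92)
-/

set_option autoImplicit false
set_option linter.unusedSectionVars false
set_option maxHeartbeats 1000000

namespace Cfsg.Agent.Lib.FusionExt.ER8d

open Cfsg Cfsg.FusionSystem Cfsg.Agent.Lib.Fusion.Basic Cfsg.Agent.Lib.Fusion.GroupSystem
open Cfsg.Agent.Lib.FusionExt.MapApi Cfsg.Agent.Lib.FusionExt.PowerSys Cfsg.Agent.Lib.FusionExt.LowPi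
open Cfsg.Agent.Lib.FusionExt.PrimeRes1 Cfsg.Agent.Lib.Fusion.Saturation Cfsg.Agent.Lib.Fusion.Saturation2
open Cfsg.Agent.Lib.FusionExt.Normal
open Cfsg.Agent.Lib.FusionExt.Glue1 (normAct_fun conj_fun inT_iff nm_map)
open Cfsg.Agent.Lib.FusionExt.Meet3 (exists_iso eq_of_autFun autFun_congr_apply)
open Cfsg.Agent.Lib.FusionExt.Dich1 (mp_normSys)
open Cfsg.Agent.Lib.FusionExt.ER3 (toAut')
open Cfsg.Agent.Lib.FusionExt.ER8b (ext_set)
open Cfsg.Agent.Lib.FusionExt.Comp1 (Cen)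

universe u

variable {Ω : Type u} [Group Ω] {S Q X W V₀ A B : Subgroup Ω} {F : FusionSystem S} {p : ℕ} {f g ρ k : Ω → Ω}

section main

variable [Finite S] [Fact p.Prime] (hS : IsPGroup p S) (hF : F.IsSaturated p) (hQ : F.StronglyClosed Q)

include hQ in
theorem mem_Q (hf : Mp F X f) {x : Ω} (hx : x ∈ X) (hxQ : x ∈ Q) : f x ∈ Q :=
  Cfsg.Agent.Lib.FusionExt.PowerE.sc_mp hQ (hf.restrict (inf_le_left : X ⊓ Q ≤ X)) inf_le_right ⟨hx, hxQ⟩

/-- Transport of `p'`-automorphisms. -/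
theorem pp_tr (hρ : Mp F A ρ) (hk : Mp F B k) (hi : Img A ρ B) (h1 : ∀ x ∈ A, k (ρ x) = x) (h2 : ∀ y ∈ B, ρ (k y) = y) (hf : Pp F p A f) :
    Pp F p B (fun y => ρ (f (k y))) := by
  obtain ⟨hfm, hfi, m, hm, hit⟩ := hf
  have hkA : ∀ y ∈ B, k y ∈ A := fun y hy => by
    obtain ⟨x, hx, rfl⟩ := hi.2 y hy
    rw [h1 x hx]
    exact hx
  have hki : Img B k A := ⟨hkA, fun x hx => ⟨ρ x, hi.1 x hx, h1 x hx⟩⟩
  refine ⟨hk.comp hkA (hfm.comp hfi.1 hρ), hki.comp (hfi.comp hi), m, hm, fun y hy => ?_⟩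
  have key : ∀ j : ℕ, (fun y => ρ (f (k y)))^[j] y = ρ (f^[j] (k y)) := by
    intro j
    induction j with
    | zero => exact (h2 y hy).symm
    | succ j ih =>
      rw [Function.iterate_succ_apply', Function.iterate_succ_apply', ih]
      show ρ (f (k (ρ (f^[j] (k y))))) = _
      rw [h1 _ (iterate_mem hfi.1 j (hkA y hy))]
  rw [key m, hit _ (hkA y hy), h2 y hy]

/-- Restriction of `p'`-automorphisms. -/
theorem pp_res (hf : Pp F p B f) (hAB : A ≤ B) (hm : ∀ x ∈ A, f x ∈ A) : Pp F p A f := by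
  obtain ⟨hfm, hfi, m, hm', hit⟩ := hf
  have hr := hfm.restrict hAB
  exact ⟨hr, img_self hr hm, m, hm', fun x hx => hit x (hAB hx)⟩

/-- An element moved by a fixed element. -/
theorem iter_stab {U : Subgroup Ω} {h : Ω → Ω} (hh : Mp F U h) {q d : Ω} (hq : q ∈ U) (hd : d ∈ U) (hqd : h q = q * d)
    (hfix : ∀ j : ℕ, h (d ^ j) = d ^ j) (j : ℕ) : h^[j] q = q * d ^ j := by
  induction j with
  | zero => simp
  | succ j ih =>
    rw [Function.iterate_succ_apply', ih, hh.map_mul hq (Subgroup.pow_mem _ hd j), hqd, hfix j, pow_succ']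
    group

include hS hQ in
/-- An element of `Aut_F(W)` trivial on `W ∩ Q`, moving elements by `W ∩ Q`, is induced at a fully automized `W`. -/
theorem pi_inner_Q (hFA : F.IsFullyAutomized p W) {a₀ : MulAut W} (ha : a₀ ∈ F.autGroup W)
    (hid : ∀ q ∈ W ⊓ Q, autFun a₀ q = q) (hst : ∀ w ∈ W, w⁻¹ * autFun a₀ w ∈ W ⊓ Q) : a₀ ∈ autInducedBy S W := by
  have hWS : W ≤ S := hFA.1
  haveI : Finite W := finite_of_le hWS
  haveI : Finite (MulAut W) := Cfsg.Agent.Lib.Fusion.Basic.finite_mulAut_of_finite (A := W)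
  let Yy : Subgroup (MulAut W) := LowPi.finSub
    { carrier := {y | y ∈ F.autGroup W ∧ (∀ q ∈ W ⊓ Q, autFun y q = q) ∧ ∀ w ∈ W, w⁻¹ * autFun y w ∈ W ⊓ Q}
      one_mem' := ⟨Subgroup.one_mem _, fun x _ => autFun_one_apply x, fun d _ => by
        rw [autFun_one_apply, inv_mul_cancel]; exact Subgroup.one_mem _⟩
      mul_mem' := by
        rintro y₁ y₂ ⟨h1, h2, h3⟩ ⟨h4, h5, h6⟩
        refine ⟨Subgroup.mul_mem _ h1 h4, fun x hx => ?_, fun d hd => ?_⟩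
        · rw [autFun_mul_apply, h5 x hx, h2 x hx]
        · have hz := h6 d hd
          have e : autFun y₂ d = d * (d⁻¹ * autFun y₂ d) := by group
          rw [autFun_mul_apply, e, autFun_mul y₁ hd hz.1, h2 _ hz, ← mul_assoc]
          exact Subgroup.mul_mem _ (h3 d hd) hz }
  have hY : ∀ {y}, y ∈ Yy ↔ y ∈ F.autGroup W ∧ (∀ q ∈ W ⊓ Q, autFun y q = q) ∧ ∀ w ∈ W, w⁻¹ * autFun y w ∈ W ⊓ Q := Iff.rfl
  have h1 : Yy ≤ F.autGroup W := fun y hy => hy.1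
  have hWp : IsPGroup p W := hS.to_le hWS
  have h2 : IsPGroup p Yy := by
    refine isPGroup_of_pow_eq_one (fun y hy => ?_)
    obtain ⟨k, hk⟩ := pow_fix_step hWp y (N := W ⊓ Q) (M := W) inf_le_left
      (fun x hx => by
        have := hy.2.2 _ hx
        rwa [autFun_coe] at this)
      ⟨0, fun z hz => by
        apply Subtype.ext
        have := hy.2.1 _ hz
        rw [autFun_coe] at this
        simpa using this⟩
    exact ⟨k, MulEquiv.ext fun x => hk x x.2⟩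
  have h3 : ∀ b ∈ F.autGroup W, ∀ w ∈ Yy, b * w * b⁻¹ ∈ Yy := by
    intro b hb w hw
    have hbi := Subgroup.inv_mem _ hb
    have hm : Mp F W (autFun b) := mp_autFun hWS hb
    have hmi : Mp F W (autFun b⁻¹) := mp_autFun hWS hbi
    refine ⟨Subgroup.mul_mem _ (Subgroup.mul_mem _ hb hw.1) hbi, fun x hx => ?_, fun d hd => ?_⟩
    · have hx' : autFun b⁻¹ x ∈ W ⊓ Q := ⟨autFun_mem _ hx.1, mem_Q hQ hmi hx.1 hx.2⟩
      rw [autFun_mul_apply, autFun_mul_apply, hw.2.1 _ hx', autFun_apply_inv]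
    · have hd₀ : autFun b⁻¹ d ∈ W := autFun_mem _ hd
      have hz := hw.2.2 _ hd₀
      have e : autFun w (autFun b⁻¹ d) = autFun b⁻¹ d * ((autFun b⁻¹ d)⁻¹ * autFun w (autFun b⁻¹ d)) := by group
      rw [autFun_mul_apply, autFun_mul_apply, e, autFun_mul b hd₀ hz.1, autFun_apply_inv, inv_mul_cancel_left]
      exact ⟨autFun_mem _ hz.1, mem_Q hQ hm hz.1 hz.2⟩
  exact Cfsg.Agent.Lib.FusionExt.SatCrit1.opAut_le_autInducedBy hFA (Cfsg.Agent.Lib.FusionExt.SatCrit1.le_opAut h1 h2 h3 ⟨ha, hid, hst⟩)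

include hS hF hQ in
/-- **The step at a fully normalized subgroup.** -/
theorem one_fn (hfn : F.IsFullyNormalized W) (hV : V₀ ≤ W) (hcen : centralizerIn Q V₀ ≤ V₀)
    (hg : Pp F p W g) (hfixV : ∀ v ∈ V₀, g v = v) (hfixQ : ∀ z ∈ W ⊓ Q, g z = z) :
    ∃ f', Pp F p (W ⊔ normalizerIn Q W) f' ∧ (∀ x ∈ W, f' x = g x) ∧ ∀ y ∈ normalizerIn Q W, f' y = y := by
  have hWS : W ≤ S := hfn.1
  have hQS : Q ≤ S := hQ.1
  haveI : Finite W := finite_of_le hWS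
  have hg' := hg
  obtain ⟨hgm, hgi, m₀, hm₀, hit⟩ := hg
  have hFA := isFullyAutomized_of_isFullyNormalized F hS hF hfn
  have hrec := isReceptive_of_isFullyNormalized F hS hF hfn
  obtain ⟨α, hα, eα⟩ := Cfsg.Agent.Lib.FusionExt.ER3.toAut' hgm hgi
  have hαQ : ∀ z ∈ W ⊓ Q, autFun α z = z := fun z hz => by rw [eα z hz.1, hfixQ z hz]
  have hαiQ : ∀ z ∈ W ⊓ Q, autFun α⁻¹ z = z := fun z hz => by
    have := autFun_inv_apply α z
    rwa [hαQ z hz] at this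
  have hYS : normalizerIn Q W ≤ S := inf_le_left.trans hQS
  have hYN : normalizerIn Q W ≤ Subgroup.normalizer (W : Set Ω) := inf_le_right
  -- commutators
  have hcomm : ∀ q ∈ normalizerIn Q W, ∀ y ∈ W, y⁻¹ * (q * y * q⁻¹) ∈ W ⊓ Q := by
    intro q hq y hy
    refine ⟨W.mul_mem (W.inv_mem hy) (norm_conj hq.2 hy), ?_⟩
    have h1 := sc_conj_mem F hQ (S.inv_mem (hWS hy)) hq.1
    have e : y⁻¹ * (q * y * q⁻¹) = (y⁻¹ * q * y⁻¹⁻¹) * q⁻¹ := by group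
    rw [e]
    exact Q.mul_mem h1 (Q.inv_mem hq.1)
  have hcond : ∀ q ∈ normalizerIn Q W, ∃ a ∈ S, ∀ x ∈ W, g (q * x * q⁻¹) = a * g x * a⁻¹ := by
    intro q hq
    have hqN := hYN hq
    have hqi : q⁻¹ ∈ normalizerIn Q W := Subgroup.inv_mem _ hq
    have hcA : normAct W hqN ∈ F.autGroup W := autInducedBy_le_autGroup F hWS (normAct_mem_autInducedBy S W hqN (hYS hq))
    have hinv : ∀ z ∈ W, autFun (normAct W hqN)⁻¹ z = q⁻¹ * z * q := by
      intro z hz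
      have h1 := autFun_apply_inv (normAct W hqN) z
      have hz' : autFun (normAct W hqN)⁻¹ z ∈ W := autFun_mem _ hz
      rw [normAct_fun hqN hz'] at h1
      calc autFun (normAct W hqN)⁻¹ z = q⁻¹ * (q * autFun (normAct W hqN)⁻¹ z * q⁻¹) * q := by group
        _ = q⁻¹ * z * q := by rw [h1]
    have hh : autFun (α * normAct W hqN * α⁻¹ * (normAct W hqN)⁻¹) =
        fun z => autFun α (autFun (normAct W hqN) (autFun α⁻¹ (autFun (normAct W hqN)⁻¹ z))) := by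
      funext z
      rw [autFun_mul_apply, autFun_mul_apply, autFun_mul_apply]
    have hm1 : α * normAct W hqN * α⁻¹ * (normAct W hqN)⁻¹ ∈ F.autGroup W :=
      Subgroup.mul_mem _ (Subgroup.mul_mem _ (Subgroup.mul_mem _ hα hcA) (Subgroup.inv_mem _ hα)) (Subgroup.inv_mem _ hcA)
    have hS₁ := pi_inner_Q hS hQ hFA hm1 (fun z hz => ?_) (fun w hw => ?_)
    · obtain ⟨s, hs, es⟩ := inT_iff.1 hS₁
      refine ⟨s * q, S.mul_mem hs.1 (hYS hq), fun x hx => ?_⟩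
      have hgx : autFun α x ∈ W := autFun_mem _ hx
      have h1 := es _ (autFun_mem (normAct W hqN) hgx)
      rw [normAct_fun hqN hgx] at h1
      have h2 : autFun (α * normAct W hqN * α⁻¹ * (normAct W hqN)⁻¹) (autFun (normAct W hqN) (autFun α x)) = autFun (α * normAct W hqN * α⁻¹) (autFun α x) := by
        rw [autFun_mul_apply (α * normAct W hqN * α⁻¹) (normAct W hqN)⁻¹, autFun_inv_apply]
      rw [normAct_fun hqN hgx] at h2
      rw [h2, conj_fun, normAct_fun hqN hx, eα _ (norm_conj hqN hx), eα x hx] at h1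
      rw [h1]
      group
    · rw [hh]
      show autFun α (autFun (normAct W hqN) (autFun α⁻¹ (autFun (normAct W hqN)⁻¹ z))) = z
      have hz₁ : autFun (normAct W hqN)⁻¹ z ∈ W ⊓ Q := by
        refine ⟨autFun_mem _ hz.1, ?_⟩
        rw [hinv z hz.1]
        have := Q.mul_mem (Q.mul_mem (Q.inv_mem hq.1) hz.2) hq.1
        exact this
      rw [hαiQ _ hz₁, autFun_apply_inv, hαQ z hz]
    · rw [hh]
      show w⁻¹ * autFun α (autFun (normAct W hqN) (autFun α⁻¹ (autFun (normAct W hqN)⁻¹ w))) ∈ W ⊓ Q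
      have hw₁ : autFun (normAct W hqN)⁻¹ w ∈ W := autFun_mem _ hw
      have hv : autFun α⁻¹ (autFun (normAct W hqN)⁻¹ w) ∈ W := autFun_mem _ hw₁
      have hτ₂ := hcomm q hq _ hv
      have hτ₁ : w⁻¹ * autFun (normAct W hqN)⁻¹ w ∈ W ⊓ Q := by
        rw [hinv w hw]
        have := hcomm q⁻¹ hqi w hw
        simpa using this
      rw [normAct_fun hqN hv]
      have e : q * autFun α⁻¹ (autFun (normAct W hqN)⁻¹ w) * q⁻¹ =
          autFun α⁻¹ (autFun (normAct W hqN)⁻¹ w) * ((autFun α⁻¹ (autFun (normAct W hqN)⁻¹ w))⁻¹ * (q * autFun α⁻¹ (autFun (normAct W hqN)⁻¹ w) * q⁻¹)) := by group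
      rw [e, autFun_mul α hv hτ₂.1, autFun_apply_inv, hαQ _ hτ₂, ← mul_assoc]
      exact Subgroup.mul_mem _ hτ₁ hτ₂
  obtain ⟨g₁, hg₁, eg₁⟩ := ext_set hrec hgm hgi hYS hYN hcond
  have hUS : W ⊔ normalizerIn Q W ≤ S := _root_.sup_le hWS hYS
  have hwU : W ≤ W ⊔ normalizerIn Q W := le_sup_left
  have hyU : normalizerIn Q W ≤ W ⊔ normalizerIn Q W := le_sup_right
  have hg₁Y : ∀ q ∈ normalizerIn Q W, g₁ q ∈ normalizerIn Q W := by
    intro q hq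
    refine ⟨mem_Q hQ hg₁ (hyU hq) hq.1, mem_normalizer_of_conj_le' (fun x hx => ?_)⟩
    obtain ⟨x₀, hx₀, rfl⟩ := hgi.2 x hx
    rw [← eg₁ x₀ hx₀, ← hg₁.map_conj (hyU hq) (hwU hx₀), eg₁ _ (norm_conj hq.2 hx₀)]
    exact hgi.1 _ (norm_conj hq.2 hx₀)
  have hg₁U : ∀ x ∈ W ⊔ normalizerIn Q W, g₁ x ∈ W ⊔ normalizerIn Q W := maps_sup hg₁ (fun x hx => by
    rw [eg₁ x hx]
    exact hwU (hgi.1 x hx)) (fun y hy => hyU (hg₁Y y hy))
  have hg₁i := img_self hg₁ hg₁U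
  -- the displacement lies in `W ∩ Q`
  have hdisp : ∀ q ∈ normalizerIn Q W, q⁻¹ * g₁ q ∈ W ⊓ Q := by
    intro q hq
    have hdQ : q⁻¹ * g₁ q ∈ Q := Q.mul_mem (Q.inv_mem hq.1) (hg₁Y q hq).1
    refine ⟨hV (hcen (mem_cent.2 ⟨hdQ, fun v hv => ?_⟩)), hdQ⟩
    have hvW := hV hv
    have hτ := hcomm q hq v hvW
    have h1 : g (q * v * q⁻¹) = q * v * q⁻¹ := by
      have e : q * v * q⁻¹ = v * (v⁻¹ * (q * v * q⁻¹)) := by group
      rw [e, hgm.map_mul hvW hτ.1, hfixV v hv, hfixQ _ hτ]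
    have h2 := hg₁.map_conj (hyU hq) (hwU hvW)
    rw [eg₁ _ (norm_conj hq.2 hvW), h1, eg₁ v hvW, hfixV v hv] at h2
    have h3 : g₁ q * v = q * v * q⁻¹ * g₁ q := by
      rw [h2]
      group
    calc v * (q⁻¹ * g₁ q) = q⁻¹ * (q * v * q⁻¹ * g₁ q) := by group
      _ = q⁻¹ * (g₁ q * v) := by rw [h3]
      _ = q⁻¹ * g₁ q * v := by group
  obtain ⟨f', m, hf', ef', efm⟩ := pp_extend' hUS hg₁ hg₁i hwU hg' eg₁
  refine ⟨f', hf', ef', fun q hq => ?_⟩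
  obtain ⟨hf'm, hf'i, m', hm', hf'it⟩ := id hf'
  obtain ⟨hd, hdQ⟩ := hdisp q hq
  have hd₀ : q⁻¹ * g₁ q ∈ W ⊓ Q := ⟨hd, hdQ⟩
  have hdj : ∀ j : ℕ, (q⁻¹ * g₁ q) ^ j ∈ W ⊓ Q := fun j => Subgroup.pow_mem _ hd₀ j
  have h1 : g₁^[m] q = q * (q⁻¹ * g₁ q) ^ m :=
    iter_stab hg₁ (hyU hq) (hwU hd) (by group) (fun j => by rw [eg₁ _ (hdj j).1, hfixQ _ (hdj j)]) m
  have h2 : f' q = q * (q⁻¹ * g₁ q) ^ m := by
    rw [efm q (hyU hq), h1]
  have hd' := hdj m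
  have h3 : f'^[m'] q = q * ((q⁻¹ * g₁ q) ^ m) ^ m' :=
    iter_stab hf'm (hyU hq) (hwU hd'.1) h2 (fun j => by
      have hj : ((q⁻¹ * g₁ q) ^ m) ^ j ∈ W ⊓ Q := Subgroup.pow_mem _ hd' j
      rw [ef' _ hj.1, hfixQ _ hj]) m'
  rw [hf'it q (hyU hq)] at h3
  have h4 : ((q⁻¹ * g₁ q) ^ m) ^ m' = 1 := by
    have := mul_eq_left.1 h3.symm
    exact this
  obtain ⟨k, hk⟩ := hS ⟨(q⁻¹ * g₁ q) ^ m, hQS hd'.2⟩
  have h5 : ((q⁻¹ * g₁ q) ^ m) ^ p ^ k = 1 := by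
    have := congrArg Subtype.val hk
    simpa using this
  have h6 := pow_gcd_eq_one.2 ⟨h4, h5⟩
  rw [Nat.Coprime.pow_right k hm'] at h6
  have h7 : (q⁻¹ * g₁ q) ^ m = 1 := by simpa using h6
  rw [h2, h7, mul_one]

include hS hF hQ in
/-- **The step in general.** -/
theorem one_step (hWS : W ≤ S) (hV : V₀ ≤ W) (hC : ∀ ψ V', Mp F V₀ ψ → Img V₀ ψ V' → centralizerIn Q V' ≤ V')
    (hg : Pp F p W g) (hfixV : ∀ v ∈ V₀, g v = v) (hfixQ : ∀ z ∈ W ⊓ Q, g z = z) :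
    ∃ g₁, Pp F p (W ⊔ normalizerIn Q W) g₁ ∧ (∀ x ∈ W, g₁ x = g x) ∧ ∀ y ∈ normalizerIn Q W, g₁ y = y := by
  obtain ⟨W₁, hc, hfn⟩ := exists_isFullyNormalized F hWS
  obtain ⟨ρ, hρ, hρN, hρi⟩ := nm_map hS hF hfn hc
  have hWN : W ≤ normalizerIn S W := le_normalizerIn hWS
  obtain ⟨k, hk, k1, k2, k3⟩ := (hρ.restrict hWN).inverse hρi
  have hg₂ : Pp F p W₁ (fun y => ρ (g (k y))) := pp_tr (hρ.restrict hWN) hk hρi k1 k2 hg
  have hV₀N : V₀ ≤ normalizerIn S W := hV.trans hWN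
  obtain ⟨V₁, hV₁⟩ := (hρ.restrict hV₀N).exists_img
  have hV₁W₁ : V₁ ≤ W₁ := fun y hy => by
    obtain ⟨x, hx, rfl⟩ := hV₁.2 y hy
    exact hρi.1 x (hV hx)
  obtain ⟨f', hf', e1, e2⟩ := one_fn hS hF hQ hfn hV₁W₁ (hC ρ V₁ (hρ.restrict hV₀N) hV₁) hg₂ (fun v hv => by
      obtain ⟨x, hx, rfl⟩ := hV₁.2 v hv
      show ρ (g (k (ρ x))) = ρ x
      rw [k1 x (hV hx), hfixV x hx]) (fun z hz => by
      show ρ (g (k z)) = z
      have hkz : k z ∈ W ⊓ Q := ⟨k3.1 z hz.1, mem_Q hQ hk hz.1 hz.2⟩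
      rw [hfixQ _ hkz, k2 z hz.1])
  have hgm := hg.1
  have hgi := hg.2.1
  have hYN : W ⊔ normalizerIn Q W ≤ normalizerIn S W := _root_.sup_le hWN (fun q hq => ⟨hQ.1 hq.1, hq.2⟩)
  obtain ⟨W₂, hW₂⟩ := (hρ.restrict hYN).exists_img
  have hρY : ∀ q ∈ normalizerIn Q W, ρ q ∈ normalizerIn Q W₁ := fun q hq => by
    have hqN := hYN (Subgroup.mem_sup_right hq)
    exact ⟨mem_Q hQ hρ hqN hq.1, (hρN q hqN).2⟩
  have hW₂le : W₂ ≤ W₁ ⊔ normalizerIn Q W₁ := by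
    intro y hy
    obtain ⟨x, hx, rfl⟩ := hW₂.2 y hy
    exact maps_sup (hρ.restrict hYN) (fun a ha => Subgroup.mem_sup_left (hρi.1 a ha)) (fun b hb => Subgroup.mem_sup_right (hρY b hb)) x hx
  have hf'W₂ : ∀ z ∈ W₂, f' z ∈ W₂ := by
    intro z hz
    obtain ⟨x, hx, rfl⟩ := hW₂.2 z hz
    have hm : Mp F (W ⊔ normalizerIn Q W) (fun x => f' (ρ x)) := (hρ.restrict hYN).comp (fun a ha => hW₂le (hW₂.1 a ha)) hf'.1
    refine maps_sup hm (fun a ha => ?_) (fun b hb => ?_) x hx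
    · show f' (ρ a) ∈ W₂
      rw [e1 _ (hρi.1 a ha)]
      show ρ (g (k (ρ a))) ∈ W₂
      rw [k1 a ha]
      exact hW₂.1 _ (Subgroup.mem_sup_left (hgi.1 a ha))
    · show f' (ρ b) ∈ W₂
      rw [e2 _ (hρY b hb)]
      exact hW₂.1 _ (Subgroup.mem_sup_right hb)
  have hf₂ : Pp F p W₂ f' := pp_res hf' hW₂le hf'W₂
  obtain ⟨k', hk', k1', k2', k3'⟩ := (hρ.restrict hYN).inverse hW₂
  have hres : Pp F p (W ⊔ normalizerIn Q W) (fun x => k' (f' (ρ x))) := pp_tr hk' (hρ.restrict hYN) k3' k2' k1' hf₂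
  refine ⟨_, hres, fun x hx => ?_, fun y hy => ?_⟩
  · show k' (f' (ρ x)) = g x
    rw [e1 _ (hρi.1 x hx)]
    show k' (ρ (g (k (ρ x)))) = g x
    rw [k1 x hx, k1' _ (Subgroup.mem_sup_left (hgi.1 x hx))]
  · show k' (f' (ρ y)) = y
    rw [e2 _ (hρY y hy), k1' y (Subgroup.mem_sup_right hy)]

/-- The property at `W`. -/
def AbP (F : FusionSystem S) (Q V₀ : Subgroup Ω) (p : ℕ) (W : Subgroup Ω) : Prop :=
  ∀ g, Pp F p W g → (∀ v ∈ V₀, g v = v) → (∀ z ∈ W ⊓ Q, g z = z) → ∃ gh, Mp F (W ⊔ Q) gh ∧ (∀ x ∈ W, gh x = g x) ∧ ∀ q ∈ Q, gh q = q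

include hS hF hQ in
theorem ab_step (hWS : W ≤ S) (hV : V₀ ≤ W) (hC : ∀ ψ V', Mp F V₀ ψ → Img V₀ ψ V' → centralizerIn Q V' ≤ V')
    (hIH : ∀ W₂, W₂ ≤ S → V₀ ≤ W₂ → Nat.card W < Nat.card W₂ → AbP F Q V₀ p W₂) : AbP F Q V₀ p W := by
  intro g hg hfixV hfixQ
  by_cases hQW : Q ≤ W
  · refine ⟨g, ?_, fun _ _ => rfl, fun q hq => hfixQ q ⟨hQW hq, hq⟩⟩
    rw [sup_eq_left.2 hQW]
    exact hg.1
  have hQS : Q ≤ S := hQ.1
  haveI : Finite W := finite_of_le hWS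
  have hUS : W ⊔ Q ≤ S := _root_.sup_le hWS hQS
  have hlt : W < W ⊔ Q := lt_of_le_of_ne le_sup_left (fun e => hQW (by rw [e]; exact le_sup_right))
  haveI : Finite ↥(W ⊔ Q) := finite_of_le hUS
  have hnlt := lt_normalizerIn (hS.to_le hUS) hlt
  obtain ⟨n, hn, hnW⟩ := SetLike.exists_of_lt hnlt
  have hWNQ : W ≤ Subgroup.normalizer (Q : Set Ω) := fun w hw => sc_le_normalizer F hQ (hWS hw)
  obtain ⟨w, hw, q, hq, rfl⟩ := exists_mul_of_mem_sup' hWNQ hn.1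
  have hqY : q ∈ normalizerIn Q W := by
    refine ⟨hq, ?_⟩
    have := Subgroup.mul_mem _ (Subgroup.le_normalizer (W.inv_mem hw)) hn.2
    simpa using this
  have hqW : q ∉ W := fun h => hnW (W.mul_mem hw h)
  have hW₁S : W ⊔ normalizerIn Q W ≤ S := _root_.sup_le hWS (inf_le_left.trans hQS)
  haveI : Finite ↥(W ⊔ normalizerIn Q W) := finite_of_le hW₁S
  have hcard : Nat.card W < Nat.card ↥(W ⊔ normalizerIn Q W) := by
    by_contra hn'
    have he := Subgroup.eq_of_le_of_card_ge (le_sup_left : W ≤ W ⊔ normalizerIn Q W) (not_lt.1 hn')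
    exact hqW (he.symm.le (Subgroup.mem_sup_right hqY))
  obtain ⟨g₁, hg₁, e1, e2⟩ := one_step hS hF hQ hWS hV hC hg hfixV hfixQ
  haveI : Finite (normalizerIn Q W) := finite_of_le (inf_le_left.trans hQS)
  have hWNY : W ≤ Subgroup.normalizer ((normalizerIn Q W : Subgroup Ω) : Set Ω) := by
    intro w' hw'
    refine mem_normalizer_of_conj_le' (fun y hy => ⟨sc_conj_mem F hQ (hWS hw') hy.1, ?_⟩)
    exact Subgroup.mul_mem _ (Subgroup.mul_mem _ (Subgroup.le_normalizer hw') hy.2) (Subgroup.inv_mem _ (Subgroup.le_normalizer hw'))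
  obtain ⟨gh, hgh, e3, e4⟩ := hIH _ hW₁S (hV.trans le_sup_left) hcard g₁ hg₁ (fun v hv => by
      rw [e1 v (hV hv), hfixV v hv]) (fun x hx => by
      obtain ⟨w', hw', y, hy, rfl⟩ := exists_mul_of_mem_sup' hWNY hx.1
      have hw'Q : w' ∈ Q := by
        have := Q.mul_mem hx.2 (Q.inv_mem hy.1)
        simpa using this
      rw [hg₁.1.map_mul (Subgroup.mem_sup_left hw') (Subgroup.mem_sup_right hy), e1 w' hw', e2 y hy, hfixQ w' ⟨hw', hw'Q⟩])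
  have hsup : (W ⊔ normalizerIn Q W) ⊔ Q = W ⊔ Q :=
    le_antisymm (_root_.sup_le (sup_le_sup_left (inf_le_left) W) le_sup_right) (sup_le_sup_right le_sup_left Q)
  rw [hsup] at hgh
  exact ⟨gh, hgh, fun x hx => by rw [e3 x (Subgroup.mem_sup_left hx), e1 x hx], e4⟩

include hS hF hQ in
/-- **The `A × B` lemma.** -/
theorem ab_all (hC : ∀ ψ V', Mp F V₀ ψ → Img V₀ ψ V' → centralizerIn Q V' ≤ V') (hWS : W ≤ S) (hV : V₀ ≤ W) : AbP F Q V₀ p W := by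
  have main : ∀ n : ℕ, ∀ W₀, W₀ ≤ S → V₀ ≤ W₀ → Nat.card S ≤ Nat.card W₀ + n → AbP F Q V₀ p W₀ := by
    intro n
    induction n with
    | zero =>
      intro W₀ h0 h1 h2
      refine ab_step hS hF hQ h0 h1 hC (fun W₂ h3 h4 h5 => ?_)
      exfalso
      have := Subgroup.card_le_of_le h3
      omega
    | succ n ih =>
      intro W₀ h0 h1 h2
      exact ab_step hS hF hQ h0 h1 hC (fun W₂ h3 h4 h5 => ih W₂ h3 h4 (by omega))
  exact main _ W hWS hV (Nat.le_add_left _ _)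

include hS hF hQ in
/-- **The condition on the normalizer of a fully normalized subgroup in `X Q`.** -/
theorem cC (hfn : F.IsFullyNormalized X) {ψ : Ω → Ω} {V' : Subgroup Ω} (hψ : Mp F (normalizerIn (X ⊔ Q) X) ψ)
    (hi : Img (normalizerIn (X ⊔ Q) X) ψ V') : centralizerIn Q V' ≤ V' := by
  have hXS : X ≤ S := hfn.1
  have hQS : Q ≤ S := hQ.1
  have hRS : X ⊔ Q ≤ S := _root_.sup_le hXS hQS
  have hV₀S : normalizerIn (X ⊔ Q) X ≤ S := inf_le_left.trans hRS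
  have hXV : X ≤ normalizerIn (X ⊔ Q) X := le_normalizerIn le_sup_left
  obtain ⟨X', hX'⟩ := (hψ.restrict hXV).exists_img
  have hV'N : V' ≤ normalizerIn S X' := by
    intro y hy
    obtain ⟨x, hx, rfl⟩ := hi.2 y hy
    refine ⟨hψ.mem_S hx, ?_⟩
    have hX'S : X' ≤ S := (hψ.restrict hXV).img_le hX'
    haveI : Finite X' := finite_of_le hX'S
    refine mem_normalizer_of_conj_le' (fun z hz => ?_)
    obtain ⟨u, hu, rfl⟩ := hX'.2 z hz
    rw [← hψ.map_conj hx (hXV hu)]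
    exact hX'.1 _ (norm_conj hx.2 hu)
  have hconj : F.IsConj X' X := by
    obtain ⟨k, hk, -, -, k3⟩ := (hψ.restrict hXV).inverse hX'
    exact hk.isConj k3
  obtain ⟨χ, hχ, hχN, hχi⟩ := nm_map hS hF hfn hconj
  have hWNQ : X ≤ Subgroup.normalizer (Q : Set Ω) := fun w hw => sc_le_normalizer F hQ (hXS hw)
  -- the image of `V'` is all of the normalizer
  obtain ⟨V₂, hV₂⟩ := (hχ.restrict hV'N).exists_img
  have hV₂le : V₂ ≤ normalizerIn (X ⊔ Q) X := by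
    intro y hy
    obtain ⟨v, hv, rfl⟩ := hV₂.2 y hy
    refine ⟨?_, (hχN v (hV'N hv)).2⟩
    obtain ⟨u, hu, rfl⟩ := hi.2 v hv
    obtain ⟨x, hx, z, hz, e⟩ := exists_mul_of_mem_sup' hWNQ hu.1
    have hxm : x ∈ normalizerIn (X ⊔ Q) X := hXV hx
    have hzm : z ∈ normalizerIn (X ⊔ Q) X := by
      have := Subgroup.mul_mem _ (Subgroup.inv_mem _ hxm) hu
      rw [e] at this
      simpa using this
    rw [e, hψ.map_mul hxm hzm, hχ.map_mul (hV'N (hi.1 x hxm)) (hV'N (hi.1 z hzm))]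
    refine Subgroup.mul_mem _ (Subgroup.mem_sup_left (hχi.1 _ (hX'.1 x hx))) (Subgroup.mem_sup_right ?_)
    exact mem_Q hQ hχ (hV'N (hi.1 z hzm)) (mem_Q hQ hψ hzm hz)
  haveI : Finite (normalizerIn (X ⊔ Q) X) := finite_of_le hV₀S
  have hV₂e : V₂ = normalizerIn (X ⊔ Q) X := by
    refine Subgroup.eq_of_le_of_card_ge hV₂le ?_
    have h1 := (hχ.restrict hV'N).card_img hV₂
    have h2 := hψ.card_img hi
    rw [h1, h2]
  rw [hV₂e] at hV₂
  intro c hc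
  obtain ⟨hcQ, hcC⟩ := mem_cent.1 hc
  have hX'V' : X' ≤ V' := fun y hy => by
    obtain ⟨u, hu, rfl⟩ := hX'.2 y hy
    exact hi.1 u (hXV hu)
  have hcN : c ∈ normalizerIn S X' := by
    refine ⟨hQS hcQ, ?_⟩
    have hX'S : X' ≤ S := (hψ.restrict hXV).img_le hX'
    haveI : Finite X' := finite_of_le hX'S
    refine mem_normalizer_of_conj_le' (fun z hz => ?_)
    have := hcC z (hX'V' hz)
    have e : c * z * c⁻¹ = z := by
      rw [← this]
      group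
    rw [e]
    exact hz
  have h1 : χ c ∈ normalizerIn (X ⊔ Q) X := by
    have h2 : χ c ∈ Q := mem_Q hQ hχ hcN hcQ
    refine ⟨Subgroup.mem_sup_right h2, (hχN c hcN).2⟩
  obtain ⟨v, hv, ev⟩ := hV₂.2 _ h1
  have := hχ.inj (hV'N hv) hcN ev
  rw [← this]
  exact hv

include hS hF hQ in
/-- **From the normalizer system to `F`.** -/
theorem cen_up {U : Subgroup Ω} {K : FusionSystem U} {N : FusionSystem (normalizerIn S X)} (hfn : F.IsFullyNormalized X)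
    (hN : F.IsNormalizerSystem X N) (hU : U ≤ normalizerIn S X) (hKs : K.IsSaturated p) (hKh : K.hyperfocalSubgroup p = U)
    (hcen : Cen N K (normalizerIn (X ⊔ Q) X)) : Cen F K Q := by
  have hNSS : normalizerIn S X ≤ S := inf_le_left
  haveI : Finite (normalizerIn S X) := finite_of_le hNSS
  refine Cfsg.Agent.Lib.FusionExt.CenB.cen_of_fix hS (hU.trans hNSS) hQ hKs hKh (fun P hP f hf => ?_)
  obtain ⟨g₁, hg₁, e1, e2⟩ := hcen.2 P f hf.1
  have hXS : X ≤ S := hfn.1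
  have hRS : X ⊔ Q ≤ S := _root_.sup_le hXS hQ.1
  have hV₀N : normalizerIn (X ⊔ Q) X ≤ normalizerIn S X := fun x hx => ⟨hRS hx.1, hx.2⟩
  have hWN : P ⊔ normalizerIn (X ⊔ Q) X ≤ normalizerIn S X := _root_.sup_le (hP.trans hU) hV₀N
  have hm : ∀ x ∈ P ⊔ normalizerIn (X ⊔ Q) X, g₁ x ∈ P ⊔ normalizerIn (X ⊔ Q) X := maps_sup hg₁ (fun a ha => by
    rw [e1 a ha]
    exact Subgroup.mem_sup_left (hf.2.1.1 a ha)) (fun b hb => by
    rw [e2 b hb]
    exact Subgroup.mem_sup_right hb)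
  have hgi := img_self hg₁ hm
  have hfN : Pp N p P f := ⟨(hg₁.restrict le_sup_left).congr e1, hf.2⟩
  obtain ⟨f', m, hf', ef', efm⟩ := pp_extend' hWN hg₁ hgi le_sup_left hfN e1
  obtain ⟨-, -, g₂, hg₂, e3, -⟩ := (mp_normSys hN).1 hf'.1
  have hXV : X ≤ normalizerIn (X ⊔ Q) X := le_normalizerIn le_sup_left
  have hf'F : Mp F (P ⊔ normalizerIn (X ⊔ Q) X) f' := (hg₂.restrict le_sup_left).congr e3
  have hpF : Pp F p (P ⊔ normalizerIn (X ⊔ Q) X) f' := ⟨hf'F, hf'.2.1, hf'.2.2⟩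
  have hfixV : ∀ v ∈ normalizerIn (X ⊔ Q) X, f' v = v := fun v hv => by
    rw [efm v (Subgroup.mem_sup_right hv)]
    exact Function.iterate_fixed (e2 v hv) m
  obtain ⟨gh, hgh, e4, e5⟩ := ab_all hS hF hQ (fun ψ V' h1 h2 => cC hS hF hQ hfn h1 h2) (hWN.trans hNSS) le_sup_right f' hpF hfixV
    (fun z hz => hfixV z ⟨Subgroup.mem_sup_right hz.2, (hWN hz.1).2⟩)
  refine ⟨gh, hgh.restrict (sup_le_sup_right le_sup_left Q), fun x hx => ?_, e5⟩
  rw [e4 x (Subgroup.mem_sup_left hx), ef' x hx]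

end main

end Cfsg.Agent.Lib.FusionExt.ER8d
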