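import Cfsg.Agent.Lib.FusionExt.ER8d
import Cfsg.Agent.Lib.FusionExt.Constr1
import Cfsg.Agent.Lib.FusionExt.CentE4
import Cfsg.Agent.S5145
import Cfsg.Agent.S5148

/-!
# Components of the normalizer system lie in `N_{E·XT}(X)`; E-balance (helper92)
-/

set_option autoImplicit false
set_option linter.unusedSectionVars false
set_option maxHeartbeats 1000000

namespace Cfsg.Agent.Lib.FusionExt.ER8e

open Cfsg Cfsg.FusionSystem Cfsg.Agent.Lib.Fusion.Basic Cfsg.Agent.Lib.Fusion.GroupSystem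
open Cfsg.Agent.Lib.FusionExt.MapApi Cfsg.Agent.Lib.FusionExt.PowerSys Cfsg.Agent.Lib.FusionExt.LowPi
open Cfsg.Agent.Lib.FusionExt.PrimeRes1 Cfsg.Agent.Lib.Fusion.Saturation Cfsg.Agent.Lib.Fusion.Saturation2
open Cfsg.Agent.Lib.FusionExt.Normal Cfsg.Agent.Lib.FusionExt.CentSys
open Cfsg.Agent.Lib.FusionExt.Glue1 (inT_iff)
open Cfsg.Agent.Lib.FusionExt.Dich1 (mp_normSys)
open Cfsg.Agent.Lib.FusionExt.Comp1 (Cen subnormal_sub)
open Cfsg.Agent.Lib.FusionExt.ER0 Cfsg.Agent.Lib.FusionExt.ER6a Cfsg.Agent.Lib.FusionExt.ER7a Cfsg.Agent.Lib.FusionExt.ER7b Cfsg.Agent.Lib.FusionExt.ER8a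
open Cfsg.Agent.Lib.FusionExt.ER8c Cfsg.Agent.Lib.FusionExt.ER8d
open Cfsg.Agent.Lib.FusionExt.CentE (CC CC_le)
open Cfsg.Agent.Lib.FusionExt.PowerE (hom_of_mp mp_sub)

universe u

variable {Ω : Type u} [Group Ω] {S T X Y : Subgroup Ω} {F : FusionSystem S} {E : FusionSystem T} {p : ℕ}

section main

variable [Finite S] [Fact p.Prime] (hS : IsPGroup p S) (hfn : F.IsFullyNormalized X)
  {N : FusionSystem (normalizerIn S X)} (hN : F.IsNormalizerSystem X N)

include hfn hN in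
/-- The normalizer of `X` in `X Z`, for `Z` normal in `F`, is normal in the normalizer system. -/
theorem VZ_normal {Z : Subgroup Ω} (hZ : F.IsNormal Z) : N.IsNormal (normalizerIn (X ⊔ Z) X) := by
  have hXS : X ≤ S := hfn.1
  have hZS : Z ≤ S := hZ.1
  have hRS : X ⊔ Z ≤ S := _root_.sup_le hXS hZS
  have hVN : normalizerIn (X ⊔ Z) X ≤ normalizerIn S X := fun x hx => ⟨hRS hx.1, hx.2⟩
  have hZsc := isNormal_stronglyClosed F hZ
  haveI : Finite X := finite_of_le hXS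
  refine Cfsg.Agent.Lib.FusionExt.CoreN.isNormal_of_mp hVN (fun Y f hf => ?_)
  obtain ⟨h1, h2, g, hg, e1, e2⟩ := (mp_normSys hN).1 hf
  obtain ⟨gh, hgh, e3, e4⟩ := mp_normal_ext hZ hg
  have hXle : X ≤ (Y ⊔ X) ⊔ Z := le_sup_right.trans le_sup_left
  have hVle : normalizerIn (X ⊔ Z) X ≤ (Y ⊔ X) ⊔ Z := inf_le_left.trans (sup_le_sup_right le_sup_right Z)
  have hle : Y ⊔ normalizerIn (X ⊔ Z) X ≤ (Y ⊔ X) ⊔ Z := _root_.sup_le (le_sup_left.trans le_sup_left) hVle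
  have hle2 : (Y ⊔ normalizerIn (X ⊔ Z) X) ⊔ X ≤ (Y ⊔ X) ⊔ Z := _root_.sup_le hle hXle
  have hgX : ∀ x ∈ X, gh x = g x := fun x hx => e3 x (Subgroup.mem_sup_right hx)
  have hV : ∀ v ∈ normalizerIn (X ⊔ Z) X, gh v ∈ normalizerIn (X ⊔ Z) X := by
    intro v hv
    have hWNQ : X ≤ Subgroup.normalizer (Z : Set Ω) := fun w hw => sc_le_normalizer F hZsc (hXS hw)
    constructor
    · obtain ⟨x, hx, z, hz, e⟩ := exists_mul_of_mem_sup' hWNQ hv.1
      rw [e, hgh.map_mul (hXle hx) (Subgroup.mem_sup_right hz), hgX x hx]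
      exact Subgroup.mul_mem _ (Subgroup.mem_sup_left (e2.1 x hx)) (Subgroup.mem_sup_right (e4.1 z hz))
    · refine mem_normalizer_of_conj_le' (fun y hy => ?_)
      obtain ⟨x, hx, rfl⟩ := e2.2 y hy
      rw [← hgX x hx, ← hgh.map_conj (hVle hv) (hXle hx), hgX _ (norm_conj hv.2 hx)]
      exact e2.1 _ (norm_conj hv.2 hx)
  have hi₁ : Img (normalizerIn (X ⊔ Z) X) gh (normalizerIn (X ⊔ Z) X) := img_self (hgh.restrict hVle) hV
  refine ⟨gh, (mp_normSys hN).2 ⟨_root_.sup_le h1 hVN, ?_, gh, hgh.restrict hle2, fun _ _ => rfl, ?_⟩, ?_, hi₁⟩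
  · refine maps_sup (hgh.restrict hle) (fun a ha => ?_) (fun b hb => hVN (hV b hb))
    rw [e3 a (Subgroup.mem_sup_left ha), e1 a ha]
    exact h2 a ha
  · exact e2.congr (fun x hx => (hgX x hx).symm)
  · intro x hx
    rw [e3 x (Subgroup.mem_sup_left hx), e1 x hx]

end main

section cx

variable [Finite S] [Fact p.Prime] (C : Cx F E p) (hE : E.IsLayerOf F p) (hfn : F.IsFullyNormalized X)
  {N : FusionSystem (normalizerIn S X)} (hN : F.IsNormalizerSystem X N)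

include C hE hfn hN

/-- **A component of the normalizer system does not centralize the base of `M`.** -/
theorem no_cen {U : Subgroup Ω} {K : FusionSystem U} (hK : K.IsComponentIn N p) (hcen : Cen N K (normalizerIn (X ⊔ T) X)) : False := by
  have hNSS : normalizerIn S X ≤ S := inf_le_left
  haveI : Finite (normalizerIn S X) := finite_of_le hNSS
  have hNSp : IsPGroup p (normalizerIn S X) := C.hS.to_le hNSS
  have hNs : N.IsSaturated p := Cfsg.Agent.Lib.Fusion.KSystem.isSaturated_normalizerSystem C.hS F C.hF hfn N hN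
  have hU : U ≤ normalizerIn S X := (N.le_of_mem (subnormal_sub hK.1 U (subtype_mem K le_rfl))).1
  have hUS : U ≤ S := hU.trans hNSS
  haveI : Finite U := finite_of_le hUS
  have hKs : K.IsSaturated p := hK.2.1
  have hKh : K.hyperfocalSubgroup p = U := hK.2.2.1
  have cen1 : Cen F K T := cen_up C.hS C.hF C.hT hfn hN hU hKs hKh hcen
  have hZ : F.IsNormal F.core := Cfsg.Agent.S5145.result F
  have hZsc : F.StronglyClosed F.core := isNormal_stronglyClosed F hZ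
  have hVZ : N.IsNormal (normalizerIn (X ⊔ F.core) X) := VZ_normal hfn hN hZ
  have cen2 : Cen F K F.core := cen_up C.hS C.hF hZsc hfn hN hU hKs hKh (Cfsg.Agent.Lib.FusionExt.Comp2.comp_cen hNSp hNs hK hVZ)
  have hUCC : U ≤ CC F E := by
    rw [← hKh]
    refine Cfsg.Agent.Lib.FusionExt.Comp1.hyperfocal_le_of_gen (fun P hP f hf x hx => ?_)
    obtain ⟨g, hg, e1, e2⟩ := cen1.2 P f hf.1
    have hmc : Mp (Cfsg.Agent.Lib.FusionExt.Basic.centralizerSystem F T C.hTS) P f := by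
      refine mp_centSys.2 ⟨le_inf (hP.trans hUS) (hP.trans cen1.1), fun y hy => ?_, g, hg, e1, e2⟩
      have hv := hP (hf.2.1.1 y hy)
      exact ⟨hUS hv, cen1.1 hv⟩
    exact Cfsg.Agent.Lib.FusionExt.CentE3.mp_diff_mem C.hS C.hN hmc hx
  obtain ⟨B, hB, -⟩ := Cfsg.Agent.Lib.FusionExt.CentE4.main C.hS C.hN
  have hCCS : CC F E ≤ S := CC_le.trans inf_le_left
  haveI : Finite ↥(CC F E) := finite_of_le hCCS
  have hCCp : IsPGroup p ↥(CC F E) := C.hS.to_le hCCS
  have hBs : B.IsSaturated p := hB.1.1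
  have hnc : ¬ ∃ (T' : Subgroup Ω) (K' : FusionSystem T'), K'.IsComponentIn B p := by
    rintro ⟨T', K', hK'⟩
    have hK'F : K'.IsComponentIn F p := ⟨.step hK'.1 hB, hK'.2⟩
    have hle := hE.2.1 T' K' hK'F
    have hT'T : T' ≤ T := (E.le_of_mem (hle T' (subtype_mem K' le_rfl))).1
    have hT'CC : T' ≤ CC F E := (B.le_of_mem (subnormal_sub hK'.1 T' (subtype_mem K' le_rfl))).1
    have hT'S : T' ≤ S := hT'CC.trans hCCS
    haveI : Finite T' := finite_of_le hT'S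
    refine Cfsg.Agent.S5148.result p (C.hS.to_le hT'S) K' hK'.2 ⟨⟨fun a b => Subtype.ext ?_⟩⟩
    exact (mem_cent.1 (CC_le (hT'CC b.2))).2 a (hT'T a.2)
  obtain ⟨-, Q₀, hQ₀, hQ₀c⟩ := (Cfsg.Agent.Lib.FusionExt.Constr1.main hCCp B hBs).2 hnc
  have hcc : B.IsCentric B.core := Cfsg.Agent.Lib.FusionExt.Constrained.isCentric_core B hQ₀ hQ₀c
  have hBcN : F.IsNormal B.core := Cfsg.Agent.Lib.FusionExt.CoreN.core_isNormal C.hS hB
  have hBZ : B.core ≤ F.core := Cfsg.Agent.Lib.FusionExt.Constrained.le_core F hBcN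
  have hUB : U ≤ B.core := by
    intro u hu
    refine hcc.2 B.core (isConj_refl B hcc.1) (mem_cent.2 ⟨hUCC hu, fun y hy => ?_⟩)
    exact Subgroup.mem_centralizer_iff.1 (cen2.1 hu) y (hBZ hy)
  refine Cfsg.Agent.S5148.result p (C.hS.to_le hUS) K hK.2 ⟨⟨fun a b => Subtype.ext ?_⟩⟩
  exact Subgroup.mem_centralizer_iff.1 (cen2.1 b.2) a (hBZ (hUB a.2))

/-- The residual of `M` lies in `E`. -/
theorem M₀_le_E {D : FusionSystem (X ⊔ T)} (hR : Lv₂ T (X ⊔ T) S) (hD : ∀ {Y f}, Mp D Y f ↔ Dn F E p (X ⊔ T) Y f)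
    {M : FusionSystem (normalizerIn (X ⊔ T) X)} (hM : D.IsNormalizerSystem X M)
    {M₀ : FusionSystem (M.hyperfocalSubgroup p)} (hs₁ : M₀.IsSaturated p) (hi₁ : M₀.HasPPowerIndexIn M p) (hT₀T : M.hyperfocalSubgroup p ≤ T) :
    M₀.IsSubsystemOf E := by
  intro P φ hφ
  have hT₀S : M.hyperfocalSubgroup p ≤ S := hT₀T.trans C.hTS
  haveI : Finite (M.hyperfocalSubgroup p) := finite_of_le hT₀S
  have hT₀p : IsPGroup p (M.hyperfocalSubgroup p) := C.hS.to_le hT₀S
  haveI := C.finT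
  refine Cfsg.Agent.Lib.Fusion.Alperin.alperin_induction M₀ hT₀p hs₁ (fun P φ => φ ∈ E.Hom P) ?_ ?_ ?_ ?_ P φ hφ
  · intro P hP α hα
    have hfn₀ : M₀.IsFullyNormalized P := by
      rcases hP with rfl | hP
      · exact isFullyNormalized_top _ hT₀p
      · exact hP.2.1
    have hPT₀ : P ≤ M.hyperfocalSubgroup p := hfn₀.1
    have hPT : P ≤ T := hPT₀.trans hT₀T
    have hFA := isFullyAutomized_of_isFullyNormalized M₀ hT₀p hs₁ hfn₀
    have hle := Cfsg.Agent.Lib.FusionExt.Hyperfocal.aut_le_of_isFullyAutomized M₀ hFA (E.autGroup P) ?_ ?_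
    · have hm : Mp E P (autFun α) := mp_autFun hPT (hle hα)
      exact hom_of_mp (hm.congr (fun x hx => by
        rw [extOf_of_mem _ hx, autFun_of_mem α hx]
        rfl))
    · refine (Subgroup.map_le_iff_le_comap).2 ((Subgroup.closure_le _).2 (fun b hb => ?_))
      have hbm : Mp M₀ P (autFun (b : MulAut P)) := mp_autFun hPT₀ b.2
      have hbM : Mp M P (autFun (b : MulAut P)) := mp_sub hi₁.1 hbm
      obtain ⟨-, -, g, hg, e1, -⟩ := (mp_M C hfn hN hR hD hM).1 hbM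
      have hdn : Dn F E p (X ⊔ T) P (autFun (b : MulAut P)) := dn_congr C hR (dn_res C hR hg le_sup_left) e1
      have hb1 : (b : MulAut P) ^ orderOf b = 1 := by
        have := pow_orderOf_eq_one b
        exact congrArg Subtype.val this
      exact aut_E_of_coprime C hR hPT hdn hb hb1
    · intro c hc
      obtain ⟨t, ht, e⟩ := inT_iff.1 hc
      exact autInducedBy_le_autGroup E hPT (inT_iff.2 ⟨t, ⟨hT₀T ht.1, ht.2⟩, e⟩)
  · intro P Q h φ _ hφ
    exact restrict_mem E h hφ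
  · intro P Q R' e e' _ _ h h'
    exact isoHom_trans_mem E h h'
  · intro P Q e _ h
    exact isoHom_symm_mem E h

/-- **E-balance.** -/
theorem balance {U : Subgroup Ω} {EN : FusionSystem U} (hEN : EN.IsLayerOf N p) : EN.IsSubsystemOf E := by
  have hXS : X ≤ S := hfn.1
  have hR : Lv₂ T (X ⊔ T) S := ⟨le_sup_right, _root_.sup_le hXS C.hTS⟩
  haveI : Finite ↥(X ⊔ T) := finite_of_le hR.rs
  have hD : ∀ {Y f}, Mp (DD C hR) Y f ↔ Dn F E p (X ⊔ T) Y f := mp_DD C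
  obtain ⟨M, hM⟩ : ∃ M : FusionSystem (normalizerIn (X ⊔ T) X), (DD C hR).IsNormalizerSystem X M :=
    ⟨Cfsg.Agent.Lib.FusionExt.Basic.normalizerSystem (DD C hR) X le_sup_left, fun _ => rfl⟩
  have hMN : M.IsNormalIn N p := M_normal C hfn hN hR hD hM
  have hNSS : normalizerIn S X ≤ S := inf_le_left
  haveI : Finite (normalizerIn S X) := finite_of_le hNSS
  have hNSp : IsPGroup p (normalizerIn S X) := C.hS.to_le hNSS
  have hcomp : ∀ (U' : Subgroup Ω) (K : FusionSystem U'), K.IsComponentIn N p → K.IsSubsystemOf M := by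
    intro U' K hK
    rcases Cfsg.Agent.Lib.FusionExt.QS3.comp_or_cen hNSp hK hMN with h | h
    · exact h
    · exact (no_cen C hE hfn hN hK h).elim
  have hTMS : normalizerIn (X ⊔ T) X ≤ S := inf_le_left.trans hR.rs
  haveI : Finite (normalizerIn (X ⊔ T) X) := finite_of_le hTMS
  have hTMp : IsPGroup p (normalizerIn (X ⊔ T) X) := C.hS.to_le hTMS
  have hMs : M.IsSaturated p := hMN.1.1
  have hKA : E.hyperfocalSubgroup p ≤ T := Cfsg.Agent.Lib.FusionExt.Hyperfocal.hyperfocal_le (F := E) (p := p)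
  have hT₀T : M.hyperfocalSubgroup p ≤ T := by
    refine hyp_le_of_pp (fun P hP a ha m hm ham x hx => ?_)
    obtain ⟨-, -, g, hg, e1, -⟩ := (mp_M C hfn hN hR hD hM).1 (mp_autFun hP ha)
    have hdn : Dn F E p (X ⊔ T) P (autFun a) := dn_congr C hR (dn_res C hR hg le_sup_left) e1
    exact hKA (pp_dn_hyp C hR hdn hm ham x hx)
  have hT₀le : M.hyperfocalSubgroup p ≤ normalizerIn (X ⊔ T) X := Cfsg.Agent.Lib.FusionExt.Hyperfocal.hyperfocal_le (F := M) (p := p)
  obtain ⟨M₀, ⟨hs₁, hi₁⟩, -⟩ := Cfsg.Agent.Lib.FusionExt.PowerMain.main hTMp M hMs (M.hyperfocalSubgroup p) hT₀le le_rfl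
  have C' : Cx N M p := ⟨hNSp, hMN⟩
  have hM₀N : M₀.IsNormalIn N p := res_normal C' rfl hs₁ hi₁
  have hENM₀ : EN.IsSubsystemOf M₀ := hEN.2.2 _ M₀ hM₀N (fun U' K hK => by
    have hsubK := hcomp U' K hK
    have hU'le : U' ≤ M.hyperfocalSubgroup p := by
      have hU'S : U' ≤ normalizerIn (X ⊔ T) X := (M.le_of_mem (hsubK U' (subtype_mem K le_rfl))).1
      have h1 : K.hyperfocalSubgroup p = U' := hK.2.2.1
      rw [← h1]
      refine hyp_le_of_pp (fun P hP a ha m hm ham x hx => ?_)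
      have hPT : P ≤ normalizerIn (X ⊔ T) X := hP.trans hU'S
      have h2 : Mp M P (autFun a) := mp_sub hsubK (mp_autFun hP ha)
      exact mem_hyp_of_pp hPT (Cfsg.Agent.Lib.FusionExt.ER1.mem_aut_of_mp h2) hm ham hx
    exact Cfsg.Agent.Lib.FusionExt.QS1.comp_le_of_normal hNSp hK hM₀N hU'le)
  have hM₀E := M₀_le_E C hE hfn hN hR hD hM hs₁ hi₁ hT₀T
  exact fun P φ hφ => hM₀E P (hENM₀ P hφ)

end cx

end Cfsg.Agent.Lib.FusionExt.ER8e
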