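import Cfsg.Agent.Lib.FusionExt.Glue4

/-!
# Gluing a family of automizers on a class of subgroups: the generated system (helper92)
-/

set_option autoImplicit false
set_option linter.unusedSectionVars false

namespace Cfsg.Agent.Lib.FusionExt.G1

open Cfsg Cfsg.FusionSystem Cfsg.Agent.Lib.Fusion.Basic Cfsg.Agent.Lib.Fusion.GroupSystem
open Cfsg.Agent.Lib.FusionExt.MapApi Cfsg.Agent.Lib.FusionExt.PowerSys Cfsg.Agent.Lib.FusionExt.LowPi
open Cfsg.Agent.Lib.FusionExt.PrimeRes1 Cfsg.Agent.Lib.Fusion.Saturation Cfsg.Agent.Lib.Fusion.Saturation2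

universe u

variable {Ω : Type u} [Group Ω] {S T : Subgroup Ω} {F : FusionSystem S} {p : ℕ}
variable {X Y Z P Q R U W : Subgroup Ω} {f g h φ ψ a δ : Ω → Ω}

/-- The data of a family of automizers on the `T`-centric subgroups. -/
structure Fam (F : FusionSystem S) (T : Subgroup Ω) (Cc : Subgroup Ω → Prop) (Aa : Subgroup Ω → (Ω → Ω) → Prop) : Prop where
  sc : F.StronglyClosed T
  cle : ∀ {P}, Cc P → P ≤ T
  cself : ∀ {P}, Cc P → zz T P ≤ P
  cup : ∀ {P Y}, Cc P → P ≤ Y → Y ≤ T → Cc Y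
  cconj : ∀ {P Q : Subgroup Ω} {f : Ω → Ω}, Cc P → Mp F P f → Img P f Q → Cc Q
  ctop : Cc T
  congr : ∀ {P f g}, Aa P f → (∀ x ∈ P, f x = g x) → Aa P g
  uc : ∀ {P f}, Aa P f → Cc P
  mp : ∀ {P f}, Aa P f → Mp F P f
  img : ∀ {P f}, Aa P f → Img P f P
  inner : ∀ {P t}, Cc P → t ∈ normalizerIn T P → Aa P (fun x => t * x * t⁻¹)
  comp : ∀ {P f g}, Aa P f → Aa P g → Aa P (fun x => g (f x))
  inv : ∀ {P f}, Aa P f → ∃ g, Aa P g ∧ ∀ x ∈ P, g (f x) = x
  tr : ∀ {P P' f φ}, Aa P f → Mp F P φ → Img P φ P' → ∃ f', Aa P' f' ∧ ∀ x ∈ P, f' (φ x) = φ (f x)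
  res : ∀ {P U f}, Aa P f → Cc U → U ≤ P → Img U f U → Aa U f

variable {Cc : Subgroup Ω → Prop} {Aa : Subgroup Ω → (Ω → Ω) → Prop}

/-- Paths of restrictions of members of the family. -/
inductive Dp (T : Subgroup Ω) (Aa : Subgroup Ω → (Ω → Ω) → Prop) : Subgroup Ω → (Ω → Ω) → Prop
  | nil {X : Subgroup Ω} {f : Ω → Ω} : X ≤ T → (∀ x ∈ X, f x = x) → Dp T Aa X f
  | cons {X Y P : Subgroup Ω} {g h f : Ω → Ω} : Aa P g → X ≤ P → Img X g Y → Dp T Aa Y h →
      (∀ x ∈ X, f x = h (g x)) → Dp T Aa X f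

namespace Dp

theorem congr (hd : Dp T Aa X f) (e : ∀ x ∈ X, f x = g x) : Dp T Aa X g := by
  cases hd with
  | nil hX h => exact .nil hX (fun x hx => (e x hx).symm.trans (h x hx))
  | cons h1 h2 h3 h4 h5 => exact .cons h1 h2 h3 h4 (fun x hx => (e x hx).symm.trans (h5 x hx))

theorem le (A : Fam F T Cc Aa) (hd : Dp T Aa X f) : X ≤ T := by
  cases hd with
  | nil hX h => exact hX
  | cons h1 h2 h3 h4 h5 => exact h2.trans (A.cle (A.uc h1))

theorem mp (A : Fam F T Cc Aa) (hd : Dp T Aa X f) : Mp F X f := by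
  induction hd with
  | nil hX h => exact (Mp.refl (hX.trans A.sc.1)).congr (fun x hx => (h x hx).symm)
  | cons h1 h2 h3 h4 h5 ih =>
    exact (((A.mp h1).restrict h2).comp h3.1 ih).congr (fun x hx => (h5 x hx).symm)

theorem mem_T (A : Fam F T Cc Aa) (hd : Dp T Aa X f) {x : Ω} (hx : x ∈ X) : f x ∈ T := by
  induction hd generalizing x with
  | nil hX h => rw [h x hx]; exact hX hx
  | cons h1 h2 h3 h4 h5 ih => rw [h5 x hx]; exact ih (h3.1 x hx)

theorem restrict (A : Fam F T Cc Aa) (hd : Dp T Aa X f) (hY : Y ≤ X) : Dp T Aa Y f := by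
  induction hd generalizing Y with
  | nil hX h => exact .nil (hY.trans hX) (fun x hx => h x (hY hx))
  | @cons X' Y' P' g' h' f' h1 h2 h3 h4 h5 ih =>
    obtain ⟨Y₂, hY₂⟩ := ((A.mp h1).restrict (hY.trans h2)).exists_img
    have hle : Y₂ ≤ Y' := by
      intro y hy
      obtain ⟨x, hx, rfl⟩ := hY₂.2 y hy
      exact h3.1 x (hY hx)
    exact .cons h1 (hY.trans h2) hY₂ (ih hle) (fun x hx => h5 x (hY hx))

theorem comp (A : Fam F T Cc Aa) (hd : Dp T Aa X f) (hm : ∀ x ∈ X, f x ∈ Y) (he : Dp T Aa Y g) :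
    Dp T Aa X (fun x => g (f x)) := by
  induction hd generalizing Y with
  | @nil X' f' hX h =>
    have hXY : X' ≤ Y := fun x hx => by
      have := hm x hx
      rwa [h x hx] at this
    exact (he.restrict A hXY).congr (fun x hx => by rw [h x hx])
  | @cons X' Y' P' g' h' f' h1 h2 h3 h4 h5 ih =>
    have hm' : ∀ y ∈ Y', h' y ∈ Y := by
      intro y hy
      obtain ⟨x, hx, rfl⟩ := h3.2 y hy
      rw [← h5 x hx]
      exact hm x hx
    exact .cons h1 h2 h3 (ih hm' he) (fun x hx => by rw [h5 x hx])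

theorem edge (A : Fam F T Cc Aa) (h1 : Aa P g) (hX : X ≤ P) : Dp T Aa X g := by
  obtain ⟨Y', hY'⟩ := ((A.mp h1).restrict hX).exists_img
  have hT : Y' ≤ T := by
    intro y hy
    obtain ⟨x, hx, rfl⟩ := hY'.2 y hy
    have hPU := A.uc h1
    have := (A.img h1).1 x (hX hx)
    exact A.cle hPU this
  exact .cons h1 hX hY' (.nil hT (fun _ _ => rfl)) (fun _ _ => rfl)

theorem refl (hX : X ≤ T) : Dp T Aa X (fun x => x) := .nil hX (fun _ _ => rfl)

/-- The inverse of a path. -/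
theorem inv (A : Fam F T Cc Aa) (hd : Dp T Aa X f) (hi : Img X f Y) :
    ∃ k, Dp T Aa Y k ∧ (∀ x ∈ X, k (f x) = x) ∧ (∀ y ∈ Y, f (k y) = y) ∧ Img Y k X := by
  induction hd generalizing Y with
  | @nil X' f' hX h =>
    have hXY : ∀ x, x ∈ X' ↔ x ∈ Y := by
      intro x
      constructor
      · intro hx
        have := hi.1 x hx
        rwa [h x hx] at this
      · intro hx
        obtain ⟨y, hy, e⟩ := hi.2 x hx
        rw [h y hy] at e
        rwa [← e]
    have hXY' : X' = Y := by ext x; exact hXY x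
    subst hXY'
    exact ⟨fun x => x, .nil hX (fun _ _ => rfl), fun x hx => by rw [h x hx], fun y hy => h y hy,
      img_refl _⟩
  | @cons X' Y' P' g' h' f' h1 h2 h3 h4 h5 ih =>
    have hi' : Img Y' h' Y := by
      refine ⟨fun y hy => ?_, fun z hz => ?_⟩
      · obtain ⟨x, hx, rfl⟩ := h3.2 y hy
        rw [← h5 x hx]
        exact hi.1 x hx
      · obtain ⟨x, hx, rfl⟩ := hi.2 z hz
        exact ⟨g' x, h3.1 x hx, (h5 x hx).symm⟩
    obtain ⟨k, hk, hk1, hk2, hk3⟩ := ih hi'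
    obtain ⟨g₁, hg₁, he⟩ := A.inv h1
    have hg₁m : ∀ y ∈ Y', g₁ y ∈ X' := by
      intro y hy
      obtain ⟨x, hx, rfl⟩ := h3.2 y hy
      rw [he x (h2 hx)]
      exact hx
    have hY'P : Y' ≤ P' := by
      intro y hy
      obtain ⟨x, hx, rfl⟩ := h3.2 y hy
      exact (A.img h1).1 x (h2 hx)
    have hge : ∀ y ∈ Y', g' (g₁ y) = y := by
      intro y hy
      obtain ⟨x, hx, rfl⟩ := h3.2 y hy
      rw [he x (h2 hx)]
    refine ⟨fun y => g₁ (k y), hk.comp A hk3.1 (edge A hg₁ hY'P), ?_, ?_, ?_⟩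
    · intro x hx
      show g₁ (k (f' x)) = x
      rw [h5 x hx, hk1 _ (h3.1 x hx), he x (h2 hx)]
    · intro y hy
      show f' (g₁ (k y)) = y
      rw [h5 _ (hg₁m _ (hk3.1 y hy)), hge _ (hk3.1 y hy), hk2 y hy]
    · refine ⟨fun y hy => hg₁m _ (hk3.1 y hy), fun x hx => ?_⟩
      refine ⟨f' x, hi.1 x hx, ?_⟩
      show g₁ (k (f' x)) = x
      rw [h5 x hx, hk1 _ (h3.1 x hx), he x (h2 hx)]

end Dp

section fin

variable [Finite S]

/-- The axioms of a fusion system for paths. -/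
theorem dAx (A : Fam F T Cc Aa) : SysAx T (Dp T Aa) where
  congr h e := h.congr e
  le h := h.le A
  mem h hx := h.mem_T A hx
  mul h hx hy := (h.mp A).map_mul hx hy
  inj h hx hy e := (h.mp A).inj hx hy e
  conj hX ha := Dp.edge A (A.inner (A.ctop) ⟨ha, Subgroup.le_normalizer ha⟩) hX
  comp h hm h' := h.comp A hm h'
  inv h hi := by
    obtain ⟨k, hk, h1, -⟩ := h.inv A hi
    exact ⟨k, hk, h1⟩

/-- The system generated by the family. -/
noncomputable def mkD (A : Fam F T Cc Aa) : FusionSystem T := mkSys (dAx A)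

theorem mp_D {A : Fam F T Cc Aa} : Mp (mkD A) X f ↔ Dp T Aa X f := mp_mkSys (dAx A)

theorem D_sub (A : Fam F T Cc Aa) : (mkD A).IsSubsystemOf F := by
  intro P φ hφ
  exact Cfsg.Agent.Lib.FusionExt.PowerE.hom_of_mp ((mp_D.1 (mp_of_hom hφ)).mp A)

/-- Transport of paths along automorphisms of `T`. -/
theorem dp_tw (A : Fam F T Cc Aa) (ha : Mp F T a) (hd : Dp T Aa X δ) {Y : Subgroup Ω} (hY : Img X a Y) :
    ∃ δ', Dp T Aa Y δ' ∧ ∀ x ∈ X, δ' (a x) = a (δ x) := by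
  have hmT : ∀ {X' : Subgroup Ω}, X' ≤ T → ∀ x ∈ X', a x ∈ T := by
    intro X' hX' x hx
    obtain ⟨φ, hφ, e⟩ := id ha
    rw [← e ⟨x, hX' hx⟩]
    exact A.sc.2 T le_rfl φ hφ _
  induction hd generalizing Y with
  | @nil X' f' hX h =>
    refine ⟨fun x => x, .nil (?_) (fun _ _ => rfl), fun x hx => by rw [h x hx]⟩
    intro y hy
    obtain ⟨x, hx, rfl⟩ := hY.2 y hy
    exact hmT hX x hx
  | @cons X' Y' P' g' h' f' h1 h2 h3 h4 h5 ih =>
    have hP'T : P' ≤ T := A.cle (A.uc h1)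
    obtain ⟨P'', hP''⟩ := (ha.restrict hP'T).exists_img
    obtain ⟨g'', hg'', hg''e⟩ := A.tr h1 (ha.restrict hP'T) hP''
    have hY'P : Y' ≤ P' := by
      intro y hy
      obtain ⟨x, hx, rfl⟩ := h3.2 y hy
      exact (A.img h1).1 x (h2 hx)
    obtain ⟨Y'', hY''⟩ := (ha.restrict (hY'P.trans hP'T)).exists_img
    obtain ⟨δ₁, hδ₁, e₁⟩ := ih hY''
    have hYP : Y ≤ P'' := by
      intro y hy
      obtain ⟨x, hx, rfl⟩ := hY.2 y hy
      exact hP''.1 x (h2 hx)
    have hI : Img Y g'' Y'' := by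
      refine ⟨fun y hy => ?_, fun z hz => ?_⟩
      · obtain ⟨x, hx, rfl⟩ := hY.2 y hy
        rw [hg''e x (h2 hx)]
        exact hY''.1 _ (h3.1 x hx)
      · obtain ⟨y', hy', rfl⟩ := hY''.2 z hz
        obtain ⟨x, hx, rfl⟩ := h3.2 y' hy'
        exact ⟨a x, hY.1 x hx, hg''e x (h2 hx)⟩
    refine ⟨_, .cons hg'' hYP hI hδ₁ (fun _ _ => rfl), fun x hx => ?_⟩
    show δ₁ (g'' (a x)) = _
    rw [hg''e x (h2 hx), e₁ _ (h3.1 x hx), h5 x hx]

end fin

/-! ### The automizer as a group -/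

section aut

variable {W' : Subgroup Ω}

/-- The family at `W` as a subgroup of `Aut(W)`. -/
def aSub (A : Fam F T Cc Aa) {W : Subgroup Ω} (h : Cc W) : Subgroup (MulAut W) where
  carrier := {α | Aa W (autFun α)}
  one_mem' := by
    have h1 : Aa W (fun x => (1 : Ω) * x * (1 : Ω)⁻¹) :=
      A.inner h ⟨T.one_mem, Subgroup.one_mem _⟩
    exact A.congr h1 (fun x _ => by
      simp only [one_mul, inv_one, mul_one]
      exact (autFun_one_apply x).symm)
  mul_mem' := by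
    intro a b ha hb
    exact A.congr (A.comp hb ha) (fun x _ => (autFun_mul_apply a b x).symm)
  inv_mem' := by
    intro a ha
    obtain ⟨g, hg, e⟩ := A.inv ha
    refine A.congr hg (fun x hx => ?_)
    have hx' : autFun a⁻¹ x ∈ W := autFun_mem a⁻¹ hx
    have := e _ hx'
    rwa [autFun_apply_inv] at this

theorem mem_aSub {A : Fam F T Cc Aa} {h : Cc W} {α : MulAut W} : α ∈ aSub A h ↔ Aa W (autFun α) := Iff.rfl

theorem exists_aut (A : Fam F T Cc Aa) (h : Aa W f) : ∃ α ∈ aSub A (A.uc h), ∀ x ∈ W, autFun α x = f x := by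
  obtain ⟨α, -, e⟩ := (A.mp h).toAut (A.img h)
  have e' : ∀ x ∈ W, autFun α x = f x := fun x hx => by
    rw [autFun_of_mem α hx]
    exact e ⟨x, hx⟩
  exact ⟨α, A.congr h (fun x hx => (e' x hx).symm), e'⟩

theorem inducedBy_le (A : Fam F T Cc Aa) (h : Cc W) : autInducedBy T W ≤ aSub A h := by
  intro α hα
  obtain ⟨t, ht, e⟩ := (mem_autInducedBy_iff T W α).1 hα
  have hn := mem_normalizer_of_conj W α t e
  refine A.congr (A.inner h ⟨ht, hn⟩) (fun x hx => ?_)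
  rw [autFun_of_mem α hx]
  exact (e ⟨x, hx⟩).symm

/-- Elements of `Aut_T(W)` in terms of functions. -/
theorem inT_iff {c : MulAut W} : c ∈ autInducedBy T W ↔ ∃ t ∈ normalizerIn T W, ∀ x ∈ W, autFun c x = t * x * t⁻¹ := by
  constructor
  · intro hc
    obtain ⟨t, ht, e⟩ := (mem_autInducedBy_iff T W c).1 hc
    refine ⟨t, ⟨ht, mem_normalizer_of_conj W c t e⟩, fun x hx => ?_⟩
    rw [autFun_of_mem c hx]
    exact e ⟨x, hx⟩
  · rintro ⟨t, ht, e⟩
    refine (mem_autInducedBy_iff T W c).2 ⟨t, ht.1, fun x => ?_⟩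
    rw [← autFun_coe]
    exact e x x.2

theorem normAct_fun {y : Ω} (hy : y ∈ Subgroup.normalizer (W : Set Ω)) {x : Ω} (hx : x ∈ W) :
    autFun (normAct W hy) x = y * x * y⁻¹ := by
  rw [autFun_of_mem _ hx]
  rfl

theorem conj_fun (b q : MulAut W) (x : Ω) : autFun (b * q * b⁻¹) (autFun b x) = autFun b (autFun q x) := by
  rw [autFun_mul_apply, autFun_mul_apply, autFun_inv_apply]

end aut

end Cfsg.Agent.Lib.FusionExt.G1
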