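import Cfsg.Agent.Lib.FusionExt.G1

/-!
# Gluing: fusion in a finite group through normalizers of fully normalized subgroups (helper92)
-/

set_option autoImplicit false
set_option linter.unusedSectionVars false

namespace Cfsg.Agent.Lib.FusionExt.G2

open Cfsg Cfsg.FusionSystem Cfsg.Agent.Lib.Fusion.Basic Cfsg.Agent.Lib.Fusion.GroupSystem
open Cfsg.Agent.Lib.FusionExt.MapApi Cfsg.Agent.Lib.FusionExt.PowerSys Cfsg.Agent.Lib.FusionExt.LowPi
open Cfsg.Agent.Lib.FusionExt.PrimeRes1 Cfsg.Agent.Lib.Fusion.Saturation Cfsg.Agent.Lib.Fusion.Saturation2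
open Cfsg.Agent.Lib.FusionExt.G1 Cfsg.Agent.Lib.FusionExt.CentE
open Cfsg.Agent.Lib.FusionExt.Glue2 (ga eq_one_of_fun conjMap_mul conjMap_one conjMap_inv conjMap_inv' conjMap_card conjMap_eq_of_norm norm_of_conjMap_eq exists_fn)

universe u

variable {Ω : Type u} [Group Ω] {S T : Subgroup Ω} {F : FusionSystem S} {p : ℕ}
variable {X Y Z P Q R U W : Subgroup Ω} {f g h φ ψ a δ : Ω → Ω} {Cc : Subgroup Ω → Prop} {Aa : Subgroup Ω → (Ω → Ω) → Prop}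

/-- The good subgroups of the family: Sylow, extension of `p'`-elements, and every member is reached by a path. -/
structure FlS (A : Fam F T Cc Aa) (p : ℕ) (Fl' : Subgroup Ω → Prop) : Prop where
  uc : ∀ {W}, Fl' W → Cc W
  syl : ∀ {W} (h : Fl' W), IsSylowIn p (autInducedBy T W) (aSub A (uc h))
  ext : ∀ {W X f}, Fl' W → Aa W f → (∃ m : ℕ, m.Coprime p ∧ ∀ x ∈ W, f^[m] x = x) → W ≤ X → X ≤ normalizerIn T W →
      (∀ x ∈ X, ∃ x' ∈ X, ∀ w ∈ W, f (x * w * x⁻¹) = x' * f w * x'⁻¹) → ∃ f', Aa X f' ∧ ∀ w ∈ W, f' w = f w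
  exist : ∀ {U}, Cc U → ∃ W φ, Fl' W ∧ Dp T Aa U φ ∧ Img U φ W

section main

variable [Finite S] [Fact p.Prime] {Fl' : Subgroup Ω → Prop}

theorem conj_Dp (A : Fam F T Cc Aa) {t : Ω} (ht : t ∈ T) (hX : X ≤ T) : Dp T Aa X (fun x => t * x * t⁻¹) :=
  Dp.edge A (A.inner (A.ctop) ⟨ht, Subgroup.le_normalizer ht⟩) hX

theorem finite_of_le_T (A : Fam F T Cc Aa) (hX : X ≤ T) : Finite X := finite_of_le (hX.trans A.sc.1)

/-- A path on `X ⊇ W` acts on `W` through its values. -/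
theorem map_conj_Dp (A : Fam F T Cc Aa) (hd : Dp T Aa X f) {x w : Ω} (hx : x ∈ X) (hw : w ∈ X) :
    f (x * w * x⁻¹) = f x * f w * (f x)⁻¹ := (hd.mp A).map_conj hx hw

/-- **Extension of members of the family.** -/
theorem ext_full (A : Fam F T Cc Aa) (B : FlS A p Fl') (hW : Fl' W) {c : MulAut W} (hc : c ∈ aSub A (B.uc hW))
    (hWX : W ≤ X) (hXN : X ≤ normalizerIn T W)
    (hcond : ∀ x ∈ X, ∃ t ∈ normalizerIn T W, ∀ w ∈ W, autFun c (x * w * x⁻¹) = t * autFun c w * t⁻¹) :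
    ∃ ch, Dp T Aa X ch ∧ ∀ w ∈ W, ch w = autFun c w := by
  have huc := B.uc hW
  have hWT : W ≤ T := A.cle huc
  have hTS : T ≤ S := A.sc.1
  haveI : Finite W := finite_of_le (hWT.trans hTS)
  haveI : Finite (MulAut W) := Cfsg.Agent.Lib.Fusion.Basic.finite_mulAut_of_finite (A := W)
  have hcz : zz T W ≤ W := A.cself huc
  let Ext : Subgroup (MulAut W) → MulAut W → Prop := fun Q c =>
    ∀ X : Subgroup Ω, W ≤ X → X ≤ normalizerIn T W → (∀ x ∈ X, ∃ q ∈ Q, ∀ w ∈ W, autFun q w = x * w * x⁻¹) →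
      ∃ ch, Dp T Aa X ch ∧ ∀ w ∈ W, ch w = autFun c w
  have hP : autInducedBy T W ≤ aSub A huc := inducedBy_le A huc
  have key := ga (G := MulAut W) (p := p) (Ext := Ext) (B.syl hW) hP ?_ ?_ ?_ ?_ ?_
  · have hQ₀ : autInducedBy X W ≤ autInducedBy T W := autInducedBy_mono W (hXN.trans inf_le_left)
    refine key _ hQ₀ c hc ?_ X hWX hXN ?_
    · rintro _ ⟨q, hq, rfl⟩
      obtain ⟨x, hx, ex⟩ := inT_iff.1 hq
      obtain ⟨t, ht, et⟩ := hcond x hx.1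
      refine inT_iff.2 ⟨t, ht, fun z hz => ?_⟩
      show autFun (c * q * c⁻¹) z = _
      have hz' : autFun c⁻¹ z ∈ W := autFun_mem _ hz
      have := et _ hz'
      rw [autFun_apply_inv, ← ex _ hz'] at this
      rw [autFun_mul_apply, autFun_mul_apply]
      exact this
    · intro x hx
      have hxN := hXN hx
      exact ⟨normAct W hxN.2, inT_iff.2 ⟨x, ⟨hx, hxN.2⟩, fun w hw => normAct_fun hxN.2 hw⟩, fun w hw => normAct_fun hxN.2 hw⟩
  · -- `p'`-elements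
    intro Q hQ c' hc' hn hm X' hWX' hX'N hQc
    let XQ : Subgroup Ω :=
      { carrier := {y | y ∈ normalizerIn T W ∧ ∃ q ∈ Q, ∀ w ∈ W, autFun q w = y * w * y⁻¹}
        one_mem' := ⟨(normalizerIn T W).one_mem, 1, Q.one_mem, fun w _ => by
          rw [autFun_one_apply]; simp⟩
        mul_mem' := by
          rintro y₁ y₂ ⟨h1, q₁, hq₁, e₁⟩ ⟨h2, q₂, hq₂, e₂⟩
          refine ⟨(normalizerIn T W).mul_mem h1 h2, q₁ * q₂, Q.mul_mem hq₁ hq₂, fun w hw => ?_⟩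
          rw [autFun_mul_apply, e₂ w hw, e₁ _ (norm_conj h2.2 hw)]
          simp only [mul_inv_rev, mul_assoc]
        inv_mem' := by
          rintro y ⟨h1, q, hq, e⟩
          refine ⟨(normalizerIn T W).inv_mem h1, q⁻¹, Q.inv_mem hq, fun w hw => ?_⟩
          have hw' : y⁻¹ * w * y⁻¹⁻¹ ∈ W := norm_conj (Subgroup.inv_mem _ h1.2) hw
          have h3 := e _ hw'
          have h4 : y * (y⁻¹ * w * y⁻¹⁻¹) * y⁻¹ = w := by group
          rw [h4] at h3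
          rw [← h3, autFun_inv_apply, h3] }
    have hWXQ : W ≤ XQ := by
      intro w hw
      refine ⟨le_normalizerIn hWT hw, ?_⟩
      have hx : w ∈ X' := hWX' hw
      obtain ⟨q, hq, e⟩ := hQc w hx
      exact ⟨q, hq, e⟩
    have hX'XQ : X' ≤ XQ := fun x hx => ⟨hX'N hx, hQc x hx⟩
    obtain ⟨m, hm1, hm2⟩ := hm
    have hit : ∃ m : ℕ, m.Coprime p ∧ ∀ x ∈ W, (autFun c')^[m] x = x := by
      refine ⟨m, hm1, fun x hx => ?_⟩
      rw [show x = ((⟨x, hx⟩ : W) : Ω) from rfl, iterate_autFun, hm2]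
      rfl
    obtain ⟨f', hf', ef'⟩ := B.ext hW hc' hit hWXQ (fun y hy => hy.1) (by
      rintro y ⟨hy, q, hq, e⟩
      have h1 : c' * q * c'⁻¹ ∈ Q := by
        have := (Subgroup.mem_normalizer_iff.1 hn q).1 hq
        exact this
      obtain ⟨y', hy', e'⟩ := inT_iff.1 (hQ h1)
      refine ⟨y', ⟨hy', _, h1, e'⟩, fun w hw => ?_⟩
      rw [← e' _ (autFun_mem _ hw), conj_fun, e w hw])
    exact ⟨f', Dp.edge A hf' hX'XQ, ef'⟩
  · -- elements of `Aut_T(W)`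
    intro Q hQ t₀ ht₀ _ X' hWX' hX'N hQc
    obtain ⟨t, ht, e⟩ := inT_iff.1 ht₀
    exact ⟨fun x => t * x * t⁻¹, conj_Dp A ht.1 ((hX'N.trans inf_le_left)), fun w hw => (e w hw).symm⟩
  · -- composition
    intro Q hQ c₁ hc₁ c₂ hc₂ hle h1 h2 X' hWX' hX'N hQc
    obtain ⟨ĉ, hĉ, eĉ⟩ := h1 X' hWX' hX'N hQc
    obtain ⟨Y₁, hY₁⟩ := (hĉ.mp A).exists_img
    have hWY₁ : W ≤ Y₁ := by
      intro w hw
      have h3 : autFun c₁⁻¹ w ∈ W := autFun_mem _ hw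
      have := hY₁.1 _ (hWX' h3)
      rwa [eĉ _ h3, autFun_apply_inv] at this
    have hX'T : X' ≤ T := hX'N.trans inf_le_left
    have hnorm : Y₁ ≤ normalizerIn T W := by
      intro y hy
      obtain ⟨x, hx, rfl⟩ := hY₁.2 y hy
      refine ⟨hĉ.mem_T A hx, Cfsg.Agent.Lib.FusionExt.LowPi.mem_normalizer_of_conj_le' (fun z hz => ?_)⟩
      have h3 : autFun c₁⁻¹ z ∈ W := autFun_mem _ hz
      have h4 := map_conj_Dp A hĉ hx (hWX' h3)
      rw [eĉ _ h3, autFun_apply_inv, eĉ _ ?_] at h4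
      · rw [← h4]
        exact autFun_mem _ (norm_conj (hX'N hx).2 h3)
      · exact norm_conj (hX'N hx).2 h3
    obtain ⟨ĉ', hĉ', eĉ'⟩ := h2 Y₁ hWY₁ hnorm (by
      intro y hy
      obtain ⟨x, hx, rfl⟩ := hY₁.2 y hy
      obtain ⟨q, hq, e⟩ := hQc x hx
      refine ⟨c₁ * q * c₁⁻¹, conj_mem_conjMap hq, fun w hw => ?_⟩
      have h3 : autFun c₁⁻¹ w ∈ W := autFun_mem _ hw
      have h4 := map_conj_Dp A hĉ hx (hWX' h3)
      rw [eĉ _ h3, autFun_apply_inv, eĉ _ (norm_conj (hX'N hx).2 h3)] at h4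
      rw [autFun_mul_apply, autFun_mul_apply, e _ h3]
      exact h4)
    refine ⟨_, hĉ.comp A hY₁.1 hĉ', fun w hw => ?_⟩
    show ĉ' (ĉ w) = _
    rw [eĉ w hw, eĉ' _ (autFun_mem _ hw), autFun_mul_apply]
  · -- inverse
    intro Q hQ c₁ hc₁ hle h1 X' hWX' hX'N hQc
    let X₀ : Subgroup Ω :=
      { carrier := {y | y ∈ normalizerIn T W ∧ ∃ x ∈ X', ∀ w ∈ W, autFun c₁ (y * w * y⁻¹) = x * autFun c₁ w * x⁻¹}
        one_mem' := ⟨(normalizerIn T W).one_mem, 1, X'.one_mem, fun w _ => by simp⟩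
        mul_mem' := by
          rintro y₁ y₂ ⟨h1, x₁, hx₁, e₁⟩ ⟨h2, x₂, hx₂, e₂⟩
          refine ⟨(normalizerIn T W).mul_mem h1 h2, x₁ * x₂, X'.mul_mem hx₁ hx₂, fun w hw => ?_⟩
          have h3 := e₁ _ (norm_conj h2.2 hw)
          rw [e₂ w hw] at h3
          have e3 : y₁ * y₂ * w * (y₁ * y₂)⁻¹ = y₁ * (y₂ * w * y₂⁻¹) * y₁⁻¹ := by group
          rw [e3, h3]
          group
        inv_mem' := by
          rintro y ⟨h1, x, hx, e⟩
          refine ⟨(normalizerIn T W).inv_mem h1, x⁻¹, X'.inv_mem hx, fun w hw => ?_⟩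
          have hw' : y⁻¹ * w * y⁻¹⁻¹ ∈ W := norm_conj (Subgroup.inv_mem _ h1.2) hw
          have h3 := e _ hw'
          have h4 : y * (y⁻¹ * w * y⁻¹⁻¹) * y⁻¹ = w := by group
          rw [h4] at h3
          rw [h3]
          group }
    have hX₀N : X₀ ≤ normalizerIn T W := fun y hy => hy.1
    have hWX₀ : W ≤ X₀ := by
      intro w₀ hw₀
      refine ⟨le_normalizerIn hWT hw₀, autFun c₁ w₀, hWX' (autFun_mem _ hw₀), fun w hw => ?_⟩
      rw [autFun_mul c₁ (W.mul_mem hw₀ hw) (W.inv_mem hw₀), autFun_mul c₁ hw₀ hw, autFun_inv' c₁ hw₀]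
    obtain ⟨ĉ, hĉ, eĉ⟩ := h1 X₀ hWX₀ hX₀N (by
      rintro y ⟨hy, x, hx, e⟩
      obtain ⟨q', hq', e'⟩ := hQc x hx
      refine ⟨c₁⁻¹ * q' * c₁, mem_conjMap.1 hq', fun w hw => ?_⟩
      rw [autFun_mul_apply, autFun_mul_apply, e' _ (autFun_mem _ hw), ← e w hw, autFun_inv_apply])
    have hfwd : ∀ y ∈ normalizerIn T W, ∀ x ∈ X', (∀ w ∈ W, autFun c₁ (y * w * y⁻¹) = x * autFun c₁ w * x⁻¹) → x⁻¹ * ĉ y ∈ W := by
      intro y hy x hx e
      refine hcz ?_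
      have hyX₀ : y ∈ X₀ := ⟨hy, x, hx, e⟩
      refine mem_zz.2 ⟨T.mul_mem (T.inv_mem ((hX'N hx).1)) (hĉ.mem_T A hyX₀), fun z hz => ?_⟩
      have hz' : autFun c₁⁻¹ z ∈ W := autFun_mem _ hz
      have h3 := map_conj_Dp A hĉ hyX₀ (hWX₀ hz')
      rw [eĉ _ hz', autFun_apply_inv, eĉ _ (norm_conj hy.2 hz'), e _ hz', autFun_apply_inv] at h3
      have h4 : ĉ y * z = x * z * x⁻¹ * ĉ y := by
        rw [h3]
        group
      calc z * (x⁻¹ * ĉ y) = x⁻¹ * (x * z * x⁻¹ * ĉ y) := by group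
        _ = x⁻¹ * (ĉ y * z) := by rw [h4]
        _ = x⁻¹ * ĉ y * z := by group
    have hI : Img X₀ ĉ X' := by
      refine ⟨fun y hy => ?_, fun x hx => ?_⟩
      · obtain ⟨hyN, x, hx, e⟩ := hy
        have := X'.mul_mem hx (hWX' (hfwd y hyN x hx e))
        simpa using this
      · obtain ⟨q', hq', e'⟩ := hQc x hx
        obtain ⟨y, hy, ey⟩ := inT_iff.1 (hQ (mem_conjMap.1 hq'))
        have e₃ : ∀ w ∈ W, autFun c₁ (y * w * y⁻¹) = x * autFun c₁ w * x⁻¹ := by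
          intro w hw
          rw [← ey w hw, autFun_mul_apply, autFun_mul_apply, autFun_apply_inv, e' _ (autFun_mem _ hw)]
        have hyX₀ : y ∈ X₀ := ⟨hy, x, hx, e₃⟩
        have hu := hfwd y hy x hx e₃
        set u := x⁻¹ * ĉ y with hu'
        have hui : autFun c₁⁻¹ u⁻¹ ∈ W := autFun_mem _ (W.inv_mem hu)
        refine ⟨y * autFun c₁⁻¹ u⁻¹, X₀.mul_mem hyX₀ (hWX₀ hui), ?_⟩
        rw [(hĉ.mp A).map_mul hyX₀ (hWX₀ hui), eĉ _ hui, autFun_apply_inv, hu']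
        group
    obtain ⟨k, hk, hk1, hk2, hk3⟩ := hĉ.inv A hI
    refine ⟨k, hk, fun w hw => ?_⟩
    have hw' : autFun c₁⁻¹ w ∈ W := autFun_mem _ hw
    have := hk1 _ (hWX₀ hw')
    rwa [eĉ _ hw', autFun_apply_inv] at this
  · -- restriction
    intro Q Q' c₁ hQQ' _ _ _ h1 X' hWX' hX'N hQc
    refine h1 X' hWX' hX'N (fun x hx => ?_)
    obtain ⟨q, hq, e⟩ := hQc x hx
    exact ⟨q, hQQ' hq, e⟩

end main

end Cfsg.Agent.Lib.FusionExt.G2
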