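import Cfsg.Agent.Lib.FusionExt.SatCrit4
import Cfsg.Agent.Lib.FusionExt.FixQ
import Cfsg.Agent.Lib.FusionExt.CentE

/-!
# Gluing a family of automizers on `T`-centric subgroups: the generated system (helper92)
-/

set_option autoImplicit false
set_option linter.unusedSectionVars false

namespace Cfsg.Agent.Lib.FusionExt.Glue1

open Cfsg Cfsg.FusionSystem Cfsg.Agent.Lib.Fusion.Basic Cfsg.Agent.Lib.Fusion.GroupSystem
open Cfsg.Agent.Lib.FusionExt.MapApi Cfsg.Agent.Lib.FusionExt.PowerSys Cfsg.Agent.Lib.FusionExt.LowPi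
open Cfsg.Agent.Lib.FusionExt.PrimeRes1 Cfsg.Agent.Lib.Fusion.Saturation Cfsg.Agent.Lib.Fusion.Saturation2

universe u

variable {Ω : Type u} [Group Ω] {S T : Subgroup Ω} {F : FusionSystem S} {p : ℕ}
variable {X Y Z P Q R U W : Subgroup Ω} {f g h φ ψ a δ : Ω → Ω}

/-- `P` lies in `T` and all its `F`-conjugates contain their centralizers in `T`. -/
def Uc (F : FusionSystem S) (T P : Subgroup Ω) : Prop := P ≤ T ∧ ∀ Q, F.IsConj P Q → zz T Q ≤ Q

theorem Uc.le (h : Uc F T P) : P ≤ T := h.1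

theorem Uc.self (h : Uc F T P) (hS : T ≤ S) : zz T P ≤ P := h.2 P (isConj_refl F (h.1.trans hS))

theorem Uc.conj (hsc : F.StronglyClosed T) (h : Uc F T P) (hf : Mp F P f) (hi : Img P f Q) : Uc F T Q := by
  refine ⟨?_, fun Q' hQ' => h.2 Q' (isConj_trans F (hf.isConj hi) hQ')⟩
  intro y hy
  obtain ⟨x, hx, rfl⟩ := hi.2 y hy
  obtain ⟨φ, hφ, e⟩ := id hf
  rw [← e ⟨x, hx⟩]
  exact hsc.2 P h.1 φ hφ ⟨x, hx⟩

/-- The data of a family of automizers on the `T`-centric subgroups. -/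
structure Fam (F : FusionSystem S) (T : Subgroup Ω) (Aa : Subgroup Ω → (Ω → Ω) → Prop) : Prop where
  sc : F.StronglyClosed T
  congr : ∀ {P f g}, Aa P f → (∀ x ∈ P, f x = g x) → Aa P g
  uc : ∀ {P f}, Aa P f → Uc F T P
  mp : ∀ {P f}, Aa P f → Mp F P f
  img : ∀ {P f}, Aa P f → Img P f P
  inner : ∀ {P t}, Uc F T P → t ∈ normalizerIn T P → Aa P (fun x => t * x * t⁻¹)
  comp : ∀ {P f g}, Aa P f → Aa P g → Aa P (fun x => g (f x))
  inv : ∀ {P f}, Aa P f → ∃ g, Aa P g ∧ ∀ x ∈ P, g (f x) = x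
  tr : ∀ {P P' f φ}, Aa P f → Mp F P φ → Img P φ P' → ∃ f', Aa P' f' ∧ ∀ x ∈ P, f' (φ x) = φ (f x)
  res : ∀ {P U f}, Aa P f → Uc F T U → U ≤ P → Img U f U → Aa U f

variable {Aa : Subgroup Ω → (Ω → Ω) → Prop}

/-- Paths of restrictions of members of the family. -/
inductive Dp (T : Subgroup Ω) (Aa : Subgroup Ω → (Ω → Ω) → Prop) : Subgroup Ω → (Ω → Ω) → Prop
  | nil {X : Subgroup Ω} {f : Ω → Ω} : X ≤ T → (∀ x ∈ X, f x = x) → Dp T Aa X f
  | cons {X Y P : Subgroup Ω} {g h f : Ω → Ω} : Aa P g → X ≤ P → Img X g Y → Dp T Aa Y h →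
      (∀ x ∈ X, f x = h (g x)) → Dp T Aa X f

namespace Dp

theorem congr (hd : Dp T Aa X f) (e : ∀ x ∈ X, f x = g x) : Dp T Aa X g := by
  cases hd with
  | nil hX h => exact .nil hX (fun x hx => (e x hx).symm.trans (h x hx))
  | cons h1 h2 h3 h4 h5 => exact .cons h1 h2 h3 h4 (fun x hx => (e x hx).symm.trans (h5 x hx))

theorem le (A : Fam F T Aa) (hd : Dp T Aa X f) : X ≤ T := by
  cases hd with
  | nil hX h => exact hX
  | cons h1 h2 h3 h4 h5 => exact h2.trans (A.uc h1).1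

theorem mp (A : Fam F T Aa) (hd : Dp T Aa X f) : Mp F X f := by
  induction hd with
  | nil hX h => exact (Mp.refl (hX.trans A.sc.1)).congr (fun x hx => (h x hx).symm)
  | cons h1 h2 h3 h4 h5 ih =>
    exact (((A.mp h1).restrict h2).comp h3.1 ih).congr (fun x hx => (h5 x hx).symm)

theorem mem_T (A : Fam F T Aa) (hd : Dp T Aa X f) {x : Ω} (hx : x ∈ X) : f x ∈ T := by
  induction hd generalizing x with
  | nil hX h => rw [h x hx]; exact hX hx
  | cons h1 h2 h3 h4 h5 ih => rw [h5 x hx]; exact ih (h3.1 x hx)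

theorem restrict (A : Fam F T Aa) (hd : Dp T Aa X f) (hY : Y ≤ X) : Dp T Aa Y f := by
  induction hd generalizing Y with
  | nil hX h => exact .nil (hY.trans hX) (fun x hx => h x (hY hx))
  | @cons X' Y' P' g' h' f' h1 h2 h3 h4 h5 ih =>
    obtain ⟨Y₂, hY₂⟩ := ((A.mp h1).restrict (hY.trans h2)).exists_img
    have hle : Y₂ ≤ Y' := by
      intro y hy
      obtain ⟨x, hx, rfl⟩ := hY₂.2 y hy
      exact h3.1 x (hY hx)
    exact .cons h1 (hY.trans h2) hY₂ (ih hle) (fun x hx => h5 x (hY hx))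

theorem comp (A : Fam F T Aa) (hd : Dp T Aa X f) (hm : ∀ x ∈ X, f x ∈ Y) (he : Dp T Aa Y g) :
    Dp T Aa X (fun x => g (f x)) := by
  induction hd generalizing Y with
  | @nil X' f' hX h =>
    have hXY : X' ≤ Y := fun x hx => by
      have := hm x hx
      rwa [h x hx] at this
    exact (he.restrict A hXY).congr (fun x hx => by rw [h x hx])
  | @cons X' Y' P' g' h' f' h1 h2 h3 h4 h5 ih =>
    have hm' : ∀ y ∈ Y', h' y ∈ Y := by
      intro y hy
      obtain ⟨x, hx, rfl⟩ := h3.2 y hy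
      rw [← h5 x hx]
      exact hm x hx
    exact .cons h1 h2 h3 (ih hm' he) (fun x hx => by rw [h5 x hx])

theorem edge (A : Fam F T Aa) (h1 : Aa P g) (hX : X ≤ P) : Dp T Aa X g := by
  obtain ⟨Y', hY'⟩ := ((A.mp h1).restrict hX).exists_img
  have hT : Y' ≤ T := by
    intro y hy
    obtain ⟨x, hx, rfl⟩ := hY'.2 y hy
    have hPU := A.uc h1
    have := (A.img h1).1 x (hX hx)
    exact hPU.1 this
  exact .cons h1 hX hY' (.nil hT (fun _ _ => rfl)) (fun _ _ => rfl)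

theorem refl (hX : X ≤ T) : Dp T Aa X (fun x => x) := .nil hX (fun _ _ => rfl)

/-- The inverse of a path. -/
theorem inv (A : Fam F T Aa) (hd : Dp T Aa X f) (hi : Img X f Y) :
    ∃ k, Dp T Aa Y k ∧ (∀ x ∈ X, k (f x) = x) ∧ (∀ y ∈ Y, f (k y) = y) ∧ Img Y k X := by
  induction hd generalizing Y with
  | @nil X' f' hX h =>
    have hXY : ∀ x, x ∈ X' ↔ x ∈ Y := by
      intro x
      constructor
      · intro hx
        have := hi.1 x hx
        rwa [h x hx] at this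
      · intro hx
        obtain ⟨y, hy, e⟩ := hi.2 x hx
        rw [h y hy] at e
        rwa [← e]
    have hXY' : X' = Y := by ext x; exact hXY x
    subst hXY'
    exact ⟨fun x => x, .nil hX (fun _ _ => rfl), fun x hx => by rw [h x hx], fun y hy => h y hy,
      img_refl _⟩
  | @cons X' Y' P' g' h' f' h1 h2 h3 h4 h5 ih =>
    have hi' : Img Y' h' Y := by
      refine ⟨fun y hy => ?_, fun z hz => ?_⟩
      · obtain ⟨x, hx, rfl⟩ := h3.2 y hy
        rw [← h5 x hx]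
        exact hi.1 x hx
      · obtain ⟨x, hx, rfl⟩ := hi.2 z hz
        exact ⟨g' x, h3.1 x hx, (h5 x hx).symm⟩
    obtain ⟨k, hk, hk1, hk2, hk3⟩ := ih hi'
    obtain ⟨g₁, hg₁, he⟩ := A.inv h1
    have hg₁m : ∀ y ∈ Y', g₁ y ∈ X' := by
      intro y hy
      obtain ⟨x, hx, rfl⟩ := h3.2 y hy
      rw [he x (h2 hx)]
      exact hx
    have hY'P : Y' ≤ P' := by
      intro y hy
      obtain ⟨x, hx, rfl⟩ := h3.2 y hy
      exact (A.img h1).1 x (h2 hx)
    have hge : ∀ y ∈ Y', g' (g₁ y) = y := by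
      intro y hy
      obtain ⟨x, hx, rfl⟩ := h3.2 y hy
      rw [he x (h2 hx)]
    refine ⟨fun y => g₁ (k y), hk.comp A hk3.1 (edge A hg₁ hY'P), ?_, ?_, ?_⟩
    · intro x hx
      show g₁ (k (f' x)) = x
      rw [h5 x hx, hk1 _ (h3.1 x hx), he x (h2 hx)]
    · intro y hy
      show f' (g₁ (k y)) = y
      rw [h5 _ (hg₁m _ (hk3.1 y hy)), hge _ (hk3.1 y hy), hk2 y hy]
    · refine ⟨fun y hy => hg₁m _ (hk3.1 y hy), fun x hx => ?_⟩
      refine ⟨f' x, hi.1 x hx, ?_⟩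
      show g₁ (k (f' x)) = x
      rw [h5 x hx, hk1 _ (h3.1 x hx), he x (h2 hx)]

end Dp

section fin

variable [Finite S]

/-- `T` is in the family. -/
theorem uc_top (hsc : F.StronglyClosed T) : Uc F T T := by
  refine ⟨le_rfl, fun Q hQ => ?_⟩
  obtain ⟨φ, hφ, hr⟩ := id hQ
  have hQT : Q ≤ T := by
    rw [← hr]
    rintro _ ⟨x, rfl⟩
    exact hsc.2 T le_rfl φ hφ x
  haveI : Finite T := finite_of_le hsc.1
  have : Q = T := Subgroup.eq_of_le_of_card_ge hQT (isConj_card_eq F hQ).le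
  rw [this]
  exact inf_le_left

theorem Uc.up (h : Uc F T P) (hPY : P ≤ Y) (hY : Y ≤ T) : Uc F T Y :=
  ⟨hY, fun _ hQ' => Cfsg.Agent.Lib.FusionExt.FixQ.hc_up h.2 hPY hQ'⟩

/-- The axioms of a fusion system for paths. -/
theorem dAx (A : Fam F T Aa) : SysAx T (Dp T Aa) where
  congr h e := h.congr e
  le h := h.le A
  mem h hx := h.mem_T A hx
  mul h hx hy := (h.mp A).map_mul hx hy
  inj h hx hy e := (h.mp A).inj hx hy e
  conj hX ha := Dp.edge A (A.inner (uc_top A.sc) ⟨ha, Subgroup.le_normalizer ha⟩) hX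
  comp h hm h' := h.comp A hm h'
  inv h hi := by
    obtain ⟨k, hk, h1, -⟩ := h.inv A hi
    exact ⟨k, hk, h1⟩

/-- The system generated by the family. -/
noncomputable def mkD (A : Fam F T Aa) : FusionSystem T := mkSys (dAx A)

theorem mp_D {A : Fam F T Aa} : Mp (mkD A) X f ↔ Dp T Aa X f := mp_mkSys (dAx A)

theorem D_sub (A : Fam F T Aa) : (mkD A).IsSubsystemOf F := by
  intro P φ hφ
  exact Cfsg.Agent.Lib.FusionExt.PowerE.hom_of_mp ((mp_D.1 (mp_of_hom hφ)).mp A)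

/-- Transport of paths along automorphisms of `T`. -/
theorem dp_tw (A : Fam F T Aa) (ha : Mp F T a) (hd : Dp T Aa X δ) {Y : Subgroup Ω} (hY : Img X a Y) :
    ∃ δ', Dp T Aa Y δ' ∧ ∀ x ∈ X, δ' (a x) = a (δ x) := by
  have hmT : ∀ {X' : Subgroup Ω}, X' ≤ T → ∀ x ∈ X', a x ∈ T := by
    intro X' hX' x hx
    obtain ⟨φ, hφ, e⟩ := id ha
    rw [← e ⟨x, hX' hx⟩]
    exact A.sc.2 T le_rfl φ hφ _
  induction hd generalizing Y with
  | @nil X' f' hX h =>
    refine ⟨fun x => x, .nil (?_) (fun _ _ => rfl), fun x hx => by rw [h x hx]⟩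
    intro y hy
    obtain ⟨x, hx, rfl⟩ := hY.2 y hy
    exact hmT hX x hx
  | @cons X' Y' P' g' h' f' h1 h2 h3 h4 h5 ih =>
    have hP'T : P' ≤ T := (A.uc h1).1
    obtain ⟨P'', hP''⟩ := (ha.restrict hP'T).exists_img
    obtain ⟨g'', hg'', hg''e⟩ := A.tr h1 (ha.restrict hP'T) hP''
    have hY'P : Y' ≤ P' := by
      intro y hy
      obtain ⟨x, hx, rfl⟩ := h3.2 y hy
      exact (A.img h1).1 x (h2 hx)
    obtain ⟨Y'', hY''⟩ := (ha.restrict (hY'P.trans hP'T)).exists_img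
    obtain ⟨δ₁, hδ₁, e₁⟩ := ih hY''
    have hYP : Y ≤ P'' := by
      intro y hy
      obtain ⟨x, hx, rfl⟩ := hY.2 y hy
      exact hP''.1 x (h2 hx)
    have hI : Img Y g'' Y'' := by
      refine ⟨fun y hy => ?_, fun z hz => ?_⟩
      · obtain ⟨x, hx, rfl⟩ := hY.2 y hy
        rw [hg''e x (h2 hx)]
        exact hY''.1 _ (h3.1 x hx)
      · obtain ⟨y', hy', rfl⟩ := hY''.2 z hz
        obtain ⟨x, hx, rfl⟩ := h3.2 y' hy'
        exact ⟨a x, hY.1 x hx, hg''e x (h2 hx)⟩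
    refine ⟨_, .cons hg'' hYP hI hδ₁ (fun _ _ => rfl), fun x hx => ?_⟩
    show δ₁ (g'' (a x)) = _
    rw [hg''e x (h2 hx), e₁ _ (h3.1 x hx), h5 x hx]

end fin

/-! ### The automizer as a group -/

section aut

variable {W' : Subgroup Ω}

/-- The family at `W` as a subgroup of `Aut(W)`. -/
def aSub (A : Fam F T Aa) {W : Subgroup Ω} (h : Uc F T W) : Subgroup (MulAut W) where
  carrier := {α | Aa W (autFun α)}
  one_mem' := by
    have h1 : Aa W (fun x => (1 : Ω) * x * (1 : Ω)⁻¹) :=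
      A.inner h ⟨T.one_mem, Subgroup.one_mem _⟩
    exact A.congr h1 (fun x _ => by
      simp only [one_mul, inv_one, mul_one]
      exact (autFun_one_apply x).symm)
  mul_mem' := by
    intro a b ha hb
    exact A.congr (A.comp hb ha) (fun x _ => (autFun_mul_apply a b x).symm)
  inv_mem' := by
    intro a ha
    obtain ⟨g, hg, e⟩ := A.inv ha
    refine A.congr hg (fun x hx => ?_)
    have hx' : autFun a⁻¹ x ∈ W := autFun_mem a⁻¹ hx
    have := e _ hx'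
    rwa [autFun_apply_inv] at this

theorem mem_aSub {A : Fam F T Aa} {h : Uc F T W} {α : MulAut W} : α ∈ aSub A h ↔ Aa W (autFun α) := Iff.rfl

theorem exists_aut (A : Fam F T Aa) (h : Aa W f) : ∃ α ∈ aSub A (A.uc h), ∀ x ∈ W, autFun α x = f x := by
  obtain ⟨α, -, e⟩ := (A.mp h).toAut (A.img h)
  have e' : ∀ x ∈ W, autFun α x = f x := fun x hx => by
    rw [autFun_of_mem α hx]
    exact e ⟨x, hx⟩
  exact ⟨α, A.congr h (fun x hx => (e' x hx).symm), e'⟩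

theorem inducedBy_le (A : Fam F T Aa) (h : Uc F T W) : autInducedBy T W ≤ aSub A h := by
  intro α hα
  obtain ⟨t, ht, e⟩ := (mem_autInducedBy_iff T W α).1 hα
  have hn := mem_normalizer_of_conj W α t e
  refine A.congr (A.inner h ⟨ht, hn⟩) (fun x hx => ?_)
  rw [autFun_of_mem α hx]
  exact (e ⟨x, hx⟩).symm

/-- Elements of `Aut_T(W)` in terms of functions. -/
theorem inT_iff {c : MulAut W} : c ∈ autInducedBy T W ↔ ∃ t ∈ normalizerIn T W, ∀ x ∈ W, autFun c x = t * x * t⁻¹ := by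
  constructor
  · intro hc
    obtain ⟨t, ht, e⟩ := (mem_autInducedBy_iff T W c).1 hc
    refine ⟨t, ⟨ht, mem_normalizer_of_conj W c t e⟩, fun x hx => ?_⟩
    rw [autFun_of_mem c hx]
    exact e ⟨x, hx⟩
  · rintro ⟨t, ht, e⟩
    refine (mem_autInducedBy_iff T W c).2 ⟨t, ht.1, fun x => ?_⟩
    rw [← autFun_coe]
    exact e x x.2

theorem normAct_fun {y : Ω} (hy : y ∈ Subgroup.normalizer (W : Set Ω)) {x : Ω} (hx : x ∈ W) :
    autFun (normAct W hy) x = y * x * y⁻¹ := by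
  rw [autFun_of_mem _ hx]
  rfl

theorem conj_fun (b q : MulAut W) (x : Ω) : autFun (b * q * b⁻¹) (autFun b x) = autFun b (autFun q x) := by
  rw [autFun_mul_apply, autFun_mul_apply, autFun_inv_apply]

end aut

/-! ### The Frattini argument -/

section fr

variable {R₀ : Subgroup Ω} [Finite S] [Finite R₀] [Fact p.Prime] {G : FusionSystem R₀}

/-- A map that extends to normalizers. -/
theorem nm_map (hR : IsPGroup p R₀) (hG : G.IsSaturated p) (hW : G.IsFullyNormalized W) (hX : G.IsConj X W) :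
    ∃ ρ, Mp G (normalizerIn R₀ X) ρ ∧ (∀ x ∈ normalizerIn R₀ X, ρ x ∈ normalizerIn R₀ W) ∧ Img X ρ W := by
  have hFA := isFullyAutomized_of_isFullyNormalized G hR hG hW
  have hrc := isReceptive_of_isFullyNormalized G hR hG hW
  obtain ⟨μ, hμ, hμv, hμr⟩ := exists_normalizer_map G hR hFA hrc hX
  have hle : X ≤ normalizerIn R₀ X := le_normalizerIn (isConj_left_le G hX)
  refine ⟨extOf μ, mp_of_hom hμ, fun x hx => ?_, ?_⟩
  · rw [extOf_of_mem μ hx]
    exact hμv _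
  · exact Cfsg.Agent.Lib.FusionExt.PrimeRes2.img_of_normalizer_map hle μ hμr

/-- Maps of the form `a ∘ δ`, with `a ∈ Aut_G(T)` and `δ` a path. -/
def Fa (G : FusionSystem R₀) (T : Subgroup Ω) (Aa : Subgroup Ω → (Ω → Ω) → Prop) (X : Subgroup Ω) (f : Ω → Ω) : Prop :=
  ∃ a δ, Mp G T a ∧ Img T a T ∧ Dp T Aa X δ ∧ ∀ x ∈ X, f x = a (δ x)

theorem Fa.congr (h : Fa G T Aa X f) (e : ∀ x ∈ X, f x = g x) : Fa G T Aa X g := by
  obtain ⟨a, δ, h1, h2, h3, h4⟩ := h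
  exact ⟨a, δ, h1, h2, h3, fun x hx => (e x hx).symm.trans (h4 x hx)⟩

theorem Fa.of_dp (hT : T ≤ R₀) (h : Dp T Aa X f) : Fa G T Aa X f :=
  ⟨fun x => x, f, Mp.refl hT, img_refl T, h, fun _ _ => rfl⟩

theorem Fa.restrict (A : Fam F T Aa) (h : Fa G T Aa X f) (hY : Y ≤ X) : Fa G T Aa Y f := by
  obtain ⟨a, δ, h1, h2, h3, h4⟩ := h
  exact ⟨a, δ, h1, h2, h3.restrict A hY, fun x hx => h4 x (hY hx)⟩

theorem Fa.le (A : Fam F T Aa) (h : Fa G T Aa X f) : X ≤ T := by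
  obtain ⟨a, δ, h1, h2, h3, h4⟩ := h
  exact h3.le A

theorem Fa.comp (A : Fam F T Aa) (hGF : G.IsSubsystemOf F) (h : Fa G T Aa X f) (hm : ∀ x ∈ X, f x ∈ Y)
    (h' : Fa G T Aa Y g) : Fa G T Aa X (fun x => g (f x)) := by
  obtain ⟨a₁, δ₁, h1, h2, h3, h4⟩ := h
  obtain ⟨a₂, δ₂, k1, k2, k3, k4⟩ := h'
  have hYT : Y ≤ T := k3.le A
  obtain ⟨b, hb, hb1, hb2, hbi⟩ := h1.inverse h2
  obtain ⟨Y₁, hY₁⟩ := (hb.restrict hYT).exists_img
  obtain ⟨δ₂', hδ₂', e⟩ := dp_tw A (Cfsg.Agent.Lib.FusionExt.PowerE.mp_sub hGF hb) k3 hY₁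
  have hδ₁m : ∀ x ∈ X, δ₁ x ∈ Y₁ := by
    intro x hx
    have h5 := hY₁.1 _ (hm x hx)
    rw [h4 x hx, hb1 _ (h3.mem_T A hx)] at h5
    exact h5
  refine ⟨fun x => a₂ (a₁ x), fun x => δ₂' (δ₁ x), h1.comp h2.1 k1, h2.comp k2, h3.comp A hδ₁m hδ₂', fun x hx => ?_⟩
  show g (f x) = a₂ (a₁ (δ₂' (δ₁ x)))
  have h6 : δ₁ x = b (f x) := by
    rw [h4 x hx, hb1 _ (h3.mem_T A hx)]
  rw [h6, e _ (hm x hx), hb2 _ (k3.mem_T A (hm x hx))]
  exact k4 _ (hm x hx)

theorem Fa.inv (A : Fam F T Aa) (hGF : G.IsSubsystemOf F) (h : Fa G T Aa X f) (hi : Img X f Y) :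
    ∃ k, Fa G T Aa Y k ∧ (∀ x ∈ X, k (f x) = x) ∧ (∀ y ∈ Y, f (k y) = y) := by
  obtain ⟨a, δ, h1, h2, h3, h4⟩ := h
  obtain ⟨X₁, hX₁⟩ := (h3.mp A).exists_img
  obtain ⟨k₁, hk₁, e1, e2, e3⟩ := h3.inv A hX₁
  have hX₁T : X₁ ≤ T := by
    intro y hy
    obtain ⟨x, hx, rfl⟩ := hX₁.2 y hy
    exact h3.mem_T A hx
  have hI : Img X₁ a Y := by
    refine ⟨fun y hy => ?_, fun z hz => ?_⟩
    · obtain ⟨x, hx, rfl⟩ := hX₁.2 y hy
      rw [← h4 x hx]
      exact hi.1 x hx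
    · obtain ⟨x, hx, rfl⟩ := hi.2 z hz
      exact ⟨δ x, hX₁.1 x hx, (h4 x hx).symm⟩
  obtain ⟨k₂, hk₂, e⟩ := dp_tw A (Cfsg.Agent.Lib.FusionExt.PowerE.mp_sub hGF h1) hk₁ hI
  obtain ⟨b, hb, hb1, hb2, hbi⟩ := h1.inverse h2
  have hXT := h3.le A
  refine ⟨fun y => b (k₂ y), ⟨b, k₂, hb, hbi, hk₂, fun _ _ => rfl⟩, fun x hx => ?_, fun y hy => ?_⟩
  · show b (k₂ (f x)) = x
    rw [h4 x hx, e _ (hX₁.1 x hx), e1 x hx, hb1 _ (hXT hx)]
  · obtain ⟨x, hx, rfl⟩ := hi.2 y hy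
    show f (b (k₂ (f x))) = f x
    rw [h4 x hx, e _ (hX₁.1 x hx), e1 x hx, hb1 _ (hXT hx)]
    exact h4 x hx

/-- **The Frattini argument**: every map of `G` on a subgroup of `T` is an automorphism of `T` after a path. -/
theorem fr_gen (A : Fam F T Aa) (hR : IsPGroup p R₀) (hG : G.IsSaturated p) (hTG : G.StronglyClosed T)
    (hGF : G.IsSubsystemOf F) (hAG : ∀ {P f}, Aa P f → Mp G P f)
    (hSyl : ∀ W (h : Uc F T W), G.IsFullyNormalized W → IsSylowIn p (autInducedBy T W) (aSub A h))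
    (hC : ∀ W, G.IsFullyNormalized W → W ≤ T → ¬ Uc F T W → ¬ zz T W ≤ W) :
    ∀ (X : Subgroup Ω) (f : Ω → Ω), X ≤ T → Mp G X f → Fa G T Aa X f := by
  have hTR : T ≤ R₀ := hTG.1
  have hTp : IsPGroup p T := hR.to_le hTR
  haveI : Finite T := finite_of_le hTR
  have hmT : ∀ {X' : Subgroup Ω} {f' : Ω → Ω}, X' ≤ T → Mp G X' f' → ∀ x ∈ X', f' x ∈ T := by
    intro X' f' hX' hf' x hx
    obtain ⟨φ, hφ, e⟩ := id hf'
    rw [← e ⟨x, hx⟩]
    exact hTG.2 X' hX' φ hφ _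
  suffices key : ∀ (d : ℕ) (X : Subgroup Ω) (f : Ω → Ω), Nat.card T - Nat.card X = d → X ≤ T → Mp G X f → Fa G T Aa X f from
    fun X f hX hf => key _ X f rfl hX hf
  intro d
  induction d using Nat.strong_induction_on with
  | _ d ih =>
  intro X f hd hXT hf
  have IH : ∀ (X' : Subgroup Ω) (f' : Ω → Ω), Nat.card X < Nat.card X' → X' ≤ T → Mp G X' f' → Fa G T Aa X' f' := by
    intro X' f' hc hX' hf'
    have h1 : Nat.card X' ≤ Nat.card T := Subgroup.card_le_of_le hX'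
    exact ih _ (by omega) X' f' rfl hX' hf'
  by_cases hXe : X = T
  · subst hXe
    exact ⟨f, fun x => x, hf, Cfsg.Agent.Lib.FusionExt.LowPi.img_self hf (hmT le_rfl hf), Dp.refl le_rfl, fun _ _ => rfl⟩
  have hXlt : X < T := lt_of_le_of_ne hXT hXe
  obtain ⟨Y', hY⟩ := hf.exists_img
  have hYT : Y' ≤ T := by
    intro y hy
    obtain ⟨x, hx, rfl⟩ := hY.2 y hy
    exact hmT hXT hf x hx
  have hcXY : Nat.card Y' = Nat.card X := hf.card_img hY
  obtain ⟨W, hXW, hWfn⟩ := exists_isFullyNormalized G (hXT.trans hTR)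
  have hWT : W ≤ T := by
    obtain ⟨φ, hφ, hr⟩ := id hXW
    rw [← hr]
    rintro _ ⟨x, rfl⟩
    exact hTG.2 X hXT φ hφ x
  have hcXW : Nat.card X = Nat.card W := isConj_card_eq G hXW
  have hrW := isReceptive_of_isFullyNormalized G hR hG hWfn
  have hWlt : W < T := by
    refine lt_of_le_of_ne hWT (fun e => hXe ?_)
    refine Subgroup.eq_of_le_of_card_ge hXT ?_
    rw [← e, hcXW]
  have hYlt : Y' < T := by
    refine lt_of_le_of_ne hYT (fun e => hXe ?_)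
    refine Subgroup.eq_of_le_of_card_ge hXT ?_
    rw [← e, hcXY]
  obtain ⟨ρ, hρ, -, hρi⟩ := nm_map hR hG hWfn hXW
  have hYW : G.IsConj Y' W := isConj_trans G (isConj_symm G (hf.isConj hY)) hXW
  obtain ⟨ρ', hρ', -, hρ'i⟩ := nm_map hR hG hWfn hYW
  have hNXle : normalizerIn T X ≤ normalizerIn R₀ X := inf_le_inf_right _ hTR
  have hNYle : normalizerIn T Y' ≤ normalizerIn R₀ Y' := inf_le_inf_right _ hTR
  have hXN : X < normalizerIn T X := lt_normalizerIn hTp hXlt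
  have hYN : Y' < normalizerIn T Y' := lt_normalizerIn hTp hYlt
  have hWN : W < normalizerIn T W := lt_normalizerIn hTp hWlt
  have hρFa : Fa G T Aa X ρ :=
    (IH _ _ (Cfsg.Agent.Lib.FusionExt.SatCrit1.card_lt_of_lt (S := R₀) hXN.le hXN.ne ((normalizerIn_le_left T X).trans hTR))
      (normalizerIn_le_left T X) (hρ.restrict hNXle)).restrict A hXN.le
  have hρ'Fa : Fa G T Aa Y' ρ' :=
    (IH _ _ (by
      rw [← hcXY]
      exact Cfsg.Agent.Lib.FusionExt.SatCrit1.card_lt_of_lt (S := R₀) hYN.le hYN.ne ((normalizerIn_le_left T Y').trans hTR))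
      (normalizerIn_le_left T Y') (hρ'.restrict hNYle)).restrict A hYN.le
  have hXle : X ≤ normalizerIn R₀ X := hXN.le.trans hNXle
  have hYle : Y' ≤ normalizerIn R₀ Y' := hYN.le.trans hNYle
  obtain ⟨ρi, hρim, ei1, ei2, ei3⟩ := (hρ.restrict hXle).inverse hρi
  obtain ⟨k, hk, hk1, hk2⟩ := hρ'Fa.inv A hGF hρ'i
  obtain ⟨l, hl, hl1, hl2⟩ := hρFa.inv A hGF hρi
  -- the automorphism of `W`
  have hαm : Mp G W (fun w => ρ' (f (ρi w))) :=
    (hρim.comp ei3.1 hf).comp (fun w hw => hY.1 _ (ei3.1 w hw)) (hρ'.restrict hYle)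
  have hαi : Img W (fun w => ρ' (f (ρi w))) W := (ei3.comp hY).comp hρ'i
  suffices hαFa : Fa G T Aa W (fun w => ρ' (f (ρi w))) by
    -- reassemble
    have h1 := (hρFa.comp A hGF hρi.1 hαFa).comp A hGF
      (fun x hx => hαi.1 _ (hρi.1 x hx)) hk
    refine h1.congr (fun x hx => ?_)
    show k (ρ' (f (ρi (ρ x)))) = f x
    rw [ei1 x hx, hk1 _ (hY.1 x hx)]
  by_cases huc : Uc F T W
  · -- the Frattini argument in `Aut_G(W)`
    haveI : Finite W := finite_of_le (hWT.trans hTR)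
    haveI : Finite (MulAut W) := Cfsg.Agent.Lib.Fusion.Basic.finite_mulAut_of_finite (A := W)
    have hSy := hSyl W huc hWfn
    obtain ⟨a₀, -, ea⟩ := hαm.toAut hαi
    have ea' : ∀ x ∈ W, autFun a₀ x = ρ' (f (ρi x)) := fun x hx => by
      rw [autFun_of_mem a₀ hx]
      exact ea ⟨x, hx⟩
    have hαF : Mp F W (autFun a₀) := Cfsg.Agent.Lib.FusionExt.PowerE.mp_sub hGF (hαm.congr (fun x hx => (ea' x hx).symm))
    have hnorm : ∀ β ∈ aSub A huc, a₀ * β * a₀⁻¹ ∈ aSub A huc := by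
      intro β hβ
      obtain ⟨f', hf', ef'⟩ := A.tr hβ hαF (img_autFun a₀)
      refine A.congr hf' (fun y hy => ?_)
      have hx : autFun a₀⁻¹ y ∈ W := autFun_mem a₀⁻¹ hy
      have := ef' _ hx
      rw [autFun_apply_inv] at this
      rw [this, autFun_mul_apply, autFun_mul_apply]
    let L : Subgroup (MulAut W) := (autInducedBy T W).map (MulAut.conj a₀).toMonoidHom
    have hLle : L ≤ aSub A huc := by
      rintro _ ⟨q, hq, rfl⟩
      exact hnorm q (inducedBy_le A huc hq)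
    have hLp : IsPGroup p L := (isPGroup_autInducedBy W hTp).map _
    obtain ⟨g₀, hg₀, hg₀L⟩ := hSy.exists_conj hLle hLp
    -- `b = g₀ a₀` normalizes `Aut_T(W)`
    have hb : ∀ q ∈ autInducedBy T W, (g₀ * a₀) * q * (g₀ * a₀)⁻¹ ∈ autInducedBy T W := by
      intro q hq
      have := hg₀L ((MulAut.conj a₀).toMonoidHom q) ⟨q, hq, rfl⟩
      have e : (g₀ * a₀) * q * (g₀ * a₀)⁻¹ = g₀ * ((MulAut.conj a₀).toMonoidHom q) * g₀⁻¹ := by
        simp [MulAut.conj_apply, mul_assoc]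
      rw [e]
      exact this
    have hg₀G : Mp G W (autFun g₀) := hAG hg₀
    have hbm : Mp G W (autFun (g₀ * a₀)) :=
      ((hαm.congr (fun x hx => (ea' x hx).symm)).comp (img_autFun a₀).1 hg₀G).congr
        (fun x _ => (autFun_mul_apply g₀ a₀ x).symm)
    have hext : ∀ y ∈ normalizerIn T W, y ∈ R₀ ∧ y ∈ Subgroup.normalizer (W : Set Ω) ∧
        ∃ a ∈ R₀, ∀ x ∈ W, autFun (g₀ * a₀) (y * x * y⁻¹) = a * autFun (g₀ * a₀) x * a⁻¹ := by
      intro y hy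
      refine ⟨hTR hy.1, hy.2, ?_⟩
      have hq := hb _ (normAct_mem_autInducedBy T W hy.2 hy.1)
      obtain ⟨t, ht, et⟩ := inT_iff.1 hq
      refine ⟨t, hTR ht.1, fun x hx => ?_⟩
      rw [← et _ (autFun_mem _ hx), conj_fun, normAct_fun hy.2 hx]
    obtain ⟨bh, hbh, ebh⟩ := hbm.ext_rec hrW (img_autFun _) hWN.le hext
    have hbhFa : Fa G T Aa W (autFun (g₀ * a₀)) :=
      ((IH _ _ (by
        rw [hcXW]
        exact Cfsg.Agent.Lib.FusionExt.SatCrit1.card_lt_of_lt (S := R₀) hWN.le hWN.ne ((normalizerIn_le_left T W).trans hTR))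
        (normalizerIn_le_left T W) hbh).restrict A hWN.le).congr ebh
    have hg₀i : Aa W (autFun g₀⁻¹) := (aSub A huc).inv_mem hg₀
    have h5 := hbhFa.comp A hGF (Y := W) (img_autFun _).1 (Fa.of_dp hTR (Dp.edge A hg₀i le_rfl))
    refine h5.congr (fun x hx => ?_)
    show autFun g₀⁻¹ (autFun (g₀ * a₀) x) = ρ' (f (ρi x))
    rw [autFun_mul_apply, autFun_inv_apply, ea' x hx]
  · have hnc := hC W hWfn hWT huc
    have hfcW := isFullyCentralized_of_isReceptive G hrW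
    obtain ⟨g', hg', eg'⟩ := Cfsg.Agent.Lib.FusionExt.LowPi.ext_cent hrW hαm hαi
    set Y₂ : Subgroup Ω := W ⊔ zz T W with hY₂
    have hle2 : Y₂ ≤ W ⊔ centralizerIn R₀ W := sup_le_sup_left (fun z hz => ⟨hTR hz.1, hz.2⟩) _
    have hWY₂ : W ≤ Y₂ := le_sup_left
    have hlt : W ≠ Y₂ := fun e => hnc (by
      have h1 : zz T W ≤ Y₂ := le_sup_right
      rw [← e] at h1
      exact h1)
    have hT2 : Y₂ ≤ T := sup_le hWT inf_le_left
    have hc2 : Nat.card X < Nat.card Y₂ := by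
      rw [hcXW]
      exact Cfsg.Agent.Lib.FusionExt.SatCrit1.card_lt_of_lt (S := R₀) hWY₂ hlt (hT2.trans hTR)
    have h6 : Fa G T Aa Y₂ g' := IH Y₂ g' hc2 hT2 (hg'.restrict hle2)
    exact (h6.restrict A hWY₂).congr eg'

end fr

end Cfsg.Agent.Lib.FusionExt.Glue1
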