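import Cfsg.Agent.Lib.FusionExt.Glue1
import Cfsg.Agent.Lib.FusionExt.LowPi2

/-!
# Gluing: fusion in a finite group through normalizers of fully normalized subgroups (helper92)
-/

set_option autoImplicit false
set_option linter.unusedSectionVars false

namespace Cfsg.Agent.Lib.FusionExt.Glue2

open Cfsg Cfsg.FusionSystem Cfsg.Agent.Lib.Fusion.Basic Cfsg.Agent.Lib.Fusion.GroupSystem
open Cfsg.Agent.Lib.FusionExt.MapApi Cfsg.Agent.Lib.FusionExt.PowerSys Cfsg.Agent.Lib.FusionExt.LowPi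
open Cfsg.Agent.Lib.FusionExt.PrimeRes1 Cfsg.Agent.Lib.Fusion.Saturation Cfsg.Agent.Lib.Fusion.Saturation2
open Cfsg.Agent.Lib.FusionExt.Glue1 Cfsg.Agent.Lib.FusionExt.CentE

section ga

variable {G : Type*} [Group G] [Finite G] {p : ℕ} [Fact p.Prime] {A P Q Q' : Subgroup G}

theorem conjMap_mul (a b : G) (Q : Subgroup G) : conjMap (a * b) Q = conjMap a (conjMap b Q) := by
  ext x
  simp only [mem_conjMap]
  have : (a * b)⁻¹ * x * (a * b) = b⁻¹ * (a⁻¹ * x * a) * b := by group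
  rw [this]

theorem conjMap_one (Q : Subgroup G) : conjMap (1 : G) Q = Q := by
  ext x
  simp only [mem_conjMap, inv_one, one_mul, mul_one]

theorem conjMap_inv (a : G) (Q : Subgroup G) : conjMap a⁻¹ (conjMap a Q) = Q := by
  rw [← conjMap_mul, inv_mul_cancel, conjMap_one]

theorem conjMap_inv' (a : G) (Q : Subgroup G) : conjMap a (conjMap a⁻¹ Q) = Q := by
  rw [← conjMap_mul, mul_inv_cancel, conjMap_one]

theorem conjMap_card (a : G) (Q : Subgroup G) : Nat.card (conjMap a Q) = Nat.card Q :=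
  Nat.card_congr (Subgroup.equivMapOfInjective Q _ (MulAut.conj a).injective).toEquiv.symm

theorem conjMap_eq_of_norm {a : G} (ha : a ∈ Subgroup.normalizer (Q : Set G)) : conjMap a Q = Q := by
  ext x
  rw [mem_conjMap]
  have h := (Subgroup.mem_normalizer_iff.1 ha) (a⁻¹ * x * a)
  have e : a * (a⁻¹ * x * a) * a⁻¹ = x := by group
  rw [e] at h
  exact h

theorem norm_of_conjMap_eq {a : G} (ha : conjMap a Q = Q) : a ∈ Subgroup.normalizer (Q : Set G) := by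
  rw [Subgroup.mem_normalizer_iff]
  intro x
  constructor
  · intro hx
    have := conj_mem_conjMap (g := a) hx
    rwa [ha] at this
  · intro hx
    rw [← ha] at hx
    rw [mem_conjMap] at hx
    simpa [mul_assoc] using hx

/-- A conjugate of `Q` in `P` whose normalizer in `P` is a Sylow subgroup of its normalizer in `A`. -/
theorem exists_fn (hP : IsSylowIn p P A) (hPA : P ≤ A) (hQ : Q ≤ P) :
    ∃ Q₀ u, Q₀ ≤ P ∧ u ∈ A ∧ conjMap u Q = Q₀ ∧ IsSylowIn p (normalizerIn P Q₀) (normalizerIn A Q₀) := by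
  classical
  let C := {Q₀ : Subgroup G // Q₀ ≤ P ∧ ∃ u ∈ A, conjMap u Q = Q₀}
  haveI : Finite C := inferInstance
  haveI : Nonempty C := ⟨⟨Q, hQ, 1, A.one_mem, conjMap_one Q⟩⟩
  obtain ⟨⟨Q₀, hQ₀, u, hu, hue⟩, hmax⟩ := Finite.exists_max (fun c : C => Nat.card (normalizerIn P c.1))
  refine ⟨Q₀, u, hQ₀, hu, hue, ?_⟩
  have hle : normalizerIn P Q₀ ≤ normalizerIn A Q₀ := inf_le_inf_right _ hPA
  have hPp : IsPGroup p P := hP.isPGroup hPA
  rw [isSylowIn_iff_maximal hle]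
  refine ⟨hPp.to_le inf_le_left, fun C₁ hC₁ hC₁p hNC₁ => ?_⟩
  obtain ⟨b, hb, hbc⟩ := hP.exists_conj (hC₁.trans inf_le_left) hC₁p
  have hQ₀N : Q₀ ≤ normalizerIn P Q₀ := le_normalizerIn hQ₀
  have hQ₁ : conjMap b Q₀ ≤ P := by
    rintro _ ⟨x, hx, rfl⟩
    exact hbc x (hNC₁ (hQ₀N hx))
  have hcl : conjMap (b * u) Q = conjMap b Q₀ := by rw [conjMap_mul, hue]
  have hm := hmax ⟨conjMap b Q₀, hQ₁, b * u, A.mul_mem hb hu, hcl⟩
  have hle2 : conjMap b C₁ ≤ normalizerIn P (conjMap b Q₀) := by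
    rintro _ ⟨x, hx, rfl⟩
    refine ⟨hbc x hx, ?_⟩
    rw [normalizer_conjMap]
    exact conj_mem_conjMap (hC₁ hx).2
  have hc1 : Nat.card C₁ ≤ Nat.card (normalizerIn P Q₀) := by
    have := Subgroup.card_le_of_le hle2
    rw [conjMap_card] at this
    exact this.trans hm
  exact (Subgroup.eq_of_le_of_card_ge hNC₁ hc1).symm

variable {Ext : Subgroup G → G → Prop}

/-- The normalizer case. -/
theorem ext_norm {Q₀ : Subgroup G} (hQ₀ : Q₀ ≤ P) (hsy : IsSylowIn p (normalizerIn P Q₀) (normalizerIn A Q₀)) (hPA : P ≤ A)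
    (hp' : ∀ c ∈ A, c ∈ Subgroup.normalizer (Q₀ : Set G) → (∃ m : ℕ, m.Coprime p ∧ c ^ m = 1) → Ext Q₀ c)
    (hin : ∀ t ∈ P, t ∈ Subgroup.normalizer (Q₀ : Set G) → Ext Q₀ t)
    (hcomp : ∀ c ∈ A, ∀ c' ∈ A, conjMap c Q₀ = Q₀ → Ext Q₀ c → Ext Q₀ c' → Ext Q₀ (c' * c))
    (hinv : ∀ c ∈ A, conjMap c Q₀ = Q₀ → Ext Q₀ c → Ext Q₀ c⁻¹) :
    ∀ w ∈ normalizerIn A Q₀, Ext Q₀ w := by
  let K : Subgroup G :=
    { carrier := {w | w ∈ normalizerIn A Q₀ ∧ Ext Q₀ w}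
      one_mem' := ⟨(normalizerIn A Q₀).one_mem, hin 1 P.one_mem (Subgroup.one_mem _)⟩
      mul_mem' := by
        rintro a b ⟨ha, ha'⟩ ⟨hb, hb'⟩
        exact ⟨(normalizerIn A Q₀).mul_mem ha hb, hcomp b hb.1 a ha.1 (conjMap_eq_of_norm hb.2) hb' ha'⟩
      inv_mem' := by
        rintro a ⟨ha, ha'⟩
        exact ⟨(normalizerIn A Q₀).inv_mem ha, hinv a ha.1 (conjMap_eq_of_norm ha.2) ha'⟩ }
  have hK : K = normalizerIn A Q₀ := by
    refine eq_of_sylow_pprime hsy (fun t ht => ⟨inf_le_inf_right _ hPA ht, hin t ht.1 ht.2⟩) (fun w hw => hw.1) ?_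
    intro a ha ham
    exact ⟨ha, hp' a ha.1 ha.2 ham⟩
  intro w hw
  rw [← hK] at hw
  exact hw.2

/-- **Fusion through normalizers.** -/
theorem ga (hP : IsSylowIn p P A) (hPA : P ≤ A)
    (hp' : ∀ Q ≤ P, ∀ c ∈ A, c ∈ Subgroup.normalizer (Q : Set G) → (∃ m : ℕ, m.Coprime p ∧ c ^ m = 1) → Ext Q c)
    (hin : ∀ Q ≤ P, ∀ t ∈ P, t ∈ Subgroup.normalizer (Q : Set G) → Ext Q t)
    (hcomp : ∀ Q ≤ P, ∀ c ∈ A, ∀ c' ∈ A, conjMap c Q ≤ P → Ext Q c → Ext (conjMap c Q) c' → Ext Q (c' * c))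
    (hinv : ∀ Q ≤ P, ∀ c ∈ A, conjMap c Q ≤ P → Ext Q c → Ext (conjMap c Q) c⁻¹)
    (hres : ∀ Q Q' c, Q ≤ Q' → Q' ≤ P → c ∈ A → conjMap c Q' ≤ P → Ext Q' c → Ext Q c) :
    ∀ Q ≤ P, ∀ c ∈ A, conjMap c Q ≤ P → Ext Q c := by
  have hPp : IsPGroup p P := hP.isPGroup hPA
  have hNC : ∀ Q₀ ≤ P, IsSylowIn p (normalizerIn P Q₀) (normalizerIn A Q₀) → ∀ w ∈ normalizerIn A Q₀, Ext Q₀ w := by
    intro Q₀ hQ₀ hsy
    refine ext_norm hQ₀ hsy hPA (hp' Q₀ hQ₀) (hin Q₀ hQ₀) ?_ ?_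
    · intro c hc c' hc' he h1 h2
      refine hcomp Q₀ hQ₀ c hc c' hc' (by rw [he]; exact hQ₀) h1 (by rw [he]; exact h2)
    · intro c hc he h1
      have := hinv Q₀ hQ₀ c hc (by rw [he]; exact hQ₀) h1
      rwa [he] at this
  suffices key : ∀ (d : ℕ) (Q : Subgroup G), Nat.card P - Nat.card Q = d → Q ≤ P → ∀ c ∈ A, conjMap c Q ≤ P → Ext Q c from
    fun Q hQ c hc h => key _ Q rfl hQ c hc h
  intro d
  induction d using Nat.strong_induction_on with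
  | _ d ih =>
  intro Q hd hQP c hc hcQ
  by_cases hQe : Q = P
  · subst hQe
    have he : conjMap c Q = Q := Subgroup.eq_of_le_of_card_ge hcQ (by rw [conjMap_card])
    have hsy : IsSylowIn p (normalizerIn Q Q) (normalizerIn A Q) := by
      have e : normalizerIn Q Q = Q := le_antisymm inf_le_left (le_normalizerIn le_rfl)
      rw [e]
      exact hP.mono hPA (fun x hx => ⟨hPA hx, Subgroup.le_normalizer hx⟩) inf_le_left
    exact hNC Q hQP hsy c ⟨hc, norm_of_conjMap_eq he⟩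
  have hQlt : Q < P := lt_of_le_of_ne hQP hQe
  obtain ⟨Q₀, u₀, hQ₀, hu₀, hu₀e, hsy⟩ := exists_fn hP hPA hQP
  -- conjugating a proper subgroup to `Q₀` within the family
  have H : ∀ Q₂ : Subgroup G, Q₂ ≤ P → Nat.card Q₂ = Nat.card Q → ∀ u₂ ∈ A, conjMap u₂ Q₂ = Q₀ →
      ∃ u ∈ A, conjMap u Q₂ = Q₀ ∧ Ext Q₂ u := by
    intro Q₂ hQ₂ hQ₂c u₂ hu₂ hu₂e
    have hQ₂lt : Q₂ < P := by
      refine lt_of_le_of_ne hQ₂ (fun e => hQe ?_)
      refine Subgroup.eq_of_le_of_card_ge hQP ?_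
      rw [← e, hQ₂c]
    have hR₂ : Q₂ < normalizerIn P Q₂ := lt_normalizerIn hPp hQ₂lt
    have hR₂P : normalizerIn P Q₂ ≤ P := inf_le_left
    have hle : conjMap u₂ (normalizerIn P Q₂) ≤ normalizerIn A Q₀ := by
      rintro _ ⟨x, hx, rfl⟩
      refine ⟨A.mul_mem (A.mul_mem hu₂ (hPA hx.1)) (A.inv_mem hu₂), ?_⟩
      rw [← hu₂e, normalizer_conjMap]
      exact conj_mem_conjMap hx.2
    obtain ⟨v, hv, hvc⟩ := hsy.exists_conj hle ((hPp.to_le hR₂P).map _)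
    refine ⟨v * u₂, A.mul_mem hv.1 hu₂, ?_, ?_⟩
    · rw [conjMap_mul, hu₂e, conjMap_eq_of_norm hv.2]
    · have hconj : conjMap (v * u₂) (normalizerIn P Q₂) ≤ P := by
        rw [conjMap_mul]
        rintro _ ⟨y, hy, rfl⟩
        exact (hvc y hy).1
      have hlt : Nat.card Q < Nat.card (normalizerIn P Q₂) := by
        rw [← hQ₂c]
        exact Cfsg.Agent.Lib.FusionExt.SatCrit1.card_lt_of_lt (S := ⊤) (Ω := G) hR₂.le hR₂.ne le_top
      have hPc : Nat.card (normalizerIn P Q₂) ≤ Nat.card P := Subgroup.card_le_of_le hR₂P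
      have h1 := ih _ (by omega) (normalizerIn P Q₂) rfl hR₂P (v * u₂) (A.mul_mem hv.1 hu₂) hconj
      exact hres Q₂ _ _ hR₂.le hR₂P (A.mul_mem hv.1 hu₂) hconj h1
  obtain ⟨u, hu, hue, hExt⟩ := H Q hQP rfl u₀ hu₀ hu₀e
  have hcQc : Nat.card (conjMap c Q) = Nat.card Q := conjMap_card c Q
  have hu₁e' : conjMap (u₀ * c⁻¹) (conjMap c Q) = Q₀ := by
    rw [conjMap_mul, conjMap_inv, hu₀e]
  obtain ⟨u₁, hu₁, hu₁e, hExt₁⟩ := H (conjMap c Q) hcQ hcQc (u₀ * c⁻¹) (A.mul_mem hu₀ (A.inv_mem hc)) hu₁e'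
  have hQ₀eu : conjMap u Q = Q₀ := hue
  have hw : u₁ * c * u⁻¹ ∈ normalizerIn A Q₀ := by
    refine ⟨A.mul_mem (A.mul_mem hu₁ hc) (A.inv_mem hu), norm_of_conjMap_eq ?_⟩
    have : u₁ * c * u⁻¹ = u₁ * (c * u⁻¹) := by group
    rw [this, conjMap_mul, conjMap_mul, ← hue, conjMap_inv, hu₁e, hue]
  have hExtw := hNC Q₀ hQ₀ hsy _ hw
  have h1 : Ext Q ((u₁ * c * u⁻¹) * u) := by
    refine hcomp Q hQP u hu _ hw.1 (by rw [hue]; exact hQ₀) hExt (by rw [hue]; exact hExtw)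
  have h2 : Ext Q₀ u₁⁻¹ := by
    have := hinv (conjMap c Q) hcQ u₁ hu₁ (by rw [hu₁e]; exact hQ₀) hExt₁
    rwa [hu₁e] at this
  have e1 : (u₁ * c * u⁻¹) * u = u₁ * c := by group
  rw [e1] at h1
  have h3 : conjMap (u₁ * c) Q = Q₀ := by rw [conjMap_mul, hu₁e]
  have h4 := hcomp Q hQP (u₁ * c) (A.mul_mem hu₁ hc) u₁⁻¹ (A.inv_mem hu₁) (by rw [h3]; exact hQ₀) h1 (by rw [h3]; exact h2)
  have e2 : u₁⁻¹ * (u₁ * c) = c := by group
  rwa [e2] at h4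

end ga

universe u

variable {Ω : Type u} [Group Ω] {S T : Subgroup Ω} {F : FusionSystem S} {p : ℕ}
variable {X Y Z P Q R U W : Subgroup Ω} {f g h φ ψ a δ : Ω → Ω} {Aa : Subgroup Ω → (Ω → Ω) → Prop}

/-- The good subgroups of the family: Sylow, extension of `p'`-elements, and every member is reached by a path. -/
structure FlS (A : Fam F T Aa) (p : ℕ) (Fl' : Subgroup Ω → Prop) : Prop where
  uc : ∀ {W}, Fl' W → Uc F T W
  syl : ∀ {W} (h : Fl' W), IsSylowIn p (autInducedBy T W) (aSub A (uc h))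
  ext : ∀ {W X f}, Fl' W → Aa W f → (∃ m : ℕ, m.Coprime p ∧ ∀ x ∈ W, f^[m] x = x) → W ≤ X → X ≤ normalizerIn T W →
      (∀ x ∈ X, ∃ x' ∈ X, ∀ w ∈ W, f (x * w * x⁻¹) = x' * f w * x'⁻¹) → ∃ f', Aa X f' ∧ ∀ w ∈ W, f' w = f w
  exist : ∀ {U}, Uc F T U → ∃ W φ, Fl' W ∧ Dp T Aa U φ ∧ Img U φ W

theorem eq_one_of_fun {c : MulAut W} (h : ∀ x ∈ W, autFun c x = x) : c = 1 := by
  ext x
  have := h x x.2
  rw [autFun_coe] at this
  exact this

section main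

variable [Finite S] [Fact p.Prime] {Fl' : Subgroup Ω → Prop}

theorem conj_Dp (A : Fam F T Aa) {t : Ω} (ht : t ∈ T) (hX : X ≤ T) : Dp T Aa X (fun x => t * x * t⁻¹) :=
  Dp.edge A (A.inner (uc_top A.sc) ⟨ht, Subgroup.le_normalizer ht⟩) hX

theorem finite_of_le_T (A : Fam F T Aa) (hX : X ≤ T) : Finite X := finite_of_le (hX.trans A.sc.1)

/-- A path on `X ⊇ W` acts on `W` through its values. -/
theorem map_conj_Dp (A : Fam F T Aa) (hd : Dp T Aa X f) {x w : Ω} (hx : x ∈ X) (hw : w ∈ X) :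
    f (x * w * x⁻¹) = f x * f w * (f x)⁻¹ := (hd.mp A).map_conj hx hw

/-- **Extension of members of the family.** -/
theorem ext_full (A : Fam F T Aa) (B : FlS A p Fl') (hW : Fl' W) {c : MulAut W} (hc : c ∈ aSub A (B.uc hW))
    (hWX : W ≤ X) (hXN : X ≤ normalizerIn T W)
    (hcond : ∀ x ∈ X, ∃ t ∈ normalizerIn T W, ∀ w ∈ W, autFun c (x * w * x⁻¹) = t * autFun c w * t⁻¹) :
    ∃ ch, Dp T Aa X ch ∧ ∀ w ∈ W, ch w = autFun c w := by
  have huc := B.uc hW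
  have hWT : W ≤ T := huc.1
  have hTS : T ≤ S := A.sc.1
  haveI : Finite W := finite_of_le (hWT.trans hTS)
  haveI : Finite (MulAut W) := Cfsg.Agent.Lib.Fusion.Basic.finite_mulAut_of_finite (A := W)
  have hcz : zz T W ≤ W := huc.self hTS
  let Ext : Subgroup (MulAut W) → MulAut W → Prop := fun Q c =>
    ∀ X : Subgroup Ω, W ≤ X → X ≤ normalizerIn T W → (∀ x ∈ X, ∃ q ∈ Q, ∀ w ∈ W, autFun q w = x * w * x⁻¹) →
      ∃ ch, Dp T Aa X ch ∧ ∀ w ∈ W, ch w = autFun c w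
  have hP : autInducedBy T W ≤ aSub A huc := inducedBy_le A huc
  have key := ga (G := MulAut W) (p := p) (Ext := Ext) (B.syl hW) hP ?_ ?_ ?_ ?_ ?_
  · have hQ₀ : autInducedBy X W ≤ autInducedBy T W := autInducedBy_mono W (hXN.trans inf_le_left)
    refine key _ hQ₀ c hc ?_ X hWX hXN ?_
    · rintro _ ⟨q, hq, rfl⟩
      obtain ⟨x, hx, ex⟩ := inT_iff.1 hq
      obtain ⟨t, ht, et⟩ := hcond x hx.1
      refine inT_iff.2 ⟨t, ht, fun z hz => ?_⟩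
      show autFun (c * q * c⁻¹) z = _
      have hz' : autFun c⁻¹ z ∈ W := autFun_mem _ hz
      have := et _ hz'
      rw [autFun_apply_inv, ← ex _ hz'] at this
      rw [autFun_mul_apply, autFun_mul_apply]
      exact this
    · intro x hx
      have hxN := hXN hx
      exact ⟨normAct W hxN.2, inT_iff.2 ⟨x, ⟨hx, hxN.2⟩, fun w hw => normAct_fun hxN.2 hw⟩, fun w hw => normAct_fun hxN.2 hw⟩
  · -- `p'`-elements
    intro Q hQ c' hc' hn hm X' hWX' hX'N hQc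
    let XQ : Subgroup Ω :=
      { carrier := {y | y ∈ normalizerIn T W ∧ ∃ q ∈ Q, ∀ w ∈ W, autFun q w = y * w * y⁻¹}
        one_mem' := ⟨(normalizerIn T W).one_mem, 1, Q.one_mem, fun w _ => by
          rw [autFun_one_apply]; simp⟩
        mul_mem' := by
          rintro y₁ y₂ ⟨h1, q₁, hq₁, e₁⟩ ⟨h2, q₂, hq₂, e₂⟩
          refine ⟨(normalizerIn T W).mul_mem h1 h2, q₁ * q₂, Q.mul_mem hq₁ hq₂, fun w hw => ?_⟩
          rw [autFun_mul_apply, e₂ w hw, e₁ _ (norm_conj h2.2 hw)]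
          simp only [mul_inv_rev, mul_assoc]
        inv_mem' := by
          rintro y ⟨h1, q, hq, e⟩
          refine ⟨(normalizerIn T W).inv_mem h1, q⁻¹, Q.inv_mem hq, fun w hw => ?_⟩
          have hw' : y⁻¹ * w * y⁻¹⁻¹ ∈ W := norm_conj (Subgroup.inv_mem _ h1.2) hw
          have h3 := e _ hw'
          have h4 : y * (y⁻¹ * w * y⁻¹⁻¹) * y⁻¹ = w := by group
          rw [h4] at h3
          rw [← h3, autFun_inv_apply, h3] }
    have hWXQ : W ≤ XQ := by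
      intro w hw
      refine ⟨le_normalizerIn hWT hw, ?_⟩
      have hx : w ∈ X' := hWX' hw
      obtain ⟨q, hq, e⟩ := hQc w hx
      exact ⟨q, hq, e⟩
    have hX'XQ : X' ≤ XQ := fun x hx => ⟨hX'N hx, hQc x hx⟩
    obtain ⟨m, hm1, hm2⟩ := hm
    have hit : ∃ m : ℕ, m.Coprime p ∧ ∀ x ∈ W, (autFun c')^[m] x = x := by
      refine ⟨m, hm1, fun x hx => ?_⟩
      rw [show x = ((⟨x, hx⟩ : W) : Ω) from rfl, iterate_autFun, hm2]
      rfl
    obtain ⟨f', hf', ef'⟩ := B.ext hW hc' hit hWXQ (fun y hy => hy.1) (by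
      rintro y ⟨hy, q, hq, e⟩
      have h1 : c' * q * c'⁻¹ ∈ Q := by
        have := (Subgroup.mem_normalizer_iff.1 hn q).1 hq
        exact this
      obtain ⟨y', hy', e'⟩ := inT_iff.1 (hQ h1)
      refine ⟨y', ⟨hy', _, h1, e'⟩, fun w hw => ?_⟩
      rw [← e' _ (autFun_mem _ hw), conj_fun, e w hw])
    exact ⟨f', Dp.edge A hf' hX'XQ, ef'⟩
  · -- elements of `Aut_T(W)`
    intro Q hQ t₀ ht₀ _ X' hWX' hX'N hQc
    obtain ⟨t, ht, e⟩ := inT_iff.1 ht₀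
    exact ⟨fun x => t * x * t⁻¹, conj_Dp A ht.1 ((hX'N.trans inf_le_left)), fun w hw => (e w hw).symm⟩
  · -- composition
    intro Q hQ c₁ hc₁ c₂ hc₂ hle h1 h2 X' hWX' hX'N hQc
    obtain ⟨ĉ, hĉ, eĉ⟩ := h1 X' hWX' hX'N hQc
    obtain ⟨Y₁, hY₁⟩ := (hĉ.mp A).exists_img
    have hWY₁ : W ≤ Y₁ := by
      intro w hw
      have h3 : autFun c₁⁻¹ w ∈ W := autFun_mem _ hw
      have := hY₁.1 _ (hWX' h3)
      rwa [eĉ _ h3, autFun_apply_inv] at this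
    have hX'T : X' ≤ T := hX'N.trans inf_le_left
    have hnorm : Y₁ ≤ normalizerIn T W := by
      intro y hy
      obtain ⟨x, hx, rfl⟩ := hY₁.2 y hy
      refine ⟨hĉ.mem_T A hx, Cfsg.Agent.Lib.FusionExt.LowPi.mem_normalizer_of_conj_le' (fun z hz => ?_)⟩
      have h3 : autFun c₁⁻¹ z ∈ W := autFun_mem _ hz
      have h4 := map_conj_Dp A hĉ hx (hWX' h3)
      rw [eĉ _ h3, autFun_apply_inv, eĉ _ ?_] at h4
      · rw [← h4]
        exact autFun_mem _ (norm_conj (hX'N hx).2 h3)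
      · exact norm_conj (hX'N hx).2 h3
    obtain ⟨ĉ', hĉ', eĉ'⟩ := h2 Y₁ hWY₁ hnorm (by
      intro y hy
      obtain ⟨x, hx, rfl⟩ := hY₁.2 y hy
      obtain ⟨q, hq, e⟩ := hQc x hx
      refine ⟨c₁ * q * c₁⁻¹, conj_mem_conjMap hq, fun w hw => ?_⟩
      have h3 : autFun c₁⁻¹ w ∈ W := autFun_mem _ hw
      have h4 := map_conj_Dp A hĉ hx (hWX' h3)
      rw [eĉ _ h3, autFun_apply_inv, eĉ _ (norm_conj (hX'N hx).2 h3)] at h4
      rw [autFun_mul_apply, autFun_mul_apply, e _ h3]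
      exact h4)
    refine ⟨_, hĉ.comp A hY₁.1 hĉ', fun w hw => ?_⟩
    show ĉ' (ĉ w) = _
    rw [eĉ w hw, eĉ' _ (autFun_mem _ hw), autFun_mul_apply]
  · -- inverse
    intro Q hQ c₁ hc₁ hle h1 X' hWX' hX'N hQc
    let X₀ : Subgroup Ω :=
      { carrier := {y | y ∈ normalizerIn T W ∧ ∃ x ∈ X', ∀ w ∈ W, autFun c₁ (y * w * y⁻¹) = x * autFun c₁ w * x⁻¹}
        one_mem' := ⟨(normalizerIn T W).one_mem, 1, X'.one_mem, fun w _ => by simp⟩
        mul_mem' := by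
          rintro y₁ y₂ ⟨h1, x₁, hx₁, e₁⟩ ⟨h2, x₂, hx₂, e₂⟩
          refine ⟨(normalizerIn T W).mul_mem h1 h2, x₁ * x₂, X'.mul_mem hx₁ hx₂, fun w hw => ?_⟩
          have h3 := e₁ _ (norm_conj h2.2 hw)
          rw [e₂ w hw] at h3
          have e3 : y₁ * y₂ * w * (y₁ * y₂)⁻¹ = y₁ * (y₂ * w * y₂⁻¹) * y₁⁻¹ := by group
          rw [e3, h3]
          group
        inv_mem' := by
          rintro y ⟨h1, x, hx, e⟩
          refine ⟨(normalizerIn T W).inv_mem h1, x⁻¹, X'.inv_mem hx, fun w hw => ?_⟩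
          have hw' : y⁻¹ * w * y⁻¹⁻¹ ∈ W := norm_conj (Subgroup.inv_mem _ h1.2) hw
          have h3 := e _ hw'
          have h4 : y * (y⁻¹ * w * y⁻¹⁻¹) * y⁻¹ = w := by group
          rw [h4] at h3
          rw [h3]
          group }
    have hX₀N : X₀ ≤ normalizerIn T W := fun y hy => hy.1
    have hWX₀ : W ≤ X₀ := by
      intro w₀ hw₀
      refine ⟨le_normalizerIn hWT hw₀, autFun c₁ w₀, hWX' (autFun_mem _ hw₀), fun w hw => ?_⟩
      rw [autFun_mul c₁ (W.mul_mem hw₀ hw) (W.inv_mem hw₀), autFun_mul c₁ hw₀ hw, autFun_inv' c₁ hw₀]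
    obtain ⟨ĉ, hĉ, eĉ⟩ := h1 X₀ hWX₀ hX₀N (by
      rintro y ⟨hy, x, hx, e⟩
      obtain ⟨q', hq', e'⟩ := hQc x hx
      refine ⟨c₁⁻¹ * q' * c₁, mem_conjMap.1 hq', fun w hw => ?_⟩
      rw [autFun_mul_apply, autFun_mul_apply, e' _ (autFun_mem _ hw), ← e w hw, autFun_inv_apply])
    have hfwd : ∀ y ∈ normalizerIn T W, ∀ x ∈ X', (∀ w ∈ W, autFun c₁ (y * w * y⁻¹) = x * autFun c₁ w * x⁻¹) → x⁻¹ * ĉ y ∈ W := by
      intro y hy x hx e
      refine hcz ?_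
      have hyX₀ : y ∈ X₀ := ⟨hy, x, hx, e⟩
      refine mem_zz.2 ⟨T.mul_mem (T.inv_mem ((hX'N hx).1)) (hĉ.mem_T A hyX₀), fun z hz => ?_⟩
      have hz' : autFun c₁⁻¹ z ∈ W := autFun_mem _ hz
      have h3 := map_conj_Dp A hĉ hyX₀ (hWX₀ hz')
      rw [eĉ _ hz', autFun_apply_inv, eĉ _ (norm_conj hy.2 hz'), e _ hz', autFun_apply_inv] at h3
      have h4 : ĉ y * z = x * z * x⁻¹ * ĉ y := by
        rw [h3]
        group
      calc z * (x⁻¹ * ĉ y) = x⁻¹ * (x * z * x⁻¹ * ĉ y) := by group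
        _ = x⁻¹ * (ĉ y * z) := by rw [h4]
        _ = x⁻¹ * ĉ y * z := by group
    have hI : Img X₀ ĉ X' := by
      refine ⟨fun y hy => ?_, fun x hx => ?_⟩
      · obtain ⟨hyN, x, hx, e⟩ := hy
        have := X'.mul_mem hx (hWX' (hfwd y hyN x hx e))
        simpa using this
      · obtain ⟨q', hq', e'⟩ := hQc x hx
        obtain ⟨y, hy, ey⟩ := inT_iff.1 (hQ (mem_conjMap.1 hq'))
        have e₃ : ∀ w ∈ W, autFun c₁ (y * w * y⁻¹) = x * autFun c₁ w * x⁻¹ := by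
          intro w hw
          rw [← ey w hw, autFun_mul_apply, autFun_mul_apply, autFun_apply_inv, e' _ (autFun_mem _ hw)]
        have hyX₀ : y ∈ X₀ := ⟨hy, x, hx, e₃⟩
        have hu := hfwd y hy x hx e₃
        set u := x⁻¹ * ĉ y with hu'
        have hui : autFun c₁⁻¹ u⁻¹ ∈ W := autFun_mem _ (W.inv_mem hu)
        refine ⟨y * autFun c₁⁻¹ u⁻¹, X₀.mul_mem hyX₀ (hWX₀ hui), ?_⟩
        rw [(hĉ.mp A).map_mul hyX₀ (hWX₀ hui), eĉ _ hui, autFun_apply_inv, hu']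
        group
    obtain ⟨k, hk, hk1, hk2, hk3⟩ := hĉ.inv A hI
    refine ⟨k, hk, fun w hw => ?_⟩
    have hw' : autFun c₁⁻¹ w ∈ W := autFun_mem _ hw
    have := hk1 _ (hWX₀ hw')
    rwa [eĉ _ hw', autFun_apply_inv] at this
  · -- restriction
    intro Q Q' c₁ hQQ' _ _ _ h1 X' hWX' hX'N hQc
    refine h1 X' hWX' hX'N (fun x hx => ?_)
    obtain ⟨q, hq, e⟩ := hQc x hx
    exact ⟨q, hQQ' hq, e⟩

end main

end Cfsg.Agent.Lib.FusionExt.Glue2
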