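import Cfsg.Agent.Lib.FusionExt.Glue2

/-!
# Gluing: the main induction (helper92)
-/

set_option autoImplicit false
set_option linter.unusedSectionVars false

namespace Cfsg.Agent.Lib.FusionExt.Glue3

open Cfsg Cfsg.FusionSystem Cfsg.Agent.Lib.Fusion.Basic Cfsg.Agent.Lib.Fusion.GroupSystem
open Cfsg.Agent.Lib.FusionExt.MapApi Cfsg.Agent.Lib.FusionExt.PowerSys Cfsg.Agent.Lib.FusionExt.LowPi
open Cfsg.Agent.Lib.FusionExt.PrimeRes1 Cfsg.Agent.Lib.Fusion.Saturation Cfsg.Agent.Lib.Fusion.Saturation2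
open Cfsg.Agent.Lib.FusionExt.Glue1 Cfsg.Agent.Lib.FusionExt.Glue2 Cfsg.Agent.Lib.FusionExt.CentE

universe u

variable {Ω : Type u} [Group Ω] {S T : Subgroup Ω} {F : FusionSystem S} {p : ℕ}
variable {X Y Z P Q R U W : Subgroup Ω} {f g h φ ψ a δ κ π ξ : Ω → Ω} {Aa : Subgroup Ω → (Ω → Ω) → Prop}
variable [Finite S] [Fact p.Prime] {Fl' : Subgroup Ω → Prop}

/-- A member of the family that is trivial on `W` and acts trivially modulo `C_T(W)` is induced by `Z(W)`. -/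
theorem a6core (hTp : IsPGroup p T) (A : Fam F T Aa) (B : FlS A p Fl') (hκ : Aa Y κ) (hWY : W ≤ Y) (hW : Uc F T W)
    (hid : ∀ w ∈ W, κ w = w) (hst : ∀ y ∈ Y, y⁻¹ * κ y ∈ zz T W) : ∃ z ∈ W, ∀ y ∈ Y, κ y = z * y * z⁻¹ := by
  have hTS : T ≤ S := A.sc.1
  haveI : Finite T := finite_of_le hTS
  have hcz : zz T W ≤ W := hW.self hTS
  obtain ⟨W₃, δ, hfl, hδ, hδi⟩ := B.exist (A.uc hκ)
  have hδF := hδ.mp A
  obtain ⟨κ₃, hκ₃, e₃⟩ := A.tr hκ hδF hδi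
  obtain ⟨α, hα, eα⟩ := exists_aut A hκ₃
  have huW₃ := B.uc hfl
  haveI : Finite W₃ := finite_of_le (huW₃.1.trans hTS)
  haveI : Finite (MulAut W₃) := Cfsg.Agent.Lib.Fusion.Basic.finite_mulAut_of_finite (A := W₃)
  obtain ⟨k, hk⟩ := IsPGroup.iff_card.1 hTp
  have hpow : ∀ u ∈ T, u ^ p ^ k = 1 := by
    intro u hu
    have := pow_card_eq_one' (x := (⟨u, hu⟩ : T))
    rw [hk] at this
    exact congrArg Subtype.val this
  have hmp := (A.mp hκ)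
  have hit : ∀ (m : ℕ), ∀ y ∈ Y, κ^[m] y = y * (y⁻¹ * κ y) ^ m := by
    intro m
    induction m with
    | zero => intro y _; simp
    | succ m ih =>
      intro y hy
      rw [Function.iterate_succ_apply', ih y hy]
      have hu : y⁻¹ * κ y ∈ W := hcz (hst y hy)
      rw [hmp.map_mul hy (hWY (W.pow_mem hu m)), hid _ (W.pow_mem hu m), pow_succ', ← mul_assoc, mul_inv_cancel_left]
  have hαm : ∀ (m : ℕ), ∀ y ∈ Y, autFun (α ^ m) (δ y) = δ (κ^[m] y) := by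
    intro m
    induction m with
    | zero =>
      intro y _
      simp only [pow_zero, Function.iterate_zero, id]
      exact autFun_one_apply _
    | succ m ih =>
      intro y hy
      rw [pow_succ', autFun_mul_apply, ih y hy, Function.iterate_succ_apply']
      have hmem : κ^[m] y ∈ Y := by
        rw [hit m y hy]
        exact Y.mul_mem hy (hWY (W.pow_mem (hcz (hst y hy)) m))
      rw [eα _ (hδi.1 _ hmem), e₃ _ hmem]
  have hone : α ^ p ^ k = 1 := by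
    apply eq_one_of_fun
    intro x hx
    obtain ⟨y, hy, rfl⟩ := hδi.2 x hx
    rw [hαm _ y hy, hit _ y hy, hpow _ (hst y hy).1, mul_one]
  let C : Subgroup (MulAut W₃) := Subgroup.zpowers α
  have hCle : C ≤ aSub A huW₃ := Subgroup.zpowers_le.2 hα
  have hCp : IsPGroup p C := by
    refine Cfsg.Agent.Lib.FusionExt.Normal.isPGroup_of_pow_eq_one (fun β hβ => ?_)
    obtain ⟨i, rfl⟩ := Subgroup.mem_zpowers_iff.1 hβ
    refine ⟨k, ?_⟩
    rw [← zpow_natCast, ← zpow_mul, mul_comm, zpow_mul, zpow_natCast, hone, one_zpow]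
  obtain ⟨g₀, hg₀, hgc⟩ := (B.syl hfl).exists_conj hCle hCp
  obtain ⟨t, ht, et⟩ := inT_iff.1 (hgc α (Subgroup.mem_zpowers α))
  have hg₀F := A.mp hg₀
  let ζ : Ω → Ω := fun y => autFun g₀ (δ y)
  have hζ : Mp F Y ζ := hδF.comp hδi.1 hg₀F
  have hζi : Img Y ζ W₃ := hδi.comp (img_autFun g₀)
  obtain ⟨W', hW'⟩ := (hζ.restrict hWY).exists_img
  have hucW' : Uc F T W' := hW.conj A.sc (hζ.restrict hWY) hW'
  have hact : ∀ y ∈ Y, t * ζ y * t⁻¹ = ζ (κ y) := by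
    intro y hy
    rw [← et _ (hζi.1 y hy)]
    show autFun (g₀ * α * g₀⁻¹) (autFun g₀ (δ y)) = autFun g₀ (δ (κ y))
    rw [conj_fun, eα _ (hδi.1 y hy), e₃ y hy]
  have htz : t ∈ zz T W' := by
    refine mem_zz.2 ⟨ht.1, fun y hy => ?_⟩
    obtain ⟨w, hw, rfl⟩ := hW'.2 y hy
    have h1 := hact w (hWY hw)
    rw [hid w hw] at h1
    calc ζ w * t = t * ζ w * t⁻¹ * t := by rw [h1]
      _ = t * ζ w := by group
  obtain ⟨z, hz, rfl⟩ := hW'.2 t (hucW'.self hTS htz)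
  refine ⟨z, hz, fun y hy => ?_⟩
  have hκy : κ y ∈ Y := (A.img hκ).1 y hy
  apply hζ.inj hκy (Y.mul_mem (Y.mul_mem (hWY hz) hy) (Y.inv_mem (hWY hz)))
  rw [← hact y hy, hζ.map_conj (hWY hz) hy]

/-- A member of the family that induces an element of `N_T(W)` on `W` is induced by an element normalizing `W`. -/
theorem a6 (hTp : IsPGroup p T) (A : Fam F T Aa) (B : FlS A p Fl') (hπ : Aa Y π) (hWY : W ≤ Y) (hW : Uc F T W)
    (hYN : Y ≤ normalizerIn T W) {t : Ω} (ht : t ∈ normalizerIn T W) (hπt : ∀ w ∈ W, π w = t * w * t⁻¹) :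
    ∃ s ∈ normalizerIn T W, s ∈ normalizerIn T Y ∧ ∀ y ∈ Y, π y = s * y * s⁻¹ := by
  have hTS : T ≤ S := A.sc.1
  have hYT : Y ≤ T := hYN.trans inf_le_left
  haveI : Finite Y := finite_of_le (hYT.trans hTS)
  have hcz : zz T W ≤ W := hW.self hTS
  have hmp := A.mp hπ
  have hu : ∀ y ∈ Y, (π y)⁻¹ * (t * y * t⁻¹) ∈ zz T W := by
    intro y hy
    have hπy : π y ∈ T := hYT ((A.img hπ).1 y hy)
    refine mem_zz.2 ⟨T.mul_mem (T.inv_mem hπy) (T.mul_mem (T.mul_mem ht.1 (hYT hy)) (T.inv_mem ht.1)), fun z hz => ?_⟩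
    have hw : t⁻¹ * z * t ∈ W := conj_inv_mem ht.2 hz
    have hwY := hWY hw
    have h1 := hmp.map_conj hy hwY
    rw [hπt _ hw, hπt _ (norm_conj (hYN hy).2 hw)] at h1
    have e1 : t * (t⁻¹ * z * t) * t⁻¹ = z := by group
    rw [e1] at h1
    have h2 : t * y * t⁻¹ * z * (t * y * t⁻¹)⁻¹ = π y * z * (π y)⁻¹ := by
      rw [← h1]
      group
    have h3 : (t * y * t⁻¹) * z = π y * z * (π y)⁻¹ * (t * y * t⁻¹) := by
      rw [← h2]
      group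
    calc z * ((π y)⁻¹ * (t * y * t⁻¹)) = (π y)⁻¹ * (π y * z * (π y)⁻¹ * (t * y * t⁻¹)) := by group
      _ = (π y)⁻¹ * ((t * y * t⁻¹) * z) := by rw [h3]
      _ = _ := by group
  have htN : t ∈ normalizerIn T Y := by
    refine ⟨ht.1, mem_normalizer_of_conj_le' (fun y hy => ?_)⟩
    have h1 := Y.mul_mem ((A.img hπ).1 y hy) (hWY (hcz (hu y hy)))
    simpa using h1
  let κ : Ω → Ω := fun y => t⁻¹ * π y * t⁻¹⁻¹
  have hκ : Aa Y κ := A.comp hπ (A.inner (A.uc hπ) ((normalizerIn T Y).inv_mem htN))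
  have hid : ∀ w ∈ W, κ w = w := by
    intro w hw
    show t⁻¹ * π w * t⁻¹⁻¹ = w
    rw [hπt w hw]
    group
  have hst : ∀ y ∈ Y, y⁻¹ * κ y ∈ zz T W := by
    intro y hy
    have hU := hu y hy
    set v := (π y)⁻¹ * (t * y * t⁻¹) with hv
    have e1 : y⁻¹ * κ y = t⁻¹ * v⁻¹ * t := by
      show y⁻¹ * (t⁻¹ * π y * t⁻¹⁻¹) = _
      rw [hv]
      group
    rw [e1]
    have hv' := (mem_zz.1 hU)
    refine mem_zz.2 ⟨T.mul_mem (T.mul_mem (T.inv_mem ht.1) (T.inv_mem hv'.1)) ht.1, fun z hz => ?_⟩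
    have hz' : t * z * t⁻¹ ∈ W := norm_conj ht.2 hz
    have h2 := hv'.2 _ hz'
    have h3 : (t * z * t⁻¹) * v⁻¹ = v⁻¹ * (t * z * t⁻¹) := by
      rw [eq_inv_mul_iff_mul_eq, ← mul_assoc, h2.symm]
      simp
    calc z * (t⁻¹ * v⁻¹ * t) = t⁻¹ * ((t * z * t⁻¹) * v⁻¹) * t := by group
      _ = t⁻¹ * (v⁻¹ * (t * z * t⁻¹)) * t := by rw [h3]
      _ = _ := by group
  obtain ⟨z, hz, ez⟩ := a6core hTp A B hκ hWY hW hid hst
  have hzN : z ∈ normalizerIn T W := le_normalizerIn hW.1 hz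
  refine ⟨t * z, (normalizerIn T W).mul_mem ht hzN, (normalizerIn T Y).mul_mem htN (le_normalizerIn hYT (hWY hz)), fun y hy => ?_⟩
  have h1 := ez y hy
  have h2 : t⁻¹ * π y * t⁻¹⁻¹ = z * y * z⁻¹ := h1
  have h3 : π y = t * (t⁻¹ * π y * t⁻¹⁻¹) * t⁻¹ := by group
  rw [h3, h2]
  group

theorem comm_of_conj {a b w : Ω} (h : a * w * a⁻¹ = b * w * b⁻¹) : w * (b⁻¹ * a) = (b⁻¹ * a) * w := by
  have h4 : a * w = b * w * b⁻¹ * a := by
    rw [← h]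
    group
  calc w * (b⁻¹ * a) = b⁻¹ * (b * w * b⁻¹ * a) := by group
    _ = b⁻¹ * (a * w) := by rw [h4]
    _ = _ := by group

/-- Loops at `X` are in the family. -/
def Lp (T : Subgroup Ω) (Aa : Subgroup Ω → (Ω → Ω) → Prop) (X : Subgroup Ω) : Prop :=
  ∀ f, Dp T Aa X f → Img X f X → Aa X f

/-- Extension of paths out of `X`. -/
def II (T : Subgroup Ω) (Aa : Subgroup Ω → (Ω → Ω) → Prop) (X : Subgroup Ω) : Prop :=
  ∀ τ Y', Dp T Aa X τ → Img X τ Y' → ∀ Z, X ≤ Z → Z ≤ normalizerIn T X →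
    (∀ z ∈ Z, ∃ t ∈ normalizerIn T Y', ∀ x ∈ X, τ (z * x * z⁻¹) = t * τ x * t⁻¹) →
    ∃ τ', Dp T Aa Z τ' ∧ ∀ x ∈ X, τ' x = τ x

theorem Aa_id (A : Fam F T Aa) (h : Uc F T W) : Aa W (fun x => x) := by
  have h1 : Aa W (fun x => (1 : Ω) * x * (1 : Ω)⁻¹) := A.inner h ⟨T.one_mem, Subgroup.one_mem _⟩
  exact A.congr h1 (fun x _ => by simp)

/-- The upward step. -/
theorem up_step (hTp : IsPGroup p T) (A : Fam F T Aa) (B : FlS A p Fl') (hW : Fl' W) (hU : Uc F T U)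
    (IH : ∀ X : Subgroup Ω, Nat.card U < Nat.card X → Uc F T X → Lp T Aa X ∧ II T Aa X) :
    ∀ (d : ℕ) (Y : Subgroup Ω) (ξ : Ω → Ω), Nat.card (normalizerIn T U) - Nat.card Y = d → U < Y → Y ≤ normalizerIn T U →
      Dp T Aa Y ξ → Img U ξ W → (∀ y ∈ Y, ξ y ∈ normalizerIn T W) →
      ∃ c ν, Aa W c ∧ Dp T Aa (normalizerIn T U) ν ∧ (∀ y ∈ normalizerIn T U, ν y ∈ normalizerIn T W) ∧ ∀ x ∈ U, ν x = c (ξ x) := by
  have hTS : T ≤ S := A.sc.1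
  have huW := B.uc hW
  haveI : Finite T := finite_of_le hTS
  haveI : Finite W := finite_of_le (huW.1.trans hTS)
  haveI : Finite (MulAut W) := Cfsg.Agent.Lib.Fusion.Basic.finite_mulAut_of_finite (A := W)
  have hNT : normalizerIn T U ≤ T := inf_le_left
  have hNS : normalizerIn T U ≤ S := hNT.trans hTS
  have hNp : IsPGroup p (normalizerIn T U) := hTp.to_le hNT
  haveI : Finite (normalizerIn T U) := finite_of_le hNS
  intro d
  induction d using Nat.strong_induction_on with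
  | _ d ih =>
  intro Y ξ hd hUY hYN hξ hξU hξN
  by_cases hYe : Y = normalizerIn T U
  · subst hYe
    exact ⟨fun x => x, ξ, Aa_id A huW, hξ, hξN, fun _ _ => rfl⟩
  have hYlt : Y < normalizerIn T U := lt_of_le_of_ne hYN hYe
  have hYT : Y ≤ T := hYN.trans hNT
  haveI : Finite Y := finite_of_le (hYT.trans hTS)
  set Yh : Subgroup Ω := normalizerIn (normalizerIn T U) Y with hYh
  have hYYh : Y < Yh := lt_normalizerIn hNp hYlt
  have hYhN : Yh ≤ normalizerIn T U := inf_le_left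
  have hYhT : Yh ≤ T := hYhN.trans hNT
  have hcYYh : Nat.card Y < Nat.card Yh := Cfsg.Agent.Lib.FusionExt.SatCrit1.card_lt_of_lt (S := S) hYYh.le hYYh.ne (hYhT.trans hTS)
  have hcUY : Nat.card U < Nat.card Y := Cfsg.Agent.Lib.FusionExt.SatCrit1.card_lt_of_lt (S := S) hUY.le hUY.ne (hYT.trans hTS)
  have hξm := hξ.mp A
  obtain ⟨Y₂, hY₂⟩ := hξm.exists_img
  obtain ⟨k, hk, k1, k2, k3⟩ := hξ.inv A hY₂
  have hWY₂ : W ≤ Y₂ := by
    intro w hw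
    obtain ⟨u, hu, rfl⟩ := hξU.2 w hw
    exact hY₂.1 u (hUY.le hu)
  have hucY : Uc F T Y := hU.up hUY.le hYT
  have hucY₂ : Uc F T Y₂ := hucY.conj A.sc hξm hY₂
  have hcY₂ : Nat.card Y₂ = Nat.card Y := hξm.card_img hY₂
  have hkU : ∀ w ∈ W, k w ∈ U := by
    intro w hw
    obtain ⟨u, hu, rfl⟩ := hξU.2 w hw
    rw [k1 u (hUY.le hu)]
    exact hu
  -- conjugation by `y` through `ξ`
  let π₂ : Ω → Ω → Ω := fun y z => ξ (y * k z * y⁻¹)
  have hyY : ∀ y ∈ Yh, ∀ x ∈ Y, y * x * y⁻¹ ∈ Y := fun y hy x hx => norm_conj hy.2 hx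
  have hπD : ∀ y ∈ Yh, Dp T Aa Y₂ (π₂ y) := by
    intro y hy
    have h1 : Dp T Aa Y₂ (fun z => y * k z * y⁻¹) := hk.comp A k3.1 (conj_Dp A (hYhT hy) hYT)
    exact h1.comp A (fun z hz => hyY y hy _ (k3.1 z hz)) hξ
  have hπI : ∀ y ∈ Yh, Img Y₂ (π₂ y) Y₂ := by
    intro y hy
    refine img_self ((hπD y hy).mp A) (fun z hz => hY₂.1 _ (hyY y hy _ (k3.1 z hz)))
  have hπA : ∀ y ∈ Yh, Aa Y₂ (π₂ y) := fun y hy =>
    (IH Y₂ (by rw [hcY₂]; exact hcUY) hucY₂).1 _ (hπD y hy) (hπI y hy)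
  have hπW : ∀ y ∈ Yh, ∀ w ∈ W, π₂ y w ∈ W := by
    intro y hy w hw
    have h1 : y * k w * y⁻¹ ∈ U := norm_conj (hYhN hy).2 (hkU w hw)
    exact hξU.1 _ h1
  have hπWI : ∀ y ∈ Yh, Img W (π₂ y) W := fun y hy =>
    img_self (((hπD y hy).mp A).restrict hWY₂) (hπW y hy)
  have hπWA : ∀ y ∈ Yh, Aa W (π₂ y) := fun y hy => A.res (hπA y hy) huW hWY₂ (hπWI y hy)
  have hπmul : ∀ y₁ ∈ Yh, ∀ y₂ ∈ Yh, ∀ w ∈ W, π₂ y₁ (π₂ y₂ w) = π₂ (y₁ * y₂) w := by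
    intro y₁ hy₁ y₂ hy₂ w hw
    show ξ (y₁ * k (ξ (y₂ * k w * y₂⁻¹)) * y₁⁻¹) = ξ ((y₁ * y₂) * k w * (y₁ * y₂)⁻¹)
    rw [k1 _ (hyY y₂ hy₂ _ (hUY.le (hkU w hw)))]
    congr 1
    group
  have hπone : ∀ w ∈ W, π₂ 1 w = w := by
    intro w hw
    show ξ (1 * k w * 1⁻¹) = w
    rw [one_mul, inv_one, mul_one, k2 w (hWY₂ hw)]
  -- the `p`-group of induced automorphisms of `W`
  let P₀ : Subgroup (MulAut W) := finSub
    { carrier := {α | α ∈ aSub A huW ∧ ∃ y ∈ Yh, ∀ w ∈ W, autFun α w = π₂ y w}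
      one_mem' := ⟨Subgroup.one_mem _, 1, Yh.one_mem, fun w hw => by rw [autFun_one_apply, hπone w hw]⟩
      mul_mem' := by
        rintro α₁ α₂ ⟨h1, y₁, hy₁, e₁⟩ ⟨h2, y₂, hy₂, e₂⟩
        refine ⟨Subgroup.mul_mem _ h1 h2, y₁ * y₂, Yh.mul_mem hy₁ hy₂, fun w hw => ?_⟩
        rw [autFun_mul_apply, e₂ w hw, e₁ _ (hπW y₂ hy₂ w hw), hπmul y₁ hy₁ y₂ hy₂ w hw] }
  have hP₀le : P₀ ≤ aSub A huW := fun α hα => hα.1
  have hP₀p : IsPGroup p P₀ := by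
    refine Cfsg.Agent.Lib.FusionExt.Normal.isPGroup_of_pow_eq_one (fun α hα => ?_)
    obtain ⟨-, y, hy, ey⟩ := hα
    obtain ⟨j, hj⟩ := hTp ⟨y, hYhT hy⟩
    have hj' : y ^ p ^ j = 1 := congrArg Subtype.val hj
    refine ⟨j, eq_one_of_fun (fun w hw => ?_)⟩
    have hgen : ∀ (m : ℕ), ∀ w ∈ W, autFun (α ^ m) w = π₂ (y ^ m) w := by
      intro m
      induction m with
      | zero =>
        intro w hw
        rw [pow_zero, pow_zero, autFun_one_apply, hπone w hw]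
      | succ m ihm =>
        intro w hw
        rw [pow_succ, pow_succ, autFun_mul_apply, ey w hw, ihm _ (hπW y hy w hw), hπmul _ (Yh.pow_mem hy m) y hy w hw]
    rw [hgen _ w hw, hj', hπone w hw]
  obtain ⟨c₀, hc₀, hc₀P⟩ := (B.syl hW).exists_conj hP₀le hP₀p
  have hα : ∀ y ∈ Yh, ∃ t ∈ normalizerIn T W, ∀ w ∈ W, autFun c₀ (π₂ y w) = t * autFun c₀ w * t⁻¹ := by
    intro y hy
    obtain ⟨α, hα, eα⟩ := exists_aut A (hπWA y hy)
    have hαP : α ∈ P₀ := ⟨hα, y, hy, eα⟩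
    obtain ⟨t, ht, et⟩ := inT_iff.1 (hc₀P α hαP)
    refine ⟨t, ht, fun w hw => ?_⟩
    rw [← et _ (autFun_mem _ hw), conj_fun, eα w hw]
  -- extension of `c₀` over `Y₂`
  have hY₂N : Y₂ ≤ normalizerIn T W := by
    intro y hy
    obtain ⟨x, hx, rfl⟩ := hY₂.2 y hy
    exact hξN x hx
  have hπY : ∀ y ∈ Y, ∀ w ∈ W, π₂ y w = ξ y * w * (ξ y)⁻¹ := by
    intro y hy w hw
    show ξ (y * k w * y⁻¹) = _
    rw [map_conj_Dp A hξ hy (hUY.le (hkU w hw)), k2 w (hWY₂ hw)]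
  obtain ⟨ĉ, hĉ, eĉ⟩ := ext_full A B hW hc₀ hWY₂ hY₂N (by
    intro x hx
    obtain ⟨y, hy, rfl⟩ := hY₂.2 x hx
    obtain ⟨t, ht, et⟩ := hα y (hYYh.le hy)
    refine ⟨t, ht, fun w hw => ?_⟩
    rw [← et w hw, hπY y hy w hw])
  have hĉm := hĉ.mp A
  obtain ⟨Y₃, hY₃⟩ := hĉm.exists_img
  have hcY₃ : Nat.card Y₃ = Nat.card Y₂ := hĉm.card_img hY₃
  have hξ₁ : Dp T Aa Y (fun x => ĉ (ξ x)) := hξ.comp A hY₂.1 hĉ
  have hI₁ : Img Y (fun x => ĉ (ξ x)) Y₃ := hY₂.comp hY₃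
  have hWY₃ : W ≤ Y₃ := by
    intro w hw
    have h3 : autFun c₀⁻¹ w ∈ W := autFun_mem _ hw
    have := hY₃.1 _ (hWY₂ h3)
    rwa [eĉ _ h3, autFun_apply_inv] at this
  have hY₃T : Y₃ ≤ T := by
    intro y hy
    obtain ⟨x, hx, rfl⟩ := hY₃.2 y hy
    exact hĉ.mem_T A hx
  have hY₃N : Y₃ ≤ normalizerIn T W := by
    intro y hy
    obtain ⟨x, hx, rfl⟩ := hY₃.2 y hy
    refine ⟨hĉ.mem_T A hx, mem_normalizer_of_conj_le' (fun z hz => ?_)⟩
    have h3 : autFun c₀⁻¹ z ∈ W := autFun_mem _ hz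
    have h4 := map_conj_Dp A hĉ hx (hWY₂ h3)
    have h5 := norm_conj (hY₂N hx).2 h3
    rw [eĉ _ h3, autFun_apply_inv, eĉ _ h5] at h4
    rw [← h4]
    exact autFun_mem _ h5
  have hucY₃ : Uc F T Y₃ := hucY₂.conj A.sc hĉm hY₃
  have hcY₃' : Nat.card U < Nat.card Y₃ := by rw [hcY₃, hcY₂]; exact hcUY
  obtain ⟨k', hk', k1', k2', k3'⟩ := hξ₁.inv A hI₁
  let π₃ : Ω → Ω → Ω := fun y z => ĉ (ξ (y * k' z * y⁻¹))
  have hπ₃D : ∀ y ∈ Yh, Dp T Aa Y₃ (π₃ y) := by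
    intro y hy
    have h1 : Dp T Aa Y₃ (fun z => y * k' z * y⁻¹) := hk'.comp A k3'.1 (conj_Dp A (hYhT hy) hYT)
    have h2 := h1.comp A (Y := Y) (g := fun x => ĉ (ξ x)) (fun z hz => hyY y hy _ (k3'.1 z hz)) hξ₁
    exact h2
  have hπ₃I : ∀ y ∈ Yh, Img Y₃ (π₃ y) Y₃ := by
    intro y hy
    refine img_self ((hπ₃D y hy).mp A) (fun z hz => hI₁.1 _ (hyY y hy _ (k3'.1 z hz)))
  have hπ₃A : ∀ y ∈ Yh, Aa Y₃ (π₃ y) := fun y hy =>
    (IH Y₃ hcY₃' hucY₃).1 _ (hπ₃D y hy) (hπ₃I y hy)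
  have hs : ∀ y ∈ Yh, ∃ s ∈ normalizerIn T W, s ∈ normalizerIn T Y₃ ∧ ∀ z ∈ Y₃, π₃ y z = s * z * s⁻¹ := by
    intro y hy
    obtain ⟨t, ht, et⟩ := hα y hy
    refine a6 hTp A B (hπ₃A y hy) hWY₃ huW hY₃N ht (fun w hw => ?_)
    have h3 : autFun c₀⁻¹ w ∈ W := autFun_mem _ hw
    have hu : k (autFun c₀⁻¹ w) ∈ Y := hUY.le (hkU _ h3)
    have e1 : k' w = k (autFun c₀⁻¹ w) := by
      have h4 := k1' _ hu
      have h5 : ξ (k (autFun c₀⁻¹ w)) = autFun c₀⁻¹ w := k2 _ (hWY₂ h3)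
      show k' w = _
      have h6 : ĉ (ξ (k (autFun c₀⁻¹ w))) = w := by
        rw [h5, eĉ _ h3, autFun_apply_inv]
      simp only [h6] at h4
      exact h4
    show ĉ (ξ (y * k' w * y⁻¹)) = _
    rw [e1]
    have h6 : ξ (y * k (autFun c₀⁻¹ w) * y⁻¹) = π₂ y (autFun c₀⁻¹ w) := rfl
    rw [h6, eĉ _ (hπW y hy _ h3), et _ h3, autFun_apply_inv]
  have hcond : ∀ z ∈ Yh, ∃ t ∈ normalizerIn T Y₃, ∀ x ∈ Y, ĉ (ξ (z * x * z⁻¹)) = t * ĉ (ξ x) * t⁻¹ := by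
    intro y hy
    obtain ⟨s, -, hs', es⟩ := hs y hy
    refine ⟨s, hs', fun x hx => ?_⟩
    rw [← es _ (hI₁.1 x hx)]
    show _ = ĉ (ξ (y * k' (ĉ (ξ x)) * y⁻¹))
    rw [k1' x hx]
  obtain ⟨ξh, hξh, eξh⟩ := (IH Y (hcUY) hucY).2 _ Y₃ hξ₁ hI₁ Yh hYYh.le (fun y hy => ⟨hYhT hy, hy.2⟩) hcond
  have hcz₃ : zz T Y₃ ≤ Y₃ := hucY₃.self hTS
  have hξhN : ∀ y ∈ Yh, ξh y ∈ normalizerIn T W := by
    intro y hy
    obtain ⟨s, hsW, hs', es⟩ := hs y hy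
    have hmem : s⁻¹ * ξh y ∈ zz T Y₃ := by
      refine mem_zz.2 ⟨T.mul_mem (T.inv_mem hs'.1) (hξh.mem_T A hy), fun z hz => ?_⟩
      obtain ⟨x, hx, rfl⟩ := hI₁.2 z hz
      have hxh := hYYh.le hx
      have h1 := map_conj_Dp A hξh hy hxh
      rw [eξh _ (hyY y hy x hx), eξh x hx] at h1
      have h2 := es _ (hI₁.1 x hx)
      have h3 : ĉ (ξ (y * x * y⁻¹)) = s * ĉ (ξ x) * s⁻¹ := by
        rw [← h2]
        show _ = ĉ (ξ (y * k' (ĉ (ξ x)) * y⁻¹))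
        rw [k1' x hx]
      rw [h3] at h1
      set z₀ := ĉ (ξ x)
      have h4 : ξh y * z₀ = s * z₀ * s⁻¹ * ξh y := by
        rw [h1]
        group
      calc z₀ * (s⁻¹ * ξh y) = s⁻¹ * (s * z₀ * s⁻¹ * ξh y) := by group
        _ = s⁻¹ * (ξh y * z₀) := by rw [h4]
        _ = s⁻¹ * ξh y * z₀ := by group
    have h5 := (normalizerIn T W).mul_mem hsW (hY₃N (hcz₃ hmem))
    simpa using h5
  have hIU : Img U ξh W := by
    have h1 : Img U (fun x => autFun c₀ (ξ x)) W := hξU.comp (img_autFun c₀)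
    refine h1.congr (fun x hx => ?_)
    show autFun c₀ (ξ x) = ξh x
    rw [eξh x (hUY.le hx), eĉ _ (hξU.1 x hx)]
  have hcYhN : Nat.card Yh ≤ Nat.card (normalizerIn T U) := Subgroup.card_le_of_le hYhN
  have hcYN : Nat.card Y < Nat.card (normalizerIn T U) := lt_of_lt_of_le hcYYh hcYhN
  obtain ⟨c', ν, hc', hν, hνN, eν⟩ := ih _ (by omega) Yh ξh rfl (lt_of_lt_of_le hUY hYYh.le) hYhN hξh hIU hξhN
  refine ⟨fun z => c' (autFun c₀ z), ν, A.comp hc₀ hc', hν, hνN, fun x hx => ?_⟩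
  show ν x = c' (autFun c₀ (ξ x))
  rw [eν x hx, eξh x (hUY.le hx), eĉ _ (hξU.1 x hx)]

/-- **Nice paths**: a path to a good subgroup, after an element of the family at the target, extends to normalizers. -/
theorem nice (hTp : IsPGroup p T) (A : Fam F T Aa) (B : FlS A p Fl') {n : ℕ}
    (IH : ∀ X : Subgroup Ω, n < Nat.card X → Uc F T X → Lp T Aa X ∧ II T Aa X) {U : Subgroup Ω} {τ : Ω → Ω}
    (hd : Dp T Aa U τ) : Nat.card U = n → Uc F T U → ∀ W, Fl' W → Img U τ W →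
      ∃ γ ν, Aa W γ ∧ Dp T Aa (normalizerIn T U) ν ∧ (∀ y ∈ normalizerIn T U, ν y ∈ normalizerIn T W) ∧
        ∀ x ∈ U, ν x = γ (τ x) := by
  have hTS : T ≤ S := A.sc.1
  induction hd with
  | @nil X' f' hX h =>
    intro hn hU W hW hI
    have hXW : X' = W := by
      refine Img.unique (f := f') ?_ hI
      exact ⟨fun x hx => by rw [h x hx]; exact hx, fun y hy => ⟨y, hy, h y hy⟩⟩
    subst hXW
    exact ⟨fun x => x, fun x => x, Aa_id A hU, Dp.refl inf_le_left, fun y hy => hy, fun x hx => (h x hx).symm⟩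
  | @cons X' Y' P' g' h' f' h1 h2 h3 h4 h5 ih =>
    intro hn hU W hW hI
    have hg'm := (A.mp h1).restrict h2
    have hI' : Img Y' h' W := by
      refine ⟨fun y hy => ?_, fun z hz => ?_⟩
      · obtain ⟨x, hx, rfl⟩ := h3.2 y hy
        rw [← h5 x hx]
        exact hI.1 x hx
      · obtain ⟨x, hx, rfl⟩ := hI.2 z hz
        exact ⟨g' x, h3.1 x hx, (h5 x hx).symm⟩
    have hcY' : Nat.card Y' = n := by rw [← hn]; exact hg'm.card_img h3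
    have hucY' : Uc F T Y' := hU.conj A.sc hg'm h3
    obtain ⟨γ', ν', hγ', hν', hν'N, eν'⟩ := ih hcY' hucY' W hW hI'
    have hY'le : Y' ≤ normalizerIn T Y' := le_normalizerIn hucY'.1
    have hν'I : Img Y' ν' W := by
      have : Img Y' (fun x => γ' (h' x)) W := hI'.comp (A.img hγ')
      exact this.congr (fun x hx => (eν' x hx).symm)
    by_cases hP : X' = P'
    · subst hP
      have hYX : Y' = X' := Img.unique h3 (A.img h1)
      subst hYX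
      obtain ⟨β, hβ, eβ⟩ := A.tr h1 ((hν'.mp A).restrict hY'le) hν'I
      obtain ⟨βi, hβi, eβi⟩ := A.inv hβ
      refine ⟨fun z => βi (γ' z), ν', A.comp hγ' hβi, hν', hν'N, fun x hx => ?_⟩
      show ν' x = βi (γ' (f' x))
      rw [h5 x hx, ← eν' _ (h3.1 x hx), ← eβ x hx, eβi _ (hν'I.1 x hx)]
    · have hP'T : P' ≤ T := (A.uc h1).1
      have hlt : X' < P' := lt_of_le_of_ne h2 hP
      haveI : Finite P' := finite_of_le (hP'T.trans hTS)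
      have hXN : X' < normalizerIn P' X' := lt_normalizerIn (hTp.to_le hP'T) hlt
      have hNP : normalizerIn P' X' ≤ P' := inf_le_left
      have hNN : normalizerIn P' X' ≤ normalizerIn T X' := inf_le_inf_right _ hP'T
      haveI : Finite Y' := finite_of_le (hucY'.1.trans hTS)
      have hgN : ∀ y ∈ normalizerIn P' X', g' y ∈ normalizerIn T Y' := by
        intro y hy
        have hgy : g' y ∈ P' := (A.img h1).1 y hy.1
        refine ⟨hP'T hgy, mem_normalizer_of_conj_le' (fun z hz => ?_)⟩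
        obtain ⟨x, hx, rfl⟩ := h3.2 z hz
        rw [← (A.mp h1).map_conj hy.1 (h2 hx)]
        exact h3.1 _ (norm_conj hy.2 hx)
      have hξ : Dp T Aa (normalizerIn P' X') (fun x => ν' (g' x)) := (Dp.edge A h1 hNP).comp A hgN hν'
      have hξU : Img X' (fun x => ν' (g' x)) W := h3.comp hν'I
      have hcX : Nat.card X' = n := hn
      have IH' : ∀ X : Subgroup Ω, Nat.card X' < Nat.card X → Uc F T X → Lp T Aa X ∧ II T Aa X := by
        intro X hX hucX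
        rw [hcX] at hX
        exact IH X hX hucX
      obtain ⟨c, ν, hc, hν, hνN, eν⟩ := up_step hTp A B hW hU IH' _ _ _ rfl hXN hNN hξ hξU (fun y hy => hν'N _ (hgN y hy))
      refine ⟨fun z => c (γ' z), ν, A.comp hγ' hc, hν, hνN, fun x hx => ?_⟩
      show ν x = c (γ' (f' x))
      rw [eν x hx, h5 x hx, eν' _ (h3.1 x hx)]

theorem lp_top (A : Fam F T Aa) : ∀ {X : Subgroup Ω} {f : Ω → Ω}, Dp T Aa X f → X = T → Aa T f := by
  intro X f hd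
  induction hd with
  | @nil X' f' hX h =>
    intro e
    subst e
    exact A.congr (Aa_id A (uc_top A.sc)) (fun x hx => (h x hx).symm)
  | @cons X' Y' P' g' h' f' h1 h2 h3 h4 h5 ih =>
    intro e
    subst e
    have hP : P' = X' := le_antisymm (A.uc h1).1 h2
    subst hP
    have hY : Y' = P' := Img.unique h3 (A.img h1)
    exact A.congr (A.comp h1 (ih hY)) (fun x hx => (h5 x hx).symm)

/-- Loops. -/
theorem lp_step (hTp : IsPGroup p T) (A : Fam F T Aa) (B : FlS A p Fl') {n : ℕ}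
    (IH : ∀ X : Subgroup Ω, n < Nat.card X → Uc F T X → Lp T Aa X ∧ II T Aa X) {U : Subgroup Ω}
    (hn : Nat.card U = n) (hU : Uc F T U) : Lp T Aa U := by
  intro f hf hI
  have hTS : T ≤ S := A.sc.1
  haveI : Finite T := finite_of_le hTS
  by_cases hUT : U = T
  · subst hUT
    exact lp_top A hf rfl
  obtain ⟨W, δ, hW, hδ, hδi⟩ := B.exist hU
  have huW := B.uc hW
  have hcW : Nat.card W = n := by rw [← hn]; exact (hδ.mp A).card_img hδi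
  obtain ⟨γ₀, ν₀, hγ₀, hν₀, hν₀N, eν₀⟩ := nice hTp A B IH hδ hn hU W hW hδi
  have hUle : U ≤ normalizerIn T U := le_normalizerIn hU.1
  have hν₀U : Dp T Aa U ν₀ := hν₀.restrict A hUle
  have hν₀I : Img U ν₀ W := by
    have : Img U (fun x => γ₀ (δ x)) W := hδi.comp (A.img hγ₀)
    exact this.congr (fun x hx => (eν₀ x hx).symm)
  obtain ⟨k, hk, k1, k2, k3⟩ := hν₀U.inv A hν₀I
  have hℓ : Dp T Aa W (fun w => ν₀ (f (k w))) := (hk.comp A k3.1 hf).comp A (fun w hw => hI.1 _ (k3.1 w hw)) hν₀U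
  have hℓI : Img W (fun w => ν₀ (f (k w))) W := (k3.comp hI).comp hν₀I
  obtain ⟨γ₁, ν₁, hγ₁, hν₁, hν₁N, eν₁⟩ := nice hTp A B IH hℓ hcW huW W hW hℓI
  have hWT : W ≠ T := by
    intro e
    apply hUT
    refine Subgroup.eq_of_le_of_card_ge hU.1 ?_
    rw [hn, ← hcW, e]
  have hWlt : W < T := lt_of_le_of_ne huW.1 hWT
  have hWN : W < normalizerIn T W := lt_normalizerIn hTp hWlt
  have hNT : normalizerIn T W ≤ T := inf_le_left
  have hcN : n < Nat.card (normalizerIn T W) := by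
    rw [← hcW]
    exact Cfsg.Agent.Lib.FusionExt.SatCrit1.card_lt_of_lt (S := S) hWN.le hWN.ne (hNT.trans hTS)
  have hucN : Uc F T (normalizerIn T W) := huW.up hWN.le hNT
  have hν₁I : Img (normalizerIn T W) ν₁ (normalizerIn T W) := img_self (hν₁.mp A) hν₁N
  have hAN : Aa (normalizerIn T W) ν₁ := (IH _ hcN hucN).1 _ hν₁ hν₁I
  have hν₁W : Img W ν₁ W := by
    have : Img W (fun x => γ₁ (ν₀ (f (k x)))) W := hℓI.comp (A.img hγ₁)
    exact this.congr (fun x hx => (eν₁ x hx).symm)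
  have hAW : Aa W ν₁ := A.res hAN huW hWN.le hν₁W
  obtain ⟨γi, hγi, eγi⟩ := A.inv hγ₁
  have hℓA : Aa W (fun w => ν₀ (f (k w))) := by
    refine A.congr (A.comp hAW hγi) (fun w hw => ?_)
    show γi (ν₁ w) = _
    rw [eν₁ w hw, eγi _ (hℓI.1 w hw)]
  obtain ⟨f', hf', ef'⟩ := A.tr hℓA (hk.mp A) k3
  refine A.congr hf' (fun x hx => ?_)
  have h1 := ef' _ (hν₀I.1 x hx)
  rw [k1 x hx] at h1
  rw [h1]
  exact k1 _ (hI.1 x hx)

/-- Extensions. -/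
theorem ii_step (hTp : IsPGroup p T) (A : Fam F T Aa) (B : FlS A p Fl') {n : ℕ}
    (IH : ∀ X : Subgroup Ω, n < Nat.card X → Uc F T X → Lp T Aa X ∧ II T Aa X) {U : Subgroup Ω}
    (hn : Nat.card U = n) (hU : Uc F T U) : II T Aa U := by
  intro τ Y' hτ hI Z hUZ hZN hcond
  have hTS : T ≤ S := A.sc.1
  have hτm := hτ.mp A
  have hcY' : Nat.card Y' = n := by rw [← hn]; exact hτm.card_img hI
  have hucY' : Uc F T Y' := hU.conj A.sc hτm hI
  obtain ⟨W, δ, hW, hδ, hδi⟩ := B.exist hucY'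
  have huW := B.uc hW
  obtain ⟨γ, ν, hγ, hν, hνN, eν⟩ := nice hTp A B IH hδ hcY' hucY' W hW hδi
  have hY'le : Y' ≤ normalizerIn T Y' := le_normalizerIn hucY'.1
  have hνY' : Dp T Aa Y' ν := hν.restrict A hY'le
  have hνI : Img Y' ν W := by
    have : Img Y' (fun x => γ (δ x)) W := hδi.comp (A.img hγ)
    exact this.congr (fun x hx => (eν x hx).symm)
  have hτ₁ : Dp T Aa U (fun x => ν (τ x)) := hτ.comp A hI.1 hνY'
  have hτ₁I : Img U (fun x => ν (τ x)) W := hI.comp hνI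
  obtain ⟨γ₁, ν₁, hγ₁, hν₁, hν₁N, eν₁⟩ := nice hTp A B IH hτ₁ hn hU W hW hτ₁I
  have hUle : U ≤ normalizerIn T U := le_normalizerIn hU.1
  have hν₁I : Img U ν₁ W := by
    have : Img U (fun x => γ₁ (ν (τ x))) W := hτ₁I.comp (A.img hγ₁)
    exact this.congr (fun x hx => (eν₁ x hx).symm)
  obtain ⟨γi, hγi, eγi⟩ := A.inv hγ₁
  obtain ⟨c, hc, ec⟩ := exists_aut A hγi
  have hν₁Z : Dp T Aa Z ν₁ := hν₁.restrict A hZN
  have hν₁m := hν₁.mp A
  have hνm := hν.mp A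
  obtain ⟨Z₁, hZ₁⟩ := (hν₁Z.mp A).exists_img
  have hWZ₁ : W ≤ Z₁ := by
    intro w hw
    obtain ⟨x, hx, rfl⟩ := hν₁I.2 w hw
    exact hZ₁.1 x (hUZ hx)
  have hZ₁N : Z₁ ≤ normalizerIn T W := by
    intro y hy
    obtain ⟨z, hz, rfl⟩ := hZ₁.2 y hy
    exact hν₁N z (hZN hz)
  have hcν₁ : ∀ x ∈ U, autFun c (ν₁ x) = ν (τ x) := by
    intro x hx
    rw [ec _ (hν₁I.1 x hx), eν₁ x hx, eγi _ (hτ₁I.1 x hx)]
  obtain ⟨ĉ, hĉ, eĉ⟩ := ext_full A B hW hc hWZ₁ hZ₁N (by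
    intro y hy
    obtain ⟨z, hz, rfl⟩ := hZ₁.2 y hy
    obtain ⟨t₀, ht₀, et₀⟩ := hcond z hz
    refine ⟨ν t₀, hνN _ ht₀, fun w hw => ?_⟩
    obtain ⟨x, hx, rfl⟩ := hν₁I.2 w hw
    have hxU := hUle hx
    have hzN := hZN hz
    rw [← hν₁m.map_conj hzN hxU, hcν₁ _ (norm_conj hzN.2 hx), hcν₁ x hx, et₀ x hx]
    exact hνm.map_conj ht₀ (hY'le (hI.1 x hx)))
  have hΞ : Dp T Aa Z (fun z => ĉ (ν₁ z)) := hν₁Z.comp A hZ₁.1 hĉ
  have hΞU : ∀ x ∈ U, ĉ (ν₁ x) = ν (τ x) := by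
    intro x hx
    rw [eĉ _ (hν₁I.1 x hx), hcν₁ x hx]
  obtain ⟨N', hN'⟩ := hνm.exists_img
  obtain ⟨k, hk, k1, k2, k3⟩ := hν.inv A hN'
  have hcz : zz T W ≤ W := huW.self hTS
  have hΞN : ∀ z ∈ Z, ĉ (ν₁ z) ∈ N' := by
    intro z hz
    obtain ⟨t₀, ht₀, et₀⟩ := hcond z hz
    have hmem : (ν t₀)⁻¹ * ĉ (ν₁ z) ∈ zz T W := by
      refine mem_zz.2 ⟨T.mul_mem (T.inv_mem (hνN _ ht₀).1) (hΞ.mem_T A hz), fun w hw => ?_⟩
      obtain ⟨x, hx, rfl⟩ := hτ₁I.2 w hw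
      have h1 := (hΞ.mp A).map_conj hz (hUZ hx)
      have h2 := norm_conj (hZN hz).2 hx
      simp only [hΞU _ h2, hΞU x hx, et₀ x hx] at h1
      rw [hνm.map_conj ht₀ (hY'le (hI.1 x hx))] at h1
      exact comm_of_conj h1.symm
    obtain ⟨y', hy', ey'⟩ := hνI.2 _ (hcz hmem)
    have h5 := hN'.1 _ ((normalizerIn T Y').mul_mem ht₀ (hY'le hy'))
    rw [hνm.map_mul ht₀ (hY'le hy'), ey'] at h5
    simpa using h5
  refine ⟨fun z => k (ĉ (ν₁ z)), hΞ.comp A hΞN hk, fun x hx => ?_⟩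
  show k (ĉ (ν₁ x)) = τ x
  rw [hΞU x hx, k1 _ (hY'le (hI.1 x hx))]

/-- **The main induction.** -/
theorem main_ind (hTp : IsPGroup p T) (A : Fam F T Aa) (B : FlS A p Fl') :
    ∀ (X : Subgroup Ω), Uc F T X → Lp T Aa X ∧ II T Aa X := by
  have hTS : T ≤ S := A.sc.1
  haveI : Finite T := finite_of_le hTS
  suffices key : ∀ (d : ℕ) (X : Subgroup Ω), Nat.card T - Nat.card X = d → Uc F T X → Lp T Aa X ∧ II T Aa X from
    fun X hX => key _ X rfl hX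
  intro d
  induction d using Nat.strong_induction_on with
  | _ d ih =>
  intro X hd hX
  have IH : ∀ X' : Subgroup Ω, Nat.card X < Nat.card X' → Uc F T X' → Lp T Aa X' ∧ II T Aa X' := by
    intro X' hc hX'
    have h1 : Nat.card X' ≤ Nat.card T := Subgroup.card_le_of_le hX'.1
    exact ih _ (by omega) X' rfl hX'
  exact ⟨lp_step hTp A B IH rfl hX, ii_step hTp A B IH rfl hX⟩

end Cfsg.Agent.Lib.FusionExt.Glue3
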