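import Cfsg.Agent.Lib.FusionExt.Glue3

/-!
# Gluing: saturation and normality of the generated system (helper92)
-/

set_option autoImplicit false
set_option linter.unusedSectionVars false

namespace Cfsg.Agent.Lib.FusionExt.Glue4

open Cfsg Cfsg.FusionSystem Cfsg.Agent.Lib.Fusion.Basic Cfsg.Agent.Lib.Fusion.GroupSystem
open Cfsg.Agent.Lib.FusionExt.MapApi Cfsg.Agent.Lib.FusionExt.PowerSys Cfsg.Agent.Lib.FusionExt.LowPi
open Cfsg.Agent.Lib.FusionExt.PrimeRes1 Cfsg.Agent.Lib.Fusion.Saturation Cfsg.Agent.Lib.Fusion.Saturation2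
open Cfsg.Agent.Lib.FusionExt.Glue1 Cfsg.Agent.Lib.FusionExt.Glue2 Cfsg.Agent.Lib.FusionExt.Glue3
open Cfsg.Agent.Lib.FusionExt.CentE Cfsg.Agent.Lib.FusionExt.Invariant

universe u

variable {Ω : Type u} [Group Ω] {S T : Subgroup Ω} {F : FusionSystem S} {p : ℕ}
variable {X Y Z P Q R U W : Subgroup Ω} {f g h φ ψ a δ κ π ξ : Ω → Ω} {Aa : Subgroup Ω → (Ω → Ω) → Prop}
variable [Finite S] [Fact p.Prime] {Fl' : Subgroup Ω → Prop}

/-- Automorphisms of the generated system at a member of the family. -/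
theorem aut_D (hTp : IsPGroup p T) (A : Fam F T Aa) (B : FlS A p Fl') (hX : Uc F T X) {α : MulAut X}
    (hα : α ∈ (mkD A).autGroup X) : α ∈ aSub A hX := by
  have h1 : Dp T Aa X (autFun α) := (mp_D (A := A)).1 (mp_autFun hX.1 hα)
  exact (main_ind hTp A B X hX).1 _ h1 (img_autFun α)

theorem le_aut_D (A : Fam F T Aa) (hX : Uc F T X) {α : MulAut X} (hα : α ∈ aSub A hX) : α ∈ (mkD A).autGroup X := by
  have h0 : Dp T Aa X (autFun α) := Dp.edge A hα le_rfl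
  have h1 : Mp (mkD A) X (autFun α) := (mp_D (A := A)).2 h0
  obtain ⟨b, hb, e⟩ := h1.toAut (img_autFun α)
  have : b = α := by
    ext x
    rw [e x, autFun_coe]
  rwa [← this]

/-- **Saturation of the generated system.** -/
theorem D_sat (hTp : IsPGroup p T) (A : Fam F T Aa) (B : FlS A p Fl')
    (hFr : ∀ (X : Subgroup Ω) (f : Ω → Ω), X ≤ T → Mp F X f → Fa F T Aa X f) : (mkD A).IsSaturated p := by
  have hTS : T ≤ S := A.sc.1
  haveI : Finite T := finite_of_le hTS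
  have hmF : ∀ {X : Subgroup Ω} {f : Ω → Ω}, Mp (mkD A) X f → Mp F X f := fun h => ((mp_D (A := A)).1 h).mp A
  have hUcl : ∀ P, Uc F T P → ∀ Q, (mkD A).IsConj P Q → Uc F T Q := by
    intro P hP Q hQ
    obtain ⟨φ, hφ, hr⟩ := hQ
    have h1 : Mp (mkD A) P (extOf φ) := mp_of_hom hφ
    refine hP.conj A.sc (hmF h1) ⟨fun x hx => ?_, fun y hy => ?_⟩
    · rw [extOf_of_mem φ hx, ← hr]
      exact ⟨⟨x, hx⟩, rfl⟩
    · rw [← hr] at hy
      obtain ⟨x, rfl⟩ := hy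
      exact ⟨x, x.2, extOf_coe φ x⟩
  refine Cfsg.Agent.Lib.FusionExt.SatCrit4.main hTp (mkD A) {P | Uc F T P} (fun P hP => hP.1) hUcl ?_ ?_ ?_
  · intro P hP
    obtain ⟨W, δ, hW, hδ, hδi⟩ := B.exist hP
    have huW := B.uc hW
    refine ⟨W, ((mp_D (A := A)).2 hδ).isConj hδi, ?_, ?_⟩
    · refine (isFullyAutomized_iff (F := mkD A) hTp huW.1).2 (fun R hRp hRle hAR => ?_)
      have hmax := ((isSylowIn_iff_maximal (inducedBy_le A huW)).1 (B.syl hW)).2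
      exact hmax R (fun r hr => aut_D hTp A B huW (hRle hr)) hRp hAR
    · refine ⟨huW.1, fun P' φ hφ hr => ?_⟩
      have hφm : Mp (mkD A) P' (extOf φ) := mp_of_hom hφ
      have hφd := (mp_D (A := A)).1 hφm
      have hI : Img P' (extOf φ) W := by
        refine ⟨fun x hx => ?_, fun y hy => ?_⟩
        · rw [extOf_of_mem φ hx, ← hr]
          exact ⟨⟨x, hx⟩, rfl⟩
        · rw [← hr] at hy
          obtain ⟨x, rfl⟩ := hy
          exact ⟨x, x.2, extOf_coe φ x⟩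
      have hP'T : P' ≤ T := hφd.le A
      have huP' : Uc F T P' := by
        obtain ⟨k, hk, -, -, hki⟩ := hφd.inv A hI
        exact huW.conj A.sc (hk.mp A) hki
      have hPZ : P' ≤ extender T P' φ := le_extender (mkD A) hφ
      have hZN : extender T P' φ ≤ normalizerIn T P' := extender_le_normalizerIn φ
      obtain ⟨τ', hτ', eτ'⟩ := (main_ind hTp A B P' huP').2 _ W hφd hI (extender T P' φ) hPZ hZN (by
        intro z hz
        obtain ⟨hz1, hz2, t, ht, et⟩ := (mem_extender_iff φ).1 hz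
        refine ⟨t, ⟨ht, extCond_mem_normalizer hr hz2 et⟩, fun x hx => ?_⟩
        have hx' := norm_conj hz2 hx
        rw [extOf_of_mem φ hx', extOf_of_mem φ hx]
        exact et ⟨x, hx⟩ hx')
      obtain ⟨ψ, hψ, eψ⟩ := (mp_D (A := A)).2 hτ'
      refine ⟨ψ, hψ, fun x hP hN => ?_⟩
      rw [eψ ⟨x, hN⟩]
      show τ' x = _
      rw [eτ' x hP, extOf_of_mem φ hP]
  · intro E hE P φ hφ
    have h1 : Dp T Aa P (extOf φ) := (mp_D (A := A)).1 (mp_of_hom hφ)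
    have key : ∀ {X : Subgroup Ω} {f : Ω → Ω}, Dp T Aa X f → Mp E X f := by
      intro X f hd
      induction hd with
      | @nil X' f' hX h => exact (Mp.refl hX).congr (fun x hx => (h x hx).symm)
      | @cons X' Y' P' g' h' f' h1 h2 h3 h4 h5 ih =>
        have h6 : Mp (mkD A) P' g' := (mp_D (A := A)).2 (Dp.edge A h1 le_rfl)
        obtain ⟨ψ, hψ, eψ⟩ := h6
        have h7 : Mp E P' g' := ⟨ψ, hE P' (A.uc h1) hψ, eψ⟩
        exact ((h7.restrict h2).comp h3.1 ih).congr (fun x hx => (h5 x hx).symm)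
    exact Cfsg.Agent.Lib.FusionExt.PowerE.hom_of_mp (key h1)
  · intro P hP hPU
    exfalso
    apply hPU
    refine ⟨hP.1, fun Q hQ z hz => ?_⟩
    obtain ⟨φ, hφ, hr⟩ := hQ
    have hPT := hP.1
    obtain ⟨a, δ, h1, h2, h3, h4⟩ := hFr P (extOf φ) hPT (mp_of_hom hφ)
    obtain ⟨b, hb, hb1, hb2, hbi⟩ := h1.inverse h2
    obtain ⟨P₁, hP₁⟩ := (h3.mp A).exists_img
    have hI : Img P (extOf φ) Q := by
      refine ⟨fun x hx => ?_, fun y hy => ?_⟩
      · rw [extOf_of_mem φ hx, ← hr]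
        exact ⟨⟨x, hx⟩, rfl⟩
      · rw [← hr] at hy
        obtain ⟨x, rfl⟩ := hy
        exact ⟨x, x.2, extOf_coe φ x⟩
    have hconj : (mkD A).IsConj P P₁ := ((mp_D (A := A)).2 h3).isConj hP₁
    have hcz := hP.2 P₁ hconj
    have hzT : z ∈ T := hz.1
    have hb' : b z ∈ centralizerIn T P₁ := by
      refine mem_cent.2 ⟨hbi.1 z hzT, fun y hy => ?_⟩
      obtain ⟨x, hx, rfl⟩ := hP₁.2 y hy
      have h5 : a (δ x) ∈ Q := by
        rw [← h4 x hx]
        exact hI.1 x hx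
      have h6 := (mem_zz.1 hz).2 _ h5
      have hδx : δ x ∈ T := h3.mem_T A hx
      apply h1.inj (T.mul_mem hδx (hbi.1 z hzT)) (T.mul_mem (hbi.1 z hzT) hδx)
      rw [h1.map_mul hδx (hbi.1 z hzT), h1.map_mul (hbi.1 z hzT) hδx, hb2 z hzT]
      exact h6
    have h7 := hcz hb'
    have h8 := hP₁.2 _ h7
    obtain ⟨x, hx, ex⟩ := h8
    have h9 : z = extOf φ x := by
      rw [h4 x hx, ex, hb2 z hzT]
    rw [h9]
    exact hI.1 x hx

/-- **Normality of the generated system.** -/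
theorem D_normal {R₀ : Subgroup Ω} [Finite R₀] {G : FusionSystem R₀} (hG : G.IsSaturated p) (hTp : IsPGroup p T)
    (A : Fam F T Aa) (hDs : (mkD A).IsSaturated p) (hTG : G.StronglyClosed T) (hGF : G.IsSubsystemOf F)
    (hDG : (mkD A).IsSubsystemOf G)
    (hFr : ∀ (X : Subgroup Ω) (f : Ω → Ω), X ≤ T → Mp G X f → Fa G T Aa X f)
    (hExt : ∀ α ∈ (mkD A).autGroup T, ∃ β ∈ G.autGroup (T ⊔ centralizerIn R₀ T),
      (∀ x : T, ((β (Subgroup.inclusion le_sup_left x) : ↥(T ⊔ centralizerIn R₀ T)) : Ω) = ((α x : T) : Ω)) ∧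
      ∀ c : ↥(T ⊔ centralizerIn R₀ T), (c : Ω) ∈ centralizerIn R₀ T →
        (c : Ω)⁻¹ * ((β c : ↥(T ⊔ centralizerIn R₀ T)) : Ω) ∈ T ⊓ Subgroup.centralizer (T : Set Ω)) :
    (mkD A).IsNormalIn G p := by
  refine ⟨⟨hDs, hG, hDG, hTG, ?_, ?_⟩, hExt⟩
  · intro P hPT φ hφ α hα
    have hY : Img P (autFun α) ((P.subgroupOf T).map (T.subtype.comp α.toMonoidHom)) := by
      refine ⟨fun x hx => ?_, fun y hy => ?_⟩
      · rw [autFun_of_mem α (hPT hx)]
        exact ⟨⟨x, hPT hx⟩, hx, rfl⟩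
      · obtain ⟨x, hx, rfl⟩ := hy
        exact ⟨x, hx, autFun_coe α x⟩
    have hαF : Mp F T (autFun α) := Cfsg.Agent.Lib.FusionExt.PowerE.mp_sub hGF (mp_autFun hTG.1 hα)
    obtain ⟨δ', hδ', e⟩ := dp_tw A hαF ((mp_D (A := A)).1 (mp_of_hom hφ)) hY
    obtain ⟨χ, hχ, eχ⟩ := (mp_D (A := A)).2 hδ'
    refine ⟨χ, hχ, fun x hφx hαx => ?_⟩
    rw [eχ]
    have h1 := e x x.2
    rw [extOf_coe] at h1
    rw [autFun_of_mem α (hPT x.2)] at h1
    rw [h1, autFun_of_mem α hφx]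
  · intro P hPT φ hφ
    obtain ⟨a, δ, h1, h2, h3, h4⟩ := hFr P (extOf φ) hPT (mp_of_hom hφ)
    obtain ⟨α, hα, eα⟩ := h1.toAut h2
    obtain ⟨φ₀, hφ₀, e₀⟩ := (mp_D (A := A)).2 h3
    refine ⟨α, hα, φ₀, hφ₀, fun x hx => ?_⟩
    rw [← extOf_coe φ x, h4 x x.2, eα ⟨φ₀ x, hx⟩]
    show a (δ x) = a (φ₀ x)
    rw [e₀]

end Cfsg.Agent.Lib.FusionExt.Glue4
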