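import Cfsg.Agent.Lib.FusionExt.CentSys
import Cfsg.Agent.Lib.FusionExt.Comp1

/-!
# Transport of fusion systems along injective homomorphisms (helper92)
-/

set_option autoImplicit false
set_option linter.unusedSectionVars false

namespace Cfsg.Agent.Lib.FusionExt.Iso1

open Cfsg Cfsg.FusionSystem Cfsg.Agent.Lib.Fusion.Basic Cfsg.Agent.Lib.Fusion.GroupSystem
open Cfsg.Agent.Lib.FusionExt.MapApi Cfsg.Agent.Lib.FusionExt.Basic Cfsg.Agent.Lib.FusionExt.Normal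
open Cfsg.Agent.Lib.FusionExt.PowerE Cfsg.Agent.Lib.FusionExt.LowPi Cfsg.Agent.Lib.FusionExt.Invariant
open Cfsg.Agent.Lib.FusionExt.CentSys Cfsg.Agent.Lib.FusionExt.Factor Cfsg.Agent.Lib.FusionExt.FactorExt
open Cfsg.Agent.Lib.FusionExt.FactorSat Cfsg.Agent.Lib.FusionExt.PrimeRes1

universe u v

variable {Ω : Type u} [Group Ω] {Ω' : Type v} [Group Ω'] {a : Ω → Ω'}
variable {V W X X₀ Y : Subgroup Ω} {V' W' X' Y' : Subgroup Ω'}

/-- `a` carries `X` onto `Y`. -/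
def Im (X : Subgroup Ω) (a : Ω → Ω') (Y : Subgroup Ω') : Prop :=
  (∀ x ∈ X, a x ∈ Y) ∧ ∀ y ∈ Y, ∃ x ∈ X, a x = y

/-- `a` is an injective homomorphism on `W`. -/
structure TrOn (a : Ω → Ω') (W : Subgroup Ω) : Prop where
  mul : ∀ x ∈ W, ∀ y ∈ W, a (x * y) = a x * a y
  inj : ∀ x ∈ W, ∀ y ∈ W, a x = a y → x = y

namespace TrOn

theorem mono (h : TrOn a W) (hV : V ≤ W) : TrOn a V :=
  ⟨fun x hx y hy => h.mul x (hV hx) y (hV hy), fun x hx y hy => h.inj x (hV hx) y (hV hy)⟩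

theorem one (h : TrOn a W) : a 1 = 1 := by
  have := h.mul 1 W.one_mem 1 W.one_mem
  rw [mul_one] at this
  exact mul_eq_left.1 this.symm

theorem inv (h : TrOn a W) {x : Ω} (hx : x ∈ W) : a x⁻¹ = (a x)⁻¹ := by
  have := h.mul x⁻¹ (W.inv_mem hx) x hx
  rw [inv_mul_cancel, h.one] at this
  exact eq_inv_of_mul_eq_one_left this.symm

theorem conj (h : TrOn a W) {x y : Ω} (hx : x ∈ W) (hy : y ∈ W) : a (x * y * x⁻¹) = a x * a y * (a x)⁻¹ := by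
  rw [h.mul _ (W.mul_mem hx hy) _ (W.inv_mem hx), h.mul _ hx _ hy, h.inv hx]

theorem pow (h : TrOn a W) {x : Ω} (hx : x ∈ W) (k : ℕ) : a (x ^ k) = (a x) ^ k := by
  induction k with
  | zero => simpa using h.one
  | succ k ih => rw [pow_succ, h.mul _ (W.pow_mem hx k) _ hx, ih, pow_succ]

/-- The image subgroup. -/
theorem exists_im (h : TrOn a W) (hX : X ≤ W) : ∃ Y, Im X a Y := by
  refine ⟨{ carrier := a '' X
            mul_mem' := ?_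
            one_mem' := ⟨1, X.one_mem, h.one⟩
            inv_mem' := ?_ }, fun x hx => ⟨x, hx, rfl⟩, ?_⟩
  · rintro _ _ ⟨x, hx, rfl⟩ ⟨y, hy, rfl⟩
    exact ⟨x * y, X.mul_mem hx hy, h.mul x (hX hx) y (hX hy)⟩
  · rintro _ ⟨x, hx, rfl⟩
    exact ⟨x⁻¹, X.inv_mem hx, h.inv (hX hx)⟩
  · rintro y ⟨x, hx, rfl⟩
    exact ⟨x, hx, rfl⟩

/-- The homomorphism. -/
def hom (h : TrOn a W) : W →* Ω' := MonoidHom.mk' (fun x => a x) (fun x y => h.mul x x.2 y y.2)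

theorem hom_apply (h : TrOn a W) (x : W) : h.hom x = a x := rfl

end TrOn

theorem Im.unique {X : Subgroup Ω} {Y Z : Subgroup Ω'} (h1 : Im X a Y) (h2 : Im X a Z) : Y = Z := by
  ext y
  constructor
  · intro hy
    obtain ⟨x, hx, rfl⟩ := h1.2 y hy
    exact h2.1 x hx
  · intro hy
    obtain ⟨x, hx, rfl⟩ := h2.2 y hy
    exact h1.1 x hx

/-- The system `A'` is the image of `A` under `a`. -/
def ImgSys (a : Ω → Ω') (A : FusionSystem V) (A' : FusionSystem V') : Prop :=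
  ∀ (X : Subgroup Ω') (f : Ω' → Ω'), Mp A' X f ↔ ∃ (X₀ : Subgroup Ω) (f₀ : Ω → Ω), Mp A X₀ f₀ ∧ Im X₀ a X ∧ ∀ x ∈ X₀, f (a x) = a (f₀ x)

theorem sys_ext {Ω : Type*} [Group Ω] {V : Subgroup Ω} {E₁ E₂ : FusionSystem V} (h : ∀ P, E₁.Hom P = E₂.Hom P) : E₁ = E₂ := by
  cases E₁
  cases E₂
  congr
  funext P
  exact h P

theorem sys_ext' {Ω : Type*} [Group Ω] {V : Subgroup Ω} {E₁ E₂ : FusionSystem V} (h : ∀ X f, Mp E₁ X f ↔ Mp E₂ X f) : E₁ = E₂ := by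
  refine sys_ext (fun P => Set.ext fun φ => ?_)
  constructor
  · intro hφ
    exact hom_of_mp ((h _ _).1 (mp_of_hom hφ))
  · intro hφ
    exact hom_of_mp ((h _ _).2 (mp_of_hom hφ))

section
variable {A : FusionSystem V} {A' A'' : FusionSystem V'}

theorem ImgSys.unique (h₁ : ImgSys a A A') (h₂ : ImgSys a A A'') : A' = A'' :=
  sys_ext' (fun X f => (h₁ X f).trans (h₂ X f).symm)

open Classical in
/-- The inverse function of `a` on `V`. -/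
noncomputable def binv (a : Ω → Ω') (V : Subgroup Ω) : Ω' → Ω := Function.invFunOn a (V : Set Ω)

theorem binv_apply (ht : TrOn a V) {x : Ω} (hx : x ∈ V) : binv a V (a x) = x :=
  Set.InjOn.leftInvOn_invFunOn (fun x hx y hy e => ht.inj x hx y hy e) hx

theorem ImgSys.push (h : ImgSys a A A') (ht : TrOn a V) {f₀ : Ω → Ω} (hf : Mp A X₀ f₀) (hi : Im X₀ a X') :
    ∃ f, Mp A' X' f ∧ ∀ x ∈ X₀, f (a x) = a (f₀ x) := by
  have he : ∀ x ∈ X₀, (fun y => a (f₀ (binv a V y))) (a x) = a (f₀ x) := fun x hx => by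
    show a (f₀ (binv a V (a x))) = _
    rw [binv_apply ht (hf.le hx)]
  exact ⟨fun y => a (f₀ (binv a V y)), (h X' _).2 ⟨X₀, f₀, hf, hi, he⟩, he⟩

theorem strongClosed_bot (A : FusionSystem V) : A.StronglyClosed ⊥ := by
  refine ⟨bot_le, fun P hP φ hφ x => ?_⟩
  have : x = 1 := Subtype.ext (Subgroup.mem_bot.1 (hP x.2))
  rw [this, map_one]
  exact Subgroup.one_mem _

theorem bot_theta (ht : TrOn a V) (s : V) : ht.hom s = 1 ↔ (s : Ω) ∈ (⊥ : Subgroup Ω) := by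
  rw [Subgroup.mem_bot]
  constructor
  · intro h
    exact ht.inj _ s.2 _ V.one_mem (h.trans ht.one.symm)
  · intro h
    rw [TrOn.hom_apply, h, ht.one]

theorem hom_range (ht : TrOn a V) (hi : Im V a V') : ht.hom.range = V' := by
  ext y
  constructor
  · rintro ⟨s, rfl⟩
    exact hi.1 _ s.2
  · intro hy
    obtain ⟨x, hx, rfl⟩ := hi.2 y hy
    exact ⟨⟨x, hx⟩, rfl⟩

/-- Factor systems modulo the trivial subgroup are images. -/
theorem imgSys_of_fac [Finite V] {θ : V →* Ω'} (hθ : ∀ s : V, θ s = a s) (ht : TrOn a V) (hE : A.IsFactorSystem ⊥ θ A') :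
    ImgSys a A A' := by
  have hsc := strongClosed_bot A
  have hker : ∀ s : V, θ s = 1 ↔ (s : Ω) ∈ (⊥ : Subgroup Ω) := hE.2.1
  have hr : θ.range = V' := hE.2.2.1
  intro X f
  constructor
  · rintro ⟨φ', hφ', e⟩
    obtain ⟨hX, φ, hφ, hP, hφS, hPP', hform⟩ := (hE.2.2.2 X φ').1 hφ'
    refine ⟨preimageAlong θ X, extOf φ, mp_of_hom hφ, ⟨fun x hx => ?_, fun y hy => ?_⟩, fun x hx => ?_⟩
    · have := hPP' ⟨x, hx⟩
      rwa [hθ] at this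
    · have hy' : y ∈ θ.range := by
        rw [hr]
        exact hX hy
      obtain ⟨s, rfl⟩ := hy'
      refine ⟨s, mem_preimageAlong.2 ⟨s.2, hy⟩, (hθ s).symm⟩
    · have h1 := hform ⟨x, hx⟩
      have e2 : f (a x) = f (θ ⟨x, hP hx⟩) := by rw [hθ]
      rw [e2, ← (e ⟨θ ⟨x, hP hx⟩, hPP' ⟨x, hx⟩⟩)]
      refine h1.trans ?_
      rw [hθ, extOf_of_mem φ hx]
  · rintro ⟨X₀, f₀, hf₀, hi, hv⟩
    have hX₀V : X₀ ≤ V := hf₀.le
    have hX : X ≤ V' := by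
      intro y hy
      obtain ⟨x, hx, rfl⟩ := hi.2 y hy
      rw [← hr]
      exact ⟨⟨x, hX₀V hx⟩, hθ _⟩
    have hXr : X ≤ θ.range := by rwa [hr]
    have hpre : preimageAlong θ X = X₀ := by
      ext x
      constructor
      · intro hx
        obtain ⟨hxV, hxX⟩ := mem_preimageAlong.1 hx
        rw [hθ] at hxX
        obtain ⟨x₀, hx₀, e⟩ := hi.2 _ hxX
        rw [← ht.inj x₀ (hX₀V hx₀) x hxV e]
        exact hx₀
      · intro hx
        refine mem_preimageAlong.2 ⟨hX₀V hx, ?_⟩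
        rw [hθ]
        exact hi.1 x hx
    have hf₀' : Mp A (preimageAlong θ X) f₀ := by rwa [hpre]
    obtain ⟨φ, hφ, eφ⟩ := hf₀'
    obtain ⟨φ', hind⟩ := exists_induced A θ hsc hker hXr hφ
    have hmem : φ' ∈ A'.Hom X := (hE.2.2.2 X φ').2 ⟨hX, φ, hφ, hind⟩
    refine ⟨φ', hmem, fun y => ?_⟩
    obtain ⟨x, hx, e⟩ := hi.2 y y.2
    obtain ⟨hP, hφS, hPP', hform⟩ := hind
    have hx' : x ∈ preimageAlong θ X := by rwa [hpre]
    have h1 := hform ⟨x, hx'⟩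
    have e2 : (⟨θ ⟨x, hP hx'⟩, hPP' ⟨x, hx'⟩⟩ : X) = y := Subtype.ext ((hθ _).trans e)
    rw [e2] at h1
    rw [h1, hθ, ← e, hv x hx]
    congr 1
    exact eφ ⟨x, hx'⟩

/-- Existence of images. -/
theorem exists_imgSys [Finite V] (ht : TrOn a V) (hi : Im V a V') (A : FusionSystem V) : ∃ A' : FusionSystem V', ImgSys a A A' := by
  obtain ⟨E, hE⟩ := exists_isFactorSystem A ht.hom (strongClosed_bot A) (bot_theta ht) (hom_range ht hi)
  exact ⟨E, imgSys_of_fac (fun _ => rfl) ht hE⟩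

theorem finite_im [Finite V] (hi : Im V a V') : Finite V' := by
  refine Finite.of_surjective (fun x : V => (⟨a x, hi.1 x x.2⟩ : V')) (fun y => ?_)
  obtain ⟨x, hx, e⟩ := hi.2 y y.2
  exact ⟨⟨x, hx⟩, Subtype.ext e⟩

theorem isP_im {p : ℕ} (hV : IsPGroup p V) (ht : TrOn a V) (hi : Im V a V') : IsPGroup p V' := by
  intro y
  obtain ⟨x, hx, e⟩ := hi.2 y y.2
  obtain ⟨k, hk⟩ := hV ⟨x, hx⟩
  refine ⟨k, Subtype.ext ?_⟩
  have h1 : x ^ p ^ k = 1 := congrArg Subtype.val hk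
  show (y : Ω') ^ p ^ k = 1
  rw [← e, ← ht.pow hx, h1, ht.one]

/-- Saturation of images. -/
theorem sat_img {p : ℕ} [Fact p.Prime] [Finite V] (hV : IsPGroup p V) (ht : TrOn a V) (hs : A.IsSaturated p) (hA : ImgSys a A A')
    (hi : Im V a V') : A'.IsSaturated p := by
  obtain ⟨E, hE⟩ := exists_isFactorSystem A ht.hom (strongClosed_bot A) (bot_theta ht) (hom_range ht hi)
  have hE' := imgSys_of_fac (fun _ => rfl) ht hE
  have e : E = A' := hE'.unique hA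
  subst e
  exact image_isSaturated _ A E hV hs (isSurjectiveMorphism_of_isFactorSystem A _ hV hs (strongClosed_bot A) hE)

end

/-- **Transport of normality.** -/
theorem tr_normal {p : ℕ} [Fact p.Prime] [Finite W] {A : FusionSystem V} {B : FusionSystem W} {A' : FusionSystem V'} {B' : FusionSystem W'}
    (hW : IsPGroup p W) (ht : TrOn a W) (hN : A.IsNormalIn B p) (hA : ImgSys a A A') (hB : ImgSys a B B') (hV : Im V a V')
    (hWi : Im W a W') : A'.IsNormalIn B' p := by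
  obtain ⟨⟨hAs, hBs, hsub, hT, hInv, hFr⟩, hext⟩ := id hN
  have hSI : StrongInv B A := strong_of_inv hInv hFr
  have hVW : V ≤ W := hT.1
  haveI : Finite V := finite_of_le hVW
  haveI hfinW' : Finite W' := finite_im hWi
  have hW'p : IsPGroup p W' := isP_im hW ht hWi
  have htV := ht.mono hVW
  have hA's : A'.IsSaturated p := sat_img (hW.to_le hVW) htV hAs hA hV
  have hB's : B'.IsSaturated p := sat_img hW ht hBs hB hWi
  have hV'W' : V' ≤ W' := fun y hy => by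
    obtain ⟨x, hx, rfl⟩ := hV.2 y hy
    exact hWi.1 x (hVW hx)
  have hsub' : A'.IsSubsystemOf B' := by
    intro P φ hφ
    apply hom_of_mp
    obtain ⟨X₀, f₀, h1, h2, h3⟩ := (hA P _).1 (mp_of_hom hφ)
    exact (hB P _).2 ⟨X₀, f₀, mp_sub hsub h1, h2, h3⟩
  have hpull : ∀ {x : Ω}, x ∈ W → a x ∈ V' → x ∈ V := by
    intro x hx hax
    obtain ⟨v, hv, e⟩ := hV.2 _ hax
    rw [← ht.inj v (hVW hv) x hx e]
    exact hv
  have hT' : B'.StronglyClosed V' := by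
    refine ⟨hV'W', fun P hP φ hφ x => ?_⟩
    obtain ⟨X₀, f₀, h1, h2, h3⟩ := (hB P _).1 (mp_of_hom hφ)
    obtain ⟨x₀, hx₀, e⟩ := h2.2 x x.2
    have hX₀V : X₀ ≤ V := fun z hz => hpull (h1.le hz) (hP (h2.1 z hz))
    have h4 : f₀ x₀ ∈ V := sc_mp hT h1 hX₀V hx₀
    rw [← extOf_coe, ← e, h3 x₀ hx₀]
    exact hV.1 _ h4
  have hSI' : StrongInv B' A' := by
    refine strongInv_of_mp (fun P Q' X f g hPQ hQ'T hf hfQ hg hi => ?_)
    obtain ⟨P₀, f₀, h1, h2, h3⟩ := (hA P f).1 hf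
    obtain ⟨Q₀, g₀, h4, h5, h6⟩ := (hB Q' g).1 hg
    have hP₀W : P₀ ≤ W := h1.le.trans hVW
    have hQ₀W : Q₀ ≤ W := h4.le
    have hback : ∀ {x y : Ω}, x ∈ W → y ∈ Q₀ → a x = a y → x ∈ Q₀ := by
      intro x y hx hy e
      rw [ht.inj x hx y (hQ₀W hy) e]
      exact hy
    have hP₀Q₀ : P₀ ≤ Q₀ := by
      intro x hx
      obtain ⟨y, hy, e⟩ := h5.2 _ (hPQ (h2.1 x hx))
      exact hback (hP₀W hx) hy e.symm
    have hQ₀V : Q₀ ≤ V := fun z hz => hpull (hQ₀W hz) (hQ'T (h5.1 z hz))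
    have hf₀Q : ∀ x ∈ P₀, f₀ x ∈ Q₀ := by
      intro x hx
      obtain ⟨y, hy, e⟩ := h5.2 _ (hfQ _ (h2.1 x hx))
      rw [h3 x hx] at e
      exact hback (hVW (h1.mem_S hx)) hy e.symm
    obtain ⟨X₁, hX₁⟩ := (h4.restrict hP₀Q₀).exists_img
    obtain ⟨k₀, hk₀, hk₀e⟩ := sI_mp hSI hP₀Q₀ hQ₀V h1 hf₀Q h4 hX₁
    have hIm : Im X₁ a X := by
      refine ⟨fun y hy => ?_, fun y hy => ?_⟩
      · obtain ⟨x, hx, rfl⟩ := hX₁.2 y hy
        rw [← h6 x (hP₀Q₀ hx)]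
        exact hi.1 _ (h2.1 x hx)
      · obtain ⟨z, hz, rfl⟩ := hi.2 y hy
        obtain ⟨x, hx, rfl⟩ := h2.2 z hz
        refine ⟨g₀ x, hX₁.1 x hx, ?_⟩
        rw [h6 x (hP₀Q₀ hx)]
    obtain ⟨k, hk, hke⟩ := hA.push htV hk₀ hIm
    refine ⟨k, hk, fun y hy => ?_⟩
    obtain ⟨x, hx, rfl⟩ := h2.2 y hy
    rw [h6 x (hP₀Q₀ hx), hke _ (hX₁.1 x hx), hk₀e x hx, h3 x hx, h6 _ (hf₀Q x hx)]
  refine ⟨⟨hA's, hB's, (isInvariantIn_iff hW'p hB's hsub' hT').2 hSI'⟩, fun α' hα' => ?_⟩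
  -- the extension clause
  have hm : Mp A' V' (autFun α') := mp_autFun le_rfl hα'
  obtain ⟨X₀, f₀, h1, h2, h3⟩ := (hA V' _).1 hm
  have hX₀ : X₀ = V := by
    apply le_antisymm
    · exact h1.le
    · intro v hv
      obtain ⟨x, hx, e⟩ := h2.2 _ (hV.1 v hv)
      rw [← ht.inj x (hVW (h1.le hx)) v (hVW hv) e]
      exact hx
  subst hX₀
  have hi : Img X₀ f₀ X₀ := LowPi.img_self h1 (fun x hx => h1.mem_S hx)
  obtain ⟨α₀, hα₀, e₀⟩ := h1.toAut hi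
  obtain ⟨β₀, hβ₀, hβe, hβc⟩ := hext α₀ hα₀
  have hRW : X₀ ⊔ centralizerIn W X₀ ≤ W := sup_le hVW inf_le_left
  have hCa : ∀ c ∈ centralizerIn W X₀, a c ∈ centralizerIn W' V' := by
    intro c hc
    have hcW := (mem_cent.1 hc).1
    refine mem_cent.2 ⟨hWi.1 c hcW, fun y hy => ?_⟩
    obtain ⟨x, hx, rfl⟩ := hV.2 y hy
    rw [← ht.mul _ (hVW hx) _ hcW, ← ht.mul _ hcW _ (hVW hx), (mem_cent.1 hc).2 x hx]
  have hCb : ∀ c' ∈ centralizerIn W' V', ∃ c ∈ centralizerIn W X₀, a c = c' := by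
    intro c' hc'
    obtain ⟨c, hc, e⟩ := hWi.2 c' (mem_cent.1 hc').1
    refine ⟨c, mem_cent.2 ⟨hc, fun y hy => ?_⟩, e⟩
    apply ht.inj _ (W.mul_mem (hVW hy) hc) _ (W.mul_mem hc (hVW hy))
    rw [ht.mul _ (hVW hy) _ hc, ht.mul _ hc _ (hVW hy), e]
    exact (mem_cent.1 hc').2 _ (hV.1 y hy)
  have hIm : Im (X₀ ⊔ centralizerIn W X₀) a (V' ⊔ centralizerIn W' V') := by
    constructor
    · intro x hx
      obtain ⟨c, hc, r, hr, rfl⟩ := exists_mul_of_mem_rr hx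
      rw [ht.mul _ (mem_cent.1 hc).1 _ (hVW hr)]
      exact Subgroup.mul_mem _ (Subgroup.mem_sup_right (hCa c hc)) (Subgroup.mem_sup_left (hV.1 r hr))
    · intro y hy
      obtain ⟨c', hc', r', hr', rfl⟩ := exists_mul_of_mem_rr hy
      obtain ⟨c, hc, rfl⟩ := hCb c' hc'
      obtain ⟨r, hr, rfl⟩ := hV.2 r' hr'
      refine ⟨c * r, Subgroup.mul_mem _ (Subgroup.mem_sup_right hc) (Subgroup.mem_sup_left hr), ?_⟩
      rw [ht.mul _ (mem_cent.1 hc).1 _ (hVW hr)]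
  obtain ⟨g, hg, hge⟩ := hB.push ht (mp_autFun hRW hβ₀) hIm
  have hgi : Img (V' ⊔ centralizerIn W' V') g (V' ⊔ centralizerIn W' V') := by
    refine LowPi.img_self hg (fun y hy => ?_)
    obtain ⟨x, hx, rfl⟩ := hIm.2 y hy
    rw [hge x hx]
    exact hIm.1 _ (autFun_mem β₀ hx)
  obtain ⟨β', hβ', hβ'e⟩ := hg.toAut hgi
  refine ⟨β', hβ', fun x => ?_, fun c hc => ?_⟩
  · obtain ⟨v, hv, e⟩ := hV.2 x x.2
    rw [hβ'e]
    show g x = _
    have hvR : v ∈ X₀ ⊔ centralizerIn W X₀ := Subgroup.mem_sup_left hv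
    rw [← e, hge v hvR, autFun_of_mem β₀ hvR]
    have e1 := hβe ⟨v, hv⟩
    have e2 : (⟨v, hvR⟩ : ↥(X₀ ⊔ centralizerIn W X₀)) = Subgroup.inclusion le_sup_left ⟨v, hv⟩ := rfl
    rw [e2, e1, e₀ ⟨v, hv⟩, ← h3 v hv, e, autFun_coe]
  · rw [hβ'e]
    obtain ⟨c₀, hc₀, e⟩ := hCb c hc
    have hc₀R : c₀ ∈ X₀ ⊔ centralizerIn W X₀ := Subgroup.mem_sup_right hc₀
    rw [← e, hge c₀ hc₀R, autFun_of_mem β₀ hc₀R]
    have h4 := hβc ⟨c₀, hc₀R⟩ hc₀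
    have hβW : ((β₀ ⟨c₀, hc₀R⟩ : ↥(X₀ ⊔ centralizerIn W X₀)) : Ω) ∈ W := hRW (β₀ ⟨c₀, hc₀R⟩).2
    have hc₀W : c₀ ∈ W := (mem_cent.1 hc₀).1
    have e3 : (a c₀)⁻¹ * a ((β₀ ⟨c₀, hc₀R⟩ : ↥(X₀ ⊔ centralizerIn W X₀)) : Ω) =
        a (c₀⁻¹ * ((β₀ ⟨c₀, hc₀R⟩ : ↥(X₀ ⊔ centralizerIn W X₀)) : Ω)) := by
      rw [ht.mul _ (W.inv_mem hc₀W) _ hβW, ht.inv hc₀W]
    rw [e3]
    obtain ⟨h5, h6⟩ := Subgroup.mem_inf.1 h4
    refine Subgroup.mem_inf.2 ⟨hV.1 _ h5, Subgroup.mem_centralizer_iff.2 fun y hy => ?_⟩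
    obtain ⟨x, hx, rfl⟩ := hV.2 y hy
    have h7 := Subgroup.mem_centralizer_iff.1 h6 x hx
    have hzW : c₀⁻¹ * ((β₀ ⟨c₀, hc₀R⟩ : ↥(X₀ ⊔ centralizerIn W X₀)) : Ω) ∈ W := hVW h5
    rw [← ht.mul _ (hVW hx) _ hzW, ← ht.mul _ hzW _ (hVW hx), h7]

end Cfsg.Agent.Lib.FusionExt.Iso1
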