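import Cfsg.Agent.Lib.FusionExt.Iso1

/-!
# Images of subnormal subsystems; images of simple and quasisimple systems (helper92)
-/

set_option autoImplicit false
set_option linter.unusedSectionVars false

namespace Cfsg.Agent.Lib.FusionExt.Iso2

open Cfsg Cfsg.FusionSystem Cfsg.Agent.Lib.Fusion.Basic Cfsg.Agent.Lib.Fusion.GroupSystem
open Cfsg.Agent.Lib.FusionExt.MapApi Cfsg.Agent.Lib.FusionExt.Basic Cfsg.Agent.Lib.FusionExt.Normal
open Cfsg.Agent.Lib.FusionExt.PowerE Cfsg.Agent.Lib.FusionExt.LowPi Cfsg.Agent.Lib.FusionExt.Invariant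
open Cfsg.Agent.Lib.FusionExt.CentSys Cfsg.Agent.Lib.FusionExt.Factor Cfsg.Agent.Lib.FusionExt.FactorExt
open Cfsg.Agent.Lib.FusionExt.FactorSat Cfsg.Agent.Lib.FusionExt.PrimeRes1 Cfsg.Agent.Lib.FusionExt.Iso1
open Cfsg.Agent.Lib.FusionExt.Comp1 Cfsg.Agent.Lib.FusionExt.PowerSys

universe u v

section chain

variable {Ω : Type u} [Group Ω] {Ω' : Type v} [Group Ω'] {a : Ω → Ω'}

/-- **Images of subnormal subsystems are subnormal in the image.** -/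
theorem chain_tr {V W : Subgroup Ω} {A : FusionSystem V} {B : FusionSystem W} {p : ℕ} (h : A.IsSubnormalIn B p) :
    ∀ [Fact p.Prime] [Finite W], IsPGroup p W → TrOn a W → ∀ {V' W' : Subgroup Ω'} {A' : FusionSystem V'} {B' : FusionSystem W'},
      ImgSys a A A' → ImgSys a B B' → Im V a V' → Im W a W' → A'.IsSubnormalIn B' p := by
  induction h with
  | refl F p =>
    intro _ _ hW ht V' W' A' B' hA hB hV hWi
    have e := hV.unique hWi
    subst e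
    have e' := hA.unique hB
    subst e'
    exact IsSubnormalIn.refl _ _
  | @step U₁ S₁ C D F p hsub' hDF ih =>
    intro _ _ hW ht V' W' A' B' hA hB hV hWi
    obtain ⟨⟨hDs, -, hDsub, hTsc, hInv, hFr⟩, hext⟩ := id hDF
    have hUW : U₁ ≤ S₁ := hTsc.1
    haveI : Finite U₁ := finite_of_le hUW
    obtain ⟨U', hU'⟩ := ht.exists_im hUW
    obtain ⟨D', hD'⟩ := exists_imgSys (ht.mono hUW) hU' D
    have hN' := tr_normal hW ht hDF hD' hB hU' hWi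
    exact IsSubnormalIn.step (ih (hW.to_le hUW) (ht.mono hUW) hA hD' hV hU') hN'

end chain

section homog

variable {Ω : Type u} [Group Ω] {S T U T' : Subgroup Ω} {F : FusionSystem S} {p : ℕ}

theorem trOn_of_mp {f : Ω → Ω} (hf : Mp F T f) : TrOn f T := ⟨fun _ hx _ hy => hf.map_mul hx hy, fun _ hx _ hy e => hf.inj hx hy e⟩

/-- A map of `F` on `U` onto `U` carries an invariant subsystem onto itself. -/
theorem imgSys_aut {D : FusionSystem U} {b : Ω → Ω} (hSI : StrongInv F D) (hb : Mp F U b) (hbi : Img U b U) : ImgSys b D D := by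
  obtain ⟨c, hc, hc1, hc2, hc3⟩ := hb.inverse hbi
  intro X f
  constructor
  · intro hf
    have hXU : X ≤ U := hf.le
    obtain ⟨X₀, hX₀⟩ := (hc.restrict hXU).exists_img
    obtain ⟨h, hh, hhe⟩ := sI_mp hSI hXU le_rfl hf (fun x hx => hf.mem_S hx) hc hX₀
    refine ⟨X₀, h, hh, ⟨fun x₀ hx₀ => ?_, fun y hy => ⟨c y, hX₀.1 y hy, hc2 y (hXU hy)⟩⟩, fun x₀ hx₀ => ?_⟩
    · obtain ⟨x, hx, rfl⟩ := hX₀.2 x₀ hx₀
      rw [hc2 x (hXU hx)]
      exact hx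
    · obtain ⟨x, hx, rfl⟩ := hX₀.2 x₀ hx₀
      rw [hc2 x (hXU hx), hhe x hx, hc2 _ (hf.mem_S hx)]
  · rintro ⟨X₀, f₀, hf₀, hi, hv⟩
    have hX₀U : X₀ ≤ U := hf₀.le
    obtain ⟨h, hh, hhe⟩ := sI_mp hSI hX₀U le_rfl hf₀ (fun x hx => hf₀.mem_S hx) hb hi
    refine hh.congr (fun y hy => ?_)
    obtain ⟨x, hx, rfl⟩ := hi.2 y hy
    rw [hhe x hx, hv x hx]

/-- Factoring images. -/
theorem imgSys_factor {C : FusionSystem T} {T₀ : Subgroup Ω} {E₀ : FusionSystem T₀} {E : FusionSystem T'} {a a₀ b : Ω → Ω}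
    (h₀ : ImgSys a₀ C E₀) (hE : ImgSys a C E) (hab : ∀ x ∈ T, a x = b (a₀ x)) (ht : TrOn a₀ T) : ImgSys b E₀ E := by
  intro X f
  constructor
  · intro hf
    obtain ⟨Y₀, g₀, h1, h2, h3⟩ := (hE X f).1 hf
    have hY₀T : Y₀ ≤ T := h1.le
    obtain ⟨X₀, hX₀⟩ := ht.exists_im hY₀T
    obtain ⟨f₀, hf₀, hf₀e⟩ := h₀.push ht h1 hX₀
    refine ⟨X₀, f₀, hf₀, ⟨fun x hx => ?_, fun y hy => ?_⟩, fun x hx => ?_⟩
    · obtain ⟨y, hy, rfl⟩ := hX₀.2 x hx
      rw [← hab y (hY₀T hy)]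
      exact h2.1 y hy
    · obtain ⟨y₀, hy₀, rfl⟩ := h2.2 y hy
      exact ⟨a₀ y₀, hX₀.1 y₀ hy₀, (hab y₀ (hY₀T hy₀)).symm⟩
    · obtain ⟨y, hy, rfl⟩ := hX₀.2 x hx
      rw [← hab y (hY₀T hy), h3 y hy, hf₀e y hy, hab _ (h1.mem_S hy)]
  · rintro ⟨X₀, f₀, hf₀, hi, hv⟩
    obtain ⟨Y₀, g₀, h1, h2, h3⟩ := (h₀ X₀ f₀).1 hf₀
    have hY₀T : Y₀ ≤ T := h1.le
    refine (hE X f).2 ⟨Y₀, g₀, h1, ⟨fun y hy => ?_, fun y hy => ?_⟩, fun y hy => ?_⟩
    · rw [hab y (hY₀T hy)]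
      exact hi.1 _ (h2.1 y hy)
    · obtain ⟨x, hx, rfl⟩ := hi.2 y hy
      obtain ⟨y₀, hy₀, rfl⟩ := h2.2 x hx
      exact ⟨y₀, hy₀, hab y₀ (hY₀T hy₀)⟩
    · rw [hab y (hY₀T hy), hv _ (h2.1 y hy), h3 y hy, hab _ (h1.mem_S hy)]

/-- **Images of subnormal subsystems under maps of the system.** -/
theorem sub_img {C : FusionSystem T} (h : C.IsSubnormalIn F p) :
    ∀ [Fact p.Prime] [Finite S], IsPGroup p S → F.IsSaturated p → ∀ (a : Ω → Ω), Mp F T a → ∀ {T' : Subgroup Ω}, Img T a T' →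
      ∀ E : FusionSystem T', ImgSys a C E → E.IsSubnormalIn F p := by
  induction h with
  | refl F p =>
    intro _ _ hS hF a ha T' hi E hE
    have hi₀ : Img _ a _ := LowPi.img_self ha (fun x hx => ha.mem_S hx)
    have e := hi.unique hi₀
    subst e
    have hself := isNormalIn_self hS hF
    obtain ⟨⟨-, -, -, -, hInv, hFr⟩, -⟩ := hself
    have hSI := strong_of_inv hInv hFr
    have h1 := imgSys_aut hSI ha hi₀
    have e' := hE.unique h1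
    subst e'
    exact IsSubnormalIn.refl _ _
  | @step S₁ S₂ C D F p hsub' hDF ih =>
    intro _ _ hS hF a ha T' hi E hE
    obtain ⟨⟨hDs, -, hDsub, hUsc, hInv, hFr⟩, hext⟩ := id hDF
    have hSI := strong_of_inv hInv hFr
    have hUS : S₁ ≤ S₂ := hUsc.1
    have hUp : IsPGroup p S₁ := hS.to_le hUS
    haveI : Finite ↥S₁ := finite_of_le hUS
    have hCD := subnormal_sub hsub'
    have hTU : T ≤ S₁ := (D.le_of_mem (hCD T (subtype_mem C le_rfl))).1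
    haveI : Finite ↥T := finite_of_le hTU
    obtain ⟨φ, hφ, eφ⟩ := ha
    obtain ⟨α, hα, φ₀, hφ₀, hv⟩ := hFr T hTU φ hφ
    have ha₀ : Mp D T (extOf φ₀) := mp_of_hom hφ₀
    have hb : Mp F S₁ (autFun α) := mp_autFun hUS hα
    have hab : ∀ x ∈ T, a x = autFun α (extOf φ₀ x) := by
      intro x hx
      have hm : φ₀ ⟨x, hx⟩ ∈ S₁ := val_mem D hφ₀ ⟨x, hx⟩
      rw [← eφ ⟨x, hx⟩, hv ⟨x, hx⟩ hm, extOf_of_mem φ₀ hx, autFun_of_mem α hm]
    obtain ⟨T₀, hT₀⟩ := ha₀.exists_img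
    have ht₀ : TrOn (extOf φ₀) T := trOn_of_mp ha₀
    obtain ⟨E₀, hE₀⟩ := exists_imgSys ht₀ hT₀ C
    have hsubE₀ := ih hUp hDs (extOf φ₀) ha₀ hT₀ E₀ hE₀
    have hfac := imgSys_factor hE₀ hE hab ht₀
    have hDD := imgSys_aut hSI hb (img_autFun α)
    have hIm : Im T₀ (autFun α) T' := by
      refine ⟨fun x hx => ?_, fun y hy => ?_⟩
      · obtain ⟨y, hy, rfl⟩ := hT₀.2 x hx
        rw [← hab y hy]
        exact hi.1 y hy
      · obtain ⟨x, hx, rfl⟩ := hi.2 y hy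
        exact ⟨extOf φ₀ x, hT₀.1 x hx, (hab x hx).symm⟩
    have hchain := chain_tr hsubE₀ hUp (trOn_of_mp hb) hfac hDD hIm (img_autFun α)
    exact IsSubnormalIn.step hchain hDF

end homog

end Cfsg.Agent.Lib.FusionExt.Iso2
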