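import Cfsg.Agent.Lib.FusionExt.CentE4

/-!
# Extending `p'`-automorphisms of a normal subsystem to larger subgroups (helper92)
-/

set_option autoImplicit false

namespace Cfsg.Agent.Lib.FusionExt.LiftA

open Cfsg Cfsg.FusionSystem Cfsg.Agent.Lib.Fusion.Basic Cfsg.Agent.Lib.Fusion.GroupSystem
open Cfsg.Agent.Lib.FusionExt.MapApi Cfsg.Agent.Lib.FusionExt.PowerSys Cfsg.Agent.Lib.FusionExt.PowerGen
open Cfsg.Agent.Lib.FusionExt.PrimeRes1 Cfsg.Agent.Lib.FusionExt.PrimeRes2 Cfsg.Agent.Lib.Fusion.Saturation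
open Cfsg.Agent.Lib.Fusion.Saturation2 Cfsg.Agent.Lib.FusionExt.SatCrit1 Cfsg.Agent.Lib.FusionExt.Invariant
open Cfsg.Agent.Lib.FusionExt.PowerE Cfsg.Agent.Lib.FusionExt.LowPi Cfsg.Agent.Lib.FusionExt.CentSys
open Cfsg.Agent.Lib.FusionExt.FixQ Cfsg.Agent.Lib.FusionExt.PPrimeMin Cfsg.Agent.Lib.Fusion.KSystem
open Cfsg.Agent.Lib.FusionExt.Basic Cfsg.Agent.Lib.FusionExt.Normal Cfsg.Agent.Lib.FusionExt.CentE
open Cfsg.Agent.Lib.FusionExt.CentE2 Cfsg.Agent.Lib.FusionExt.CentE3 Cfsg.Agent.Lib.FusionExt.Comp1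
open Cfsg.Agent.Lib.FusionExt.CentE4

universe u v

section tot

variable {Ω : Type u} [Group Ω] {S Z : Subgroup Ω} {Ω' : Type v} [Group Ω'] (θ : S →* Ω') {x y : Ω}

open Classical in
/-- A homomorphism on `S` as a total function. -/
noncomputable def tot (x : Ω) : Ω' := if h : x ∈ S then θ ⟨x, h⟩ else 1

theorem tot_of_mem (h : x ∈ S) : tot θ x = θ ⟨x, h⟩ := by simp only [tot, dif_pos h]

theorem tot_coe (s : S) : tot θ (s : Ω) = θ s := tot_of_mem θ s.2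

theorem tot_mul (hx : x ∈ S) (hy : y ∈ S) : tot θ (x * y) = tot θ x * tot θ y := by
  rw [tot_of_mem θ hx, tot_of_mem θ hy, tot_of_mem θ (S.mul_mem hx hy), ← map_mul]
  rfl

theorem tot_one : tot θ (1 : Ω) = 1 := by
  rw [tot_of_mem θ S.one_mem]
  exact map_one θ

theorem tot_inv (hx : x ∈ S) : tot θ x⁻¹ = (tot θ x)⁻¹ := by
  rw [tot_of_mem θ hx, tot_of_mem θ (S.inv_mem hx), ← map_inv]
  rfl

theorem tot_pow (hx : x ∈ S) (k : ℕ) : tot θ (x ^ k) = (tot θ x) ^ k := by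
  rw [tot_of_mem θ hx, tot_of_mem θ (S.pow_mem hx k), ← map_pow]
  rfl

theorem tot_conj (hx : x ∈ S) (hy : y ∈ S) : tot θ (x * y * x⁻¹) = tot θ x * tot θ y * (tot θ x)⁻¹ := by
  rw [tot_mul θ (S.mul_mem hx hy) (S.inv_mem hx), tot_mul θ hx hy, tot_inv θ hx]

theorem tot_eq_one_iff (hθ : ∀ s : S, θ s = 1 ↔ (s : Ω) ∈ Z) (hx : x ∈ S) : tot θ x = 1 ↔ x ∈ Z := by
  rw [tot_of_mem θ hx]
  exact hθ _

theorem tot_eq_iff (hθ : ∀ s : S, θ s = 1 ↔ (s : Ω) ∈ Z) (hx : x ∈ S) (hy : y ∈ S) : tot θ x = tot θ y ↔ x⁻¹ * y ∈ Z := by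
  rw [← tot_eq_one_iff θ hθ (S.mul_mem (S.inv_mem hx) hy), tot_mul θ (S.inv_mem hx) hy, tot_inv θ hx]
  constructor
  · intro h
    rw [h, inv_mul_cancel]
  · intro h
    exact (inv_mul_eq_one.1 h)

end tot

universe w

variable {Ω : Type w} [Group Ω] {S T : Subgroup Ω} {F : FusionSystem S} {E : FusionSystem T} {p : ℕ}
variable {X Q R P W : Subgroup Ω} {f g : Ω → Ω}

section main

variable [Finite S] [Fact p.Prime]

/-- A periodicity argument modulo a strongly closed subgroup. -/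
theorem per_mod (hS : IsPGroup p S) (hT : F.StronglyClosed T) (hf : Mp F W f) (hm : ∀ x ∈ W, f x ∈ W) {x t q : Ω} (hx : x ∈ W) (hq : q ∈ W)
    (ht : t ∈ T) (h1 : f x = x * t * q) (h2 : q⁻¹ * f q ∈ T) {n : ℕ} (hn : n.Coprime p) (hper : f^[n] x = x) : q ∈ T := by
  have hp : p.Prime := Fact.out
  have hWS : W ≤ S := hf.le
  haveI hNorm : (T.subgroupOf S).Normal := ⟨fun y hy g => sc_conj_mem F hT g.2 hy⟩
  let θ : S →* (↥S ⧸ T.subgroupOf S) := QuotientGroup.mk' (T.subgroupOf S)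
  have hθ : ∀ s : S, θ s = 1 ↔ (s : Ω) ∈ T := fun s => QuotientGroup.eq_one_iff s
  have hTS : T ≤ S := hT.1
  have hxS := hWS hx
  have hqS := hWS hq
  have hδq : tot θ (f q) = tot θ q := ((tot_eq_iff θ hθ hqS (hWS (hm q hq))).2 h2).symm
  have hδx : tot θ (f x) = tot θ x * tot θ q := by
    rw [h1, tot_mul θ (S.mul_mem hxS (hTS ht)) hqS, tot_mul θ hxS (hTS ht), (tot_eq_one_iff θ hθ (hTS ht)).2 ht, mul_one]
  have key : ∀ k : ℕ, tot θ (f^[k] x) = tot θ x * (tot θ q) ^ k := by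
    intro k
    induction k with
    | zero => simp
    | succ k ih =>
      have hk : f^[k] x ∈ W := iterate_mem hm k hx
      set a := f^[k] x with ha
      have hu : (x * q ^ k)⁻¹ * a ∈ T := by
        refine (tot_eq_iff θ hθ (S.mul_mem hxS (S.pow_mem hqS k)) (hWS hk)).1 ?_
        rw [tot_mul θ hxS (S.pow_mem hqS k), tot_pow θ hqS, ih]
      set u := (x * q ^ k)⁻¹ * a with hu'
      have huW : u ∈ W := W.mul_mem (W.inv_mem (W.mul_mem hx (W.pow_mem hq k))) hk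
      have e : a = x * q ^ k * u := by rw [hu']; group
      have hfu : f u ∈ T := sc_mp hT (hf.restrict (inf_le_right : T ⊓ W ≤ W)) inf_le_left (⟨hu, huW⟩ : u ∈ T ⊓ W)
      rw [Function.iterate_succ_apply', show f^[k] x = x * q ^ k * u from e, hf.map_mul (W.mul_mem hx (W.pow_mem hq k)) huW, hf.map_mul hx (W.pow_mem hq k),
        mp_pow hf hq k, tot_mul θ (S.mul_mem (hWS (hm x hx)) (S.pow_mem (hWS (hm q hq)) k)) (hTS hfu),
        tot_mul θ (hWS (hm x hx)) (S.pow_mem (hWS (hm q hq)) k), tot_pow θ (hWS (hm q hq)), hδq, hδx,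
        (tot_eq_one_iff θ hθ (hTS hfu)).2 hfu, mul_one, pow_succ', mul_assoc]
  have h3 := key n
  rw [hper] at h3
  have h4 : (tot θ q) ^ n = 1 := by
    have := mul_left_cancel (a := tot θ x) (b := 1) (c := (tot θ q) ^ n) (by rw [mul_one]; exact h3)
    exact this.symm
  rw [← tot_pow θ hqS] at h4
  have h5 := (tot_eq_one_iff θ hθ (S.pow_mem hqS n)).1 h4
  refine mem_of_pow_mem_coprime ?_ h5
  obtain ⟨j, hj⟩ := hS ⟨_, hqS⟩
  have h6 : q ^ p ^ j = 1 := congrArg Subtype.val hj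
  exact Nat.Coprime.coprime_dvd_left (orderOf_dvd_of_pow_eq_one h6) (Nat.Coprime.pow_left j (Nat.Coprime.symm hn))

/-- **Extending a `p'`-automorphism.** -/
theorem strong_pi (hS : IsPGroup p S) (hN : E.IsNormalIn F p) (hfn : F.IsFullyNormalized P) (hPT : P ≤ T)
    (hc : ∀ Q, F.IsConj P Q → zz T Q ≤ Q) {b : MulAut P} (hb : b ∈ E.autGroup P) {m : ℕ} (hm : m.Coprime p) (hbm : b ^ m = 1)
    (hPW : P ≤ W) (hWN : W ≤ normalizerIn S P) (hCW : centralizerIn S P ≤ W)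
    (hn : ∀ x ∈ W, ∃ x' ∈ W, ∀ y ∈ P, autFun b (x * autFun b⁻¹ y * x⁻¹) = x' * y * x'⁻¹) :
    ∃ Γ, Pp F p W Γ ∧ (∀ x ∈ P, Γ x = autFun b x) ∧ (∀ x ∈ W, x⁻¹ * Γ x ∈ T) ∧ ∀ c ∈ centralizerIn S P, c⁻¹ * Γ c ∈ zz T P := by
  obtain ⟨⟨hEs, hF, hsub, hT, hInv, hFr⟩, hext⟩ := id hN
  have hSI : StrongInv F E := strong_of_inv hInv hFr
  have hPS : P ≤ S := hfn.1
  have hTS : T ≤ S := hT.1
  have hTp : IsPGroup p T := hS.to_le hTS
  haveI : Finite T := finite_of_le hTS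
  haveI : Finite P := finite_of_le hPS
  have hcz : zz T P ≤ P := hc P (isConj_refl F hPS)
  have hNS : normalizerIn S P ≤ S := normalizerIn_le_left S P
  have hCN : centralizerIn S P ≤ normalizerIn S P := cent_le_norm
  have hPN : P ≤ normalizerIn S P := le_normalizerIn hPS
  have hRN : P ⊔ centralizerIn S P ≤ normalizerIn S P := sup_le hPN hCN
  have hRS : P ⊔ centralizerIn S P ≤ S := hRN.trans hNS
  have hRW : P ⊔ centralizerIn S P ≤ W := sup_le hPW hCW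
  have hWS : W ≤ S := hWN.trans hNS
  have hPR : P ≤ P ⊔ centralizerIn S P := le_sup_left
  have hCR : centralizerIn S P ≤ P ⊔ centralizerIn S P := le_sup_right
  obtain ⟨g, hg, hge, hgc⟩ := pi_main hS hN P hPT hc b hb
  have hco : (orderOf b).Coprime p := Nat.Coprime.coprime_dvd_left (orderOf_dvd_of_pow_eq_one hbm) hm
  have hbF : b ∈ F.autGroup P := Cfsg.Agent.Lib.FusionExt.PIndex.autGroup_le_of_subsystem hsub hPT hb
  have hpp : Pp F p P (autFun b) := Pp.of_aut hPS hbF hco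
  have hgP : Img P g P := (img_autFun b).congr (fun x hx => (hge x hx).symm)
  have hgR := pi_maps hcz hg hgP.1 hgc
  have hgi : Img (P ⊔ centralizerIn S P) g (P ⊔ centralizerIn S P) := LowPi.img_self hg hgR
  obtain ⟨G, m₁, hG, hGe, hGm⟩ := pp_extend' hRS hg hgi hPR hpp hge
  obtain ⟨hGF, hGi, hGo⟩ := id hG
  have hGP : Img P G P := (img_autFun b).congr (fun x hx => (hGe x hx).symm)
  have hGd : ∀ d ∈ centralizerIn S P, d⁻¹ * G d ∈ zz T P := by
    intro d hd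
    rw [hGm d (hCR hd)]
    exact iter_zz hPT hcz hg hgP hgc m₁ hd
  have hMs : (normalizerSystem F P hPS).IsSaturated p := isSaturated_normalizerSystem hS F hF hfn _ (fun _ => rfl)
  haveI : Finite (normalizerIn S P) := finite_of_le hNS
  have hNp : IsPGroup p (normalizerIn S P) := hS.to_le hNS
  have hconjR : ∀ s ∈ normalizerIn S P, ∀ x ∈ P ⊔ centralizerIn S P, s * x * s⁻¹ ∈ P ⊔ centralizerIn S P := fun s hs =>
    maps_sup (F := F) (Mp.conj hRS hs.1) (fun y hy => hPR (norm_conj hs.2 hy))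
      (fun d hd => hCR (conj_cent hs.1 (fun _ hy => conj_inv_mem hs.2 hy) hd))
  haveI : Finite ↥(P ⊔ centralizerIn S P) := finite_of_le hRS
  have hRfn : (normalizerSystem F P hPS).IsFullyNormalized (P ⊔ centralizerIn S P) := by
    refine ⟨hRN, fun Q' hQ' => ?_⟩
    have e : normalizerIn (normalizerIn S P) (P ⊔ centralizerIn S P) = normalizerIn S P :=
      le_antisymm (normalizerIn_le_left _ _) (fun s hs => ⟨hs, mem_normalizer_of_conj_le' (hconjR s hs)⟩)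
    rw [e]
    exact Subgroup.card_le_of_le (normalizerIn_le_left _ Q')
  have hFAR := isFullyAutomized_of_isFullyNormalized (normalizerSystem F P hPS) hNp hMs hRfn
  have hrR := isReceptive_of_isFullyNormalized (normalizerSystem F P hPS) hNp hMs hRfn
  have hGM : Mp (normalizerSystem F P hPS) (P ⊔ centralizerIn S P) G :=
    mp_norm hPS hGF hPR hRN (fun x hx => hRN (hGi.1 x hx)) hGP
  obtain ⟨Gi, hGiM, i1, i2, i3⟩ := hGM.inverse hGi
  have hGiP : ∀ y ∈ P, Gi y = autFun b⁻¹ y := by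
    intro y hy
    have h5 := i1 (autFun b⁻¹ y) (hPR (autFun_mem _ hy))
    rwa [hGe _ (autFun_mem _ hy), autFun_apply_inv] at h5
  have hGCmem : ∀ d ∈ centralizerIn S P, G d ∈ centralizerIn S P := fun d hd => map_cent hGF hGP.2 hd
  have hGiC : ∀ d ∈ centralizerIn S P, Gi d ∈ centralizerIn S P := by
    intro d hd
    refine map_cent (mp_of_norm hPS hGiM) (fun y hy => ⟨G y, hGP.1 y hy, i1 y (hPR hy)⟩) hd
  have hfnE : E.IsFullyNormalized P := fn_sub hS hF hsub hT hfn hPT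
  have hFAE := isFullyAutomized_of_isFullyNormalized E hTp hEs hfnE
  have hA : ∀ x ∈ W, ∃ t ∈ T, t ∈ W ∧ ∃ w ∈ centralizerIn S P, ∀ r ∈ P ⊔ centralizerIn S P,
      G (x * r * x⁻¹) = (x * t * w) * G r * (x * t * w)⁻¹ := by
    intro x hx
    have hxN := hWN hx
    obtain ⟨x', hx', hxe⟩ := hn x hx
    have hxN' := hWN hx'
    -- the element `t`
    have ht : ∃ t ∈ T, t ∈ Subgroup.normalizer (P : Set Ω) ∧ ∀ y ∈ P, x⁻¹ * x' * y * (x⁻¹ * x')⁻¹ = t * y * t⁻¹ := by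
      have hxi := Subgroup.inv_mem _ hxN
      have hxx : x⁻¹ * x' ∈ normalizerIn S P := Subgroup.mul_mem _ hxi hxN'
      let a₁ : MulAut P := normAct P hxN.2
      let a₃ : MulAut P := normAct P hxx.2
      have ha₁F : a₁ ∈ F.autGroup P := autInducedBy_le_autGroup F hPS (normAct_mem_autInducedBy S P hxN.2 hxN.1)
      have ha₁e : ∀ y ∈ P, autFun a₁ y = x * y * x⁻¹ := fun y hy => by
        rw [autFun_of_mem a₁ hy]
        rfl
      have ha₃e : ∀ y ∈ P, autFun a₃ y = x⁻¹ * x' * y * (x⁻¹ * x')⁻¹ := fun y hy => by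
        rw [autFun_of_mem a₃ hy]
        rfl
      have ha₁i : ∀ y ∈ P, autFun a₁⁻¹ y = x⁻¹ * y * x := by
        intro y hy
        have h5 := autFun_inv_apply a₁ (x⁻¹ * y * x)
        rw [ha₁e _ (conj_inv_mem hxN.2 hy)] at h5
        have e : x * (x⁻¹ * y * x) * x⁻¹ = y := by group
        rwa [e] at h5
      have hc₁ : a₁⁻¹ * b * a₁ ∈ E.autGroup P := by
        refine strong_conj_aut hSI hPT (autHom_mem F hPS (Subgroup.inv_mem _ ha₁F)) (autHom_range a₁⁻¹) hb _ (fun y h => ?_)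
        show ((a₁⁻¹ (b (a₁ ⟨a₁⁻¹ y, h⟩)) : P) : Ω) = ((a₁⁻¹ (b y) : P) : Ω)
        have e : (⟨a₁⁻¹ y, h⟩ : P) = a₁⁻¹ y := rfl
        rw [e, MulAut.apply_inv_self]
      have hc₃ : a₃ ∈ E.autGroup P := by
        have e : a₃ = a₁⁻¹ * b * a₁ * b⁻¹ := by
          ext y
          have hy : ((b⁻¹ y : P) : Ω) ∈ P := (b⁻¹ y).2
          have h5 : ((a₃ y : P) : Ω) = x⁻¹ * x' * y * (x⁻¹ * x')⁻¹ := rfl
          have h6 := hxe y y.2
          have h7 : ((a₁⁻¹ (b (a₁ (b⁻¹ y))) : P) : Ω) = autFun a₁⁻¹ (autFun b (autFun a₁ (autFun b⁻¹ y))) := by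
            rw [autFun_coe b⁻¹, autFun_coe a₁, autFun_coe b, autFun_coe a₁⁻¹]
          show ((a₃ y : P) : Ω) = ((a₁⁻¹ (b (a₁ (b⁻¹ y))) : P) : Ω)
          rw [h5, h7, ha₁e _ (autFun_mem _ y.2), h6, ha₁i _ (norm_conj hxN'.2 y.2)]
          group
        rw [e]
        exact Subgroup.mul_mem _ hc₁ (Subgroup.inv_mem _ hb)
      have hc₃S : a₃ ∈ autInducedBy S P := normAct_mem_autInducedBy S P hxx.2 hxx.1
      have hle : autInducedBy T P ≤ autInducedBy S P ⊓ E.autGroup P := le_inf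
        (fun a ha => by
          obtain ⟨g₀, hg₀, hg₀e⟩ := (mem_autInducedBy_iff T P a).1 ha
          exact (mem_autInducedBy_iff S P a).2 ⟨g₀, hTS hg₀, hg₀e⟩)
        (autInducedBy_le_autGroup E hPT)
      have hmax := ((isSylowIn_iff_maximal (autInducedBy_le_autGroup E hPT)).1 hFAE.2).2 _ inf_le_right
        (IsPGroup.to_le (isPGroup_autInducedBy P hS) inf_le_left) hle
      have hc₃T : a₃ ∈ autInducedBy T P := by
        rw [← hmax]
        exact ⟨hc₃S, hc₃⟩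
      obtain ⟨t, ht, hte⟩ := (mem_autInducedBy_iff T P a₃).1 hc₃T
      have hte' : ∀ y ∈ P, x⁻¹ * x' * y * (x⁻¹ * x')⁻¹ = t * y * t⁻¹ := fun y hy => (hte ⟨y, hy⟩).symm.symm ▸ rfl
      refine ⟨t, ht, mem_normalizer_of_conj_le' (fun y hy => ?_), hte'⟩
      rw [← hte' y hy]
      exact norm_conj hxx.2 hy
    obtain ⟨t, htT, htN, hte⟩ := ht
    have htNN : t ∈ normalizerIn S P := ⟨hTS htT, htN⟩
    have hxt : x * t ∈ normalizerIn S P := Subgroup.mul_mem _ hxN htNN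
    have hxtW : x * t ∈ W := by
      have hcc : (x * t)⁻¹ * x' ∈ centralizerIn S P := by
        refine mem_cent.2 ⟨S.mul_mem (S.inv_mem (hNS hxt)) (hNS hxN'), fun y hy => ?_⟩
        have h5 := hte y hy
        have h6 : x' * y * x'⁻¹ = x * t * y * (x * t)⁻¹ := by
          calc x' * y * x'⁻¹ = x * (x⁻¹ * x' * y * (x⁻¹ * x')⁻¹) * x⁻¹ := by group
            _ = x * (t * y * t⁻¹) * x⁻¹ := by rw [h5]
            _ = x * t * y * (x * t)⁻¹ := by group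
        calc y * ((x * t)⁻¹ * x') = (x * t)⁻¹ * (x * t * y * (x * t)⁻¹) * x' := by group
          _ = (x * t)⁻¹ * (x' * y * x'⁻¹) * x' := by rw [h6]
          _ = (x * t)⁻¹ * x' * y := by group
      have e : x * t = x' * ((x * t)⁻¹ * x')⁻¹ := by group
      rw [e]
      exact W.mul_mem hx' (W.inv_mem (hCW hcc))
    have htW : t ∈ W := by
      have e : t = x⁻¹ * (x * t) := by group
      rw [e]
      exact W.mul_mem (W.inv_mem hx) hxtW
    refine ⟨t, htT, htW, ?_⟩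
    -- the automorphism `v`
    have h1 : Mp (normalizerSystem F P hPS) (P ⊔ centralizerIn S P) (fun r => x * Gi r * x⁻¹) :=
      hGiM.comp i3.1 (Mp.conj hRN hxN)
    have h2 : Mp (normalizerSystem F P hPS) (P ⊔ centralizerIn S P) (fun r => G (x * Gi r * x⁻¹)) :=
      h1.comp (fun r hr => hconjR x hxN _ (i3.1 r hr)) hGM
    have hxti := Subgroup.inv_mem _ hxt
    have h3 : Mp (normalizerSystem F P hPS) (P ⊔ centralizerIn S P) (fun r => (x * t)⁻¹ * G (x * Gi r * x⁻¹) * ((x * t)⁻¹)⁻¹) :=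
      h2.comp (fun r hr => hGi.1 _ (hconjR x hxN _ (i3.1 r hr))) (Mp.conj hRN hxti)
    have hvm : ∀ r ∈ P ⊔ centralizerIn S P, (x * t)⁻¹ * G (x * Gi r * x⁻¹) * ((x * t)⁻¹)⁻¹ ∈ P ⊔ centralizerIn S P := fun r hr =>
      hconjR _ hxti _ (hGi.1 _ (hconjR x hxN _ (i3.1 r hr)))
    obtain ⟨v, hv, hve⟩ := h3.toAut (LowPi.img_self h3 hvm)
    have hvf : ∀ r ∈ P ⊔ centralizerIn S P, autFun v r = (x * t)⁻¹ * G (x * Gi r * x⁻¹) * ((x * t)⁻¹)⁻¹ := fun r hr => by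
      rw [autFun_of_mem v hr]
      exact hve ⟨r, hr⟩
    have hvA : ∀ y ∈ P, autFun v y = y := by
      intro y hy
      rw [hvf y (hPR hy), hGiP y hy, hGe _ (norm_conj hxN.2 (autFun_mem _ hy)), hxe y hy]
      have h5 := hte y hy
      have h6 : x' * y * x'⁻¹ = x * t * y * (x * t)⁻¹ := by
        calc x' * y * x'⁻¹ = x * (x⁻¹ * x' * y * (x⁻¹ * x')⁻¹) * x⁻¹ := by group
          _ = x * (t * y * t⁻¹) * x⁻¹ := by rw [h5]
          _ = x * t * y * (x * t)⁻¹ := by group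
      rw [h6]
      group
    have hvD : ∀ d ∈ centralizerIn S P, d⁻¹ * autFun v d ∈ zz T P := by
      intro d hd
      have hd₀ := hGiC d hd
      set d₀ := Gi d with hd₀def
      have hz₀ : d₀⁻¹ * d ∈ zz T P := by
        have h5 := hGd d₀ hd₀
        rwa [hd₀def, i2 d (hCR hd)] at h5
      have hd₁ : x * d₀ * x⁻¹ ∈ centralizerIn S P := conj_cent hxN.1 (fun _ hy => conj_inv_mem hxN.2 hy) hd₀
      have hz₁ := hGd _ hd₁
      have hz₁' : (x * t)⁻¹ * ((x * d₀ * x⁻¹)⁻¹ * G (x * d₀ * x⁻¹)) * (x * t) ∈ zz T P := by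
        have := conj_zz_norm hT hxti hz₁
        rwa [inv_inv] at this
      have hz₂ : d₀⁻¹ * (t⁻¹ * d₀ * t) ∈ zz T P := by
        refine mem_zz.2 ⟨?_, fun y hy => ?_⟩
        · have h5 := sc_conj_mem F hT (S.inv_mem (hCN hd₀).1) (T.inv_mem htT)
          rw [inv_inv] at h5
          have e : d₀⁻¹ * (t⁻¹ * d₀ * t) = (d₀⁻¹ * t⁻¹ * d₀) * t := by group
          rw [e]
          exact T.mul_mem h5 htT
        · have h5 : t⁻¹ * d₀ * t ∈ centralizerIn S P := by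
            have := conj_cent (s := t⁻¹) (S.inv_mem (hTS htT)) (fun y hy => ?_) hd₀
            · rwa [inv_inv] at this
            · rw [inv_inv]
              exact norm_conj htN hy
          have hc1 := (mem_cent.1 hd₀).2 y hy
          have hc2 := (mem_cent.1 h5).2 y hy
          have hc3 : y * d₀⁻¹ = d₀⁻¹ * y := by
            calc y * d₀⁻¹ = d₀⁻¹ * (d₀ * y) * d₀⁻¹ := by group
              _ = d₀⁻¹ * (y * d₀) * d₀⁻¹ := by rw [hc1]
              _ = d₀⁻¹ * y := by group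
          calc y * (d₀⁻¹ * (t⁻¹ * d₀ * t)) = (y * d₀⁻¹) * (t⁻¹ * d₀ * t) := by group
            _ = d₀⁻¹ * (y * (t⁻¹ * d₀ * t)) := by rw [hc3]; group
            _ = d₀⁻¹ * ((t⁻¹ * d₀ * t) * y) := by rw [hc2]
            _ = d₀⁻¹ * (t⁻¹ * d₀ * t) * y := by group
      rw [hvf d (hCR hd)]
      have e : d⁻¹ * ((x * t)⁻¹ * G (x * Gi d * x⁻¹) * ((x * t)⁻¹)⁻¹) =
          (d₀⁻¹ * d)⁻¹ * (d₀⁻¹ * (t⁻¹ * d₀ * t)) * ((x * t)⁻¹ * ((x * d₀ * x⁻¹)⁻¹ * G (x * d₀ * x⁻¹)) * (x * t)) := by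
        rw [← hd₀def]
        group
      rw [e]
      exact Subgroup.mul_mem _ (Subgroup.mul_mem _ (Subgroup.inv_mem _ hz₀) hz₂) hz₁'
    have hPmaps : ∀ a ∈ (normalizerSystem F P hPS).autGroup (P ⊔ centralizerIn S P), Img P (autFun a) P := fun a ha =>
      img_of_norm hPS (mp_autFun hRN ha) hPR
    have hind := v_induced (S' := normalizerIn S P) (F' := normalizerSystem F P hPS) hNp (Z := zz T P) hRN hFAR hcz
      (fun d hd => cent_le_normalizer hd)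
      (fun z hz y hy => ((mem_zz.1 hz).2 y hy))
      (fun a ha y hy => (hPmaps a ha).1 y hy)
      (fun a ha d hd => map_cent (mp_of_norm hPS (mp_autFun hRN ha)) (hPmaps a ha).2 hd)
      (fun a ha z hz => zz_img (mp_of_norm hPS (mp_autFun hRN ha)) hPR (hPmaps a ha) hPT hz (hcz hz))
      hv hvA hvD
    obtain ⟨w, hw, hwe⟩ := (mem_autInducedBy_iff (normalizerIn S P) _ v).1 hind
    have hwf : ∀ r ∈ P ⊔ centralizerIn S P, autFun v r = w * r * w⁻¹ := fun r hr => by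
      rw [autFun_of_mem v hr]
      exact hwe ⟨r, hr⟩
    have hwC : w ∈ centralizerIn S P := by
      refine mem_cent.2 ⟨hNS hw, fun y hy => ?_⟩
      have h5 := hwf y (hPR hy)
      rw [hvA y hy] at h5
      calc y * w = w * y * w⁻¹ * w := by rw [← h5]
        _ = w * y := by group
    refine ⟨w, hwC, fun r hr => ?_⟩
    have h5 := hwf (G r) (hGi.1 r hr)
    rw [hvf _ (hGi.1 r hr), i1 r hr] at h5
    have h6 : G (x * r * x⁻¹) = (x * t) * ((x * t)⁻¹ * G (x * r * x⁻¹) * ((x * t)⁻¹)⁻¹) * (x * t)⁻¹ := by group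
    rw [h6, h5]
    group
  -- the extension
  obtain ⟨Γ₀, hΓ₀M, hΓ₀e⟩ := hGM.ext_rec hrR hGi hRW (fun y hy => by
    obtain ⟨t, htT, htW, w, hw, he⟩ := hA y hy
    refine ⟨hWN hy, mem_normalizer_of_conj_le' (hconjR y (hWN hy)), y * t * w, hWN (W.mul_mem (W.mul_mem hy htW) (hCW hw)), ?_⟩
    exact he)
  have key2 : ∀ Γ', Mp F W Γ' → (∀ r ∈ P ⊔ centralizerIn S P, Γ' r = G r) → ∀ x ∈ W, ∃ t ∈ T, t ∈ W ∧ ∃ q ∈ centralizerIn S P, Γ' x = x * t * q := by
    intro Γ' hΓ' hΓ'e x hx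
    obtain ⟨t, htT, htW, w, hw, he⟩ := hA x hx
    have hxtw : x * t * w ∈ W := W.mul_mem (W.mul_mem hx htW) (hCW hw)
    have hcc : (x * t * w)⁻¹ * Γ' x ∈ centralizerIn S P := by
      refine mem_cent.2 ⟨S.mul_mem (S.inv_mem (hWS hxtw)) (hΓ'.mem_S hx), fun y hy => ?_⟩
      obtain ⟨r, hr, rfl⟩ := hGP.2 y hy
      have h5 := he r (hPR hr)
      have h6 := hΓ'.map_conj hx (hRW (hPR hr))
      rw [hΓ'e _ (hconjR x (hWN hx) r (hPR hr)), hΓ'e r (hPR hr), h5] at h6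
      generalize G r = u at h6
      generalize Γ' x = d at h6
      calc u * ((x * t * w)⁻¹ * d) = (x * t * w)⁻¹ * ((x * t * w) * u * (x * t * w)⁻¹) * d := by group
        _ = (x * t * w)⁻¹ * (d * u * d⁻¹) * d := by rw [h6]
        _ = (x * t * w)⁻¹ * d * u := by group
    refine ⟨t, htT, htW, w * ((x * t * w)⁻¹ * Γ' x), Subgroup.mul_mem _ hw hcc, ?_⟩
    group
  have hΓ₀F : Mp F W Γ₀ := mp_of_norm hPS hΓ₀M
  have hΓ₀W : ∀ x ∈ W, Γ₀ x ∈ W := by
    intro x hx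
    obtain ⟨t, -, htW, q, hq, e⟩ := key2 Γ₀ hΓ₀F hΓ₀e x hx
    rw [e]
    exact W.mul_mem (W.mul_mem hx htW) (hCW hq)
  have hΓ₀i := LowPi.img_self hΓ₀F hΓ₀W
  obtain ⟨Γ, m₂, hΓ, hΓe, -⟩ := pp_extend' hWS hΓ₀F hΓ₀i hRW hG hΓ₀e
  obtain ⟨hΓF, hΓi, m₃, hm₃, hΓo⟩ := id hΓ
  refine ⟨Γ, hΓ, fun x hx => ?_, fun x hx => ?_, fun c hc' => ?_⟩
  · rw [hΓe x (hPR hx), hGe x hx]
  · obtain ⟨t, htT, -, q, hq, e⟩ := key2 Γ hΓF hΓe x hx
    have hqT : q ∈ T := per_mod hS hT hΓF hΓi.1 hx (hCW hq) htT e (by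
      rw [hΓe q (hCR hq)]
      exact (mem_zz.1 (hGd q hq)).1) hm₃ (hΓo x hx)
    rw [e]
    have e2 : x⁻¹ * (x * t * q) = t * q := by group
    rw [e2]
    exact T.mul_mem htT hqT
  · rw [hΓe c (hCR hc')]
    exact hGd c hc'

end main

end Cfsg.Agent.Lib.FusionExt.LiftA
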