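import Cfsg.Agent.Lib.FusionExt.Iso2
import Cfsg.Agent.Lib.FusionExt.LiftA
import Cfsg.Agent.Lib.Fusion.Center

/-!
# Images of simple and quasisimple systems (helper92)
-/

set_option autoImplicit false
set_option linter.unusedSectionVars false

namespace Cfsg.Agent.Lib.FusionExt.Iso3

open Cfsg Cfsg.FusionSystem Cfsg.Agent.Lib.Fusion.Basic Cfsg.Agent.Lib.Fusion.GroupSystem
open Cfsg.Agent.Lib.FusionExt.MapApi Cfsg.Agent.Lib.FusionExt.Basic Cfsg.Agent.Lib.FusionExt.Normal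
open Cfsg.Agent.Lib.FusionExt.PowerE Cfsg.Agent.Lib.FusionExt.LowPi Cfsg.Agent.Lib.FusionExt.Invariant
open Cfsg.Agent.Lib.FusionExt.CentSys Cfsg.Agent.Lib.FusionExt.Factor Cfsg.Agent.Lib.FusionExt.FactorExt
open Cfsg.Agent.Lib.FusionExt.FactorSat Cfsg.Agent.Lib.FusionExt.PrimeRes1 Cfsg.Agent.Lib.FusionExt.Iso1
open Cfsg.Agent.Lib.FusionExt.Comp1 Cfsg.Agent.Lib.FusionExt.PowerSys Cfsg.Agent.Lib.FusionExt.Iso2
open Cfsg.Agent.Lib.FusionExt.LiftA Cfsg.Agent.Lib.Fusion.Center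

universe u v

variable {Ω : Type u} [Group Ω] {Ω' : Type v} [Group Ω'] {a : Ω → Ω'} {b : Ω' → Ω}
variable {V W X X₀ Y : Subgroup Ω} {V' W' X' Y' : Subgroup Ω'}

/-- Mutually inverse bijections. -/
structure IsoPair (a : Ω → Ω') (b : Ω' → Ω) (V : Subgroup Ω) (V' : Subgroup Ω') : Prop where
  tr : TrOn a V
  im : Im V a V'
  ba : ∀ x ∈ V, b (a x) = x

namespace IsoPair

variable (h : IsoPair a b V V')
include h

theorem ab {y : Ω'} (hy : y ∈ V') : a (b y) = y := by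
  obtain ⟨x, hx, rfl⟩ := h.im.2 y hy
  rw [h.ba x hx]

theorem bmem {y : Ω'} (hy : y ∈ V') : b y ∈ V := by
  obtain ⟨x, hx, rfl⟩ := h.im.2 y hy
  rw [h.ba x hx]
  exact hx

theorem symm : IsoPair b a V' V := by
  refine ⟨⟨fun x hx y hy => ?_, fun x hx y hy e => ?_⟩, ⟨fun y hy => h.bmem hy, fun x hx => ⟨a x, h.im.1 x hx, h.ba x hx⟩⟩, fun y hy => h.ab hy⟩
  · apply h.tr.inj _ (h.bmem (V'.mul_mem hx hy)) _ (V.mul_mem (h.bmem hx) (h.bmem hy))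
    rw [h.ab (V'.mul_mem hx hy), h.tr.mul _ (h.bmem hx) _ (h.bmem hy), h.ab hx, h.ab hy]
  · rw [← h.ab hx, ← h.ab hy, e]

end IsoPair

theorem exists_isoPair (ht : TrOn a V) (hi : Im V a V') : ∃ b, IsoPair a b V V' :=
  ⟨binv a V, ht, hi, fun _ hx => binv_apply ht hx⟩

section sys

variable {A : FusionSystem V} {A' : FusionSystem V'}

theorem imgSys_symm (hI : IsoPair a b V V') (h : ImgSys a A A') : ImgSys b A' A := by
  intro X f
  constructor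
  · intro hf
    have hXV : X ≤ V := hf.le
    obtain ⟨Y, hY⟩ := hI.tr.exists_im hXV
    obtain ⟨f', hf', hf'e⟩ := h.push hI.tr hf hY
    refine ⟨Y, f', hf', ⟨fun y hy => ?_, fun x hx => ⟨a x, hY.1 x hx, hI.ba x (hXV hx)⟩⟩, fun y hy => ?_⟩
    · obtain ⟨x, hx, rfl⟩ := hY.2 y hy
      rw [hI.ba x (hXV hx)]
      exact hx
    · obtain ⟨x, hx, rfl⟩ := hY.2 y hy
      rw [hI.ba x (hXV hx), hf'e x hx, hI.ba _ (hf.mem_S hx)]
  · rintro ⟨X₀, f₀, hf₀, hi, hv⟩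
    obtain ⟨Y₀, g₀, h1, h2, h3⟩ := (h X₀ f₀).1 hf₀
    have hY₀V : Y₀ ≤ V := h1.le
    have hYX : Y₀ = X := by
      ext x
      constructor
      · intro hx
        have := hi.1 _ (h2.1 x hx)
        rwa [hI.ba x (hY₀V hx)] at this
      · intro hx
        obtain ⟨y, hy, rfl⟩ := hi.2 x hx
        obtain ⟨y₀, hy₀, rfl⟩ := h2.2 y hy
        rw [hI.ba y₀ (hY₀V hy₀)]
        exact hy₀
    subst hYX
    refine h1.congr (fun x hx => ?_)
    have h4 := hv (a x) (h2.1 x hx)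
    rw [hI.ba x (hY₀V hx), h3 x hx, hI.ba _ (h1.mem_S hx)] at h4
    exact h4.symm

theorem im_sup (ht : TrOn a V) (hX : X ≤ V) (hY : Y ≤ V) (h1 : Im X a X') (h2 : Im Y a Y') : Im (X ⊔ Y) a (X' ⊔ Y') := by
  let L : Subgroup Ω :=
    { carrier := {x | x ∈ V ∧ a x ∈ X' ⊔ Y'}
      mul_mem' := by
        rintro x y ⟨h3, h4⟩ ⟨h5, h6⟩
        refine ⟨V.mul_mem h3 h5, ?_⟩
        rw [ht.mul x h3 y h5]
        exact Subgroup.mul_mem _ h4 h6
      one_mem' := ⟨V.one_mem, by rw [ht.one]; exact Subgroup.one_mem _⟩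
      inv_mem' := by
        rintro x ⟨h3, h4⟩
        refine ⟨V.inv_mem h3, ?_⟩
        rw [ht.inv h3]
        exact Subgroup.inv_mem _ h4 }
  have hle : X ⊔ Y ≤ L := sup_le (fun x hx => ⟨hX hx, Subgroup.mem_sup_left (h1.1 x hx)⟩)
    (fun x hx => ⟨hY hx, Subgroup.mem_sup_right (h2.1 x hx)⟩)
  obtain ⟨W₁, hW₁⟩ := ht.exists_im (sup_le hX hY)
  have hle' : X' ⊔ Y' ≤ W₁ := by
    refine sup_le (fun y hy => ?_) (fun y hy => ?_)
    · obtain ⟨x, hx, rfl⟩ := h1.2 y hy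
      exact hW₁.1 x (Subgroup.mem_sup_left hx)
    · obtain ⟨x, hx, rfl⟩ := h2.2 y hy
      exact hW₁.1 x (Subgroup.mem_sup_right hx)
  exact ⟨fun x hx => (hle hx).2, fun y hy => hW₁.2 y (hle' hy)⟩

/-- Images of central subgroups are central. -/
theorem central_img {Z : Subgroup Ω} {Z' : Subgroup Ω'} (ht : TrOn a V) (hi : Im V a V') (h : ImgSys a A A') (hZ : A.IsCentral Z)
    (hZi : Im Z a Z') : A'.IsCentral Z' := by
  refine ⟨fun y hy => ?_, fun P φ hφ => ?_⟩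
  · obtain ⟨x, hx, rfl⟩ := hZi.2 y hy
    exact hi.1 x (hZ.1 hx)
  obtain ⟨X₀, f₀, h1, h2, h3⟩ := (h P _).1 (mp_of_hom hφ)
  obtain ⟨φ₀, hφ₀, e₀⟩ := h1
  obtain ⟨ψ, hψ, h4, h5⟩ := hZ.2 X₀ φ₀ hφ₀
  have hX₀V : X₀ ≤ V := Cfsg.Agent.Lib.Fusion.Basic.le_of_mem A hφ₀
  have hIm : Im (X₀ ⊔ Z) a (P ⊔ Z') := im_sup ht hX₀V hZ.1 h2 hZi
  obtain ⟨g, hg, hge⟩ := h.push ht (mp_of_hom hψ) hIm
  obtain ⟨ψ', hψ', e'⟩ := hg
  refine ⟨ψ', hψ', fun x => ?_, fun z => ?_⟩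
  · rw [show ψ' (Subgroup.inclusion le_sup_left x) = g x from e' _]
    obtain ⟨x₀, hx₀, e⟩ := h2.2 x x.2
    have h6 : x₀ ∈ X₀ ⊔ Z := Subgroup.mem_sup_left hx₀
    rw [← e, hge x₀ h6, extOf_of_mem ψ h6]
    have h7 := h4 ⟨x₀, hx₀⟩
    have e2 : (⟨x₀, h6⟩ : ↥(X₀ ⊔ Z)) = Subgroup.inclusion le_sup_left ⟨x₀, hx₀⟩ := rfl
    rw [e2, h7, e₀, ← h3 x₀ hx₀, e, extOf_coe]
  · rw [show ψ' (Subgroup.inclusion le_sup_right z) = g z from e' _]
    obtain ⟨z₀, hz₀, e⟩ := hZi.2 z z.2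
    have h6 : z₀ ∈ X₀ ⊔ Z := Subgroup.mem_sup_right hz₀
    rw [← e, hge z₀ h6, extOf_of_mem ψ h6]
    have h7 := h5 ⟨z₀, hz₀⟩
    have e2 : (⟨z₀, h6⟩ : ↥(X₀ ⊔ Z)) = Subgroup.inclusion le_sup_right ⟨z₀, hz₀⟩ := rfl
    rw [e2, h7]

/-- The centre of the image. -/
theorem center_im [Finite V] (hI : IsoPair a b V V') (h : ImgSys a A A') : Im A.center a A'.center := by
  haveI : Finite V' := finite_im hI.im
  have hZ := isCentral_center A
  have hZ' := isCentral_center A'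
  obtain ⟨Y', hY'⟩ := hI.tr.exists_im hZ.1
  obtain ⟨Y, hY⟩ := hI.symm.tr.exists_im hZ'.1
  have h1 : A'.IsCentral Y' := central_img hI.tr hI.im h hZ hY'
  have h2 : A.IsCentral Y := central_img hI.symm.tr hI.symm.im (imgSys_symm hI h) hZ' hY
  have h3 : Y' ≤ A'.center := le_sSup h1
  have h4 : Y ≤ A.center := le_sSup h2
  refine ⟨fun x hx => h3 (hY'.1 x hx), fun y hy => ⟨b y, h4 (hY.1 y hy), hI.ab (hZ'.1 hy)⟩⟩

/-- `p'`-maps give elements of the hyperfocal subgroup. -/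
theorem pp_hyp {Ω : Type u} [Group Ω] {V X : Subgroup Ω} {A : FusionSystem V} {f : Ω → Ω} {p : ℕ} [Fact p.Prime] (hf : Pp A p X f) {x : Ω} (hx : x ∈ X) :
    x⁻¹ * f x ∈ A.hyperfocalSubgroup p := by
  obtain ⟨c, hc, hce⟩ := hf.1.toAut hf.2.1
  obtain ⟨m, hm, hper⟩ := hf.2.2
  have hcm : c ^ m = 1 := by
    refine MulEquiv.ext (fun y => Subtype.ext ?_)
    have h1 := iterate_autFun (a := c) m y
    have h2 := hper y y.2
    have e : ∀ z ∈ X, autFun c z = f z := fun z hz => by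
      rw [autFun_of_mem c hz, hce ⟨z, hz⟩]
    have h3 : (autFun c)^[m] (y : Ω) = f^[m] y := iterate_congr (img_autFun c).1 e m y.2
    rw [h3, h2] at h1
    exact h1.symm
  have hcp : (orderOf c).Coprime p := Nat.Coprime.coprime_dvd_left (orderOf_dvd_of_pow_eq_one hcm) hm
  have hbr : (⟨c, hc⟩ : A.autGroup X) ∈ pResidual p (A.autGroup X) := by
    apply Cfsg.Agent.Lib.Core.Residual.mem_pResidual_of_coprime
    rw [Subgroup.orderOf_mk]
    exact hcp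
  have := Cfsg.Agent.Lib.FusionExt.Hyperfocal.hyperfocal_gen A hf.1.le ⟨c, hc⟩ hbr ⟨x, hx⟩
  have e := hce ⟨x, hx⟩
  rw [show (((⟨c, hc⟩ : A.autGroup X) : MulAut X) ⟨x, hx⟩ : X) = c ⟨x, hx⟩ from rfl, e] at this
  exact this

/-- The hyperfocal subgroup of the image. -/
theorem hyp_img {p : ℕ} [Fact p.Prime] [Finite V] (ht : TrOn a V) (hi : Im V a V') (h : ImgSys a A A') (hyp : A.hyperfocalSubgroup p = V) :
    A'.hyperfocalSubgroup p = V' := by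
  apply le_antisymm (Cfsg.Agent.Lib.FusionExt.Hyperfocal.hyperfocal_le A')
  let L : Subgroup Ω :=
    { carrier := {x | x ∈ V ∧ a x ∈ A'.hyperfocalSubgroup p}
      mul_mem' := by
        rintro x y ⟨h3, h4⟩ ⟨h5, h6⟩
        refine ⟨V.mul_mem h3 h5, ?_⟩
        rw [ht.mul x h3 y h5]
        exact Subgroup.mul_mem _ h4 h6
      one_mem' := ⟨V.one_mem, by rw [ht.one]; exact Subgroup.one_mem _⟩
      inv_mem' := by
        rintro x ⟨h3, h4⟩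
        refine ⟨V.inv_mem h3, ?_⟩
        rw [ht.inv h3]
        exact Subgroup.inv_mem _ h4 }
  have hle : A.hyperfocalSubgroup p ≤ L := by
    refine hyperfocal_le_of_gen (fun P hP f hf x hx => ?_)
    refine ⟨V.mul_mem (V.inv_mem (hP hx)) (hf.1.mem_S hx), ?_⟩
    rw [ht.mul _ (V.inv_mem (hP hx)) _ (hf.1.mem_S hx), ht.inv (hP hx)]
    obtain ⟨P', hP'⟩ := ht.exists_im hP
    obtain ⟨f', hf', hf'e⟩ := h.push ht hf.1 hP'
    have hpp : Pp A' p P' f' := by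
      refine ⟨hf', ⟨fun y hy => ?_, fun y hy => ?_⟩, ?_⟩
      · obtain ⟨x₀, hx₀, rfl⟩ := hP'.2 y hy
        rw [hf'e x₀ hx₀]
        exact hP'.1 _ (hf.2.1.1 x₀ hx₀)
      · obtain ⟨x₀, hx₀, rfl⟩ := hP'.2 y hy
        obtain ⟨x₁, hx₁, rfl⟩ := hf.2.1.2 x₀ hx₀
        exact ⟨a x₁, hP'.1 x₁ hx₁, hf'e x₁ hx₁⟩
      · obtain ⟨m, hm, hper⟩ := hf.2.2
        refine ⟨m, hm, fun y hy => ?_⟩
        obtain ⟨x₀, hx₀, rfl⟩ := hP'.2 y hy
        have key : ∀ n : ℕ, f'^[n] (a x₀) = a (f^[n] x₀) := by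
          intro n
          induction n with
          | zero => rfl
          | succ n ih =>
            rw [Function.iterate_succ_apply', ih, hf'e _ (iterate_mem hf.2.1.1 n hx₀), Function.iterate_succ_apply']
        rw [key, hper x₀ hx₀]
    have := pp_hyp hpp (hP'.1 x hx)
    rwa [hf'e x hx] at this
  intro y hy
  obtain ⟨x, hx, rfl⟩ := hi.2 y hy
  rw [← hyp] at hx
  exact (hle hx).2

end sys

/-- **Images of simple systems are simple.** -/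
theorem simple_tr {p : ℕ} [Fact p.Prime] [Finite W] {B : FusionSystem W} {B' : FusionSystem W'} (hW : IsPGroup p W) (hI : IsoPair a b W W')
    (h : ImgSys a B B') (hB : B.IsSimple p) : B'.IsSimple p := by
  haveI hfinW' : Finite W' := finite_im hI.im
  have hW'p : IsPGroup p W' := isP_im hW hI.tr hI.im
  refine ⟨sat_img hW hI.tr hB.1 h hI.im, fun e => hB.2.1 ?_, fun T₁ E₁ hE₁ => ?_⟩
  · rw [eq_bot_iff]
    intro x hx
    have h1 := hI.im.1 x hx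
    rw [e, Subgroup.mem_bot] at h1
    have h2 := hI.tr.inj x hx 1 W.one_mem (h1.trans hI.tr.one.symm)
    rw [h2]
    exact Subgroup.one_mem _
  have hT₁ : T₁ ≤ W' := hE₁.1.2.2.2.1.1
  haveI : Finite T₁ := finite_of_le hT₁
  have hsym := imgSys_symm hI h
  have htb : TrOn b T₁ := hI.symm.tr.mono hT₁
  obtain ⟨T₀, hT₀⟩ := htb.exists_im le_rfl
  obtain ⟨E₀, hE₀⟩ := exists_imgSys htb hT₀ E₁
  have hN₀ : E₀.IsNormalIn B p := tr_normal hW'p hI.symm.tr hE₁ hE₀ hsym hT₀ hI.symm.im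
  rcases hB.2.2 T₀ E₀ hN₀ with hbot | ⟨htop, hHom⟩
  · left
    rw [eq_bot_iff]
    intro y hy
    have h1 := hT₀.1 y hy
    rw [hbot, Subgroup.mem_bot] at h1
    have h2 := hI.ab (hT₁ hy)
    rw [h1, hI.tr.one] at h2
    rw [Subgroup.mem_bot]
    exact h2.symm
  · right
    subst htop
    have hTe : T₁ = W' := by
      apply le_antisymm hT₁
      intro y hy
      obtain ⟨y₁, hy₁, e⟩ := hT₀.2 _ (hI.symm.im.1 y hy)
      have := hI.symm.tr.inj y₁ (hT₁ hy₁) y hy e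
      rw [← this]
      exact hy₁
    refine ⟨hTe, fun P => Set.ext fun φ => ⟨fun hφ => hE₁.1.2.2.1 P hφ, fun hφ => ?_⟩⟩
    apply hom_of_mp
    obtain ⟨X₀, f₀, h1, h2, h3⟩ := (h P _).1 (mp_of_hom hφ)
    obtain ⟨φ₀, hφ₀, e₀⟩ := h1
    have h4 : Mp E₀ X₀ f₀ := ⟨φ₀, by rw [hHom]; exact hφ₀, e₀⟩
    obtain ⟨Y₀, g₀, h5, h6, h7⟩ := (hE₀ X₀ f₀).1 h4
    have hX₀W : X₀ ≤ T₀ := h4.le
    have hY₀T : Y₀ ≤ T₁ := h5.le
    have hYP : Y₀ = P := by
      ext y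
      constructor
      · intro hy
        have h8 := h2.1 _ (h6.1 y hy)
        rwa [hI.ab (hT₁ (hY₀T hy))] at h8
      · intro hy
        obtain ⟨x, hx, rfl⟩ := h2.2 y hy
        obtain ⟨y₀, hy₀, rfl⟩ := h6.2 x hx
        rw [hI.ab (hT₁ (hY₀T hy₀))]
        exact hy₀
    subst hYP
    refine h5.congr (fun y hy => ?_)
    have h8 := h7 y hy
    have h9 := h3 (b y) (h6.1 y hy)
    rw [hI.ab (hT₁ (hY₀T hy))] at h9
    rw [h9, h8, hI.ab (hT₁ (h5.mem_S hy))]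

end Cfsg.Agent.Lib.FusionExt.Iso3
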