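import Cfsg.Agent.Lib.FusionExt.CharN2
import Cfsg.Agent.Lib.FusionExt.CentP

/-!
# Components are normal in the layer (helper92)
-/

set_option autoImplicit false
set_option linter.unusedSectionVars false

namespace Cfsg.Agent.Lib.FusionExt.Layer

open Cfsg Cfsg.FusionSystem Cfsg.Agent.Lib.Fusion.Basic Cfsg.Agent.Lib.Fusion.GroupSystem
open Cfsg.Agent.Lib.FusionExt.MapApi Cfsg.Agent.Lib.FusionExt.Basic Cfsg.Agent.Lib.FusionExt.Normal
open Cfsg.Agent.Lib.FusionExt.PowerSys Cfsg.Agent.Lib.FusionExt.PrimeRes1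
open Cfsg.Agent.Lib.FusionExt.Invariant Cfsg.Agent.Lib.FusionExt.PowerE
open Cfsg.Agent.Lib.FusionExt.LowPi Cfsg.Agent.Lib.FusionExt.CentSys
open Cfsg.Agent.Lib.FusionExt.Iso1 Cfsg.Agent.Lib.FusionExt.Comp1 Cfsg.Agent.Lib.FusionExt.Comp2
open Cfsg.Agent.Lib.FusionExt.QS1 Cfsg.Agent.Lib.FusionExt.QS3 Cfsg.Agent.Lib.FusionExt.CharN2
open Cfsg.Agent.Lib.FusionExt.CentP Cfsg.Agent.Lib.FusionExt.CentE Cfsg.Agent.Lib.FusionExt.CentE3
open Cfsg.Agent.Lib.Fusion.GenFit

universe u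

variable {Ω : Type u} [Group Ω] {p : ℕ} [Fact p.Prime]

theorem cp_le_left {T T₁ T₂ : Subgroup Ω} {E₁ : FusionSystem T₁} {E₂ : FusionSystem T₂} {D : FusionSystem T} [Finite T₁] [Finite T₂]
    (h : IsCentralProductOf E₁ E₂ D) : E₁.IsSubsystemOf D := by
  intro P φ hφ
  apply hom_of_mp
  obtain ⟨g, hg, hge, -⟩ := cp_ext_left h (mp_of_hom hφ)
  exact (hg.restrict le_sup_left).congr hge

section split

variable {S R : Subgroup Ω} {F : FusionSystem S} {L : FusionSystem R} [Finite S]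

/-- **A normal subsystem and its centralizer give a normal central product containing all components.** -/
theorem exists_cp (hS : IsPGroup p S) (hF : F.IsSaturated p) (hL : L.IsNormalIn F p) :
    ∃ (B : FusionSystem (CC F L)) (D : FusionSystem (R ⊔ CC F L)), B.IsNormalIn F p ∧ D.IsNormalIn F p ∧ IsCentralProductOf L B D ∧
      ∀ (U' : Subgroup Ω) (C' : FusionSystem U'), C'.IsComponentIn F p → C'.IsSubsystemOf D := by
  obtain ⟨B, hB, hBm⟩ := Cfsg.Agent.Lib.FusionExt.CentE4.main hS hL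
  obtain ⟨hCCle, hLm, -, hCCsc⟩ := Cfsg.Agent.Lib.FusionExt.CentE2.main' hS hL
  have hR : F.StronglyClosed R := hL.1.2.2.2.1
  have hRS : R ≤ S := hR.1
  have hCS : CC F L ≤ S := hCCsc.1
  haveI : Finite R := finite_of_le hRS
  haveI : Finite ↥(CC F L) := finite_of_le hCS
  have hc : ∀ a ∈ R, ∀ b ∈ CC F L, a * b = b * a := fun a ha b hb => (mem_cent.1 (hCCle hb)).2 a ha
  have hsc₀ : F.StronglyClosed (R ⊓ CC F L) := sc_inf hR hCCsc
  have hab : ∀ a ∈ R ⊓ CC F L, ∀ b ∈ R ⊓ CC F L, a * b = b * a := fun a ha b hb => hc a ha.1 b hb.2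
  have hQ : F.IsNormal (R ⊓ CC F L) := Cfsg.Agent.Lib.FusionExt.Normal2.isNormal_of_abelian F hS hF hsc₀ hab
  have hZ₁ : R ⊓ CC F L ≤ L.center := by
    refine le_sSup (a := R ⊓ CC F L) ⟨inf_le_left, fun P φ hφ => ?_⟩
    have hQ₁ : L.IsNormal ((R ⊓ CC F L) ⊓ R) := inf_isNormal_sub hS hL.1.1 hL.1.2.2.1 hR hQ
    have e : (R ⊓ CC F L) ⊓ R = R ⊓ CC F L := inf_eq_left.2 inf_le_left
    rw [e] at hQ₁
    obtain ⟨ψ, hψ, h1, -⟩ := hQ₁.2 P φ hφ
    refine ⟨ψ, hψ, h1, fun x => ?_⟩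
    obtain ⟨-, -, -, ψ', -, h2, h3⟩ := hLm _ hψ
    have h4 := h2 (Subgroup.inclusion le_sup_right x)
    have h5 := h3 ⟨x, (Subgroup.mem_inf.1 x.2).2⟩
    rw [← h4]
    refine Eq.trans ?_ h5
    congr 1
  have hZ₂ : R ⊓ CC F L ≤ B.center := by
    refine le_sSup (a := R ⊓ CC F L) ⟨inf_le_right, fun P φ hφ => ?_⟩
    have hQ₁ : B.IsNormal ((R ⊓ CC F L) ⊓ CC F L) := inf_isNormal_sub hS hB.1.1 hB.1.2.2.1 hCCsc hQ
    have e : (R ⊓ CC F L) ⊓ CC F L = R ⊓ CC F L := inf_eq_left.2 inf_le_right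
    rw [e] at hQ₁
    obtain ⟨ψ, hψ, h1, -⟩ := hQ₁.2 P φ hφ
    refine ⟨ψ, hψ, h1, fun x => ?_⟩
    obtain ⟨-, -, -, ψ', -, h2, h3⟩ := hBm _ hψ
    have h4 := h2 (Subgroup.inclusion le_sup_right x)
    have h5 := h3 ⟨x, (Subgroup.mem_inf.1 x.2).1⟩
    rw [← h4]
    refine Eq.trans ?_ h5
    congr 1
  obtain ⟨D, hD, hcp⟩ := Cfsg.Agent.Lib.FusionExt.CProd4.main_central hS hF hL hB hc hZ₁ hZ₂
  refine ⟨B, D, hB, hD, hcp, fun U' C' hC' => ?_⟩
  rcases comp_or_cen hS hC' hL with h | ⟨hc1, hc2⟩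
  · exact fun P φ hφ => cp_le_left hcp P (h P hφ)
  · have hU'S : U' ≤ S := (F.le_of_mem (subnormal_sub hC'.1 U' (subtype_mem C' le_rfl))).1
    haveI : Finite U' := finite_of_le hU'S
    have hle : C'.hyperfocalSubgroup p ≤ CC F L := by
      refine hyperfocal_le_of_gen (fun P hPU f hf x hx => ?_)
      have hf' : Mp (centralizerSystem F R hRS) P f := by
        refine mp_centSys.2 ⟨le_inf (hPU.trans hU'S) (hPU.trans hc1), fun y hy => ?_, hc2 P f hf.1⟩
        exact ⟨hU'S (hf.1.mem_S hy), hc1 (hf.1.mem_S hy)⟩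
      exact mp_diff_mem hS hL hf' hx
    rw [hC'.2.2.1] at hle
    have h1 := comp_le_of_normal hS hC' hB hle
    exact fun P φ hφ => cp_right_le hcp P (h1 P hφ)

end split

/-- Cases on subnormality: either the whole system, or inside a proper normal subsystem. -/
theorem chain_cases {U S : Subgroup Ω} {C : FusionSystem U} {F : FusionSystem S} {q : ℕ} (h : C.IsSubnormalIn F q) :
    (U = S ∧ ∀ P, C.Hom P = F.Hom P) ∨ ∃ (T' : Subgroup Ω) (M : FusionSystem T'), M.IsNormalIn F q ∧ C.IsSubnormalIn M q ∧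
      ¬ (T' = S ∧ ∀ P, M.Hom P = F.Hom P) := by
  induction h with
  | refl F q => exact Or.inl ⟨rfl, fun _ => rfl⟩
  | @step T' S C D F q hsub hDF ih =>
    by_cases hD : T' = S ∧ ∀ P, D.Hom P = F.Hom P
    · obtain ⟨rfl, hP⟩ := hD
      have e : D = F := Iso1.sys_ext hP
      subst e
      exact ih
    · exact Or.inr ⟨_, D, hDF, hsub, hD⟩

theorem normalIn_congr {U S S' : Subgroup Ω} {C : FusionSystem U} {D : FusionSystem S'} {F : FusionSystem S} {q : ℕ} (e : S' = S)
    (h : ∀ P, D.Hom P = F.Hom P) (hC : C.IsNormalIn D q) : C.IsNormalIn F q := by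
  subst e
  have e' : D = F := Iso1.sys_ext h
  rw [← e']
  exact hC

/-- The measure of a system. -/
noncomputable def mu {S : Subgroup Ω} (F : FusionSystem S) : ℕ := Nat.card S + (gset F).ncard

theorem mu_lt {S T : Subgroup Ω} [Finite S] {F : FusionSystem S} {M : FusionSystem T} (hTS : T ≤ S) (hsub : M.IsSubsystemOf F)
    (hne : ¬ (T = S ∧ ∀ P, M.Hom P = F.Hom P)) : mu M < mu F := by
  have h1 : Nat.card T ≤ Nat.card S := Nat.card_le_card_of_injective _ (Subgroup.inclusion_injective hTS)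
  have hfS : (gset F).Finite := gset_finite le_rfl
  have h2 : (gset M).ncard ≤ (gset F).ncard := Set.ncard_le_ncard (gset_mono hsub) hfS
  unfold mu
  by_cases hT : T = S
  · subst hT
    have hss : gset M ⊂ gset F := by
      refine ⟨gset_mono hsub, fun hrev => hne ⟨rfl, fun P => ?_⟩⟩
      have hle := le_of_gset hrev
      exact Set.Subset.antisymm (hsub P) (hle P)
    have h3 := Set.ncard_lt_ncard hss hfS
    omega
  · have h3 : T < S := lt_of_le_of_ne hTS hT
    have h4 : Nat.card T < Nat.card S := by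
      haveI : Finite S := inferInstance
      have : Set.ncard (T : Set Ω) < Set.ncard (S : Set Ω) := Set.ncard_lt_ncard (by exact_mod_cast h3) (Set.toFinite _)
      rw [← Nat.card_coe_set_eq, ← Nat.card_coe_set_eq] at this
      exact this
    omega

/-- **Every component is normal in the layer.** -/
theorem comp_normal_layer (n : ℕ) : ∀ {S T U : Subgroup Ω} [Finite S] {F : FusionSystem S} {E : FusionSystem T} {C : FusionSystem U},
    IsPGroup p S → F.IsSaturated p → mu F = n → E.IsLayerOf F p → C.IsComponentIn F p → C.IsNormalIn E p := by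
  induction n using Nat.strong_induction_on with
  | _ n IH =>
    intro S T U _ F E C hS hF hn hE hC
    have hET : T ≤ S := hE.1.1.2.2.2.1.1
    haveI : Finite T := finite_of_le hET
    by_cases hEF : T = S ∧ ∀ P, E.Hom P = F.Hom P
    · obtain ⟨rfl, hP⟩ := hEF
      have e : E = F := Iso1.sys_ext hP
      subst e
      rcases chain_cases hC.1 with ⟨hU, hHom⟩ | ⟨T', M, hMF, hCM, hMne⟩
      · subst hU
        have e : C = E := Iso1.sys_ext hHom
        subst e
        exact isNormalIn_self hS hF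
      · have hT'T : T' ≤ T := hMF.1.2.2.2.1.1
        haveI : Finite T' := finite_of_le hT'T
        have hT'p := hS.to_le hT'T
        obtain ⟨R, L, hL⟩ := exists_layer hT'p hMF.1.1
        have hlt := mu_lt hT'T hMF.1.2.2.1 hMne
        have hCL : C.IsNormalIn L p := IH _ (hn ▸ hlt) hT'p hMF.1.1 rfl hL ⟨hCM, hC.2⟩
        have hLF : L.IsNormalIn E p := ch_normal hS hMF hL.1 (fun a ha hai => layer_inv hS hMF hL ha hai)
        obtain ⟨B, D, hB, hD, hcp, hcomps⟩ := exists_cp hS hF hLF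
        have hED : E.IsSubsystemOf D := hE.2.2 _ D hD hcomps
        have hST : R ⊔ CC E L = T := le_antisymm hD.1.2.2.2.1.1 ((D.le_of_mem (hED T (subtype_mem E le_rfl))).1)
        have hDT : R ⊔ CC E L ≤ T := hD.1.2.2.2.1.1
        haveI : Finite ↥(R ⊔ CC E L) := finite_of_le hDT
        have hCD : C.IsNormalIn D p := normal_left (hS.to_le hDT) hD.1.1 hcp hCL
        exact normalIn_congr hST (fun P => Set.Subset.antisymm (hD.1.2.2.1 P) (hED P)) hCD
    · have hT'p := hS.to_le hET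
      obtain ⟨R, L, hL⟩ := exists_layer hT'p hE.1.1.1
      have hcomp : ∀ (U' : Subgroup Ω) (C' : FusionSystem U'), C'.IsComponentIn F p → C'.IsComponentIn E p := by
        intro U' C' h
        refine ⟨subn_reach h.1 inferInstance inferInstance hS h.2 E hE.1 ?_, h.2⟩
        exact (E.le_of_mem (hE.2.1 U' C' h U' (subtype_mem C' le_rfl))).1
      have hLF : L.IsNormalIn F p := ch_normal hS hE.1 hL.1 (fun a ha hai => layer_inv hS hE.1 hL ha hai)
      have hEL : E.IsSubsystemOf L := hE.2.2 R L hLF (fun U' C' h => hL.2.1 U' C' (hcomp U' C' h))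
      have hRT : R = T := le_antisymm hL.1.1.2.2.2.1.1 ((L.le_of_mem (hEL T (subtype_mem E le_rfl))).1)
      subst hRT
      have e : L = E := Iso1.sys_ext (fun P => Set.Subset.antisymm (hL.1.1.2.2.1 P) (hEL P))
      subst e
      have hlt := mu_lt hET hE.1.1.2.2.1 hEF
      exact IH _ (hn ▸ hlt) hT'p hE.1.1.1 rfl hL (hcomp U C hC)

/-- The main theorem without the measure. -/
theorem comp_normal {S T U : Subgroup Ω} [Finite S] {F : FusionSystem S} {E : FusionSystem T} {C : FusionSystem U}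
    (hS : IsPGroup p S) (hF : F.IsSaturated p) (hE : E.IsLayerOf F p) (hC : C.IsComponentIn F p) : C.IsNormalIn E p :=
  comp_normal_layer _ hS hF rfl hE hC

end Cfsg.Agent.Lib.FusionExt.Layer
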