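import Cfsg.Agent.Lib.FusionExt.LiftA
import Cfsg.Agent.Lib.Fusion.LiftX3
import Cfsg.Agent.Lib.FusionExt.FactorSat

/-!
# Lifting a normal subsystem along a central extension: basic facts (helper92)

`X` is a saturated system over `S`, `Z` is central in it, `Xb` is the factor system through `θ`, `Yb` is normal in `Xb`.
-/

set_option autoImplicit false
set_option linter.unusedSectionVars false

namespace Cfsg.Agent.Lib.FusionExt.LiftB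

open Cfsg Cfsg.FusionSystem Cfsg.Agent.Lib.Fusion.Basic Cfsg.Agent.Lib.Fusion.GroupSystem
open Cfsg.Agent.Lib.FusionExt.MapApi Cfsg.Agent.Lib.FusionExt.PowerSys Cfsg.Agent.Lib.FusionExt.PowerGen
open Cfsg.Agent.Lib.FusionExt.PrimeRes1 Cfsg.Agent.Lib.Fusion.Saturation
open Cfsg.Agent.Lib.Fusion.Saturation2 Cfsg.Agent.Lib.FusionExt.SatCrit1 Cfsg.Agent.Lib.FusionExt.Invariant
open Cfsg.Agent.Lib.FusionExt.PowerE Cfsg.Agent.Lib.FusionExt.LowPi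
open Cfsg.Agent.Lib.Fusion.KSystem
open Cfsg.Agent.Lib.FusionExt.Basic Cfsg.Agent.Lib.FusionExt.Normal Cfsg.Agent.Lib.FusionExt.CentE
open Cfsg.Agent.Lib.FusionExt.LiftA Cfsg.Agent.Lib.FusionExt.Factor Cfsg.Agent.Lib.FusionExt.FactorSat

universe u v

variable {Ω : Type u} [Group Ω] {Ω' : Type v} [Group Ω'] {S : Subgroup Ω} {X : FusionSystem S} {Z : Subgroup Ω}
  {Sb : Subgroup Ω'} {θ : S →* Ω'} {Xb : FusionSystem Sb} {Tb : Subgroup Ω'} {Yb : FusionSystem Tb} {p : ℕ}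

/-- The standing data. -/
structure LD (p : ℕ) (X : FusionSystem S) (Z : Subgroup Ω) (θ : S →* Ω') (Xb : FusionSystem Sb) (Yb : FusionSystem Tb) : Prop where
  hS : IsPGroup p S
  hX : X.IsSaturated p
  hZ : X.IsCentral Z
  hfac : X.IsFactorSystem Z θ Xb
  hN : Yb.IsNormalIn Xb p

section mem


variable {P Q R : Subgroup Ω} {P' Q' R' : Subgroup Ω'} {x y : Ω} {f g : Ω → Ω} {fb gb : Ω' → Ω'}


theorem mem_pre : x ∈ preimageAlong θ P' ↔ x ∈ S ∧ tot θ x ∈ P' := by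
  constructor
  · intro h
    obtain ⟨h1, h2⟩ := mem_preimageAlong.1 h
    exact ⟨h1, by rwa [tot_of_mem θ h1]⟩
  · rintro ⟨h1, h2⟩
    exact mem_preimageAlong.2 ⟨h1, by rwa [tot_of_mem θ h1] at h2⟩

theorem mem_im (hP : P ≤ S) {y : Ω'} : y ∈ imageAlong θ P ↔ ∃ x ∈ P, tot θ x = y := by
  constructor
  · intro h
    obtain ⟨s, hs, e⟩ := mem_imageAlong.1 h
    exact ⟨s, hs, by rw [tot_coe, e]⟩
  · rintro ⟨x, hx, rfl⟩
    exact mem_imageAlong.2 ⟨⟨x, hP hx⟩, hx, (tot_of_mem θ (hP hx)).symm⟩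

theorem tot_mem_im (hP : P ≤ S) (hx : x ∈ P) : tot θ x ∈ imageAlong θ P := (mem_im hP).2 ⟨x, hx, rfl⟩

theorem pre_le : preimageAlong θ P' ≤ S := preimageAlong_le θ P'

theorem im_mono {P Q : Subgroup Ω} (hPS : Q ≤ S) (h : P ≤ Q) : imageAlong θ P ≤ imageAlong θ Q := by
  intro y hy
  obtain ⟨x, hx, rfl⟩ := (mem_im (h.trans hPS)).1 hy
  exact tot_mem_im hPS (h hx)

theorem pre_mono (h : P' ≤ Q') : preimageAlong θ P' ≤ preimageAlong θ Q' := fun _ hx =>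
  mem_pre.2 ⟨(mem_pre.1 hx).1, h (mem_pre.1 hx).2⟩

theorem img_bar {P Q : Subgroup Ω} {fb : Ω' → Ω'} {f : Ω → Ω} (hf : Mp X P f) (he : ∀ x ∈ P, fb (tot θ x) = tot θ (f x))
    (hi : Img P f Q) : Img (imageAlong θ P) fb (imageAlong θ Q) := by
  have hP := hf.le
  have hQ := hf.img_le hi
  refine ⟨fun y hy => ?_, fun y hy => ?_⟩
  · obtain ⟨x, hx, rfl⟩ := (mem_im hP).1 hy
    rw [he x hx]
    exact tot_mem_im hQ (hi.1 x hx)
  · obtain ⟨q, hq, rfl⟩ := (mem_im hQ).1 hy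
    obtain ⟨x, hx, rfl⟩ := hi.2 q hq
    exact ⟨_, tot_mem_im hP hx, he x hx⟩

end mem

namespace LD

variable [Fact p.Prime] (D : LD p X Z θ Xb Yb)

include D

theorem Z_S : Z ≤ S := D.hZ.1
theorem hθ : ∀ s : S, θ s = 1 ↔ (s : Ω) ∈ Z := D.hfac.2.1
theorem hr : θ.range = Sb := D.hfac.2.2.1
theorem hiff : ∀ (P' : Subgroup Ω') (φ' : P' →* Ω'), φ' ∈ Xb.Hom P' ↔ P' ≤ Sb ∧ ∃ φ ∈ X.Hom (preimageAlong θ P'), InducedAlong θ φ φ' := D.hfac.2.2.2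
theorem hXb : Xb.IsSaturated p := D.hN.1.2.1
theorem hYb : Yb.IsSaturated p := D.hN.1.1
theorem hsub : Yb.IsSubsystemOf Xb := D.hN.1.2.2.1
theorem hT : Xb.StronglyClosed Tb := D.hN.1.2.2.2.1
theorem hTS : Tb ≤ Sb := D.hT.1
theorem hInv : InvClause Xb Yb := D.hN.1.2.2.2.2.1
theorem hSI : StrongInv Xb Yb := strong_of_inv D.hN.1.2.2.2.2.1 D.hN.1.2.2.2.2.2

theorem fin_Sb [Finite S] : Finite Sb := by
  rw [← D.hr]
  exact Set.finite_range θ |>.to_subtype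

theorem Sb_p [Finite S] : IsPGroup p Sb := by
  intro y
  obtain ⟨s, hs⟩ : (y : Ω') ∈ θ.range := D.hr ▸ y.2
  obtain ⟨k, hk⟩ := D.hS s
  refine ⟨k, Subtype.ext ?_⟩
  show (y : Ω') ^ p ^ k = 1
  rw [← hs, ← map_pow, hk, map_one]

theorem tot_mem {x : Ω} (hx : x ∈ S) : tot θ x ∈ Sb := by
  rw [tot_of_mem θ hx, ← D.hr]
  exact ⟨_, rfl⟩

theorem exists_tot {y : Ω'} (hy : y ∈ Sb) : ∃ x ∈ S, tot θ x = y := by
  rw [← D.hr] at hy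
  obtain ⟨s, rfl⟩ := hy
  exact ⟨s, s.2, tot_coe θ s⟩

theorem tot_eq {x y : Ω} (hx : x ∈ S) (hy : y ∈ S) : tot θ x = tot θ y ↔ x⁻¹ * y ∈ Z := tot_eq_iff θ D.hθ hx hy

theorem tot_eq_one {x : Ω} (hx : x ∈ S) : tot θ x = 1 ↔ x ∈ Z := tot_eq_one_iff θ D.hθ hx

theorem Z_le_pre (P' : Subgroup Ω') : Z ≤ preimageAlong θ P' := le_preimageAlong θ D.hθ D.Z_S P'

theorem pre_im {P : Subgroup Ω} (hP : P ≤ S) (hZP : Z ≤ P) : preimageAlong θ (imageAlong θ P) = P := by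
  apply le_antisymm
  · intro x hx
    obtain ⟨h1, h2⟩ := mem_pre.1 hx
    obtain ⟨s, hs, e⟩ := (mem_im hP).1 h2
    have h3 := (D.tot_eq (hP hs) h1).1 e
    have e' : x = s * (s⁻¹ * x) := by group
    rw [e']
    exact P.mul_mem hs (hZP h3)
  · intro x hx
    exact mem_pre.2 ⟨hP hx, tot_mem_im hP hx⟩

theorem im_pre {P' : Subgroup Ω'} (hP' : P' ≤ Sb) : imageAlong θ (preimageAlong θ P') = P' := by
  apply image_preimage_eq θ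
  rwa [D.hr]

theorem im_le {P : Subgroup Ω} (hP : P ≤ S) : imageAlong θ P ≤ Sb := by
  intro y hy
  obtain ⟨x, hx, rfl⟩ := (mem_im hP).1 hy
  exact D.tot_mem (hP hx)

theorem comm {z s : Ω} (hz : z ∈ Z) (hs : s ∈ S) : s * z = z * s :=
  X.center_le_centralizer ((le_sSup (show Z ∈ {Q : Subgroup Ω | X.IsCentral Q} from D.hZ) : Z ≤ X.center) hz) s hs

theorem ext_Z {P : Subgroup Ω} {f : Ω → Ω} (hf : Mp X P f) : ∃ g, Mp X (P ⊔ Z) g ∧ (∀ x ∈ P, g x = f x) ∧ ∀ z ∈ Z, g z = z := by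
  obtain ⟨φ, hφ, e⟩ := hf
  obtain ⟨ψ, hψ, h1, h2⟩ := D.hZ.2 P φ hφ
  refine ⟨extOf ψ, mp_of_hom hψ, fun x hx => ?_, fun z hz => ?_⟩
  · rw [extOf_of_mem ψ (Subgroup.mem_sup_left hx), ← e ⟨x, hx⟩]
    exact h1 ⟨x, hx⟩
  · rw [extOf_of_mem ψ (Subgroup.mem_sup_right hz)]
    exact h2 ⟨z, hz⟩

theorem fix {P : Subgroup Ω} {f : Ω → Ω} (hf : Mp X P f) (hZP : Z ≤ P) {z : Ω} (hz : z ∈ Z) : f z = z := by
  obtain ⟨g, -, h1, h2⟩ := D.ext_Z hf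
  rw [← h1 z (hZP hz), h2 z hz]

theorem sc_Z : X.StronglyClosed Z := by
  refine ⟨D.Z_S, fun R hR φ hφ x => ?_⟩
  obtain ⟨g, -, h1, h2⟩ := D.ext_Z (mp_of_hom hφ)
  rw [← extOf_coe, ← h1 x x.2, h2 x (hR x.2)]
  exact hR x.2

theorem surj [Finite S] : X.IsSurjectiveMorphism Xb θ :=
  Cfsg.Agent.Lib.FusionExt.FactorExt.isSurjectiveMorphism_of_isFactorSystem X θ D.hS D.hX D.sc_Z D.hfac

theorem down [Finite S] {P : Subgroup Ω} {f : Ω → Ω} (hf : Mp X P f) :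
    ∃ fb, Mp Xb (imageAlong θ P) fb ∧ ∀ x ∈ P, fb (tot θ x) = tot θ (f x) := by
  obtain ⟨φ, hφ, e⟩ := hf
  obtain ⟨φ', hφ', hP, hφS, hP', h⟩ := D.surj.1.2 P φ hφ
  refine ⟨extOf φ', mp_of_hom hφ', fun x hx => ?_⟩
  have h1 := h ⟨x, hx⟩
  rw [tot_of_mem θ (hP hx), extOf_of_mem φ' (hP' ⟨x, hx⟩), h1, tot_of_mem θ (by rw [← e ⟨x, hx⟩]; exact hφS ⟨x, hx⟩)]
  congr 1
  exact Subtype.ext (e ⟨x, hx⟩)

theorem up {P' : Subgroup Ω'} {fb : Ω' → Ω'} (hf : Mp Xb P' fb) :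
    ∃ f, Mp X (preimageAlong θ P') f ∧ ∀ x ∈ preimageAlong θ P', fb (tot θ x) = tot θ (f x) := by
  obtain ⟨φ', hφ', e⟩ := hf
  obtain ⟨-, φ, hφ, hP, hφS, hP', h⟩ := (D.hiff P' φ').1 hφ'
  refine ⟨extOf φ, mp_of_hom hφ, fun x hx => ?_⟩
  have h1 := h ⟨x, hx⟩
  rw [tot_of_mem θ (hP hx), ← e ⟨_, hP' ⟨x, hx⟩⟩, extOf_of_mem φ hx, tot_of_mem θ (hφS ⟨x, hx⟩)]
  exact h1

/-- The image under a lift, for a map of `X` on a full preimage. -/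
theorem up_img {P' Q' : Subgroup Ω'} {fb : Ω' → Ω'} {f : Ω → Ω} (hf : Mp X (preimageAlong θ P') f) (hP' : P' ≤ Sb)
    (he : ∀ x ∈ preimageAlong θ P', fb (tot θ x) = tot θ (f x)) (hi : Img P' fb Q') :
    Img (preimageAlong θ P') f (preimageAlong θ Q') := by
  refine ⟨fun x hx => mem_pre.2 ⟨hf.mem_S hx, ?_⟩, fun y hy => ?_⟩
  · rw [← he x hx]
    exact hi.1 _ (mem_pre.1 hx).2
  · obtain ⟨h1, h2⟩ := mem_pre.1 hy
    obtain ⟨u, hu, e⟩ := hi.2 _ h2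
    obtain ⟨x, hxS, rfl⟩ := D.exists_tot (hP' hu)
    have hxp : x ∈ preimageAlong θ P' := mem_pre.2 ⟨hxS, hu⟩
    have h3 : (f x)⁻¹ * y ∈ Z := (D.tot_eq (hf.mem_S hxp) h1).1 (by rw [← he x hxp, e])
    have hZ := D.Z_le_pre P' h3
    refine ⟨x * ((f x)⁻¹ * y), (preimageAlong θ P').mul_mem hxp hZ, ?_⟩
    rw [hf.map_mul hxp hZ, D.fix hf (D.Z_le_pre P') h3]
    group

theorem img_Z [Finite S] {P Q : Subgroup Ω} {f : Ω → Ω} (hf : Mp X P f) (hZP : Z ≤ P) (hi : Img P f Q) : Z ≤ Q := by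
  intro z hz
  rw [← D.fix hf hZP hz]
  exact hi.1 z (hZP hz)

/-- The preimage of `Tb`. -/
theorem sc_TT [Finite S] : X.StronglyClosed (preimageAlong θ Tb) := by
  refine ⟨pre_le, fun R hR φ hφ x => ?_⟩
  have hRS : R ≤ S := hR.trans pre_le
  have hS' : φ x ∈ S := val_mem X hφ x
  obtain ⟨fb, hfb, e⟩ := D.down (mp_of_hom hφ)
  refine mem_pre.2 ⟨hS', ?_⟩
  have h1 := e x x.2
  rw [extOf_coe] at h1
  rw [← h1]
  have hle : imageAlong θ R ≤ Tb := by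
    intro y hy
    obtain ⟨r, hr, rfl⟩ := (mem_im hRS).1 hy
    exact (mem_pre.1 (hR hr)).2
  exact sc_mp D.hT hfb hle (tot_mem_im hRS x.2)

theorem TT_conj [Finite S] {s t : Ω} (hs : s ∈ S) (ht : t ∈ preimageAlong θ Tb) : s * t * s⁻¹ ∈ preimageAlong θ Tb :=
  sc_conj_mem X D.sc_TT hs ht

end LD

end Cfsg.Agent.Lib.FusionExt.LiftB
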