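import Cfsg.Agent.Lib.FusionExt.LiftB

/-!
# Lifting a normal subsystem along a central extension: the candidate system (helper92)
-/

set_option autoImplicit false
set_option linter.unusedSectionVars false

namespace Cfsg.Agent.Lib.FusionExt.LiftC

open Cfsg Cfsg.FusionSystem Cfsg.Agent.Lib.Fusion.Basic Cfsg.Agent.Lib.Fusion.GroupSystem
open Cfsg.Agent.Lib.FusionExt.MapApi Cfsg.Agent.Lib.FusionExt.PowerSys Cfsg.Agent.Lib.FusionExt.PowerGen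
open Cfsg.Agent.Lib.FusionExt.PrimeRes1 Cfsg.Agent.Lib.Fusion.Saturation
open Cfsg.Agent.Lib.Fusion.Saturation2 Cfsg.Agent.Lib.FusionExt.SatCrit1 Cfsg.Agent.Lib.FusionExt.Invariant
open Cfsg.Agent.Lib.FusionExt.PowerE Cfsg.Agent.Lib.FusionExt.LowPi
open Cfsg.Agent.Lib.Fusion.KSystem Cfsg.Agent.Lib.Fusion.Alperin
open Cfsg.Agent.Lib.FusionExt.Basic Cfsg.Agent.Lib.FusionExt.Normal Cfsg.Agent.Lib.FusionExt.CentE
open Cfsg.Agent.Lib.FusionExt.LiftA Cfsg.Agent.Lib.FusionExt.Factor Cfsg.Agent.Lib.FusionExt.FactorSat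
open Cfsg.Agent.Lib.FusionExt.LiftB Cfsg.Agent.Lib.FusionExt.CentSys

universe u v

variable {Ω : Type u} [Group Ω] {Ω' : Type v} [Group Ω'] {S : Subgroup Ω} {X : FusionSystem S} {Z : Subgroup Ω}
  {Sb : Subgroup Ω'} {θ : S →* Ω'} {Xb : FusionSystem Sb} {Tb : Subgroup Ω'} {Yb : FusionSystem Tb} {p : ℕ}
  {P Q R : Subgroup Ω} {P' Q' R' : Subgroup Ω'} {f g k : Ω → Ω} {fb gb : Ω' → Ω'}

/-- A map of `X` lifting a map of `Yb`. -/
def Lb (X : FusionSystem S) (θ : S →* Ω') (Yb : FusionSystem Tb) (P : Subgroup Ω) (f : Ω → Ω) : Prop :=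
  Mp X P f ∧ ∃ fb, Mp Yb (imageAlong θ P) fb ∧ ∀ x ∈ P, fb (tot θ x) = tot θ (f x)

/-- All conjugates of the image are centric in `Tb`. -/
def Hc (θ : S →* Ω') (Xb : FusionSystem Sb) (Tb : Subgroup Ω') (P : Subgroup Ω) : Prop :=
  ∀ Q', Xb.IsConj (imageAlong θ P) Q' → zz Tb Q' ≤ Q'

/-- The generating maps. -/
structure IsGen (p : ℕ) (X : FusionSystem S) (Z : Subgroup Ω) (θ : S →* Ω') (Xb : FusionSystem Sb) (Yb : FusionSystem Tb)
    (P : Subgroup Ω) (f : Ω → Ω) : Prop where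
  hZ : Z ≤ P
  hT : P ≤ preimageAlong θ Tb
  hc : Hc θ Xb Tb P
  hp : Pp X p P f
  hl : Lb X θ Yb P f

/-- The systems containing the generators. -/
def InFamB (p : ℕ) (X : FusionSystem S) (Z : Subgroup Ω) (θ : S →* Ω') (Xb : FusionSystem Sb) (Yb : FusionSystem Tb)
    (D : FusionSystem (preimageAlong θ Tb)) : Prop :=
  ∀ P f, IsGen p X Z θ Xb Yb P f → Mp D P f

theorem yAx : SysAx (preimageAlong θ Tb) (fun P f => P ≤ preimageAlong θ Tb ∧ Mp X P f ∧ (∀ x ∈ P, f x ∈ preimageAlong θ Tb) ∧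
    ∀ D : FusionSystem (preimageAlong θ Tb), InFamB p X Z θ Xb Yb D → Mp D P f) := by
  have hTS : preimageAlong θ Tb ≤ S := pre_le
  refine ⟨?_, ?_, ?_, ?_, ?_, ?_, ?_, ?_⟩
  · rintro P f g ⟨h1, h2, h3, h4⟩ e
    exact ⟨h1, h2.congr e, fun x hx => e x hx ▸ h3 x hx, fun D hD => (h4 D hD).congr e⟩
  · rintro P f ⟨h1, -⟩
    exact h1
  · rintro P f x ⟨-, -, h3, -⟩ hx
    exact h3 x hx
  · rintro P f x y ⟨-, h2, -⟩ hx hy
    exact h2.map_mul hx hy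
  · rintro P f x y ⟨-, h2, -⟩ hx hy e
    exact h2.inj hx hy e
  · intro P a hP ha
    exact ⟨hP, Mp.conj (hP.trans hTS) (hTS ha), fun x hx => Subgroup.mul_mem _ (Subgroup.mul_mem _ ha (hP hx)) (Subgroup.inv_mem _ ha),
      fun D _ => Mp.conj hP ha⟩
  · rintro P Q f g ⟨h1, h2, -, h4⟩ hm ⟨-, g2, g3, g4⟩
    exact ⟨h1, h2.comp hm g2, fun x hx => g3 _ (hm x hx), fun D hD => (h4 D hD).comp hm (g4 D hD)⟩
  · rintro P Q f ⟨h1, h2, h3, h4⟩ hi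
    obtain ⟨k, hk, a1, -, a3⟩ := h2.inverse hi
    refine ⟨k, ⟨fun y hy => ?_, hk, fun y hy => h1 (a3.1 y hy), fun D hD => ?_⟩, a1⟩
    · obtain ⟨x, hx, rfl⟩ := hi.2 y hy
      exact h3 x hx
    · obtain ⟨k', hk', b1, -, -⟩ := (h4 D hD).inverse hi
      refine hk'.congr (fun y hy => ?_)
      obtain ⟨x, hx, rfl⟩ := hi.2 y hy
      rw [b1 x hx, a1 x hx]

/-- The subsystem generated. -/
noncomputable def YY (p : ℕ) (X : FusionSystem S) (Z : Subgroup Ω) (θ : S →* Ω') (Xb : FusionSystem Sb) (Yb : FusionSystem Tb) :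
    FusionSystem (preimageAlong θ Tb) := mkSys (yAx (p := p) (X := X) (Z := Z) (θ := θ) (Xb := Xb) (Yb := Yb))

theorem mp_YY : Mp (YY p X Z θ Xb Yb) P f ↔ P ≤ preimageAlong θ Tb ∧ Mp X P f ∧ (∀ x ∈ P, f x ∈ preimageAlong θ Tb) ∧
    ∀ D : FusionSystem (preimageAlong θ Tb), InFamB p X Z θ Xb Yb D → Mp D P f := mp_mkSys _

theorem YY_min {D : FusionSystem (preimageAlong θ Tb)} (hD : InFamB p X Z θ Xb Yb D) (h : Mp (YY p X Z θ Xb Yb) P f) : Mp D P f :=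
  (mp_YY.1 h).2.2.2 D hD

theorem YY_sub : (YY p X Z θ Xb Yb).IsSubsystemOf X := by
  intro P φ hφ
  exact hom_of_mp (mp_YY.1 (mp_of_hom hφ)).2.1

theorem YY_X (h : Mp (YY p X Z θ Xb Yb) P f) : Mp X P f := mp_sub YY_sub h

theorem YY_gen (h : IsGen p X Z θ Xb Yb P f) : Mp (YY p X Z θ Xb Yb) P f := by
  obtain ⟨h1, h2, -, h4, -⟩ := id h
  exact mp_YY.2 ⟨h2, h4.1, fun x hx => h2 (h4.2.1.1 x hx), fun D hD => hD P f h⟩

/-! ### Lifts -/

namespace Lb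

theorem congr (h : Lb X θ Yb P f) (e : ∀ x ∈ P, f x = g x) : Lb X θ Yb P g := by
  obtain ⟨h1, fb, h2, h3⟩ := h
  exact ⟨h1.congr e, fb, h2, fun x hx => by rw [← e x hx]; exact h3 x hx⟩

theorem restrict (h : Lb X θ Yb P f) (hQ : Q ≤ P) : Lb X θ Yb Q f := by
  obtain ⟨h1, fb, h2, h3⟩ := h
  exact ⟨h1.restrict hQ, fb, h2.restrict (im_mono h1.le hQ), fun x hx => h3 x (hQ hx)⟩

theorem comp (h1 : Lb X θ Yb P f) (hm : ∀ x ∈ P, f x ∈ Q) (h2 : Lb X θ Yb Q g) : Lb X θ Yb P (fun x => g (f x)) := by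
  obtain ⟨a1, fb, a2, a3⟩ := h1
  obtain ⟨b1, gb, b2, b3⟩ := h2
  refine ⟨a1.comp hm b1, fun y => gb (fb y), a2.comp (fun y hy => ?_) b2, fun x hx => ?_⟩
  · obtain ⟨x, hx, rfl⟩ := (mem_im a1.le).1 hy
    rw [a3 x hx]
    exact tot_mem_im b1.le (hm x hx)
  · show gb (fb _) = _
    rw [a3 x hx, b3 _ (hm x hx)]

theorem inv (h : Lb X θ Yb P f) (hi : Img P f Q) :
    ∃ k, Lb X θ Yb Q k ∧ (∀ x ∈ P, k (f x) = x) ∧ (∀ y ∈ Q, f (k y) = y) ∧ Img Q k P := by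
  obtain ⟨a1, fb, a2, a3⟩ := h
  obtain ⟨k, hk, b1, b2, b3⟩ := a1.inverse hi
  have hib := img_bar a1 a3 hi
  obtain ⟨kb, hkb, c1, -, -⟩ := a2.inverse hib
  refine ⟨k, ⟨hk, kb, hkb, fun y hy => ?_⟩, b1, b2, b3⟩
  obtain ⟨x, hx, rfl⟩ := hi.2 y hy
  rw [← a3 x hx, c1 _ (tot_mem_im a1.le hx), b1 x hx]

end Lb

theorem im_le_of (hP : P ≤ preimageAlong θ Tb) : imageAlong θ P ≤ Tb := by
  intro y hy
  obtain ⟨r, hr, rfl⟩ := (mem_im (hP.trans pre_le)).1 hy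
  exact (mem_pre.1 (hP hr)).2

theorem Lb_conj (hP : P ≤ preimageAlong θ Tb) {a : Ω} (ha : a ∈ preimageAlong θ Tb) : Lb X θ Yb P (fun x => a * x * a⁻¹) := by
  have hPS : P ≤ S := hP.trans pre_le
  have haS : a ∈ S := pre_le ha
  refine ⟨Mp.conj hPS haS, fun y => tot θ a * y * (tot θ a)⁻¹, Mp.conj (im_le_of hP) (mem_pre.1 ha).2, fun x hx => ?_⟩
  exact (tot_conj θ haS (hPS hx)).symm

theorem Lb_refl (hP : P ≤ preimageAlong θ Tb) : Lb X θ Yb P (fun x => x) := by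
  have hPS : P ≤ S := hP.trans pre_le
  exact ⟨Mp.refl hPS, fun y => y, Mp.refl (im_le_of hP), fun x _ => rfl⟩

theorem lAx : SysAx (preimageAlong θ Tb) (fun P f => P ≤ preimageAlong θ Tb ∧ (∀ x ∈ P, f x ∈ preimageAlong θ Tb) ∧ Lb X θ Yb P f) := by
  refine ⟨?_, ?_, ?_, ?_, ?_, ?_, ?_, ?_⟩
  · rintro P f g ⟨h1, h3, h4⟩ e
    exact ⟨h1, fun x hx => e x hx ▸ h3 x hx, h4.congr e⟩
  · rintro P f ⟨h1, -⟩
    exact h1
  · rintro P f x ⟨-, h3, -⟩ hx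
    exact h3 x hx
  · rintro P f x y ⟨-, -, h2⟩ hx hy
    exact h2.1.map_mul hx hy
  · rintro P f x y ⟨-, -, h2⟩ hx hy e
    exact h2.1.inj hx hy e
  · intro P a hP ha
    exact ⟨hP, fun x hx => Subgroup.mul_mem _ (Subgroup.mul_mem _ ha (hP hx)) (Subgroup.inv_mem _ ha), Lb_conj hP ha⟩
  · rintro P Q f g ⟨h1, -, h4⟩ hm ⟨-, g3, g4⟩
    exact ⟨h1, fun x hx => g3 _ (hm x hx), h4.comp hm g4⟩
  · rintro P Q f ⟨h1, h3, h4⟩ hi
    obtain ⟨k, hk, a1, -, a3⟩ := h4.inv hi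
    refine ⟨k, ⟨fun y hy => ?_, fun y hy => h1 (a3.1 y hy), hk⟩, a1⟩
    obtain ⟨x, hx, rfl⟩ := hi.2 y hy
    exact h3 x hx

/-- The system of all lifts. -/
noncomputable def LL (X : FusionSystem S) (θ : S →* Ω') (Yb : FusionSystem Tb) : FusionSystem (preimageAlong θ Tb) :=
  mkSys (lAx (X := X) (θ := θ) (Yb := Yb))

theorem mp_LL : Mp (LL X θ Yb) P f ↔ P ≤ preimageAlong θ Tb ∧ (∀ x ∈ P, f x ∈ preimageAlong θ Tb) ∧ Lb X θ Yb P f := mp_mkSys _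

theorem mp_LL_of (hP : P ≤ preimageAlong θ Tb) (hm : ∀ x ∈ P, f x ∈ P) (h : Lb X θ Yb P f) : Mp (LL X θ Yb) P f :=
  mp_LL.2 ⟨hP, fun x hx => hP (hm x hx), h⟩

theorem inFam_LL : InFamB p X Z θ Xb Yb (LL X θ Yb) := fun P f h =>
  mp_LL.2 ⟨h.hT, fun x hx => h.hT (h.hp.2.1.1 x hx), h.hl⟩

/-- **(a)**: maps of the generated system are lifts. -/
theorem YY_lb (h : Mp (YY p X Z θ Xb Yb) P f) : Lb X θ Yb P f := (mp_LL.1 (YY_min inFam_LL h)).2.2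

theorem iter_lift {R : Subgroup Ω} (hm : ∀ x ∈ R, f x ∈ R) (he : ∀ x ∈ R, fb (tot θ x) = tot θ (f x)) (m : ℕ) {x : Ω} (hx : x ∈ R) :
    fb^[m] (tot θ x) = tot θ (f^[m] x) := by
  induction m with
  | zero => rfl
  | succ m ih =>
    rw [Function.iterate_succ_apply', Function.iterate_succ_apply', ih, he _ (iterate_mem hm m hx)]

section facts

variable [Fact p.Prime] [Finite S] [Finite Sb] (D : LD p X Z θ Xb Yb)

include D

/-- A `p'`-automorphism of a subgroup of `Tb` lifts to a generator. -/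
theorem gen_of_lift (hR : R' ≤ Tb) (hc : Hc θ Xb Tb (preimageAlong θ R')) (hfb : Mp Yb R' fb) (hi : Img R' fb R') {q : ℕ} (hq : q.Coprime p)
    (hper : ∀ y ∈ R', fb^[q] y = y) : ∃ J, IsGen p X Z θ Xb Yb (preimageAlong θ R') J ∧ ∀ x ∈ preimageAlong θ R', fb (tot θ x) = tot θ (J x) := by
  have hRS := hR.trans D.hTS
  obtain ⟨f, hf, he⟩ := D.up (mp_sub D.hsub hfb)
  have hU := D.up_img hf hRS he hi
  obtain ⟨f', m, hpp, hf', hm⟩ := Cfsg.Agent.Lib.Fusion.LiftX.pp_part (p := p) pre_le hf hU hq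
  have hlift : ∀ x ∈ preimageAlong θ R', fb (tot θ x) = tot θ (f' x) := by
    intro x hx
    have h1 : tot θ x ∈ R' := (mem_pre.1 hx).2
    rw [hf' x hx, ← iter_lift hU.1 he m hx]
    exact (iterate_modEq hi.1 hper hm h1).symm
  refine ⟨f', ⟨D.Z_le_pre _, pre_mono hR, hc, hpp, hpp.1, fb, ?_, hlift⟩, hlift⟩
  rwa [D.im_pre hRS]

/-- `Hc` from being centric in `Yb`. -/
theorem hc_of_centric' (hR : Yb.IsCentric R') : Hc θ Xb Tb (preimageAlong θ R') := by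
  intro Q₂ h
  rw [D.im_pre (hR.1.trans D.hTS)] at h
  exact Cfsg.Agent.Lib.FusionExt.PPrimeMin.hc_of_centric D.hN.1.2.2.2.2.2 hR h

/-- `Hc` for `Tb`. -/
theorem hc_top : Hc θ Xb Tb (preimageAlong θ Tb) := by
  intro Q₂ h
  rw [D.im_pre D.hTS] at h
  have hT := D.hT
  obtain ⟨φ, hφ, hr⟩ := h
  haveI : Finite Tb := finite_of_le hT.1
  have hle : Q₂ ≤ Tb := by
    rw [← hr]
    rintro _ ⟨x, rfl⟩
    exact hT.2 Tb le_rfl φ hφ x
  have h2 : Nat.card Q₂ = Nat.card Tb := by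
    rw [← hr]
    exact (card_range Xb hφ)
  have h3 : Q₂ = Tb := Subgroup.eq_of_le_of_card_ge hle h2.ge
  rw [h3]
  intro z hz
  exact (mem_zz.1 hz).1

/-- A lift of a map of `Yb` on a subgroup is a lift on the image. -/
theorem lb_of_lift (hR : R' ≤ Tb) (hfb : Mp Yb R' fb) (hf : Mp X (preimageAlong θ R') f) (he : ∀ x ∈ preimageAlong θ R', fb (tot θ x) = tot θ (f x)) :
    Lb X θ Yb (preimageAlong θ R') f := by
  refine ⟨hf, fb, ?_, he⟩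
  rwa [D.im_pre (hR.trans D.hTS)]

/-- Alperin's theorem for lifts. -/
theorem lift_gen {T₁ : Subgroup Ω'} (Y₁ : FusionSystem T₁) (hT₁ : IsPGroup p T₁) [Finite T₁] (hY₁ : Y₁.IsSaturated p) (hY₁s : Y₁.IsSubsystemOf Yb)
    (Pd : Subgroup Ω → (Ω → Ω) → Prop)
    (hPr : ∀ {R R₁ J}, Pd R J → R₁ ≤ R → Pd R₁ J)
    (hPc : ∀ {R R₁ J J₁}, Pd R J → (∀ x ∈ R, J x ∈ R₁) → Pd R₁ J₁ → Pd R (fun x => J₁ (J x)))
    (hPi : ∀ {R R₁ J k}, Pd R J → Mp (YY p X Z θ Xb Yb) R J → Img R J R₁ → (∀ x ∈ R, k (J x) = x) → Pd R₁ k)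
    (hPg : ∀ {R J J'}, Pd R J → (∀ x ∈ R, J x = J' x) → Pd R J')
    (hA : ∀ R', (R' = T₁ ∨ Y₁.IsEssential p R') → ∀ t ∈ T₁, t ∈ Subgroup.normalizer (R' : Set Ω') →
      ∃ J, Mp (YY p X Z θ Xb Yb) (preimageAlong θ R') J ∧ (∀ x ∈ preimageAlong θ R', t * tot θ x * t⁻¹ = tot θ (J x)) ∧ Pd (preimageAlong θ R') J)
    (hB : ∀ R', (R' = T₁ ∨ Y₁.IsEssential p R') → ∀ β ∈ Y₁.autGroup R', ∀ q : ℕ, q.Coprime p → β ^ q = 1 →
      ∃ J, Mp (YY p X Z θ Xb Yb) (preimageAlong θ R') J ∧ (∀ x ∈ preimageAlong θ R', autFun β (tot θ x) = tot θ (J x)) ∧ Pd (preimageAlong θ R') J)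
    (R' : Subgroup Ω') (φ : R' →* Ω') (hφ : φ ∈ Y₁.Hom R') :
    ∃ J, Mp (YY p X Z θ Xb Yb) (preimageAlong θ R') J ∧ (∀ x ∈ preimageAlong θ R', extOf φ (tot θ x) = tot θ (J x)) ∧ Pd (preimageAlong θ R') J := by
  have hT₁T : T₁ ≤ Tb := (Yb.le_of_mem (hY₁s T₁ (subtype_mem Y₁ le_rfl))).1
  have hT₁S : T₁ ≤ Sb := hT₁T.trans D.hTS
  refine alperin_induction Y₁ hT₁ hY₁ (fun R' φ => ∃ J, Mp (YY p X Z θ Xb Yb) (preimageAlong θ R') J ∧
    (∀ x ∈ preimageAlong θ R', extOf φ (tot θ x) = tot θ (J x)) ∧ Pd (preimageAlong θ R') J) ?_ ?_ ?_ ?_ R' φ hφ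
  · intro R' hR' α hα
    have hfn : Y₁.IsFullyNormalized R' := by
      rcases hR' with rfl | hR''
      · exact isFullyNormalized_top Y₁ hT₁
      · exact hR''.2.1
    have hFA := isFullyAutomized_of_isFullyNormalized Y₁ hT₁ hY₁ hfn
    have hR₁ : R' ≤ T₁ := hfn.1
    have hRS := hR₁.trans hT₁S
    haveI : Finite R' := finite_of_le hR₁
    haveI : Finite (MulAut R') := Cfsg.Agent.Lib.Fusion.Basic.finite_mulAut_of_finite (A := R')
    let K : Subgroup (MulAut R') :=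
      { carrier := {β | β ∈ Y₁.autGroup R' ∧ ∃ J, Mp (YY p X Z θ Xb Yb) (preimageAlong θ R') J ∧
          (∀ x ∈ preimageAlong θ R', autFun β (tot θ x) = tot θ (J x)) ∧ Pd (preimageAlong θ R') J}
        mul_mem' := by
          rintro a b ⟨ha, Ja, h1, h2, h3⟩ ⟨hb, Jb, b1, b2, b3⟩
          have hm : ∀ x ∈ preimageAlong θ R', Jb x ∈ preimageAlong θ R' := fun x hx =>
            mem_pre.2 ⟨(YY_X b1).mem_S hx, by rw [← b2 x hx]; exact autFun_mem _ (mem_pre.1 hx).2⟩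
          refine ⟨Subgroup.mul_mem _ ha hb, fun x => Ja (Jb x), b1.comp hm h1, fun x hx => ?_, hPc b3 hm h3⟩
          rw [autFun_mul_apply, b2 x hx, h2 _ (hm x hx)]
        one_mem' := by
          obtain ⟨J, h1, h2, h3⟩ := hA R' hR' 1 (Subgroup.one_mem _) (Subgroup.one_mem _)
          refine ⟨Subgroup.one_mem _, J, h1, fun x hx => ?_, h3⟩
          rw [autFun_one_apply, ← h2 x hx]
          group
        inv_mem' := by
          rintro a ⟨ha, J, h1, h2, h3⟩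
          have hi := D.up_img (YY_X h1) hRS h2 (img_autFun a)
          obtain ⟨k, hk, b1, b2, b3⟩ := h1.inverse hi
          refine ⟨Subgroup.inv_mem _ ha, k, hk, fun y hy => ?_, hPi h3 h1 hi b1⟩
          obtain ⟨x, hx, rfl⟩ := hi.2 y hy
          rw [← h2 x hx, autFun_inv_apply, b1 x hx] }
    have hEq : K = Y₁.autGroup R' := by
      refine eq_of_sylow_pprime (p := p) hFA.2 ?_ (fun a ha => ha.1) ?_
      · intro a ha
        obtain ⟨g, hg, hge⟩ := (mem_autInducedBy_iff T₁ R' a).1 ha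
        have hgN := mem_normalizer_of_conj R' a g hge
        obtain ⟨J, h1, h2, h3⟩ := hA R' hR' g hg hgN
        refine ⟨autInducedBy_le_autGroup Y₁ hR₁ ha, J, h1, fun x hx => ?_, h3⟩
        rw [← h2 x hx, autFun_of_mem a (mem_pre.1 hx).2]
        exact hge _
      · rintro a ha ⟨q, hq, haq⟩
        obtain ⟨J, h1, h2, h3⟩ := hB R' hR' a ha q hq haq
        exact ⟨ha, J, h1, h2, h3⟩
    have hαK : α ∈ K := hEq ▸ hα
    exact hαK.2
  · rintro P₁ Q₁ h φ _ ⟨J, h1, h2, h3⟩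
    refine ⟨J, h1.restrict (pre_mono h), fun x hx => ?_, hPr h3 (pre_mono h)⟩
    rw [← h2 x (pre_mono h hx), extOf_of_mem _ (mem_pre.1 hx).2, extOf_of_mem _ (h (mem_pre.1 hx).2)]
    rfl
  · rintro P₁ Q₁ R₁ e e' - - ⟨J, h1, h2, h3⟩ ⟨J', h1', h2', h3'⟩
    have hm : ∀ x ∈ preimageAlong θ P₁, J x ∈ preimageAlong θ Q₁ := fun x hx =>
      mem_pre.2 ⟨(YY_X h1).mem_S hx, by
        rw [← h2 x hx, extOf_of_mem _ (mem_pre.1 hx).2]
        exact (e _).2⟩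
    refine ⟨fun x => J' (J x), h1.comp hm h1', fun x hx => ?_, hPc h3 hm h3'⟩
    have h5 := (mem_pre.1 hx).2
    have e1 : extOf (isoHom e) (tot θ x) = ((e ⟨tot θ x, h5⟩ : Q₁) : Ω') := by
      rw [extOf_of_mem _ h5]
      rfl
    rw [← h2' _ (hm x hx), ← h2 x hx, e1, extOf_of_mem _ h5, extOf_coe]
    rfl
  · rintro P₁ Q₁ e he ⟨J, h1, h2, h3⟩
    have hP₁ : P₁ ≤ T₁ := (Y₁.le_of_mem he).1
    have hi₀ : Img P₁ (extOf (isoHom e)) Q₁ := by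
      refine ⟨fun x hx => ?_, fun y hy => ?_⟩
      · rw [extOf_of_mem _ hx]
        exact (e ⟨x, hx⟩).2
      · refine ⟨(e.symm ⟨y, hy⟩ : P₁), (e.symm ⟨y, hy⟩).2, ?_⟩
        rw [extOf_coe, isoHom_apply]
        simp
    have hi := D.up_img (YY_X h1) (hP₁.trans hT₁S) h2 hi₀
    obtain ⟨k, hk, b1, b2, b3⟩ := h1.inverse hi
    refine ⟨k, hk, fun y hy => ?_, hPi h3 h1 hi b1⟩
    obtain ⟨x, hx, rfl⟩ := hi.2 y hy
    rw [← h2 x hx, b1 x hx]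
    have h5 : tot θ x ∈ P₁ := (mem_pre.1 hx).2
    have e1 : extOf (isoHom e) (tot θ x) = ((e ⟨tot θ x, h5⟩ : Q₁) : Ω') := by
      rw [extOf_of_mem _ h5]
      rfl
    rw [e1, extOf_coe]
    show ((e.symm (e ⟨tot θ x, h5⟩) : P₁) : Ω') = _
    rw [MulEquiv.symm_apply_apply]

/-- A conjugation by an element of `T'` is a lift. -/
theorem conj_lift {R' : Subgroup Ω'} (hR : R' ≤ Tb) {t : Ω'} (ht : t ∈ Tb) : ∃ a ∈ preimageAlong θ Tb, tot θ a = t ∧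
    Mp (YY p X Z θ Xb Yb) (preimageAlong θ R') (fun x => a * x * a⁻¹) ∧
    ∀ x ∈ preimageAlong θ R', t * tot θ x * t⁻¹ = tot θ (a * x * a⁻¹) := by
  obtain ⟨a, haS, rfl⟩ := D.exists_tot (D.hTS ht)
  refine ⟨a, mem_pre.2 ⟨haS, ht⟩, rfl, Mp.conj (pre_mono hR) (mem_pre.2 ⟨haS, ht⟩), fun x hx => ?_⟩
  exact (tot_conj θ haS (mem_pre.1 hx).1).symm

/-- A `p'`-automorphism lifts to the generated system. -/
theorem pp_lift {R' : Subgroup Ω'} (hc : Hc θ Xb Tb (preimageAlong θ R')) (hR : R' ≤ Tb) {β : MulAut R'} (hβ : β ∈ Yb.autGroup R') {q : ℕ} (hq : q.Coprime p)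
    (hβq : β ^ q = 1) : ∃ J, IsGen p X Z θ Xb Yb (preimageAlong θ R') J ∧ ∀ x ∈ preimageAlong θ R', autFun β (tot θ x) = tot θ (J x) := by
  refine gen_of_lift D hR hc (mp_autFun hR hβ) (img_autFun β) hq (fun y hy => ?_)
  have := iterate_autFun (a := β) q ⟨y, hy⟩
  rw [hβq] at this
  exact this

/-- **(b)**: every map of `Yb` lifts to the generated system. -/
theorem lift_b (hfb : Mp Yb R' fb) : ∃ J, Mp (YY p X Z θ Xb Yb) (preimageAlong θ R') J ∧ ∀ x ∈ preimageAlong θ R', fb (tot θ x) = tot θ (J x) := by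
  obtain ⟨φ, hφ, e⟩ := id hfb
  have hT := D.hT
  haveI : Finite Tb := finite_of_le hT.1
  have hTp : IsPGroup p Tb := D.Sb_p.to_le hT.1
  obtain ⟨J, h1, h2, -⟩ := lift_gen D Yb hTp D.hYb (fun _ _ h => h) (fun _ _ => True) (fun _ _ => trivial) (fun _ _ _ => trivial)
    (fun _ _ _ _ => trivial) (fun _ _ => trivial) (fun R₀ hR₀ t ht _ => by
      have hle : R₀ ≤ Tb := by
        rcases hR₀ with rfl | h
        · exact le_rfl
        · exact h.1.1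
      obtain ⟨a, -, -, h3, h4⟩ := conj_lift D hle ht
      exact ⟨_, h3, h4, trivial⟩) (fun R₀ hR₀ β hβ q hq hβq => by
      have hle : R₀ ≤ Tb := by
        rcases hR₀ with rfl | h
        · exact le_rfl
        · exact h.1.1
      have hc : Hc θ Xb Tb (preimageAlong θ R₀) := by
        rcases hR₀ with rfl | h
        · exact hc_top D
        · exact hc_of_centric' D h.1
      obtain ⟨J, h3, h4⟩ := pp_lift D hc hle hβ hq hβq
      exact ⟨J, YY_gen h3, h4, trivial⟩) R' φ hφ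
  refine ⟨J, h1, fun x hx => ?_⟩
  rw [← h2 x hx, extOf_of_mem _ (mem_pre.1 hx).2]
  exact (e ⟨tot θ x, (mem_pre.1 hx).2⟩).symm

/-- `Hc` is a property of the `X`-class. -/
theorem hc_of_map {P Q : Subgroup Ω} {h : Ω → Ω} (hh : Mp X P h) (hi : Img P h Q) (hc : Hc θ Xb Tb Q) : Hc θ Xb Tb P := by
  intro Q₂ h₂
  obtain ⟨hb, hhb, e⟩ := D.down hh
  have h3 := hhb.isConj (img_bar hh e hi)
  exact hc Q₂ (isConj_trans Xb (isConj_symm Xb h3) h₂)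

/-- Transport of a lift. -/
theorem lb_transport {U P₂ : Subgroup Ω} (hl : Lb X θ Yb P f) (hPU : P ≤ U) (hUT : U ≤ preimageAlong θ Tb) (hfU : ∀ x ∈ P, f x ∈ U) {h k : Ω → Ω}
    (hh : Mp X U h) (hi : Img P h P₂) (he : ∀ x ∈ P, k (h x) = h (f x)) : Lb X θ Yb P₂ k := by
  obtain ⟨hf, fb, hfb, e⟩ := hl
  have hUS := hUT.trans pre_le
  have hPS := hPU.trans hUS
  have hhP := hh.restrict hPU
  obtain ⟨hb, hhb, eb⟩ := D.down hh
  obtain ⟨i, hi', i1, i2, i3⟩ := hhP.inverse hi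
  have hk : Mp X P₂ k := by
    refine ((hi'.comp (Y := P) i3.1 hf).comp (Y := U) (fun y hy => hfU _ (i3.1 y hy)) hh).congr (fun y hy => ?_)
    obtain ⟨x, hx, rfl⟩ := hi.2 y hy
    rw [i1 x hx, he x hx]
  have hibar := img_bar hhP (fun x hx => eb x (hPU hx)) hi
  obtain ⟨kb, hkb, ek⟩ := sI_mp D.hSI (im_mono hUS hPU) (im_le_of hUT) hfb (fun y hy => by
    obtain ⟨x, hx, rfl⟩ := (mem_im hPS).1 hy
    rw [e x hx]
    exact tot_mem_im hUS (hfU x hx)) hhb hibar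
  refine ⟨hk, kb, hkb, fun y hy => ?_⟩
  obtain ⟨x, hx, rfl⟩ := hi.2 y hy
  rw [← eb x (hPU hx), ek _ (tot_mem_im hPS hx), e x hx, eb _ (hfU x hx), he x hx]

/-- Transport of a generator. -/
theorem gen_transport {P₂ : Subgroup Ω} (hg : IsGen p X Z θ Xb Yb P f) {h k : Ω → Ω} (hh : Mp X P h) (hi : Img P h P₂)
    (he : ∀ x ∈ P, k (h x) = h (f x)) : IsGen p X Z θ Xb Yb P₂ k := by
  obtain ⟨h1, h2, h3, ⟨h4, h5, m, hm, h6⟩, h7⟩ := hg
  have hP₂ : P₂ ≤ preimageAlong θ Tb := fun y hy => by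
    obtain ⟨x, hx, rfl⟩ := hi.2 y hy
    exact sc_mp D.sc_TT hh h2 hx
  have hl := lb_transport D h7 le_rfl h2 h5.1 hh hi he
  have hkm : ∀ y ∈ P₂, k y ∈ P₂ := by
    intro y hy
    obtain ⟨x, hx, rfl⟩ := hi.2 y hy
    rw [he x hx]
    exact hi.1 _ (h5.1 x hx)
  refine ⟨D.img_Z hh h1 hi, hP₂, ?_, ⟨hl.1, LowPi.img_self hl.1 hkm, m, hm, fun y hy => ?_⟩, hl⟩
  · obtain ⟨i, hi', -, -, i3⟩ := hh.inverse hi
    exact hc_of_map D hi' i3 h3
  · obtain ⟨x, hx, rfl⟩ := hi.2 y hy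
    have key : ∀ n : ℕ, k^[n] (h x) = h (f^[n] x) := by
      intro n
      induction n with
      | zero => rfl
      | succ n ih =>
        rw [Function.iterate_succ_apply', ih, he _ (iterate_mem h5.1 n hx), Function.iterate_succ_apply']
    rw [key m, h6 x hx]

theorem IsGen.congr (hg : IsGen p X Z θ Xb Yb P f) (e : ∀ x ∈ P, f x = g x) : IsGen p X Z θ Xb Yb P g := by
  obtain ⟨h1, h2, h3, ⟨h4, h5, m, hm, h6⟩, h7⟩ := hg
  refine ⟨h1, h2, h3, ⟨h4.congr e, h5.congr e, m, hm, fun x hx => ?_⟩, h7.congr e⟩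
  rw [← iterate_congr h5.1 e m hx, h6 x hx]

/-- The generated system is invariant under `Aut_X(T')`. -/
theorem Y_tw {a : MulAut (preimageAlong θ Tb)} (ha : a ∈ X.autGroup (preimageAlong θ Tb)) (h : Mp (YY p X Z θ Xb Yb) P f) :
    Mp (YY p X Z θ Xb Yb) (cjB a P) (twB a f) := by
  have hin : InFamB p X Z θ Xb Yb (conjSysB (YY p X Z θ Xb Yb) a) := by
    intro Q f' hg
    refine mp_conjSysB.2 ⟨hg.hT, YY_gen ?_⟩
    have hai := mp_autFun (pre_le (θ := θ) (P' := Tb)) (Subgroup.inv_mem _ ha)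
    refine gen_transport D hg (hai.restrict hg.hT) ⟨fun y hy => mem_cjB_of a hg.hT hy, fun y hy => ⟨autFun a y, hy.2, autFun_inv_apply a y⟩⟩ (fun x _ => twB_inv a f' x)
  exact (mp_conjSysB.1 (YY_min hin h)).2

end facts

end Cfsg.Agent.Lib.FusionExt.LiftC
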