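import Cfsg.Agent.Lib.FusionExt.LiftC
import Cfsg.Agent.Lib.FusionExt.HyperfocalGroup

/-!
# Lifting a normal subsystem along a central extension: the kernel at a fully normalized subgroup (helper92)
-/

set_option autoImplicit false
set_option linter.unusedSectionVars false

namespace Cfsg.Agent.Lib.FusionExt.LiftD

open Cfsg Cfsg.FusionSystem Cfsg.Agent.Lib.Fusion.Basic Cfsg.Agent.Lib.Fusion.GroupSystem
open Cfsg.Agent.Lib.FusionExt.MapApi Cfsg.Agent.Lib.FusionExt.PowerSys Cfsg.Agent.Lib.FusionExt.PowerGen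
open Cfsg.Agent.Lib.FusionExt.PrimeRes1 Cfsg.Agent.Lib.Fusion.Saturation
open Cfsg.Agent.Lib.Fusion.Saturation2 Cfsg.Agent.Lib.FusionExt.SatCrit1 Cfsg.Agent.Lib.FusionExt.Invariant
open Cfsg.Agent.Lib.FusionExt.PowerE Cfsg.Agent.Lib.FusionExt.LowPi
open Cfsg.Agent.Lib.Fusion.KSystem Cfsg.Agent.Lib.Fusion.Alperin
open Cfsg.Agent.Lib.FusionExt.Basic Cfsg.Agent.Lib.FusionExt.Normal Cfsg.Agent.Lib.FusionExt.CentE
open Cfsg.Agent.Lib.FusionExt.LiftA Cfsg.Agent.Lib.FusionExt.Factor Cfsg.Agent.Lib.FusionExt.FactorSat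
open Cfsg.Agent.Lib.FusionExt.LiftB Cfsg.Agent.Lib.FusionExt.LiftC Cfsg.Agent.Lib.FusionExt.CentSys

universe u v

section group

/-- An element commuting with another modulo a normal subgroup. -/
theorem mem_of_comm_mod {G : Type*} [Group G] {N : Subgroup G} (hN : N.Normal) {e b : G} (hc : b * e * b⁻¹ * e⁻¹ ∈ N) {m : ℕ}
    (hg : (e * b) ^ m = 1) (hb : b ^ m = 1) (he : (orderOf e).Coprime m) : e ∈ N := by
  let π : G →* G ⧸ N := QuotientGroup.mk' N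
  have hπ : ∀ x, π x = 1 ↔ x ∈ N := fun x => QuotientGroup.eq_one_iff x
  have h1 : π b * π e * (π b)⁻¹ * (π e)⁻¹ = 1 := by
    rw [← map_inv, ← map_inv, ← map_mul, ← map_mul, ← map_mul]
    exact (hπ _).2 hc
  have h2 : Commute (π e) (π b) := by
    have : π b * π e = π e * π b := by
      calc π b * π e = (π b * π e * (π b)⁻¹ * (π e)⁻¹) * (π e * π b) := by group
        _ = π e * π b := by rw [h1, one_mul]
    exact this.symm
  have h3 : π (e ^ m) = 1 := by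
    have h4 : (π e * π b) ^ m = 1 := by
      rw [← map_mul, ← map_pow, hg, map_one]
    rw [h2.mul_pow, ← map_pow π b, hb, map_one, mul_one] at h4
    rw [map_pow]
    exact h4
  exact mem_of_pow_mem_coprime he ((hπ _).1 h3)

theorem inn_normal {G : Type*} [Group G] : (Inn G).Normal := by
  refine ⟨?_⟩
  rintro _ ⟨x, rfl⟩ g
  refine ⟨g x, ?_⟩
  ext y
  simp [MulAut.conj_apply, map_mul]

variable {p : ℕ} [Fact p.Prime]

theorem residual_map_conj {A : Type*} [Group A] {H : Subgroup A} {h o : A} (hh : h ∈ H) (ho : o ∈ (pResidual p ↥H).map H.subtype) :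
    h * o * h⁻¹ ∈ (pResidual p ↥H).map H.subtype := by
  obtain ⟨o₀, ho₀, rfl⟩ := ho
  exact ⟨⟨h, hh⟩ * o₀ * ⟨h, hh⟩⁻¹, (Cfsg.Agent.Lib.Core.Residual.pResidual_normal (p := p) (G := H)).conj_mem o₀ ho₀ _, rfl⟩

/-- The hyperfocal subgroup theorem, in the form used. -/
theorem residual_inf_le {A : Type*} [Group A] [Finite A] {H R U : Subgroup A} (hR : IsSylowIn p R H)
    (h : ∀ g ∈ H, (∃ m : ℕ, m.Coprime p ∧ g ^ m = 1) → ∀ Q ≤ R, (∀ x ∈ Q, g * x * g⁻¹ ∈ Q) → ∀ u ∈ Q, u⁻¹ * (g * u * g⁻¹) ∈ U)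
    {x : A} (hxR : x ∈ R) (hxO : x ∈ (pResidual p ↥H).map H.subtype) : x ∈ U := by
  obtain ⟨T, hT⟩ := hR
  obtain ⟨y, hy, rfl⟩ := hxO
  have hyT : y ∈ (T : Subgroup H) := by
    rw [hT]
    exact hxR
  have hle : (groupFusionSystem (T : Subgroup H)).hyperfocalSubgroup p ≤ U.subgroupOf H := by
    refine Cfsg.Agent.Lib.FusionExt.Comp1.hyperfocal_le_of_gen (fun P₀ hP₀ f hf x₀ hx₀ => ?_)
    obtain ⟨⟨φ, ⟨-, -, g, hg⟩, e⟩, hi, m, hm, hper⟩ := hf
    haveI : Finite P₀ := inferInstance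
    have hfg : ∀ x ∈ P₀, f x = g * x * g⁻¹ := fun x hx => by
      rw [← e ⟨x, hx⟩]
      exact hg ⟨x, hx⟩
    have hgN : g ∈ Subgroup.normalizer (P₀ : Set H) := mem_normalizer_of_conj_le' (fun x hx => by
      rw [← hfg x hx]
      exact hi.1 x hx)
    let N := Subgroup.normalizer (P₀ : Set H)
    let f₀ : N →* MulAut P₀ := P₀.normalizerMonoidHom
    have hβv : ∀ x : P₀, ((f₀ ⟨g, hgN⟩ x : P₀) : H) = f x := fun x => (hfg x x.2).symm
    set β := f₀ ⟨g, hgN⟩ with hβ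
    have hβm : β ^ m = 1 := by
      refine MulEquiv.ext (fun x => Subtype.ext ?_)
      have h1 := iterate_autFun (a := β) m x
      have h2 : (autFun β)^[m] (x : H) = f^[m] x := iterate_congr (img_autFun β).1 (fun y hy => by
        rw [autFun_of_mem β hy]
        exact hβv ⟨y, hy⟩) m x.2
      rw [h2, hper x x.2] at h1
      exact h1.symm
    obtain ⟨a, b, hab, -, ha, hb, ⟨k, hk⟩, hbc⟩ := Cfsg.Agent.Lib.Transfer.Basic.exists_pPart_decomp (p := p) (⟨g, hgN⟩ : N)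
    have hfa : f₀ a = 1 := by
      obtain ⟨j, hj⟩ := Subgroup.mem_zpowers_iff.1 ha
      have h1 : f₀ a = β ^ j := by
        rw [← hj, map_zpow]
      have h2 : (f₀ a) ^ p ^ k = 1 := by
        rw [← map_pow, hk, map_one]
      have h3 : orderOf (f₀ a) ∣ p ^ k := orderOf_dvd_of_pow_eq_one h2
      have h4 : orderOf (f₀ a) ∣ m := by
        rw [h1]
        exact orderOf_dvd_of_pow_eq_one (by
          rw [← zpow_natCast, ← zpow_mul, mul_comm, zpow_mul, zpow_natCast, hβm, one_zpow])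
      have h7 : orderOf (f₀ a) = 1 := Nat.eq_one_of_dvd_coprimes (Nat.Coprime.pow_right k hm) h4 h3
      exact orderOf_eq_one_iff.1 h7
    have hfb : f₀ b = β := by
      rw [hβ, hab, map_mul, hfa, one_mul]
    have hbact : ∀ x : P₀, (b : H) * (x : H) * (b : H)⁻¹ = f x := fun x => by
      rw [← hβv x, ← hfb]
      rfl
    have hbb : ((b : H) : A) ^ orderOf b = 1 := by
      have : (b ^ orderOf b : N) = 1 := pow_orderOf_eq_one b
      have h2 : (((b ^ orderOf b : N) : H) : A) = 1 := by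
        rw [this]
        rfl
      exact h2
    have key := h ((b : H) : A) (b : H).2 ⟨orderOf b, hbc, hbb⟩ (P₀.map H.subtype) ?_ ?_ ((x₀ : H) : A) ⟨x₀, hx₀, rfl⟩
    · have e1 := hbact ⟨x₀, hx₀⟩
      have e2 : ((b : H) : A) * ((x₀ : H) : A) * ((b : H) : A)⁻¹ = ((f x₀ : H) : A) := by
        rw [← e1]
        rfl
      rw [e2] at key
      exact key
    · rintro _ ⟨w, hw, rfl⟩
      have hw' := hP₀ hw
      rw [hT] at hw'
      exact hw'
    · rintro _ ⟨w, hw, rfl⟩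
      refine ⟨f w, hi.1 w hw, ?_⟩
      have e1 := hbact ⟨w, hw⟩
      show ((f w : H) : A) = _
      rw [← e1]
      rfl
  have h2 : y ∈ (groupFusionSystem (T : Subgroup H)).hyperfocalSubgroup p := by
    rw [Cfsg.Agent.Lib.FusionExt.HyperfocalGroup.hyperfocal_eq T]
    exact ⟨hyT, hy⟩
  exact hle h2

end group

variable {Ω : Type u} [Group Ω] {Ω' : Type v} [Group Ω'] {S : Subgroup Ω} {X : FusionSystem S} {Z : Subgroup Ω}
  {Sb : Subgroup Ω'} {θ : S →* Ω'} {Xb : FusionSystem Sb} {Tb : Subgroup Ω'} {Yb : FusionSystem Tb} {p : ℕ}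
  {P Q R W : Subgroup Ω} {P' Q' R' : Subgroup Ω'} {f g k : Ω → Ω} {fb gb : Ω' → Ω'}

/-- The automorphisms acting trivially modulo the kernel. -/
def kk (θ : S →* Ω') (P : Subgroup Ω) : Subgroup (MulAut P) where
  carrier := {a | ∀ x : P, tot θ ((a x : P) : Ω) = tot θ (x : Ω)}
  mul_mem' := fun {a b} ha hb x => (ha (b x)).trans (hb x)
  one_mem' := fun _ => rfl
  inv_mem' := fun {a} ha x => by
    have := ha (a⁻¹ x)
    rw [MulAut.apply_inv_self] at this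
    exact this.symm

theorem mem_kk {a : MulAut P} : a ∈ kk θ P ↔ ∀ y ∈ P, tot θ (autFun a y) = tot θ y := by
  constructor
  · intro h y hy
    rw [autFun_of_mem a hy]
    exact h ⟨y, hy⟩
  · intro h x
    rw [← autFun_coe]
    exact h x x.2

/-- The centralizer modulo the kernel. -/
def Cp (θ : S →* Ω') (Sb : Subgroup Ω') (P : Subgroup Ω) : Subgroup Ω := preimageAlong θ (centralizerIn Sb (imageAlong θ P))

section facts

variable [Fact p.Prime] [Finite S] [Finite Sb] (D : LD p X Z θ Xb Yb)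

include D

theorem mem_Cp (hP : P ≤ S) {w : Ω} : w ∈ Cp θ Sb P ↔ w ∈ S ∧ ∀ y ∈ P, tot θ (w * y * w⁻¹) = tot θ y := by
  constructor
  · intro h
    obtain ⟨h1, h2⟩ := mem_pre.1 h
    refine ⟨h1, fun y hy => ?_⟩
    have h3 := (mem_cent.1 h2).2 _ (tot_mem_im hP hy)
    rw [tot_conj θ h1 (hP hy), ← h3]
    group
  · rintro ⟨h1, h2⟩
    refine mem_pre.2 ⟨h1, mem_cent.2 ⟨D.tot_mem h1, fun y hy => ?_⟩⟩
    obtain ⟨x, hx, rfl⟩ := (mem_im hP).1 hy
    have h3 := h2 x hx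
    rw [tot_conj θ h1 (hP hx)] at h3
    calc tot θ x * tot θ w = (tot θ w * tot θ x * (tot θ w)⁻¹) * tot θ w := by rw [h3]
      _ = tot θ w * tot θ x := by group

theorem Cp_conj (hP : P ≤ S) (hZP : Z ≤ P) {w y : Ω} (hw : w ∈ Cp θ Sb P) (hy : y ∈ P) : w * y * w⁻¹ ∈ P := by
  obtain ⟨h1, h2⟩ := (mem_Cp D hP).1 hw
  have h3 := (D.tot_eq (hP hy) (S.mul_mem (S.mul_mem h1 (hP hy)) (S.inv_mem h1))).1 (h2 y hy).symm
  have e : w * y * w⁻¹ = y * (y⁻¹ * (w * y * w⁻¹)) := by group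
  rw [e]
  exact P.mul_mem hy (hZP h3)

theorem Cp_norm (hP : P ≤ S) (hZP : Z ≤ P) {w : Ω} (hw : w ∈ Cp θ Sb P) : w ∈ normalizerIn S P := by
  haveI : Finite P := finite_of_le hP
  exact ⟨((mem_Cp D hP).1 hw).1, mem_normalizer_of_conj_le' (fun y hy => Cp_conj D hP hZP hw hy)⟩

theorem kk_pow (hP : P ≤ S) (hZP : Z ≤ P) {a : MulAut P} (ha : a ∈ X.autGroup P) (hk : a ∈ kk θ P) : ∃ k : ℕ, a ^ p ^ k = 1 := by
  haveI : Finite P := finite_of_le hP
  obtain ⟨k, hk'⟩ := pow_fix_step (p := p) (P := P) (D.hS.to_le hP) a (M := P) hZP (fun x _ => by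
    have h1 := hk x
    exact (D.tot_eq (hP x.2) (hP (a x).2)).1 h1.symm) ⟨0, fun z hz => by
    apply Subtype.ext
    rw [pow_zero, pow_one, ← autFun_coe]
    exact D.fix (mp_autFun hP ha) hZP hz⟩
  refine ⟨k, ?_⟩
  ext x
  rw [hk' x x.2]
  rfl

theorem kk_conj (hP : P ≤ S) {a b : MulAut P} (ha : a ∈ kk θ P) (hb : b ∈ X.autGroup P) : b * a * b⁻¹ ∈ kk θ P := by
  obtain ⟨hb', hhb, e⟩ := D.down (mp_autFun hP hb)
  refine mem_kk.2 (fun y hy => ?_)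
  have h1 : autFun (b * a * b⁻¹) y = autFun b (autFun a (autFun b⁻¹ y)) := by
    rw [autFun_mul_apply, autFun_mul_apply]
  rw [h1, ← e _ (autFun_mem _ (autFun_mem _ hy)), (mem_kk.1 ha) _ (autFun_mem _ hy), e _ (autFun_mem _ hy), autFun_apply_inv]

/-- At a fully normalized subgroup the kernel is induced by `S`. -/
theorem kk_le (hfn : X.IsFullyNormalized P) (hZP : Z ≤ P) {a : MulAut P} (ha : a ∈ X.autGroup P) (hk : a ∈ kk θ P) : a ∈ autInducedBy S P := by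
  have hP := hfn.1
  haveI : Finite P := finite_of_le hP
  have h1 : kk θ P ⊓ X.autGroup P ≤ opAut X p P := by
    refine le_opAut inf_le_right (isPGroup_of_pow_eq_one (fun α hα => kk_pow D hP hZP hα.2 hα.1)) ?_
    intro b hb w hw
    exact ⟨kk_conj D hP hw.1 hb, Subgroup.mul_mem _ (Subgroup.mul_mem _ hb hw.2) (Subgroup.inv_mem _ hb)⟩
  exact opAut_le_autInducedBy (isFullyAutomized_of_isFullyNormalized X D.hS D.hX hfn) (h1 ⟨hk, ha⟩)

theorem card_pre {A : Subgroup Ω'} (hA : A ≤ Sb) : Nat.card (preimageAlong θ A) = Nat.card A * Nat.card Z := by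
  let ρ : ↥(preimageAlong θ A) →* ↥A :=
    { toFun := fun x => ⟨tot θ x, (mem_pre.1 x.2).2⟩
      map_one' := Subtype.ext (tot_one θ)
      map_mul' := fun a b => Subtype.ext (tot_mul θ (pre_le a.2) (pre_le b.2)) }
  have hsurj : Function.Surjective ρ := by
    rintro ⟨y, hy⟩
    obtain ⟨x, hx, rfl⟩ := D.exists_tot (hA hy)
    exact ⟨⟨x, mem_pre.2 ⟨hx, hy⟩⟩, rfl⟩
  have h1 : Nat.card ρ.ker = Nat.card Z := by
    refine Nat.card_congr ⟨fun x => ⟨((x : ↥(preimageAlong θ A)) : Ω), ?_⟩, fun z => ⟨⟨z, D.Z_le_pre A z.2⟩, ?_⟩, fun x => rfl, fun z => rfl⟩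
    · have h2 : ρ x = 1 := x.2
      have h3 : tot θ ((x : ↥(preimageAlong θ A)) : Ω) = 1 := congrArg Subtype.val h2
      exact (D.tot_eq_one (pre_le (x : ↥(preimageAlong θ A)).2)).1 h3
    · refine Subtype.ext ?_
      exact (D.tot_eq_one (D.Z_S z.2)).2 z.2
  have h2 : ρ.ker.index = Nat.card A := by
    rw [Subgroup.index_ker, MonoidHom.range_eq_top.2 hsurj, Subgroup.card_top]
  rw [← Subgroup.card_mul_index ρ.ker, h1, h2, mul_comm]

theorem norm_pre (hQ : Q' ≤ Sb) : normalizerIn S (preimageAlong θ Q') = preimageAlong θ (normalizerIn Sb Q') := by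
  haveI : Finite Q' := finite_of_le hQ
  apply le_antisymm
  · rintro x ⟨hx, hxN⟩
    refine mem_pre.2 ⟨hx, D.tot_mem hx, mem_normalizer_of_conj_le' (fun y hy => ?_)⟩
    obtain ⟨u, huS, rfl⟩ := D.exists_tot (hQ hy)
    have h1 : u ∈ preimageAlong θ Q' := mem_pre.2 ⟨huS, hy⟩
    have h2 := norm_conj hxN h1
    rw [← tot_conj θ hx huS]
    exact (mem_pre.1 h2).2
  · intro x hx
    obtain ⟨h1, h2⟩ := mem_pre.1 hx
    refine ⟨h1, mem_normalizer_preimage θ h1 ?_⟩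
    rw [← tot_of_mem θ h1]
    exact h2.2

/-- Fully normalized subgroups go to fully normalized subgroups. -/
theorem fn_bar (hfn : X.IsFullyNormalized P) (hZP : Z ≤ P) : Xb.IsFullyNormalized (imageAlong θ P) := by
  have hP := hfn.1
  have hpi := D.pre_im hP hZP
  refine ⟨D.im_le hP, fun Q₂ hQ₂ => ?_⟩
  obtain ⟨φ, hφ, hr⟩ := hQ₂
  have hi : Img (imageAlong θ P) (extOf φ) Q₂ := by
    rw [← hr]
    refine ⟨fun y hy => ⟨⟨y, hy⟩, (extOf_of_mem φ hy).symm⟩, ?_⟩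
    rintro _ ⟨y, rfl⟩
    exact ⟨y, y.2, extOf_coe φ y⟩
  obtain ⟨f, hf, he⟩ := D.up (mp_of_hom hφ)
  have hQ₂S : Q₂ ≤ Sb := (mp_of_hom hφ).img_le hi
  have hU := D.up_img hf (D.im_le hP) he hi
  rw [hpi] at hf hU
  have h1 := hfn.2 _ (hf.isConj hU)
  have e1 := norm_pre D hQ₂S
  have e2 := norm_pre D (D.im_le hP)
  rw [hpi] at e2
  rw [e1, e2, card_pre D (normalizerIn_le_left _ _), card_pre D (normalizerIn_le_left _ _)] at h1
  have hZpos : 0 < Nat.card Z := Nat.card_pos_iff.2 ⟨⟨1⟩, finite_of_le D.Z_S⟩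
  exact Nat.le_of_mul_le_mul_right h1 hZpos

/-- The image of an automorphism lifting to `Yb`. -/
theorem bar_aut (hPT : P ≤ preimageAlong θ Tb) {g : MulAut P} (hg : Lb X θ Yb P (autFun g)) :
    ∃ b ∈ Yb.autGroup (imageAlong θ P), ∀ x ∈ P, autFun b (tot θ x) = tot θ (autFun g x) := by
  obtain ⟨hgm, fb, hfb, e⟩ := hg
  have hi := img_bar hgm e (img_autFun g)
  obtain ⟨b, hb, hbe⟩ := hfb.toAut hi
  refine ⟨b, hb, fun x hx => ?_⟩
  have h1 := tot_mem_im (θ := θ) hgm.le hx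
  rw [autFun_of_mem b h1, hbe ⟨_, h1⟩]
  exact e x hx

/-- **Lifting the strong extension property.** -/
theorem lift_strong (hfn : X.IsFullyNormalized P) (hZP : Z ≤ P) (hPT : P ≤ preimageAlong θ Tb) (hc : Hc θ Xb Tb P)
    {g : MulAut P} (hg : Lb X θ Yb P (autFun g)) {m : ℕ} (hm : m.Coprime p) (hgm : g ^ m = 1) (hPW : P ≤ W) (hWN : W ≤ normalizerIn S P)
    (hCW : Cp θ Sb P ≤ W) (hn : ∀ x ∈ W, ∃ x' ∈ W, ∀ y ∈ P, autFun g (x * autFun g⁻¹ y * x⁻¹) = x' * y * x'⁻¹) :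
    ∃ Γ, Pp X p W Γ ∧ Img P Γ P ∧ (∀ x ∈ P, tot θ (Γ x) = tot θ (autFun g x)) ∧ (∀ x ∈ W, x⁻¹ * Γ x ∈ preimageAlong θ Tb) ∧
      ∀ w ∈ Cp θ Sb P, w⁻¹ * Γ w ∈ P := by
  have hPS : P ≤ S := hfn.1
  have hWS : W ≤ S := hWN.trans inf_le_left
  have hZW : Z ≤ W := hZP.trans hPW
  have hpi := D.pre_im hPS hZP
  have hpw := D.pre_im hWS hZW
  haveI : Finite P := finite_of_le hPS
  obtain ⟨b, hb, hbe⟩ := bar_aut D hPT hg
  have hgF : g ∈ X.autGroup P := by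
    obtain ⟨a, ha, he⟩ := hg.1.toAut (img_autFun g)
    have : a = g := by
      ext x
      rw [he x, autFun_coe]
    rwa [← this]
  have hbm : b ^ m = 1 := by
    refine MulEquiv.ext (fun y => Subtype.ext ?_)
    obtain ⟨x, hx, hxe⟩ := (mem_im hPS).1 y.2
    have h1 := iterate_autFun (a := b) m y
    have h2 : (autFun b)^[m] (y : Ω') = tot θ ((autFun g)^[m] x) := by
      rw [← hxe]
      exact iter_lift (img_autFun g).1 hbe m hx
    have h3 : (autFun g)^[m] x = x := by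
      have h4 := iterate_autFun (a := g) m ⟨x, hx⟩
      rw [hgm] at h4
      exact h4
    rw [h3, hxe] at h2
    rw [h2] at h1
    exact h1.symm
  have hbinv : ∀ x ∈ P, autFun b⁻¹ (tot θ x) = tot θ (autFun g⁻¹ x) := by
    intro x hx
    have h1 := hbe _ (autFun_mem g⁻¹ hx)
    rw [autFun_apply_inv] at h1
    rw [← h1, autFun_inv_apply]
  have hFN := fn_bar D hfn hZP
  have hcb : ∀ Q₂, Xb.IsConj (imageAlong θ P) Q₂ → zz Tb Q₂ ≤ Q₂ := hc
  have hSbp := D.Sb_p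
  have hPb : imageAlong θ P ≤ Tb := im_le_of hPT
  have hWb : imageAlong θ W ≤ normalizerIn Sb (imageAlong θ P) := by
    intro y hy
    obtain ⟨x, hx, rfl⟩ := (mem_im hWS).1 hy
    have h1 : x ∈ preimageAlong θ (normalizerIn Sb (imageAlong θ P)) := by
      rw [← norm_pre D (D.im_le hPS), hpi]
      exact hWN hx
    exact (mem_pre.1 h1).2
  obtain ⟨Γb, hΓb, h1, h2, h3⟩ := strong_pi hSbp D.hN hFN hPb hcb hb hm hbm (im_mono hWS hPW) hWb (fun c hc' => by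
      obtain ⟨w, hw, rfl⟩ := D.exists_tot hc'.1
      have hwC : w ∈ Cp θ Sb P := mem_pre.2 ⟨hw, hc'⟩
      exact tot_mem_im hWS (hCW hwC)) (fun xb hxb => by
      obtain ⟨x, hx, rfl⟩ := (mem_im hWS).1 hxb
      obtain ⟨x', hx', hxe⟩ := hn x hx
      refine ⟨tot θ x', tot_mem_im hWS hx', fun yb hyb => ?_⟩
      obtain ⟨y, hy, rfl⟩ := (mem_im hPS).1 hyb
      have hu := autFun_mem g⁻¹ hy
      have hxN := hWN hx
      have hu' : x * autFun g⁻¹ y * x⁻¹ ∈ P := norm_conj hxN.2 hu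
      rw [hbinv y hy, ← tot_conj θ (hWS hx) (hPS hu), hbe _ hu', hxe y hy, tot_conj θ (hWS hx') (hPS hy)])
  obtain ⟨h4, h5, m₁, hm₁, h6⟩ := hΓb
  obtain ⟨Γ₁, hΓ₁, he₁⟩ := D.up h4
  have hi₁ := D.up_img hΓ₁ (D.im_le hWS) he₁ h5
  rw [hpw] at hΓ₁ he₁ hi₁
  obtain ⟨Γ, M, hpp, hΓM, hMm⟩ := Cfsg.Agent.Lib.Fusion.LiftX.pp_part (p := p) hWS hΓ₁ hi₁ hm₁
  have hlift : ∀ x ∈ W, Γb (tot θ x) = tot θ (Γ x) := by
    intro x hx
    have h7 : tot θ x ∈ imageAlong θ W := tot_mem_im hWS hx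
    rw [hΓM x hx, ← iter_lift hi₁.1 he₁ M hx]
    exact (iterate_modEq h5.1 h6 hMm h7).symm
  have htP : ∀ x ∈ P, tot θ (Γ x) = tot θ (autFun g x) := by
    intro x hx
    rw [← hlift x (hPW hx), h1 _ (tot_mem_im hPS hx), hbe x hx]
  have hΓ := hpp.1
  refine ⟨Γ, hpp, LowPi.img_self (hΓ.restrict hPW) (fun x hx => ?_), htP, fun x hx => ?_, fun w hw => ?_⟩
  · rw [← hpi]
    refine mem_pre.2 ⟨hΓ.mem_S (hPW hx), ?_⟩
    rw [htP x hx]
    exact tot_mem_im hPS (autFun_mem g hx)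
  · have hxS := hWS hx
    have hΓS := hΓ.mem_S hx
    refine mem_pre.2 ⟨S.mul_mem (S.inv_mem hxS) hΓS, ?_⟩
    rw [tot_mul θ (S.inv_mem hxS) hΓS, tot_inv θ hxS, ← hlift x hx]
    exact h2 _ (tot_mem_im hWS hx)
  · have hwW := hCW hw
    have hwS := hWS hwW
    have hΓS := hΓ.mem_S hwW
    have h8 : (tot θ w)⁻¹ * Γb (tot θ w) ∈ zz Tb (imageAlong θ P) := h3 _ (mem_pre.1 hw).2
    rw [← hpi]
    refine mem_pre.2 ⟨S.mul_mem (S.inv_mem hwS) hΓS, ?_⟩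
    rw [tot_mul θ (S.inv_mem hwS) hΓS, tot_inv θ hwS, ← hlift w hwW]
    exact hcb _ (isConj_refl Xb (hPb.trans D.hTS)) h8

/-- The `e`-lemma: a `p'`-automorphism with the same image as a restriction of a `p'`-map differs from it by an inner automorphism. -/
theorem e_lemma (hfn : X.IsFullyNormalized P) (hZP : Z ≤ P) {g : MulAut P} (hgF : g ∈ X.autGroup P) {m : ℕ} (hm : m.Coprime p) (hgm : g ^ m = 1)
    (hCW : Cp θ Sb P ≤ W) {Γ : Ω → Ω} (hΓ : Pp X p W Γ) (hPW : P ≤ W) (hi : Img P Γ P) (htP : ∀ x ∈ P, tot θ (Γ x) = tot θ (autFun g x))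
    (hw' : ∀ w ∈ Cp θ Sb P, w⁻¹ * Γ w ∈ P) : ∃ z ∈ P, ∀ y ∈ P, autFun g y = z * Γ y * z⁻¹ := by
  have hPS : P ≤ S := hfn.1
  haveI : Finite P := finite_of_le hPS
  haveI : Finite (MulAut P) := Cfsg.Agent.Lib.Fusion.Basic.finite_mulAut_of_finite (A := P)
  obtain ⟨hΓm, hΓi, m₁, hm₁, hper⟩ := hΓ
  obtain ⟨b₁, hb₁, hb₁e⟩ := (hΓm.restrict hPW).toAut hi
  have hb₁f : ∀ y ∈ P, autFun b₁ y = Γ y := fun y hy => by
    rw [autFun_of_mem b₁ hy]
    exact hb₁e ⟨y, hy⟩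
  have hb₁m : b₁ ^ m₁ = 1 := by
    refine MulEquiv.ext (fun y => Subtype.ext ?_)
    have h1 := iterate_autFun (a := b₁) m₁ y
    have h2 : (autFun b₁)^[m₁] (y : Ω) = Γ^[m₁] y := iterate_congr (img_autFun b₁).1 hb₁f m₁ y.2
    rw [h2, hper y (hPW y.2)] at h1
    exact h1.symm
  set e := g * b₁⁻¹ with he
  have heF : e ∈ X.autGroup P := Subgroup.mul_mem _ hgF (Subgroup.inv_mem _ hb₁)
  have hek : e ∈ kk θ P := by
    refine mem_kk.2 (fun y hy => ?_)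
    have h1 := autFun_mem b₁⁻¹ hy
    rw [he, autFun_mul_apply, ← htP _ h1, ← hb₁f _ h1, autFun_apply_inv]
  obtain ⟨w, hwS, hwe⟩ := (mem_autInducedBy_iff S P e).1 (kk_le D hfn hZP heF hek)
  have hwf : ∀ y ∈ P, autFun e y = w * y * w⁻¹ := fun y hy => by
    rw [autFun_of_mem e hy]
    exact hwe ⟨y, hy⟩
  have hwC : w ∈ Cp θ Sb P := (mem_Cp D hPS).2 ⟨hwS, fun y hy => by
    rw [← hwf y hy]
    exact (mem_kk.1 hek) y hy⟩
  have hwN := Cp_norm D hPS hZP hwC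
  have hwW := hCW hwC
  -- the commutator is inner
  have hinv : ∀ y ∈ P, autFun b₁⁻¹ y ∈ W := fun y hy => hPW (autFun_mem _ hy)
  have hcomm : b₁ * e * b₁⁻¹ * e⁻¹ ∈ Inn P := by
    have hv : Γ w * w⁻¹ ∈ P := by
      have h1 := norm_conj hwN.2 (hw' w hwC)
      have e2 : w * (w⁻¹ * Γ w) * w⁻¹ = Γ w * w⁻¹ := by group
      rwa [e2] at h1
    refine ⟨⟨_, hv⟩, ?_⟩
    refine MulEquiv.ext (fun y => Subtype.ext ?_)
    have h2 : ((MulAut.conj (⟨_, hv⟩ : P) y : P) : Ω) = Γ w * w⁻¹ * y * (Γ w * w⁻¹)⁻¹ := rfl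
    have hey : autFun e⁻¹ (y : Ω) = w⁻¹ * y * w := by
      have h3 : w⁻¹ * y * w ∈ P := by
        have := norm_conj (Subgroup.inv_mem _ hwN.2) y.2
        rwa [inv_inv] at this
      have h4 := hwf _ h3
      have e5 : w * (w⁻¹ * (y : Ω) * w) * w⁻¹ = y := by group
      rw [e5] at h4
      have h6 := autFun_inv_apply e (w⁻¹ * (y : Ω) * w)
      rwa [h4] at h6
    have hy1 : autFun e⁻¹ (y : Ω) ∈ P := autFun_mem _ y.2
    have hy2 : autFun b₁⁻¹ (autFun e⁻¹ (y : Ω)) ∈ P := autFun_mem _ hy1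
    have h5 : ((b₁ * e * b₁⁻¹ * e⁻¹) y : P).1 = autFun b₁ (autFun e (autFun b₁⁻¹ (autFun e⁻¹ (y : Ω)))) := by
      rw [← autFun_coe, autFun_mul_apply, autFun_mul_apply, autFun_mul_apply]
    rw [h2, h5, hwf _ hy2, hb₁f _ (norm_conj hwN.2 hy2), hΓm.map_conj hwW (hPW hy2), ← hb₁f _ hy2, autFun_apply_inv, hey]
    group
  have hinn : e ∈ Inn P := by
    have hek' := kk_pow D hPS hZP heF hek
    obtain ⟨k, hk⟩ := hek'
    have hmm : (m * m₁).Coprime p := Nat.Coprime.mul_left hm hm₁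
    have hge : e * b₁ = g := by
      rw [he]
      group
    refine mem_of_comm_mod inn_normal hcomm (m := m * m₁) ?_ ?_ ?_
    · rw [hge, pow_mul, hgm, one_pow]
    · rw [mul_comm, pow_mul, hb₁m, one_pow]
    · exact Nat.Coprime.coprime_dvd_left (orderOf_dvd_of_pow_eq_one hk) (Nat.Coprime.pow_left k hmm.symm)
  obtain ⟨z, hz⟩ := hinn
  refine ⟨z, z.2, fun y hy => ?_⟩
  have hy' := autFun_mem b₁ hy
  have h1 : autFun g y = autFun e (autFun b₁ y) := by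
    rw [he, autFun_mul_apply, autFun_inv_apply]
  rw [h1, ← hb₁f y hy, autFun_of_mem e hy', ← hz]
  rfl

theorem norm_of_bar (hPS : P ≤ S) (hZP : Z ≤ P) {t : Ω} (htS : t ∈ S) (h : tot θ t ∈ Subgroup.normalizer (imageAlong θ P : Set Ω')) : t ∈ normalizerIn S P := by
  have h1 : t ∈ preimageAlong θ (normalizerIn Sb (imageAlong θ P)) := mem_pre.2 ⟨htS, D.tot_mem htS, h⟩
  rw [← norm_pre D (D.im_le hPS), D.pre_im hPS hZP] at h1
  exact h1

theorem LL_le_X (hPT : P ≤ preimageAlong θ Tb) {a : MulAut P} (ha : a ∈ (LL X θ Yb).autGroup P) : Lb X θ Yb P (autFun a) :=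
  (mp_LL.1 (mp_autFun hPT ha)).2.2

theorem aut_X_of_LL (hPT : P ≤ preimageAlong θ Tb) {a : MulAut P} (ha : a ∈ (LL X θ Yb).autGroup P) : a ∈ X.autGroup P :=
  Cfsg.Agent.Lib.FusionExt.CentE4.aut_of_mp' (hPT.trans pre_le) (LL_le_X D hPT ha).1

theorem aut_LL_of_lb (hPT : P ≤ preimageAlong θ Tb) {a : MulAut P} (h : Lb X θ Yb P (autFun a)) : a ∈ (LL X θ Yb).autGroup P :=
  Cfsg.Agent.Lib.FusionExt.CentE4.aut_of_mp' hPT (mp_LL_of hPT (img_autFun a).1 h)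

/-- The Sylow subgroup. -/
theorem sylow_H (hfn : X.IsFullyNormalized P) (hZP : Z ≤ P) (hPT : P ≤ preimageAlong θ Tb) :
    IsSylowIn p (autInducedBy S P ⊓ (LL X θ Yb).autGroup P) ((LL X θ Yb).autGroup P) := by
  have hPS : P ≤ S := hfn.1
  haveI : Finite P := finite_of_le hPS
  haveI : Finite (MulAut P) := Cfsg.Agent.Lib.Fusion.Basic.finite_mulAut_of_finite (A := P)
  have hPb : imageAlong θ P ≤ Tb := im_le_of hPT
  haveI hfT : Finite Tb := finite_of_le D.hT.1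
  have hTp : IsPGroup p Tb := D.Sb_p.to_le D.hT.1
  have hfnb : Yb.IsFullyNormalized (imageAlong θ P) := fn_sub D.Sb_p D.hXb D.hsub D.hT (fn_bar D hfn hZP) hPb
  have hFA := isFullyAutomized_of_isFullyNormalized Yb hTp D.hYb hfnb
  refine (isSylowIn_iff_maximal inf_le_right).2 ⟨(isPGroup_autInducedBy P D.hS).to_le inf_le_left, fun C hCH hCp hRC => le_antisymm (fun c hc => ?_) hRC⟩
  have hU₀R : autInducedBy (preimageAlong θ Tb) P ≤ autInducedBy S P ⊓ (LL X θ Yb).autGroup P := le_inf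
    (fun a ha => by
      obtain ⟨g₀, hg₀, hg₀e⟩ := (mem_autInducedBy_iff _ P a).1 ha
      exact (mem_autInducedBy_iff S P a).2 ⟨g₀, pre_le hg₀, hg₀e⟩)
    (autInducedBy_le_autGroup _ hPT)
  let Cb : Subgroup (MulAut ↥(imageAlong θ P)) :=
    { carrier := {b | b ∈ Yb.autGroup (imageAlong θ P) ∧ ∃ c ∈ C, ∀ x ∈ P, autFun b (tot θ x) = tot θ (autFun c x)}
      mul_mem' := by
        rintro b₁ b₂ ⟨h1, c₁, hc₁, e₁⟩ ⟨h2, c₂, hc₂, e₂⟩
        refine ⟨Subgroup.mul_mem _ h1 h2, c₁ * c₂, Subgroup.mul_mem _ hc₁ hc₂, fun x hx => ?_⟩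
        rw [autFun_mul_apply, autFun_mul_apply, e₂ x hx, e₁ _ (autFun_mem _ hx)]
      one_mem' := ⟨Subgroup.one_mem _, 1, Subgroup.one_mem _, fun x hx => by rw [autFun_one_apply, autFun_one_apply]⟩
      inv_mem' := by
        rintro b ⟨h1, c, hc, e⟩
        refine ⟨Subgroup.inv_mem _ h1, c⁻¹, Subgroup.inv_mem _ hc, fun x hx => ?_⟩
        have h2 := e _ (autFun_mem c⁻¹ hx)
        rw [autFun_apply_inv] at h2
        rw [← h2, autFun_inv_apply] }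
  have hCbY : Cb ≤ Yb.autGroup (imageAlong θ P) := fun b hb => hb.1
  have hCbp : IsPGroup p Cb := by
    refine isPGroup_of_pow_eq_one (fun b hb => ?_)
    obtain ⟨h1, c₀, hc₀, e₀⟩ := hb
    obtain ⟨k, hk⟩ := hCp ⟨c₀, hc₀⟩
    have hk' : c₀ ^ p ^ k = 1 := congrArg Subtype.val hk
    refine ⟨k, MulEquiv.ext (fun y => Subtype.ext ?_)⟩
    obtain ⟨x, hx, hxe⟩ := (mem_im hPS).1 y.2
    have h2 := iterate_autFun (a := b) (p ^ k) y
    have h3 : (autFun b)^[p ^ k] (y : Ω') = tot θ ((autFun c₀)^[p ^ k] x) := by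
      rw [← hxe]
      exact iter_lift (img_autFun c₀).1 e₀ _ hx
    have h4 : (autFun c₀)^[p ^ k] x = x := by
      have h5 := iterate_autFun (a := c₀) (p ^ k) ⟨x, hx⟩
      rw [hk'] at h5
      exact h5
    rw [h4, hxe] at h3
    rw [h3] at h2
    exact h2.symm
  have hrel : ∀ {t : Ω}, t ∈ preimageAlong θ Tb → ∀ (ht : t ∈ Subgroup.normalizer (P : Set Ω)), ∀ y ∈ P, autFun (normAct P ht) y = t * y * t⁻¹ := by
    intro t _ ht y hy
    rw [autFun_of_mem _ hy]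
    rfl
  have hA' : autInducedBy Tb (imageAlong θ P) ≤ Cb := by
    intro a ha
    obtain ⟨tb, htb, e⟩ := (mem_autInducedBy_iff Tb _ a).1 ha
    have hN := mem_normalizer_of_conj _ a tb e
    obtain ⟨t, htS, rfl⟩ := D.exists_tot (D.hTS htb)
    have htN := norm_of_bar D hPS hZP htS hN
    have htT : t ∈ preimageAlong θ Tb := mem_pre.2 ⟨htS, htb⟩
    have hc₁ : normAct P htN.2 ∈ autInducedBy (preimageAlong θ Tb) P := normAct_mem_autInducedBy _ P htN.2 htT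
    refine ⟨autInducedBy_le_autGroup Yb hPb ha, _, hRC (hU₀R hc₁), fun x hx => ?_⟩
    have hx' := tot_mem_im (θ := θ) hPS hx
    rw [autFun_of_mem a hx', e ⟨_, hx'⟩, hrel htT htN.2 x hx, tot_conj θ htS (hPS hx)]
  have hmax := ((isSylowIn_iff_maximal (autInducedBy_le_autGroup Yb hPb)).1 hFA.2).2 Cb hCbY hCbp hA'
  have hcH := hCH hc
  obtain ⟨b, hb, hbe⟩ := bar_aut D hPT (LL_le_X D hPT hcH)
  have hbC : b ∈ Cb := ⟨hb, c, hc, hbe⟩
  rw [hmax] at hbC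
  obtain ⟨tb, htb, e⟩ := (mem_autInducedBy_iff Tb _ b).1 hbC
  have hN := mem_normalizer_of_conj _ b tb e
  obtain ⟨t, htS, rfl⟩ := D.exists_tot (D.hTS htb)
  have htN := norm_of_bar D hPS hZP htS hN
  have htT : t ∈ preimageAlong θ Tb := mem_pre.2 ⟨htS, htb⟩
  have hc₁ : normAct P htN.2 ∈ autInducedBy (preimageAlong θ Tb) P := normAct_mem_autInducedBy _ P htN.2 htT
  have hcX := aut_X_of_LL D hPT hcH
  have hc₁R := hU₀R hc₁
  have hc₁X := autInducedBy_le_autGroup X hPS hc₁R.1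
  have hek : c * (normAct P htN.2)⁻¹ ∈ kk θ P := by
    refine mem_kk.2 (fun y hy => ?_)
    have hy₁ := autFun_mem (normAct P htN.2)⁻¹ hy
    rw [autFun_mul_apply, ← hbe _ hy₁]
    have h5 := hrel htT htN.2 _ hy₁
    rw [autFun_apply_inv] at h5
    have hx' := tot_mem_im (θ := θ) hPS hy₁
    rw [autFun_of_mem b hx', e ⟨_, hx'⟩]
    show tot θ t * tot θ _ * (tot θ t)⁻¹ = _
    rw [← tot_conj θ htS (hPS hy₁), ← h5]
  have h6 := kk_le D hfn hZP (Subgroup.mul_mem _ hcX (Subgroup.inv_mem _ hc₁X)) hek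
  refine ⟨?_, hcH⟩
  have e7 : c = (c * (normAct P htN.2)⁻¹) * normAct P htN.2 := by group
  rw [e7]
  exact Subgroup.mul_mem _ h6 hc₁R.1

/-- Extending a `p'`-automorphism to a subgroup on which a group of automorphisms acts. -/
theorem exists_Γ (hfn : X.IsFullyNormalized P) (hZP : Z ≤ P) (hPT : P ≤ preimageAlong θ Tb) (hc : Hc θ Xb Tb P)
    {g : MulAut P} (hgH : g ∈ (LL X θ Yb).autGroup P) {m : ℕ} (hm : m.Coprime p) (hgm : g ^ m = 1) {Q₀ : Subgroup (MulAut P)}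
    (hQ₀ : Q₀ ≤ autInducedBy S P) (hQn : ∀ x ∈ Q₀, g * x * g⁻¹ ∈ Q₀) :
    ∃ W₀ Γ, P ≤ W₀ ∧ Cp θ Sb P ≤ W₀ ∧ (∀ u ∈ Q₀, ∀ x ∈ S, (∀ y : P, ((u y : P) : Ω) = x * y * x⁻¹) → x ∈ W₀) ∧ Pp X p W₀ Γ ∧ Img P Γ P ∧
      (∀ x ∈ P, tot θ (Γ x) = tot θ (autFun g x)) ∧ (∀ x ∈ W₀, x⁻¹ * Γ x ∈ preimageAlong θ Tb) ∧ ∀ w ∈ Cp θ Sb P, w⁻¹ * Γ w ∈ P := by
  have hPS : P ≤ S := hfn.1
  haveI : Finite P := finite_of_le hPS
  haveI : Finite (MulAut P) := Cfsg.Agent.Lib.Fusion.Basic.finite_mulAut_of_finite (A := P)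
  have hgL := LL_le_X D hPT hgH
  have hgF := aut_X_of_LL D hPT hgH
  let V : Subgroup (MulAut P) := Q₀ ⊔ (kk θ P ⊓ X.autGroup P) ⊔ Inn P
  have hVS : V ≤ autInducedBy S P := sup_le (sup_le hQ₀ (fun a ha => kk_le D hfn hZP ha.2 ha.1)) (inn_le_autInducedBy S hPS)
  have hVn : ∀ v ∈ V, g * v * g⁻¹ ∈ V := by
    have h1 : V.map (MulAut.conj g).toMonoidHom ≤ V := by
      show (Q₀ ⊔ (kk θ P ⊓ X.autGroup P) ⊔ Inn P).map (MulAut.conj g).toMonoidHom ≤ _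
      rw [Subgroup.map_sup, Subgroup.map_sup]
      refine sup_le (sup_le ?_ ?_) ?_
      · rintro _ ⟨v, hv, rfl⟩
        exact Subgroup.mem_sup_left (Subgroup.mem_sup_left (hQn v hv))
      · rintro _ ⟨v, hv, rfl⟩
        exact Subgroup.mem_sup_left (Subgroup.mem_sup_right ⟨kk_conj D hPS hv.1 hgF, Subgroup.mul_mem _ (Subgroup.mul_mem _ hgF hv.2) (Subgroup.inv_mem _ hgF)⟩)
      · rintro _ ⟨v, hv, rfl⟩
        exact Subgroup.mem_sup_right (inn_normal.conj_mem v hv g)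
    exact fun v hv => h1 ⟨v, hv, rfl⟩
  let W₀ : Subgroup Ω :=
    { carrier := {x | x ∈ normalizerIn S P ∧ ∃ v ∈ V, ∀ y ∈ P, autFun v y = x * y * x⁻¹}
      mul_mem' := by
        rintro x₁ x₂ ⟨h1, v₁, hv₁, e₁⟩ ⟨h2, v₂, hv₂, e₂⟩
        refine ⟨Subgroup.mul_mem _ h1 h2, v₁ * v₂, Subgroup.mul_mem _ hv₁ hv₂, fun y hy => ?_⟩
        rw [autFun_mul_apply, e₂ y hy, e₁ _ (norm_conj h2.2 hy)]
        group
      one_mem' := ⟨Subgroup.one_mem _, 1, Subgroup.one_mem _, fun y _ => by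
        rw [autFun_one_apply]
        group⟩
      inv_mem' := by
        rintro x ⟨h1, v, hv, e⟩
        refine ⟨Subgroup.inv_mem _ h1, v⁻¹, Subgroup.inv_mem _ hv, fun y hy => ?_⟩
        have h2 : x⁻¹ * y * x ∈ P := by
          have := norm_conj (Subgroup.inv_mem _ h1.2) hy
          rwa [inv_inv] at this
        have h3 := e _ h2
        have e5 : x * (x⁻¹ * y * x) * x⁻¹ = y := by group
        rw [e5] at h3
        have h6 := autFun_inv_apply v (x⁻¹ * y * x)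
        rw [h3] at h6
        rw [h6]
        group }
  have hPW : P ≤ W₀ := fun y hy => ⟨le_normalizerIn hPS hy, MulAut.conj (⟨y, hy⟩ : P), Subgroup.mem_sup_right ⟨_, rfl⟩, fun z hz => by
    rw [autFun_of_mem _ hz]
    rfl⟩
  have hWN : W₀ ≤ normalizerIn S P := fun x hx => hx.1
  have hCW : Cp θ Sb P ≤ W₀ := by
    intro w hw
    have hwN := Cp_norm D hPS hZP hw
    have hwS := ((mem_Cp D hPS).1 hw).2
    refine ⟨hwN, normAct P hwN.2, Subgroup.mem_sup_left (Subgroup.mem_sup_right ⟨?_, autInducedBy_le_autGroup X hPS (normAct_mem_autInducedBy S P hwN.2 hwN.1)⟩), fun y hy => ?_⟩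
    · refine mem_kk.2 (fun y hy => ?_)
      rw [← hwS y hy, autFun_of_mem _ hy]
      rfl
    · rw [autFun_of_mem _ hy]
      rfl
  have hn : ∀ x ∈ W₀, ∃ x' ∈ W₀, ∀ y ∈ P, autFun g (x * autFun g⁻¹ y * x⁻¹) = x' * y * x'⁻¹ := by
    rintro x ⟨h1, v, hv, e⟩
    have h2 := hVn v hv
    obtain ⟨x', hx'S, hx'e⟩ := (mem_autInducedBy_iff S P _).1 (hVS h2)
    have hx'f : ∀ y ∈ P, autFun (g * v * g⁻¹) y = x' * y * x'⁻¹ := fun y hy => by
      rw [autFun_of_mem _ hy]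
      exact hx'e ⟨y, hy⟩
    refine ⟨x', ⟨⟨hx'S, mem_normalizer_of_conj P _ x' hx'e⟩, _, h2, hx'f⟩, fun y hy => ?_⟩
    rw [← hx'f y hy, ← e _ (autFun_mem _ hy), autFun_mul_apply, autFun_mul_apply]
  obtain ⟨Γ, hΓ, hΓi, htP, hΓT, hΓw⟩ := lift_strong D hfn hZP hPT hc hgL hm hgm hPW hWN hCW hn
  refine ⟨W₀, Γ, hPW, hCW, fun u hu x hxS hxe => ?_, hΓ, hΓi, htP, hΓT, hΓw⟩
  refine ⟨⟨hxS, mem_normalizer_of_conj P u x hxe⟩, u, Subgroup.mem_sup_left (Subgroup.mem_sup_left hu), fun y hy => ?_⟩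
  rw [autFun_of_mem _ hy]
  exact hxe ⟨y, hy⟩

/-- The core computation. -/
theorem core_step (hfn : X.IsFullyNormalized P) (hZP : Z ≤ P) (hPT : P ≤ preimageAlong θ Tb) (hc : Hc θ Xb Tb P)
    {g : MulAut P} (hgH : g ∈ (LL X θ Yb).autGroup P) {m : ℕ} (hm : m.Coprime p) (hgm : g ^ m = 1) {Q₀ : Subgroup (MulAut P)}
    (hQ₀ : Q₀ ≤ autInducedBy S P) (hQn : ∀ x ∈ Q₀, g * x * g⁻¹ ∈ Q₀) {u : MulAut P} (hu : u ∈ Q₀) :
    u⁻¹ * (g * u * g⁻¹) ∈ autInducedBy (preimageAlong θ Tb) P := by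
  have hPS : P ≤ S := hfn.1
  haveI : Finite P := finite_of_le hPS
  have hgF := aut_X_of_LL D hPT hgH
  obtain ⟨W₀, Γ, hPW, hCW, hW₀u, hΓ, hΓi, htP, hΓT, hΓw⟩ := exists_Γ D hfn hZP hPT hc hgH hm hgm hQ₀ hQn
  obtain ⟨z, hz, hze⟩ := e_lemma D hfn hZP hgF hm hgm hCW hΓ hPW hΓi htP hΓw
  obtain ⟨x, hxS, hxe⟩ := (mem_autInducedBy_iff S P u).1 (hQ₀ hu)
  have hxf : ∀ y ∈ P, autFun u y = x * y * x⁻¹ := fun y hy => by
    rw [autFun_of_mem _ hy]
    exact hxe ⟨y, hy⟩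
  have hxN : x ∈ normalizerIn S P := ⟨hxS, mem_normalizer_of_conj P u x hxe⟩
  have hxW : x ∈ W₀ := hW₀u u hu x hxS hxe
  have huinv : ∀ y ∈ P, autFun u⁻¹ y = x⁻¹ * y * x := by
    intro y hy
    have h2 : x⁻¹ * y * x ∈ P := by
      have := norm_conj (Subgroup.inv_mem _ hxN.2) hy
      rwa [inv_inv] at this
    have h3 := hxf _ h2
    have e5 : x * (x⁻¹ * y * x) * x⁻¹ = y := by group
    rw [e5] at h3
    have h6 := autFun_inv_apply u (x⁻¹ * y * x)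
    rw [h3] at h6
    exact h6
  have hΓm := hΓ.1
  have hyy : ∀ y ∈ P, Γ (autFun g⁻¹ y) = z⁻¹ * y * z := by
    intro y hy
    have h1 := hze _ (autFun_mem g⁻¹ hy)
    rw [autFun_apply_inv] at h1
    calc Γ (autFun g⁻¹ y) = z⁻¹ * (z * Γ (autFun g⁻¹ y) * z⁻¹) * z := by group
      _ = z⁻¹ * y * z := by rw [← h1]
  refine (mem_autInducedBy_iff _ P _).2 ⟨x⁻¹ * (z * Γ x * z⁻¹), ?_, fun y => ?_⟩
  · have hzT := hPT hz
    have hxS' := hxS
    have h1 : x⁻¹ * z * x ∈ preimageAlong θ Tb := by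
      have := D.TT_conj (S.inv_mem hxS) hzT
      rwa [inv_inv] at this
    have h2 := hΓT x hxW
    have e : x⁻¹ * (z * Γ x * z⁻¹) = (x⁻¹ * z * x) * (x⁻¹ * Γ x) * z⁻¹ := by group
    rw [e]
    exact Subgroup.mul_mem _ (Subgroup.mul_mem _ h1 h2) (Subgroup.inv_mem _ hzT)
  · have hy₁ := autFun_mem g⁻¹ y.2
    have hy₂ : x * autFun g⁻¹ y * x⁻¹ ∈ P := norm_conj hxN.2 hy₁
    have h1 : (((u⁻¹ * (g * u * g⁻¹)) y : P) : Ω) = autFun u⁻¹ (autFun g (autFun u (autFun g⁻¹ y))) := by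
      rw [← autFun_coe, autFun_mul_apply, autFun_mul_apply, autFun_mul_apply]
    have hΓconj : Γ (x * autFun g⁻¹ y * x⁻¹) = Γ x * (z⁻¹ * y * z) * (Γ x)⁻¹ := by
      rw [hΓm.map_conj hxW (hPW hy₁), hyy _ y.2]
    have hmem : z * Γ (x * autFun g⁻¹ y * x⁻¹) * z⁻¹ ∈ P := P.mul_mem (P.mul_mem hz (hΓi.1 _ hy₂)) (P.inv_mem hz)
    rw [h1, hxf _ hy₁, hze _ hy₂, huinv _ hmem, hΓconj]
    group

/-- The group generated by the automorphisms of `T'` and the `p'`-lifts. -/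
def AA (p : ℕ) (X : FusionSystem S) (θ : S →* Ω') (Yb : FusionSystem Tb) (P : Subgroup Ω) : Subgroup (MulAut P) :=
  Subgroup.closure ((autInducedBy (preimageAlong θ Tb) P : Set (MulAut P)) ∪ {a | Pp X p P (autFun a) ∧ Lb X θ Yb P (autFun a)})

theorem AA_le (hPT : P ≤ preimageAlong θ Tb) : AA p X θ Yb P ≤ (LL X θ Yb).autGroup P := by
  refine (Subgroup.closure_le _).2 ?_
  rintro a (ha | ⟨-, ha⟩)
  · exact autInducedBy_le_autGroup _ hPT ha
  · exact aut_LL_of_lb D hPT ha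

/-- **The kernel at a fully normalized subgroup.** -/
theorem star (hfn : X.IsFullyNormalized P) (hZP : Z ≤ P) (hPT : P ≤ preimageAlong θ Tb) (hc : Hc θ Xb Tb P) {a : MulAut P}
    (ha : a ∈ AA p X θ Yb P) (hk : a ∈ kk θ P) : a ∈ Inn P := by
  have hPS : P ≤ S := hfn.1
  haveI : Finite P := finite_of_le hPS
  haveI : Finite (MulAut P) := Cfsg.Agent.Lib.Fusion.Basic.finite_mulAut_of_finite (A := P)
  have haH := AA_le D hPT ha
  have hU₀H : autInducedBy (preimageAlong θ Tb) P ≤ (LL X θ Yb).autGroup P := autInducedBy_le_autGroup _ hPT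
  have hU₀S : autInducedBy (preimageAlong θ Tb) P ≤ autInducedBy S P := fun a ha => by
    obtain ⟨g₀, hg₀, hg₀e⟩ := (mem_autInducedBy_iff _ P a).1 ha
    exact (mem_autInducedBy_iff S P a).2 ⟨g₀, pre_le hg₀, hg₀e⟩
  set H := (LL X θ Yb).autGroup P with hH
  let O : Subgroup (MulAut P) := (pResidual p ↥H).map H.subtype
  have hAle : AA p X θ Yb P ≤ autInducedBy (preimageAlong θ Tb) P ⊔ O := by
    refine (Subgroup.closure_le _).2 ?_
    rintro b (hb | ⟨⟨-, -, m, hm, hper⟩, hb⟩)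
    · exact Subgroup.mem_sup_left hb
    · refine Subgroup.mem_sup_right ?_
      have hbH := aut_LL_of_lb D hPT hb
      refine ⟨⟨b, hbH⟩, Cfsg.Agent.Lib.Core.Residual.mem_pResidual_of_coprime ?_, rfl⟩
      have h1 : b ^ m = 1 := by
        refine MulEquiv.ext (fun y => Subtype.ext ?_)
        have h2 := iterate_autFun (a := b) m y
        rw [hper y y.2] at h2
        exact h2.symm
      have h3 : orderOf (⟨b, hbH⟩ : H) = orderOf b := Subgroup.orderOf_mk _ _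
      rw [h3]
      exact Nat.Coprime.coprime_dvd_left (orderOf_dvd_of_pow_eq_one h1) hm
  have hUn : autInducedBy (preimageAlong θ Tb) P ≤ Subgroup.normalizer (O : Set (MulAut P)) := by
    intro h hh
    have hhH := hU₀H hh
    exact mem_normalizer_of_conj_le' (fun o ho => residual_map_conj hhH ho)
  obtain ⟨u, hu, o, ho, rfl⟩ := exists_mul_of_mem_sup' hUn (hAle ha)
  have huR : u ∈ autInducedBy S P ⊓ H := ⟨hU₀S hu, hU₀H hu⟩
  have haX := aut_X_of_LL D hPT haH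
  have haR : u * o ∈ autInducedBy S P ⊓ H := ⟨kk_le D hfn hZP haX hk, haH⟩
  have hoR : o ∈ autInducedBy S P ⊓ H := by
    have := Subgroup.mul_mem _ (Subgroup.inv_mem _ huR) haR
    rwa [inv_mul_cancel_left] at this
  have hoU : o ∈ autInducedBy (preimageAlong θ Tb) P := residual_inf_le (p := p) (H := H) (sylow_H D hfn hZP hPT) (by
    rintro g hgH ⟨m, hm, hgm⟩ Q₀ hQ₀ hQn v hv
    exact core_step D hfn hZP hPT hc hgH hm hgm (hQ₀.trans inf_le_left) hQn hv) hoR ho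
  have hau : u * o ∈ autInducedBy (preimageAlong θ Tb) P := Subgroup.mul_mem _ hu hoU
  obtain ⟨t, ht, hte⟩ := (mem_autInducedBy_iff _ P _).1 hau
  have hmemP : t ∈ P := by
    rw [← D.pre_im hPS hZP]
    have hcz := hc _ (isConj_refl Xb ((im_le_of hPT).trans D.hTS))
    have htS := pre_le ht
    refine mem_pre.2 ⟨htS, hcz (mem_zz.2 ⟨(mem_pre.1 ht).2, fun y hy => ?_⟩)⟩
    obtain ⟨x, hx, rfl⟩ := (mem_im hPS).1 hy
    have h1 := (mem_kk.1 hk) x hx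
    rw [autFun_of_mem _ hx, hte ⟨x, hx⟩, tot_conj θ htS (hPS hx)] at h1
    calc tot θ x * tot θ t = (tot θ t * tot θ x * (tot θ t)⁻¹) * tot θ t := by rw [h1]
      _ = tot θ t * tot θ x := by group
  refine ⟨⟨t, hmemP⟩, MulEquiv.ext (fun y => Subtype.ext ?_)⟩
  exact (hte y).symm

end facts

end Cfsg.Agent.Lib.FusionExt.LiftD
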