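import Cfsg.Agent.Lib.FusionExt.LiftD

/-!
# Lifting a normal subsystem along a central extension: the kernel of the generated system (helper92)
-/

set_option autoImplicit false
set_option linter.unusedSectionVars false

namespace Cfsg.Agent.Lib.FusionExt.LiftE

open Cfsg Cfsg.FusionSystem Cfsg.Agent.Lib.Fusion.Basic Cfsg.Agent.Lib.Fusion.GroupSystem
open Cfsg.Agent.Lib.FusionExt.MapApi Cfsg.Agent.Lib.FusionExt.PowerSys Cfsg.Agent.Lib.FusionExt.PowerGen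
open Cfsg.Agent.Lib.FusionExt.PrimeRes1 Cfsg.Agent.Lib.Fusion.Saturation
open Cfsg.Agent.Lib.Fusion.Saturation2 Cfsg.Agent.Lib.FusionExt.SatCrit1 Cfsg.Agent.Lib.FusionExt.Invariant
open Cfsg.Agent.Lib.FusionExt.PowerE Cfsg.Agent.Lib.FusionExt.LowPi
open Cfsg.Agent.Lib.Fusion.KSystem Cfsg.Agent.Lib.Fusion.Alperin
open Cfsg.Agent.Lib.FusionExt.Basic Cfsg.Agent.Lib.FusionExt.Normal Cfsg.Agent.Lib.FusionExt.CentE
open Cfsg.Agent.Lib.FusionExt.LiftA Cfsg.Agent.Lib.FusionExt.Factor Cfsg.Agent.Lib.FusionExt.FactorSat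
open Cfsg.Agent.Lib.FusionExt.LiftB Cfsg.Agent.Lib.FusionExt.LiftC Cfsg.Agent.Lib.FusionExt.LiftD Cfsg.Agent.Lib.FusionExt.CentSys

universe u v

variable {Ω : Type u} [Group Ω] {Ω' : Type v} [Group Ω'] {S : Subgroup Ω} {X : FusionSystem S} {Z : Subgroup Ω}
  {Sb : Subgroup Ω'} {θ : S →* Ω'} {Xb : FusionSystem Sb} {Tb : Subgroup Ω'} {Yb : FusionSystem Tb} {p : ℕ}
  {P Q R W : Subgroup Ω} {P' Q' R' : Subgroup Ω'} {f g k : Ω → Ω} {fb gb : Ω' → Ω'}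

/-- The kernel property of a subgroup. -/
def KQ (p : ℕ) (X : FusionSystem S) (Z : Subgroup Ω) (θ : S →* Ω') (Xb : FusionSystem Sb) (Yb : FusionSystem Tb) (Q : Subgroup Ω) : Prop :=
  ∀ d, Mp (YY p X Z θ Xb Yb) Q d → Img Q d Q → (∀ x ∈ Q, tot θ (d x) = tot θ x) → ∃ z ∈ Q, ∀ x ∈ Q, d x = z * x * z⁻¹

/-- Extensions to the normalizer. -/
def Ext (p : ℕ) (X : FusionSystem S) (Z : Subgroup Ω) (θ : S →* Ω') (Xb : FusionSystem Sb) (Yb : FusionSystem Tb) (P Q : Subgroup Ω) (Ψ : Ω → Ω) : Prop :=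
  Mp (YY p X Z θ Xb Yb) (normalizerIn (preimageAlong θ Tb) Q) Ψ ∧ Img Q Ψ P ∧ (normalizerIn (preimageAlong θ Tb) Q = Q → ∀ x ∈ Q, Ψ x = x)

/-- The good property of a lift, relative to `P`. -/
def Pd (p : ℕ) (X : FusionSystem S) (Z : Subgroup Ω) (θ : S →* Ω') (Xb : FusionSystem Sb) (Yb : FusionSystem Tb) (P R : Subgroup Ω) (J : Ω → Ω) : Prop :=
  Mp (YY p X Z θ Xb Yb) R J ∧ (∀ x ∈ R, x ∈ P ↔ J x ∈ P) ∧ (P < R → ∃ a ∈ AA p X θ Yb P, ∀ x ∈ P, J x = autFun a x)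

/-- The compatibility of a map with extensions to normalizers. -/
def TT (p : ℕ) (X : FusionSystem S) (Z : Subgroup Ω) (θ : S →* Ω') (Xb : FusionSystem Sb) (Yb : FusionSystem Tb) (P Q : Subgroup Ω) (f : Ω → Ω) : Prop :=
  ∀ Q₂, Img Q f Q₂ → ∀ Ψ₀ Ψ₁, Ext p X Z θ Xb Yb P Q Ψ₀ → Ext p X Z θ Xb Yb P Q₂ Ψ₁ → ∃ a ∈ AA p X θ Yb P, ∀ y ∈ Q, Ψ₁ (f y) = autFun a (Ψ₀ y)

section facts

variable [Fact p.Prime] [Finite S] [Finite Sb] (D : LD p X Z θ Xb Yb)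

include D

theorem T_p : IsPGroup p (preimageAlong θ Tb) := D.hS.to_le pre_le

theorem T_fin : Finite (preimageAlong θ Tb) := finite_of_le pre_le

theorem Tb_fin : Finite Tb := finite_of_le D.hT.1

theorem Tb_p : IsPGroup p Tb := D.Sb_p.to_le D.hT.1

/-- `Hc` goes up. -/
theorem hc_up (hPR : P ≤ R) (hRS : R ≤ S) (hc : Hc θ Xb Tb P) : Hc θ Xb Tb R := by
  intro Q₂ h
  obtain ⟨φ, hφ, hr⟩ := h
  have hφ' := mp_of_hom hφ
  have hi := img_of_range hr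
  have hle := im_mono (θ := θ) hRS hPR
  obtain ⟨Q₃, hQ₃⟩ := (hφ'.restrict hle).exists_img
  have h1 := hc Q₃ ((hφ'.restrict hle).isConj hQ₃)
  have h2 : Q₃ ≤ Q₂ := fun y hy => by
    obtain ⟨u, hu, rfl⟩ := hQ₃.2 y hy
    exact hi.1 u (hle hu)
  intro z hz
  exact h2 (h1 (mem_zz.2 ⟨(mem_zz.1 hz).1, fun y hy => (mem_zz.1 hz).2 y (h2 hy)⟩))

theorem mem_iff_tot (hQS : Q ≤ S) (hZQ : Z ≤ Q) {x : Ω} (hx : x ∈ S) : x ∈ Q ↔ tot θ x ∈ imageAlong θ Q := by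
  constructor
  · intro h
    exact tot_mem_im hQS h
  · intro h
    rw [← D.pre_im hQS hZQ]
    exact mem_pre.2 ⟨hx, h⟩

theorem norm_T_pre (hZQ : Z ≤ Q) (hQT : Q ≤ preimageAlong θ Tb) :
    normalizerIn (preimageAlong θ Tb) Q = preimageAlong θ (normalizerIn Tb (imageAlong θ Q)) := by
  have hQS : Q ≤ S := hQT.trans pre_le
  apply le_antisymm
  · rintro x ⟨hx, hxN⟩
    have hxS := pre_le hx
    have h1 : x ∈ preimageAlong θ (normalizerIn Sb (imageAlong θ Q)) := by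
      rw [← norm_pre D (D.im_le hQS), D.pre_im hQS hZQ]
      exact ⟨hxS, hxN⟩
    exact mem_pre.2 ⟨hxS, (mem_pre.1 hx).2, (mem_pre.1 h1).2.2⟩
  · intro x hx
    obtain ⟨h1, h2⟩ := mem_pre.1 hx
    exact ⟨mem_pre.2 ⟨h1, h2.1⟩, (norm_of_bar D hQS hZQ h1 h2.2).2⟩

theorem Z_of_conj (hh : Mp X Q f) (hi : Img Q f P) (hZP : Z ≤ P) : Z ≤ Q := by
  obtain ⟨k, hk, -, -, i3⟩ := hh.inverse hi
  exact D.img_Z hk hZP i3

theorem maps_norm (hE : Mp (YY p X Z θ Xb Yb) R f) (hQR : Q ≤ R) (hRN : R ≤ Subgroup.normalizer (Q : Set Ω)) {Q₂ : Subgroup Ω} (hi : Img Q f Q₂) {x : Ω} (hx : x ∈ R) :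
    f x ∈ normalizerIn (preimageAlong θ Tb) Q₂ := by
  have hRT := hE.le
  have hEX := YY_X hE
  have hQ₂S : Q₂ ≤ preimageAlong θ Tb := (hE.restrict hQR).img_le hi
  haveI : Finite Q₂ := finite_of_le (hQ₂S.trans pre_le)
  refine ⟨hE.mem_S hx, mem_normalizer_of_conj_le' (fun y hy => ?_)⟩
  obtain ⟨q, hq, rfl⟩ := hi.2 y hy
  rw [← hEX.map_conj hx (hQR hq)]
  exact hi.1 _ (norm_conj (hRN hx) hq)

theorem T_of_le_norm (hQT : Q ≤ preimageAlong θ Tb) : Q ≤ normalizerIn (preimageAlong θ Tb) Q := le_normalizerIn hQT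

/-- Extensions exist. -/
theorem ext_nonempty (hfn : X.IsFullyNormalized P) (hZP : Z ≤ P) (hPT : P ≤ preimageAlong θ Tb) (hQ : Mp (YY p X Z θ Xb Yb) Q f) (hi : Img Q f P) :
    ∃ Ψ, Ext p X Z θ Xb Yb P Q Ψ := by
  have hPS : P ≤ S := hfn.1
  have hQT : Q ≤ preimageAlong θ Tb := hQ.le
  have hQS : Q ≤ S := hQT.trans pre_le
  have hZQ := Z_of_conj D (YY_X hQ) hi hZP
  haveI := Tb_fin D
  haveI := T_fin D
  have hTp := Tb_p D
  have hPb : imageAlong θ P ≤ Tb := im_le_of hPT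
  have hfnb : Yb.IsFullyNormalized (imageAlong θ P) := fn_sub D.Sb_p D.hXb D.hsub D.hT (fn_bar D hfn hZP) hPb
  have hFA := isFullyAutomized_of_isFullyNormalized Yb hTp D.hYb hfnb
  have hrc := isReceptive_of_isFullyNormalized Yb hTp D.hYb hfnb
  obtain ⟨hfX, fb, hfb, e⟩ := YY_lb hQ
  have hcq := hfb.isConj (img_bar hfX e hi)
  obtain ⟨φ, hφ, -, hφr⟩ := exists_normalizer_map Yb hTp hFA hrc hcq
  obtain ⟨J, hJ, hJe⟩ := lift_b D (mp_of_hom hφ)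
  rw [← norm_T_pre D hZQ hQT] at hJ hJe
  by_cases hN : normalizerIn (preimageAlong θ Tb) Q = Q
  · have hQt : Q = preimageAlong θ Tb := by
      by_contra hne
      have := lt_normalizerIn (T_p D) (lt_of_le_of_ne hQT hne)
      rw [hN] at this
      exact lt_irrefl _ this
    haveI : Finite Q := finite_of_le hQS
    have hPQ : P = Q := by
      have h1 := (YY_X hQ).card_img hi
      refine Subgroup.eq_of_le_of_card_ge (hPT.trans hQt.ge) h1.ge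
    subst hPQ
    exact ⟨fun x => x, Mp.refl inf_le_left, img_refl _, fun _ _ _ => rfl⟩
  · refine ⟨J, hJ, ?_, fun h => absurd h hN⟩
    have hqN : Q ≤ normalizerIn (preimageAlong θ Tb) Q := le_normalizerIn hQT
    have hpre : preimageAlong θ (imageAlong θ Q) = Q := D.pre_im hQS hZQ
    have hφi : Img (imageAlong θ Q) (extOf φ) (imageAlong θ P) := by
      refine ⟨fun y hy => ?_, fun y hy => ?_⟩
      · rw [← hφr]
        refine ⟨⟨y, ?_⟩, ?_, (extOf_of_mem φ _).symm⟩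
        · exact le_normalizerIn (im_le_of hQT) hy
        · exact hy
      · rw [← hφr] at hy
        obtain ⟨u, hu, rfl⟩ := hy
        exact ⟨u, hu, extOf_coe φ u⟩
    have hm1 : Mp X (preimageAlong θ (imageAlong θ Q)) J := by
      rw [hpre]
      exact (YY_X hJ).restrict hqN
    have he1 : ∀ x ∈ preimageAlong θ (imageAlong θ Q), extOf φ (tot θ x) = tot θ (J x) := fun x hx => by
      rw [hpre] at hx
      exact hJe x (hqN hx)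
    have h3 := D.up_img hm1 (D.im_le hQS) he1 hφi
    rwa [hpre, D.pre_im hPS hZP] at h3

/-- Normality of `P` in its normalizer system. -/
theorem isNormal_norm {T₀ : Subgroup Ω'} [Finite T₀] {E₀ : FusionSystem T₀} {P₀ : Subgroup Ω'} (hP₀ : P₀ ≤ T₀) : (normalizerSystem E₀ P₀ hP₀).IsNormal P₀ := by
  have hPN : P₀ ≤ normalizerIn T₀ P₀ := le_normalizerIn hP₀
  refine ⟨hPN, fun R₀ φ hφ => ?_⟩
  obtain ⟨h1, h2, h3, ψ, hψ, h4, h5⟩ := id hφ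
  have hR₀N : R₀ ⊔ P₀ ≤ normalizerIn T₀ P₀ := sup_le h2 hPN
  have him : ∀ u ∈ P₀, extOf ψ u ∈ P₀ := fun u hu => by
    rw [extOf_of_mem ψ (Subgroup.mem_sup_right hu)]
    have h6 : ψ ⟨u, Subgroup.mem_sup_right hu⟩ ∈ (P₀.subgroupOf (R₀ ⊔ P₀)).map ψ := ⟨⟨u, Subgroup.mem_sup_right hu⟩, hu, rfl⟩
    rwa [h5] at h6
  have hm : ∀ x ∈ R₀ ⊔ P₀, extOf ψ x ∈ normalizerIn T₀ P₀ := maps_sup (mp_of_hom hψ)
    (fun x hx => by
      have := h4 ⟨x, hx⟩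
      rw [extOf_of_mem ψ (Subgroup.mem_sup_left hx)]
      rw [show (⟨x, Subgroup.mem_sup_left hx⟩ : ↥(R₀ ⊔ P₀)) = Subgroup.inclusion le_sup_left ⟨x, hx⟩ from rfl, this]
      exact h3 ⟨x, hx⟩)
    (fun u hu => hPN (him u hu))
  have hiP : Img P₀ (extOf ψ) P₀ := by
    refine ⟨him, fun y hy => ?_⟩
    have hy' : y ∈ (P₀.subgroupOf (R₀ ⊔ P₀)).map ψ := by
      rw [h5]
      exact hy
    obtain ⟨u, hu, rfl⟩ := hy'
    exact ⟨u, hu, extOf_coe ψ u⟩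
  have hM := mp_norm hP₀ (mp_of_hom hψ) le_sup_right hR₀N hm hiP
  refine ⟨ψ, hom_of_mp hM, h4, h5⟩

/-- **Lifts with a prescribed restriction.** -/
theorem rl_exists (hfn : X.IsFullyNormalized P) (hZP : Z ≤ P) (hPT : P ≤ preimageAlong θ Tb) (hc : Hc θ Xb Tb P) (R₀ : Subgroup Ω') (φ : R₀ →* Ω')
    (hφ : φ ∈ (normalizerSystem Yb (imageAlong θ P) (im_le_of hPT)).Hom R₀) :
    ∃ J, Mp (YY p X Z θ Xb Yb) (preimageAlong θ R₀) J ∧ (∀ x ∈ preimageAlong θ R₀, extOf φ (tot θ x) = tot θ (J x)) ∧ Pd p X Z θ Xb Yb P (preimageAlong θ R₀) J := by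
  have hPS : P ≤ S := hfn.1
  haveI : Finite P := finite_of_le hPS
  haveI := Tb_fin D
  have hTp := Tb_p D
  have hPb : imageAlong θ P ≤ Tb := im_le_of hPT
  have hfnb : Yb.IsFullyNormalized (imageAlong θ P) := fn_sub D.Sb_p D.hXb D.hsub D.hT (fn_bar D hfn hZP) hPb
  have hN₁ := isSaturated_normalizerSystem hTp Yb D.hYb hfnb (normalizerSystem Yb _ hPb) (fun _ => rfl)
  have hT₁ : IsPGroup p (normalizerIn Tb (imageAlong θ P)) := hTp.to_le inf_le_left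
  have hpi := D.pre_im hPS hZP
  haveI : Finite (normalizerIn Tb (imageAlong θ P)) := finite_of_le inf_le_left
  refine lift_gen D (normalizerSystem Yb (imageAlong θ P) hPb) hT₁ hN₁ (fun _ _ h => h.1) (Pd p X Z θ Xb Yb P) ?_ ?_ ?_ ?_ ?_ ?_ R₀ φ hφ
  · rintro R R₁ J ⟨a1, a2, a3⟩ h
    exact ⟨a1.restrict h, fun x hx => a2 x (h hx), fun hlt => a3 (lt_of_lt_of_le hlt h)⟩
  · rintro R R₁ J J₁ ⟨a1, a2, a3⟩ hm ⟨b1, b2, b3⟩
    refine ⟨a1.comp hm b1, fun x hx => (a2 x hx).trans (b2 _ (hm x hx)), fun hlt => ?_⟩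
    obtain ⟨a, ha, hae⟩ := a3 hlt
    have hPR₁ : P ≤ R₁ := fun u hu => by
      have h1 := autFun_mem a⁻¹ hu
      have h2 := hae _ h1
      rw [autFun_apply_inv] at h2
      rw [← h2]
      exact hm _ (hlt.le h1)
    have hne : P ≠ R₁ := by
      intro h
      obtain ⟨r, hr, hrP⟩ := SetLike.exists_of_lt hlt
      exact hrP ((a2 r hr).2 (h ▸ hm r hr))
    obtain ⟨a₁, ha₁, hae₁⟩ := b3 (lt_of_le_of_ne hPR₁ hne)
    refine ⟨a₁ * a, Subgroup.mul_mem _ ha₁ ha, fun x hx => ?_⟩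
    show J₁ (J x) = _
    rw [hae x hx, autFun_mul_apply, hae₁ _ (autFun_mem a hx)]
  · rintro R R₁ J k' ⟨a1, a2, a3⟩ hmY hi hk
    obtain ⟨k₀, hk₀, c1, -, -⟩ := hmY.inverse hi
    have hke : ∀ y ∈ R₁, k₀ y = k' y := fun y hy => by
      obtain ⟨x, hx, rfl⟩ := hi.2 y hy
      rw [c1 x hx, hk x hx]
    refine ⟨hk₀.congr hke, fun y hy => ?_, fun hlt => ?_⟩
    · obtain ⟨x, hx, rfl⟩ := hi.2 y hy
      rw [hk x hx]
      exact (a2 x hx).symm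
    · have hRP : Img (R ⊓ P) J P := by
        refine ⟨fun x hx => (a2 x hx.1).1 hx.2, fun u hu => ?_⟩
        obtain ⟨x, hx, rfl⟩ := hi.2 u (hlt.le hu)
        exact ⟨x, ⟨hx, (a2 x hx).2 hu⟩, rfl⟩
      have hcard := (hmY.restrict (inf_le_left : R ⊓ P ≤ R)).card_img hRP
      have hPR : P ≤ R := by
        have := Subgroup.eq_of_le_of_card_ge (inf_le_right : R ⊓ P ≤ P) hcard.le
        rw [← this]
        exact inf_le_left
      have hne : P ≠ R := by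
        intro h
        obtain ⟨y, hy, hyP⟩ := SetLike.exists_of_lt hlt
        obtain ⟨x, hx, rfl⟩ := hi.2 y hy
        exact hyP ((a2 x hx).1 (h ▸ hx))
      obtain ⟨a, ha, hae⟩ := a3 (lt_of_le_of_ne hPR hne)
      refine ⟨a⁻¹, Subgroup.inv_mem _ ha, fun u hu => ?_⟩
      have h1 := autFun_mem a⁻¹ hu
      have h2 := hae _ h1
      rw [autFun_apply_inv] at h2
      rw [← hk _ (hPR h1), h2]
  · rintro R J J' ⟨a1, a2, a3⟩ e
    refine ⟨a1.congr e, fun x hx => ?_, fun hlt => ?_⟩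
    · rw [← e x hx]
      exact a2 x hx
    · obtain ⟨a, ha, hae⟩ := a3 hlt
      exact ⟨a, ha, fun x hx => by rw [← e x (hlt.le hx)]; exact hae x hx⟩
  · intro R₁ hR₁ t ht htN
    have hle : R₁ ≤ Tb := by
      rcases hR₁ with rfl | h
      · exact inf_le_left
      · exact (h.1.1).trans inf_le_left
    obtain ⟨a, haT, rfl, h3, h4⟩ := conj_lift D hle ht.1
    have haS := pre_le haT
    have haN := norm_of_bar D hPS hZP haS ht.2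
    refine ⟨_, h3, h4, h3, fun x _ => Subgroup.mem_normalizer_iff.1 haN.2 x, fun _ => ?_⟩
    refine ⟨normAct P haN.2, Subgroup.subset_closure (Or.inl (normAct_mem_autInducedBy _ P haN.2 haT)), fun x hx => ?_⟩
    rw [autFun_of_mem _ hx]
    rfl
  · intro R₁ hR₁ β hβ q hq hβq
    have hPb₁ : imageAlong θ P ≤ R₁ := by
      rcases hR₁ with rfl | h
      · exact le_normalizerIn hPb
      · exact isNormal_le_of_isCentric_isRadical (normalizerSystem Yb _ hPb) hT₁ (isNormal_norm D hPb) h.1 (isRadical_of_isEssential (normalizerSystem Yb _ hPb) hT₁ h)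
    have hle : R₁ ≤ Tb := by
      rcases hR₁ with rfl | h
      · exact inf_le_left
      · exact (h.1.1).trans inf_le_left
    have hle₁ : R₁ ≤ normalizerIn Tb (imageAlong θ P) := by
      rcases hR₁ with rfl | h
      · exact le_rfl
      · exact h.1.1
    have hβY : β ∈ Yb.autGroup R₁ := Cfsg.Agent.Lib.FusionExt.PIndex.autGroup_le_of_subsystem (show (normalizerSystem Yb _ hPb).IsSubsystemOf Yb from fun _ _ h => h.1) hle₁ hβ
    have hPP : P ≤ preimageAlong θ R₁ := by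
      rw [← hpi]
      exact pre_mono hPb₁
    have hcR := hc_up D hPP pre_le hc
    obtain ⟨J, hJ, hJe⟩ := pp_lift D hcR hle hβY hq hβq
    have hJY := YY_gen hJ
    have hiβ : Img (imageAlong θ P) (autFun β) (imageAlong θ P) := img_of_norm hPb (mp_autFun hle₁ hβ) hPb₁
    have hinv : ∀ x ∈ preimageAlong θ R₁, x ∈ P ↔ J x ∈ P := by
      intro x hx
      have hxS : x ∈ S := pre_le hx
      have hxR := (mem_pre.1 hx).2
      rw [mem_iff_tot D hPS hZP hxS, mem_iff_tot D hPS hZP ((YY_X hJY).mem_S hx), ← hJe x hx]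
      constructor
      · exact hiβ.1 _
      · intro h
        obtain ⟨u, hu, e⟩ := hiβ.2 _ h
        have : u = tot θ x := by
          have h5 : (β ⟨u, hPb₁ hu⟩ : R₁) = β ⟨tot θ x, hxR⟩ := by
            apply Subtype.ext
            rw [← autFun_of_mem β (hPb₁ hu), ← autFun_of_mem β hxR, e]
          exact congrArg Subtype.val (β.injective h5)
        rw [← this]
        exact hu
    refine ⟨J, hJY, hJe, hJY, hinv, fun _ => ?_⟩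
    have hiP : Img P J P := LowPi.img_self ((YY_X hJY).restrict hPP) (fun x hx => (hinv x (hPP hx)).1 hx)
    obtain ⟨a, ha, hae⟩ := ((YY_X hJY).restrict hPP).toAut hiP
    have haf : ∀ x ∈ P, J x = autFun a x := fun x hx => by
      rw [autFun_of_mem a hx]
      exact (hae ⟨x, hx⟩).symm
    refine ⟨a, Subgroup.subset_closure (Or.inr ⟨?_, (hJ.hl.restrict hPP).congr haf⟩), haf⟩
    obtain ⟨-, -, m, hm, hper⟩ := hJ.hp
    refine ⟨mp_autFun hPS ha, img_autFun a, m, hm, fun x hx => ?_⟩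
    rw [← iterate_congr hiP.1 haf m hx]
    exact hper x (hPP hx)

/-- Two lifts of the same map differ by an inner automorphism. -/
theorem rl (hfn : X.IsFullyNormalized P) (hZP : Z ≤ P) (hPT : P ≤ preimageAlong θ Tb) (hc : Hc θ Xb Tb P) {R₂ : Subgroup Ω} {J : Ω → Ω}
    (hPR : P < R₂) (hRN : R₂ ≤ normalizerIn (preimageAlong θ Tb) P) (hJ : Mp (YY p X Z θ Xb Yb) R₂ J)
    (hJN : ∀ x ∈ R₂, J x ∈ normalizerIn (preimageAlong θ Tb) P) (hJP : Img P J P) (hK : KQ p X Z θ Xb Yb R₂) :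
    ∃ a ∈ AA p X θ Yb P, ∀ x ∈ P, J x = autFun a x := by
  have hPS : P ≤ S := hfn.1
  haveI := Tb_fin D
  haveI := T_fin D
  have hRT : R₂ ≤ preimageAlong θ Tb := hJ.le
  have hRS : R₂ ≤ S := hRT.trans pre_le
  have hZR : Z ≤ R₂ := hZP.trans hPR.le
  have hpr := D.pre_im hRS hZR
  have hPb : imageAlong θ P ≤ Tb := im_le_of hPT
  haveI : Finite R₂ := finite_of_le hRS
  obtain ⟨hJX, fb, hfb, e⟩ := YY_lb hJ
  have hnorm := norm_T_pre D hZP hPT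
  have hRb : imageAlong θ R₂ ≤ normalizerIn Tb (imageAlong θ P) := by
    intro y hy
    obtain ⟨x, hx, rfl⟩ := (mem_im hRS).1 hy
    have h1 := hRN hx
    rw [hnorm] at h1
    exact (mem_pre.1 h1).2
  have hfbN : ∀ y ∈ imageAlong θ R₂, fb y ∈ normalizerIn Tb (imageAlong θ P) := by
    intro y hy
    obtain ⟨x, hx, rfl⟩ := (mem_im hRS).1 hy
    rw [e x hx]
    have h1 := hJN x hx
    rw [hnorm] at h1
    exact (mem_pre.1 h1).2
  have hiP : Img (imageAlong θ P) fb (imageAlong θ P) := img_bar (hJX.restrict hPR.le) (fun x hx => e x (hPR.le hx)) hJP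
  have hM : Mp (normalizerSystem Yb (imageAlong θ P) hPb) (imageAlong θ R₂) fb :=
    mp_norm hPb hfb (im_mono hRS hPR.le) hRb hfbN hiP
  obtain ⟨φ, hφ, eφ⟩ := hM
  obtain ⟨J', h1, h2, h3⟩ := rl_exists D hfn hZP hPT hc _ φ hφ
  rw [hpr] at h1 h2 h3
  have h2' : ∀ x ∈ R₂, tot θ (J' x) = fb (tot θ x) := fun x hx => by
    rw [← h2 x hx, extOf_of_mem φ (tot_mem_im hRS hx)]
    exact eφ _
  have hJ'X := YY_X h1
  obtain ⟨R₃, hR₃⟩ := h1.exists_img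
  obtain ⟨k, hk, i1, i2, i3⟩ := h1.inverse hR₃
  have hJR₃ : ∀ x ∈ R₂, J x ∈ R₃ := by
    intro x hx
    have hz : (J' x)⁻¹ * J x ∈ Z := (D.tot_eq (hJ'X.mem_S hx) (hJX.mem_S hx)).1 (by rw [h2' x hx, e x hx])
    have hzR := hZR hz
    have e1 : J x = J' (x * ((J' x)⁻¹ * J x)) := by
      rw [hJ'X.map_mul hx hzR, D.fix hJ'X hZR hz]
      group
    rw [e1]
    exact hR₃.1 _ (R₂.mul_mem hx hzR)
  have hd : Mp (YY p X Z θ Xb Yb) R₂ (fun x => k (J x)) := hJ.comp hJR₃ hk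
  have hdm : ∀ x ∈ R₂, k (J x) ∈ R₂ := fun x hx => i3.1 _ (hJR₃ x hx)
  have hdt : ∀ x ∈ R₂, tot θ (k (J x)) = tot θ x := by
    intro x hx
    have h5 := h2' _ (hdm x hx)
    rw [i2 _ (hJR₃ x hx), ← e x hx] at h5
    have hinj := hfb.inj (tot_mem_im hRS hx) (tot_mem_im hRS (hdm x hx)) h5
    exact hinj.symm
  obtain ⟨r, hr, hre⟩ := hK _ hd (LowPi.img_self hd hdm) hdt
  obtain ⟨a', ha', hae⟩ := h3.2.2 hPR
  have hrN := hRN hr
  have hrU : normAct P hrN.2 ∈ AA p X θ Yb P := Subgroup.subset_closure (Or.inl (normAct_mem_autInducedBy _ P hrN.2 hrN.1))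
  refine ⟨a' * normAct P hrN.2, Subgroup.mul_mem _ ha' hrU, fun x hx => ?_⟩
  have h5 : J x = J' (k (J x)) := (i2 _ (hJR₃ x (hPR.le hx))).symm
  rw [h5, hre x (hPR.le hx), hae _ (norm_conj hrN.2 hx), autFun_mul_apply, autFun_of_mem _ hx]
  rfl

/-- Restricting a map on a larger subgroup inside the normalizer. -/
theorem rest_T (hfn : X.IsFullyNormalized P) (hZP : Z ≤ P) (hPT : P ≤ preimageAlong θ Tb) (hc : Hc θ Xb Tb P) {N : Subgroup Ω} {E : Ω → Ω}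
    (hQN : Q < N) (hNQ : N ≤ normalizerIn (preimageAlong θ Tb) Q) (hE : Mp (YY p X Z θ Xb Yb) N E)
    (hK : ∀ R, Z ≤ R → R ≤ preimageAlong θ Tb → Hc θ Xb Tb R → Nat.card P < Nat.card R → KQ p X Z θ Xb Yb R) :
    TT p X Z θ Xb Yb P Q E := by
  intro Q₂ hi₂ Ψ₀ Ψ₁ h₀ h₁
  obtain ⟨a1, a2, -⟩ := h₀
  obtain ⟨b1, b2, -⟩ := h₁
  have hQT : Q ≤ preimageAlong θ Tb := hQN.le.trans hE.le
  have hPS : P ≤ S := hfn.1
  have hES := YY_X hE
  have hQ₂T : Q₂ ≤ preimageAlong θ Tb := (hE.restrict hQN.le).img_le hi₂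
  have hr₀ := a1.restrict hNQ
  obtain ⟨N₀, hN₀⟩ := hr₀.exists_img
  obtain ⟨i, hi, i1, i2, i3⟩ := hr₀.inverse hN₀
  have hEm : ∀ x ∈ N, E x ∈ normalizerIn (preimageAlong θ Tb) Q₂ := fun x hx =>
    maps_norm D hE hQN.le (fun y hy => (hNQ hy).2) hi₂ hx
  have hJ : Mp (YY p X Z θ Xb Yb) N₀ (fun y => Ψ₁ (E (i y))) :=
    (hi.comp i3.1 hE).comp (fun y hy => hEm _ (i3.1 y hy)) b1
  have hPN₀ : P < N₀ := by
    refine lt_of_le_of_ne (fun u hu => ?_) (fun h => ?_)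
    · obtain ⟨y, hy, rfl⟩ := a2.2 u hu
      exact hN₀.1 y (hQN.le hy)
    · obtain ⟨r, hr, hrQ⟩ := SetLike.exists_of_lt hQN
      have h1 : Ψ₀ r ∈ P := by
        rw [h]
        exact hN₀.1 r hr
      obtain ⟨y, hy, e⟩ := a2.2 _ h1
      have := (YY_X a1).inj (hNQ (hQN.le hy)) (hNQ hr) e
      exact hrQ (this ▸ hy)
  have hN₀N : N₀ ≤ normalizerIn (preimageAlong θ Tb) P := by
    intro u hu
    obtain ⟨y, hy, rfl⟩ := hN₀.2 u hu
    exact maps_norm D a1 (le_normalizerIn hQT) (fun w hw => hw.2) a2 (hNQ hy)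
  have hJN : ∀ y ∈ N₀, Ψ₁ (E (i y)) ∈ normalizerIn (preimageAlong θ Tb) P := fun y hy =>
    maps_norm D b1 (le_normalizerIn hQ₂T) (fun w hw => hw.2) b2 (hEm _ (i3.1 y hy))
  have hJP : Img P (fun y => Ψ₁ (E (i y))) P := by
    refine ⟨fun u hu => ?_, fun u hu => ?_⟩
    · obtain ⟨y, hy, rfl⟩ := a2.2 u hu
      show Ψ₁ (E (i (Ψ₀ y))) ∈ P
      rw [i1 y (hQN.le hy)]
      exact b2.1 _ (hi₂.1 y hy)
    · obtain ⟨y, hy, rfl⟩ := b2.2 u hu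
      obtain ⟨x, hx, rfl⟩ := hi₂.2 y hy
      refine ⟨Ψ₀ x, a2.1 x hx, ?_⟩
      show Ψ₁ (E (i (Ψ₀ x))) = _
      rw [i1 x (hQN.le hx)]
  have hN₀T : N₀ ≤ preimageAlong θ Tb := hJ.le
  have hKN₀ := hK N₀ (hZP.trans hPN₀.le) hN₀T (hc_up D hPN₀.le (hN₀T.trans pre_le) hc) (card_lt_of_lt hPN₀.le hPN₀.ne (hN₀T.trans pre_le))
  obtain ⟨a, ha, hae⟩ := rl D hfn hZP hPT hc hPN₀ hN₀N hJ hJN hJP hKN₀
  refine ⟨a, ha, fun y hy => ?_⟩
  rw [← hae _ (a2.1 y hy)]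
  show Ψ₁ (E y) = Ψ₁ (E (i (Ψ₀ y)))
  rw [i1 y (hQN.le hy)]

/-- The identity, for two extensions. -/
theorem T_refl (hfn : X.IsFullyNormalized P) (hZP : Z ≤ P) (hPT : P ≤ preimageAlong θ Tb) (hc : Hc θ Xb Tb P) (hQT : Q ≤ preimageAlong θ Tb)
    (hK : ∀ R, Z ≤ R → R ≤ preimageAlong θ Tb → Hc θ Xb Tb R → Nat.card P < Nat.card R → KQ p X Z θ Xb Yb R) :
    TT p X Z θ Xb Yb P Q (fun x => x) := by
  by_cases hN : normalizerIn (preimageAlong θ Tb) Q = Q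
  · intro Q₂ hi₂ Ψ₀ Ψ₁ h₀ h₁
    have e : Q₂ = Q := hi₂.unique (img_refl Q)
    subst e
    refine ⟨1, Subgroup.one_mem _, fun y hy => ?_⟩
    rw [autFun_one_apply, h₀.2.2 hN y hy, h₁.2.2 hN y hy]
  · exact rest_T D hfn hZP hPT hc (lt_of_le_of_ne (le_normalizerIn hQT) (Ne.symm hN)) le_rfl (Mp.refl inf_le_left) hK

/-- Conjugation by an element of `T'`. -/
theorem T_conj (hfn : X.IsFullyNormalized P) (hZP : Z ≤ P) (hPT : P ≤ preimageAlong θ Tb) (hc : Hc θ Xb Tb P) (hQT : Q ≤ preimageAlong θ Tb)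
    {t : Ω} (ht : t ∈ preimageAlong θ Tb)
    (hK : ∀ R, Z ≤ R → R ≤ preimageAlong θ Tb → Hc θ Xb Tb R → Nat.card P < Nat.card R → KQ p X Z θ Xb Yb R) :
    TT p X Z θ Xb Yb P Q (fun x => t * x * t⁻¹) := by
  haveI := T_fin D
  by_cases hN : normalizerIn (preimageAlong θ Tb) Q = Q
  · have hQt : Q = preimageAlong θ Tb := by
      by_contra hne
      have := lt_normalizerIn (T_p D) (lt_of_le_of_ne hQT hne)
      rw [hN] at this
      exact lt_irrefl _ this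
    intro Q₂ hi₂ Ψ₀ Ψ₁ h₀ h₁
    have hnorm : t ∈ Subgroup.normalizer (preimageAlong θ Tb : Set Ω) := by
      rw [Subgroup.mem_normalizer_iff]
      intro n
      constructor
      · intro hn
        exact Subgroup.mul_mem _ (Subgroup.mul_mem _ ht hn) (Subgroup.inv_mem _ ht)
      · intro hn
        have e : n = t⁻¹ * (t * n * t⁻¹) * t := by group
        rw [e]
        exact Subgroup.mul_mem _ (Subgroup.mul_mem _ (Subgroup.inv_mem _ ht) hn) ht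
    have hQ₂ : Q₂ = Q := by
      refine hi₂.unique ?_
      rw [hQt]
      refine ⟨fun y hy => Subgroup.mul_mem _ (Subgroup.mul_mem _ ht hy) (Subgroup.inv_mem _ ht), fun y hy => ⟨t⁻¹ * y * t, ?_, by group⟩⟩
      exact Subgroup.mul_mem _ (Subgroup.mul_mem _ (Subgroup.inv_mem _ ht) hy) ht
    subst hQ₂
    have hP : P = Q₂ := (h₀.2.1.congr (fun x hx => h₀.2.2 hN x hx)).unique (img_refl _)
    subst hP
    have htN : t ∈ Subgroup.normalizer (P : Set Ω) := by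
      rw [hQt]
      exact hnorm
    refine ⟨normAct P htN, Subgroup.subset_closure (Or.inl (normAct_mem_autInducedBy _ P htN ht)), fun y hy => ?_⟩
    have hy' : t * y * t⁻¹ ∈ P := by
      rw [hQt] at hy ⊢
      exact Subgroup.mul_mem _ (Subgroup.mul_mem _ ht hy) (Subgroup.inv_mem _ ht)
    rw [h₁.2.2 hN _ hy', h₀.2.2 hN y hy, autFun_of_mem _ hy]
    rfl
  · refine rest_T D hfn hZP hPT hc (lt_of_le_of_ne (le_normalizerIn hQT) (Ne.symm hN)) le_rfl (Mp.conj inf_le_left ht) hK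

/-- A generator. -/
theorem T_gen (hfn : X.IsFullyNormalized P) (hZP : Z ≤ P) (hPT : P ≤ preimageAlong θ Tb) (hc : Hc θ Xb Tb P) {g : Ω → Ω} (hg : IsGen p X Z θ Xb Yb R g) (hQR : Q ≤ R)
    (hK : ∀ R, Z ≤ R → R ≤ preimageAlong θ Tb → Hc θ Xb Tb R → Nat.card P < Nat.card R → KQ p X Z θ Xb Yb R) :
    TT p X Z θ Xb Yb P Q g := by
  have hRT := hg.hT
  have hQT := hQR.trans hRT
  have hgY := YY_gen hg
  haveI : Finite R := finite_of_le (hRT.trans pre_le)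
  by_cases hQe : Q = R
  · subst hQe
    intro Q₂ hi₂ Ψ₀ Ψ₁ h₀ h₁
    have e : Q₂ = Q := hi₂.unique hg.hp.2.1
    subst e
    obtain ⟨a₂, ha₂, hae₂⟩ := T_refl D hfn hZP hPT hc hQT hK Q₂ (img_refl _) Ψ₀ Ψ₁ h₀ h₁
    have hΨr := (YY_X h₀.1).restrict (le_normalizerIn hQT)
    obtain ⟨i, hi, i1, i2, i3⟩ := hΨr.inverse h₀.2.1
    have hkg : IsGen p X Z θ Xb Yb P (fun y => Ψ₀ (g (i y))) := gen_transport D hg hΨr h₀.2.1 (fun x hx => by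
      show Ψ₀ (g (i (Ψ₀ x))) = _
      rw [i1 x hx])
    obtain ⟨a₁, ha₁, hae₁⟩ := hkg.hp.1.toAut hkg.hp.2.1
    have haf : ∀ x ∈ P, Ψ₀ (g (i x)) = autFun a₁ x := fun x hx => by
      rw [autFun_of_mem a₁ hx]
      exact (hae₁ ⟨x, hx⟩).symm
    have hAA : a₁ ∈ AA p X θ Yb P := Subgroup.subset_closure (Or.inr ⟨(IsGen.congr D hkg haf).hp, (IsGen.congr D hkg haf).hl⟩)
    refine ⟨a₂ * a₁, Subgroup.mul_mem _ ha₂ hAA, fun y hy => ?_⟩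
    have h5 := haf _ (h₀.2.1.1 y hy)
    show Ψ₁ (g y) = _
    rw [i1 y hy] at h5
    rw [autFun_mul_apply, ← h5, ← hae₂ _ (hg.hp.2.1.1 y hy)]
  · have hlt : Q < R := lt_of_le_of_ne hQR hQe
    have hRp : IsPGroup p R := D.hS.to_le (hRT.trans pre_le)
    have h1 := lt_normalizerIn hRp hlt
    exact rest_T D hfn hZP hPT hc (N := normalizerIn R Q) h1 (fun x hx => ⟨hRT hx.1, hx.2⟩) (hgY.restrict inf_le_left) hK

/-- Transporting `Y`-conjugacy to `P`. -/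
theorem conj_P_comp {Q₁ Q₂ : Subgroup Ω} {f₁ h₁ : Ω → Ω} (hf : Mp (YY p X Z θ Xb Yb) Q₁ f₁) (hi : Img Q₁ f₁ Q₂) (hh : Mp (YY p X Z θ Xb Yb) Q₁ h₁) (hhi : Img Q₁ h₁ P) :
    ∃ h₂, Mp (YY p X Z θ Xb Yb) Q₂ h₂ ∧ Img Q₂ h₂ P := by
  obtain ⟨i, hi', -, -, i3⟩ := hf.inverse hi
  exact ⟨_, hi'.comp i3.1 hh, i3.comp hhi⟩

/-- The axioms of the auxiliary system. -/
theorem dAx (hfn : X.IsFullyNormalized P) (hZP : Z ≤ P) (hPT : P ≤ preimageAlong θ Tb) (hc : Hc θ Xb Tb P)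
    (hK : ∀ R, Z ≤ R → R ≤ preimageAlong θ Tb → Hc θ Xb Tb R → Nat.card P < Nat.card R → KQ p X Z θ Xb Yb R) :
    SysAx (preimageAlong θ Tb) (fun X' f => Mp (YY p X Z θ Xb Yb) X' f ∧ ∀ Q ≤ X', (∃ h, Mp (YY p X Z θ Xb Yb) Q h ∧ Img Q h P) → TT p X Z θ Xb Yb P Q f) := by
  refine ⟨?_, ?_, ?_, ?_, ?_, ?_, ?_, ?_⟩
  · rintro X' f g' ⟨h1, h2⟩ e
    refine ⟨h1.congr e, fun Q hQ hc' Q₂ hi Ψ₀ Ψ₁ h₀ h₁ => ?_⟩
    obtain ⟨a, ha, hae⟩ := h2 Q hQ hc' Q₂ (hi.congr (fun x hx => (e x (hQ hx)).symm)) Ψ₀ Ψ₁ h₀ h₁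
    exact ⟨a, ha, fun y hy => by rw [← e y (hQ hy)]; exact hae y hy⟩
  · rintro X' f ⟨h1, -⟩
    exact h1.le
  · rintro X' f x ⟨h1, -⟩ hx
    exact h1.mem_S hx
  · rintro X' f x y ⟨h1, -⟩ hx hy
    exact h1.map_mul hx hy
  · rintro X' f x y ⟨h1, -⟩ hx hy e
    exact h1.inj hx hy e
  · intro X' a hX' ha
    exact ⟨Mp.conj hX' ha, fun Q hQ _ => T_conj D hfn hZP hPT hc (hQ.trans hX') ha hK⟩
  · rintro X₁ Y₁ f g' ⟨h1, h2⟩ hm ⟨g1, g2⟩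
    refine ⟨h1.comp hm g1, fun Q hQ hconj Q₃ hi₃ Ψ₀ Ψ₂ h₀ h₂ => ?_⟩
    obtain ⟨Q₂, hQ₂⟩ := (h1.restrict hQ).exists_img
    obtain ⟨h₀', h₀'m, h₀'i⟩ := hconj
    obtain ⟨h₃, h₃m, h₃i⟩ := conj_P_comp D (h1.restrict hQ) hQ₂ h₀'m h₀'i
    obtain ⟨Ψ', hΨ'⟩ := ext_nonempty D hfn hZP hPT h₃m h₃i
    have hQ₂Y : Q₂ ≤ Y₁ := fun y hy => by
      obtain ⟨x, hx, rfl⟩ := hQ₂.2 y hy
      exact hm x (hQ hx)
    have hi₃' : Img Q₂ g' Q₃ := by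
      refine ⟨fun y hy => ?_, fun y hy => ?_⟩
      · obtain ⟨x, hx, rfl⟩ := hQ₂.2 y hy
        exact hi₃.1 x hx
      · obtain ⟨x, hx, rfl⟩ := hi₃.2 y hy
        exact ⟨f x, hQ₂.1 x hx, rfl⟩
    obtain ⟨a, ha, hae⟩ := h2 Q hQ ⟨h₀', h₀'m, h₀'i⟩ Q₂ hQ₂ Ψ₀ Ψ' h₀ hΨ'
    obtain ⟨b, hb, hbe⟩ := g2 Q₂ hQ₂Y ⟨h₃, h₃m, h₃i⟩ Q₃ hi₃' Ψ' Ψ₂ hΨ' h₂
    refine ⟨b * a, Subgroup.mul_mem _ hb ha, fun y hy => ?_⟩
    show Ψ₂ (g' (f y)) = _
    rw [hbe _ (hQ₂.1 y hy), hae y hy, autFun_mul_apply]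
  · rintro X₁ Y₁ f ⟨h1, h2⟩ hi
    obtain ⟨k', hk', a1, a2, a3⟩ := h1.inverse hi
    refine ⟨k', ⟨hk', fun Q hQ hconj Q₃ hi₃ Ψ₀ Ψ₁ h₀ h₁ => ?_⟩, a1⟩
    have hQ₃X : Q₃ ≤ X₁ := fun y hy => by
      obtain ⟨x, hx, rfl⟩ := hi₃.2 y hy
      exact a3.1 x (hQ hx)
    have hi' : Img Q₃ f Q := by
      refine ⟨fun y hy => ?_, fun y hy => ?_⟩
      · obtain ⟨x, hx, rfl⟩ := hi₃.2 y hy
        rw [a2 x (hQ hx)]
        exact hx
      · exact ⟨k' y, hi₃.1 y hy, a2 y (hQ hy)⟩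
    obtain ⟨h₀', h₀'m, h₀'i⟩ := hconj
    obtain ⟨h₃, h₃m, h₃i⟩ := conj_P_comp D (hk'.restrict hQ) hi₃ h₀'m h₀'i
    obtain ⟨a, ha, hae⟩ := h2 Q₃ hQ₃X ⟨h₃, h₃m, h₃i⟩ Q hi' Ψ₁ Ψ₀ h₁ h₀
    refine ⟨a⁻¹, Subgroup.inv_mem _ ha, fun y hy => ?_⟩
    have h5 := hae _ (hi₃.1 y hy)
    rw [a2 y (hQ hy)] at h5
    rw [h5, autFun_inv_apply]

/-- **Automorphisms in the generated system lie in the group of lifts.** -/
theorem K_step (hfn : X.IsFullyNormalized P) (hZP : Z ≤ P) (hPT : P ≤ preimageAlong θ Tb) (hc : Hc θ Xb Tb P)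
    (hK : ∀ R, Z ≤ R → R ≤ preimageAlong θ Tb → Hc θ Xb Tb R → Nat.card P < Nat.card R → KQ p X Z θ Xb Yb R)
    {d : Ω → Ω} (hd : Mp (YY p X Z θ Xb Yb) P d) (hi : Img P d P) : ∃ a ∈ AA p X θ Yb P, ∀ x ∈ P, d x = autFun a x := by
  have hin : InFamB p X Z θ Xb Yb (mkSys (dAx D hfn hZP hPT hc hK)) := by
    intro R g hg
    refine (mp_mkSys _).2 ⟨YY_gen hg, fun Q hQ _ => T_gen D hfn hZP hPT hc hg hQ hK⟩
  have h1 := (mp_mkSys (dAx D hfn hZP hPT hc hK)).1 (YY_min hin hd)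
  have hid : Ext p X Z θ Xb Yb P P (fun x => x) := ⟨Mp.refl inf_le_left, img_refl _, fun _ _ _ => rfl⟩
  obtain ⟨a, ha, hae⟩ := h1.2 P le_rfl ⟨_, Mp.refl hPT, img_refl _⟩ P hi _ _ hid hid
  exact ⟨a, ha, hae⟩

/-- The kernel property at a fully normalized subgroup. -/
theorem KQ_fn (hfn : X.IsFullyNormalized P) (hZP : Z ≤ P) (hPT : P ≤ preimageAlong θ Tb) (hc : Hc θ Xb Tb P)
    (hK : ∀ R, Z ≤ R → R ≤ preimageAlong θ Tb → Hc θ Xb Tb R → Nat.card P < Nat.card R → KQ p X Z θ Xb Yb R) : KQ p X Z θ Xb Yb P := by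
  intro d hd hi ht
  obtain ⟨a, ha, hae⟩ := K_step D hfn hZP hPT hc hK hd hi
  have hk : a ∈ kk θ P := mem_kk.2 (fun y hy => by rw [← hae y hy]; exact ht y hy)
  obtain ⟨z, hz⟩ := star D hfn hZP hPT hc ha hk
  refine ⟨z, z.2, fun x hx => ?_⟩
  rw [hae x hx, autFun_of_mem a hx, ← hz]
  rfl

/-- Transport of the kernel property. -/
theorem KQ_transport {Q₁ : Subgroup Ω} {h : Ω → Ω} (hh : Mp X Q h) (hi : Img Q h Q₁)
    (hY : ∀ d, Mp (YY p X Z θ Xb Yb) Q d → Img Q d Q → ∃ d', Mp (YY p X Z θ Xb Yb) Q₁ d' ∧ ∀ x ∈ Q, d' (h x) = h (d x))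
    (hK : KQ p X Z θ Xb Yb Q₁) : KQ p X Z θ Xb Yb Q := by
  intro d hd hdi ht
  obtain ⟨d', hd', he⟩ := hY d hd hdi
  have hQS := hh.le
  haveI := T_fin D
  obtain ⟨hb, hhb, eb⟩ := D.down hh
  have hd'm : ∀ y ∈ Q₁, d' y ∈ Q₁ := fun y hy => by
    obtain ⟨x, hx, rfl⟩ := hi.2 y hy
    rw [he x hx]
    exact hi.1 _ (hdi.1 x hx)
  obtain ⟨z, hz, hze⟩ := hK d' hd' (LowPi.img_self hd' hd'm) (fun y hy => by
    obtain ⟨x, hx, rfl⟩ := hi.2 y hy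
    rw [he x hx, ← eb _ (hdi.1 x hx), ht x hx, eb x hx])
  obtain ⟨z₀, hz₀, rfl⟩ := hi.2 z hz
  refine ⟨z₀, hz₀, fun x hx => ?_⟩
  refine hh.inj (hdi.1 x hx) (Q.mul_mem (Q.mul_mem hz₀ hx) (Q.inv_mem hz₀)) ?_
  rw [← he x hx, hze _ (hi.1 x hx), hh.map_conj hz₀ hx]

/-- **The kernel of the generated system.** -/
theorem K_all : ∀ (n : ℕ) (Q : Subgroup Ω), Nat.card (preimageAlong θ Tb) - Nat.card Q = n → Z ≤ Q → Q ≤ preimageAlong θ Tb → Hc θ Xb Tb Q → KQ p X Z θ Xb Yb Q := by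
  intro n
  induction n using Nat.strong_induction_on with
  | _ n ih =>
  intro Q hn hZQ hQT hcQ
  haveI := T_fin D
  haveI := Tb_fin D
  have hQS : Q ≤ S := hQT.trans pre_le
  obtain ⟨P₀, ⟨φ, hφ, hr⟩, hfn⟩ := exists_isFullyNormalized X hQS
  have hh := mp_of_hom hφ
  have hhi := img_of_range hr
  have hcard : Nat.card P₀ = Nat.card Q := hh.card_img hhi
  have hZP₀ := D.img_Z hh hZQ hhi
  have hP₀T : P₀ ≤ preimageAlong θ Tb := fun y hy => by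
    obtain ⟨x, hx, rfl⟩ := hhi.2 y hy
    exact sc_mp D.sc_TT hh hQT hx
  have hP₀S : P₀ ≤ S := hfn.1
  have hcP₀ : Hc θ Xb Tb P₀ := by
    obtain ⟨i, hi, -, -, i3⟩ := hh.inverse hhi
    exact hc_of_map D hi i3 hcQ
  have hQT' : Nat.card Q ≤ Nat.card (preimageAlong θ Tb) := Subgroup.card_le_of_le hQT
  have hKP₀ : KQ p X Z θ Xb Yb P₀ := KQ_fn D hfn hZP₀ hP₀T hcP₀ (fun R h1 h2 h3 h4 => by
    refine ih (Nat.card (preimageAlong θ Tb) - Nat.card R) ?_ R rfl h1 h2 h3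
    have := Subgroup.card_le_of_le h2
    omega)
  -- the Frattini argument in `Xb`
  obtain ⟨hb, hhb, eb⟩ := D.down hh
  obtain ⟨φb, hφb, eφb⟩ := hhb
  have hQb : imageAlong θ Q ≤ Tb := im_le_of hQT
  obtain ⟨α, hα, φ₀, hφ₀, hαe⟩ := D.hN.1.2.2.2.2.2 _ hQb φb hφb
  have hv : ∀ y : imageAlong θ Q, φ₀ y ∈ Tb := (Yb.le_of_mem hφ₀).2
  obtain ⟨J₀, hJ₀, hJ₀e⟩ := lift_b D (mp_of_hom hφ₀)
  rw [D.pre_im hQS hZQ] at hJ₀ hJ₀e
  obtain ⟨α₁, hα₁, hα₁e⟩ := D.up (mp_autFun D.hTS hα)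
  have hα₁i := D.up_img hα₁ D.hTS hα₁e (img_autFun α)
  obtain ⟨a, ha, hae⟩ := hα₁.toAut hα₁i
  have haf : ∀ x ∈ preimageAlong θ Tb, autFun a x = α₁ x := fun x hx => by
    rw [autFun_of_mem a hx]
    exact hae ⟨x, hx⟩
  -- the relation between maps
  have hrel : ∀ x ∈ Q, tot θ (extOf φ x) = tot θ (autFun a (J₀ x)) := by
    intro x hx
    have hJT : J₀ x ∈ preimageAlong θ Tb := hJ₀.mem_S hx
    have hx' := tot_mem_im (θ := θ) hQS hx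
    rw [haf _ hJT, ← hα₁e _ hJT, ← hJ₀e x hx, ← eb x hx, ← eφb ⟨_, hx'⟩, hαe ⟨_, hx'⟩ (hv _), extOf_of_mem φ₀ hx', autFun_of_mem α (hv _)]
  obtain ⟨Q₁, hQ₁⟩ := hJ₀.exists_img
  have hQ₁T : Q₁ ≤ preimageAlong θ Tb := hJ₀.img_le hQ₁
  have hmaP : ∀ y ∈ Q₁, autFun a y ∈ P₀ := by
    intro y hy
    obtain ⟨x, hx, rfl⟩ := hQ₁.2 y hy
    have hz : (extOf φ x)⁻¹ * autFun a (J₀ x) ∈ Z :=
      (D.tot_eq (hh.mem_S hx) (pre_le (autFun_mem a (hJ₀.mem_S hx)))).1 (hrel x hx)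
    have hzQ := hZQ hz
    have e1 : autFun a (J₀ x) = extOf φ (x * ((extOf φ x)⁻¹ * autFun a (J₀ x))) := by
      rw [hh.map_mul hx hzQ, D.fix hh hZQ hz]
      group
    rw [e1]
    exact hhi.1 _ (Q.mul_mem hx hzQ)
  have haY : Mp X Q₁ (autFun a) := (mp_autFun pre_le ha).restrict hQ₁T
  obtain ⟨Q₂, hQ₂⟩ := haY.exists_img
  have hQ₂P : Q₂ ≤ P₀ := fun y hy => by
    obtain ⟨x, hx, rfl⟩ := hQ₂.2 y hy
    exact hmaP x hx
  have hc₁ : Nat.card Q₁ = Nat.card Q := (hJ₀.card_img hQ₁)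
  have hc₂ : Nat.card Q₂ = Nat.card Q₁ := haY.card_img hQ₂
  haveI : Finite P₀ := finite_of_le hP₀S
  have hQ₂e : Q₂ = P₀ := Subgroup.eq_of_le_of_card_ge hQ₂P (by omega)
  subst hQ₂e
  have hKQ₁ : KQ p X Z θ Xb Yb Q₁ := by
    refine KQ_transport D haY hQ₂ (fun d hd _ => ?_) hKP₀
    have h1 := Y_tw D (Subgroup.inv_mem _ ha) hd
    have hle : Q₂ ≤ cjB a⁻¹ Q₁ := by
      intro y hy
      obtain ⟨x, hx, rfl⟩ := hQ₂.2 y hy
      refine mem_cjB.2 ⟨autFun_mem a (hQ₁T hx), ?_⟩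
      rw [autFun_inv_apply]
      exact hx
    refine ⟨_, h1.restrict hle, fun x _ => ?_⟩
    show autFun (a⁻¹)⁻¹ (d (autFun a⁻¹ (autFun a x))) = _
    rw [autFun_inv_apply, inv_inv]
  refine KQ_transport D (YY_X hJ₀) hQ₁ (fun d hd hdi => ?_) hKQ₁
  obtain ⟨i, hi, i1, -, i3⟩ := hJ₀.inverse hQ₁
  refine ⟨fun y => J₀ (d (i y)), (hi.comp i3.1 hd).comp (fun y hy => hdi.1 _ (i3.1 y hy)) hJ₀, fun x hx => ?_⟩
  show J₀ (d (i (J₀ x))) = _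
  rw [i1 x hx]

end facts

end Cfsg.Agent.Lib.FusionExt.LiftE
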