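import Cfsg.Agent.Lib.FusionExt.LiftE
import Cfsg.Agent.Lib.FusionExt.SatCrit4

/-!
# Lifting a normal subsystem along a central extension: saturation (helper92)
-/

set_option autoImplicit false
set_option linter.unusedSectionVars false

namespace Cfsg.Agent.Lib.FusionExt.LiftF

open Cfsg Cfsg.FusionSystem Cfsg.Agent.Lib.Fusion.Basic Cfsg.Agent.Lib.Fusion.GroupSystem
open Cfsg.Agent.Lib.FusionExt.MapApi Cfsg.Agent.Lib.FusionExt.PowerSys Cfsg.Agent.Lib.FusionExt.PowerGen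
open Cfsg.Agent.Lib.FusionExt.PrimeRes1 Cfsg.Agent.Lib.Fusion.Saturation
open Cfsg.Agent.Lib.Fusion.Saturation2 Cfsg.Agent.Lib.FusionExt.SatCrit1 Cfsg.Agent.Lib.FusionExt.Invariant
open Cfsg.Agent.Lib.FusionExt.PowerE Cfsg.Agent.Lib.FusionExt.LowPi
open Cfsg.Agent.Lib.Fusion.KSystem Cfsg.Agent.Lib.Fusion.Alperin
open Cfsg.Agent.Lib.FusionExt.Basic Cfsg.Agent.Lib.FusionExt.Normal Cfsg.Agent.Lib.FusionExt.CentE
open Cfsg.Agent.Lib.FusionExt.LiftA Cfsg.Agent.Lib.FusionExt.Factor Cfsg.Agent.Lib.FusionExt.FactorSat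
open Cfsg.Agent.Lib.FusionExt.LiftB Cfsg.Agent.Lib.FusionExt.LiftC Cfsg.Agent.Lib.FusionExt.LiftD Cfsg.Agent.Lib.FusionExt.LiftE
open Cfsg.Agent.Lib.FusionExt.CentSys

universe u v

variable {Ω : Type u} [Group Ω] {Ω' : Type v} [Group Ω'] {S : Subgroup Ω} {X : FusionSystem S} {Z : Subgroup Ω}
  {Sb : Subgroup Ω'} {θ : S →* Ω'} {Xb : FusionSystem Sb} {Tb : Subgroup Ω'} {Yb : FusionSystem Tb} {p : ℕ}
  {P Q R W : Subgroup Ω} {P' Q' R' : Subgroup Ω'} {f g k : Ω → Ω} {fb gb : Ω' → Ω'}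

section facts

variable [Fact p.Prime] [Finite S] [Finite Sb] (D : LD p X Z θ Xb Yb)

include D

/-- The kernel property for all subgroups in the family. -/
theorem KQ_of (hZQ : Z ≤ Q) (hQT : Q ≤ preimageAlong θ Tb) (hc : Hc θ Xb Tb Q) : KQ p X Z θ Xb Yb Q :=
  K_all D _ Q rfl hZQ hQT hc

/-- The image of a `p`-group of lifts containing `Aut_{T'}(Q)`. -/
theorem bar_sylow (hZQ : Z ≤ Q) (hQT : Q ≤ preimageAlong θ Tb) (hFA : Yb.IsFullyAutomized p (imageAlong θ Q)) {C : Subgroup (MulAut Q)}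
    (hCH : C ≤ (LL X θ Yb).autGroup Q) (hCp : IsPGroup p C) (hU : autInducedBy (preimageAlong θ Tb) Q ≤ C) {c : MulAut Q} (hc : c ∈ C) :
    ∃ t ∈ preimageAlong θ Tb, ∃ ht : t ∈ Subgroup.normalizer (Q : Set Ω), c * (normAct Q ht)⁻¹ ∈ kk θ Q := by
  have hQS : Q ≤ S := hQT.trans pre_le
  haveI : Finite Q := finite_of_le hQS
  have hPb : imageAlong θ Q ≤ Tb := im_le_of hQT
  let Cb : Subgroup (MulAut ↥(imageAlong θ Q)) :=
    { carrier := {b | b ∈ Yb.autGroup (imageAlong θ Q) ∧ ∃ c ∈ C, ∀ x ∈ Q, autFun b (tot θ x) = tot θ (autFun c x)}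
      mul_mem' := by
        rintro b₁ b₂ ⟨h1, c₁, hc₁, e₁⟩ ⟨h2, c₂, hc₂, e₂⟩
        refine ⟨Subgroup.mul_mem _ h1 h2, c₁ * c₂, Subgroup.mul_mem _ hc₁ hc₂, fun x hx => ?_⟩
        rw [autFun_mul_apply, autFun_mul_apply, e₂ x hx, e₁ _ (autFun_mem _ hx)]
      one_mem' := ⟨Subgroup.one_mem _, 1, Subgroup.one_mem _, fun x hx => by rw [autFun_one_apply, autFun_one_apply]⟩
      inv_mem' := by
        rintro b ⟨h1, c, hc, e⟩
        refine ⟨Subgroup.inv_mem _ h1, c⁻¹, Subgroup.inv_mem _ hc, fun x hx => ?_⟩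
        have h2 := e _ (autFun_mem c⁻¹ hx)
        rw [autFun_apply_inv] at h2
        rw [← h2, autFun_inv_apply] }
  have hCbY : Cb ≤ Yb.autGroup (imageAlong θ Q) := fun b hb => hb.1
  have hCbp : IsPGroup p Cb := by
    refine isPGroup_of_pow_eq_one (fun b hb => ?_)
    obtain ⟨h1, c₀, hc₀, e₀⟩ := hb
    obtain ⟨k, hk⟩ := hCp ⟨c₀, hc₀⟩
    have hk' : c₀ ^ p ^ k = 1 := congrArg Subtype.val hk
    refine ⟨k, MulEquiv.ext (fun y => Subtype.ext ?_)⟩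
    obtain ⟨x, hx, hxe⟩ := (mem_im hQS).1 y.2
    have h2 := iterate_autFun (a := b) (p ^ k) y
    have h3 : (autFun b)^[p ^ k] (y : Ω') = tot θ ((autFun c₀)^[p ^ k] x) := by
      rw [← hxe]
      exact iter_lift (img_autFun c₀).1 e₀ _ hx
    have h4 : (autFun c₀)^[p ^ k] x = x := by
      have h5 := iterate_autFun (a := c₀) (p ^ k) ⟨x, hx⟩
      rw [hk'] at h5
      exact h5
    rw [h4, hxe] at h3
    rw [h3] at h2
    exact h2.symm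
  have hrel : ∀ {t : Ω}, ∀ (ht : t ∈ Subgroup.normalizer (Q : Set Ω)), ∀ y ∈ Q, autFun (normAct Q ht) y = t * y * t⁻¹ := by
    intro t ht y hy
    rw [autFun_of_mem _ hy]
    rfl
  have hA' : autInducedBy Tb (imageAlong θ Q) ≤ Cb := by
    intro a ha
    obtain ⟨tb, htb, e⟩ := (mem_autInducedBy_iff Tb _ a).1 ha
    have hN := mem_normalizer_of_conj _ a tb e
    obtain ⟨t, htS, rfl⟩ := D.exists_tot (D.hTS htb)
    have htN := norm_of_bar D hQS hZQ htS hN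
    have htT : t ∈ preimageAlong θ Tb := mem_pre.2 ⟨htS, htb⟩
    have hc₁ : normAct Q htN.2 ∈ autInducedBy (preimageAlong θ Tb) Q := normAct_mem_autInducedBy _ Q htN.2 htT
    refine ⟨autInducedBy_le_autGroup Yb hPb ha, _, hU hc₁, fun x hx => ?_⟩
    have hx' := tot_mem_im (θ := θ) hQS hx
    rw [autFun_of_mem a hx', e ⟨_, hx'⟩, hrel htN.2 x hx, tot_conj θ htS (hQS hx)]
  have hmax := ((isSylowIn_iff_maximal (autInducedBy_le_autGroup Yb hPb)).1 hFA.2).2 Cb hCbY hCbp hA'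
  have hcH := hCH hc
  obtain ⟨b, hb, hbe⟩ := bar_aut D hQT (LL_le_X D hQT hcH)
  have hbC : b ∈ Cb := ⟨hb, c, hc, hbe⟩
  rw [hmax] at hbC
  obtain ⟨tb, htb, e⟩ := (mem_autInducedBy_iff Tb _ b).1 hbC
  have hN := mem_normalizer_of_conj _ b tb e
  obtain ⟨t, htS, rfl⟩ := D.exists_tot (D.hTS htb)
  have htN := norm_of_bar D hQS hZQ htS hN
  have htT : t ∈ preimageAlong θ Tb := mem_pre.2 ⟨htS, htb⟩
  refine ⟨t, htT, htN.2, mem_kk.2 (fun y hy => ?_)⟩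
  have hy₁ := autFun_mem (normAct Q htN.2)⁻¹ hy
  rw [autFun_mul_apply, ← hbe _ hy₁]
  have h5 := hrel htN.2 _ hy₁
  rw [autFun_apply_inv] at h5
  have hx' := tot_mem_im (θ := θ) hQS hy₁
  rw [autFun_of_mem b hx', e ⟨_, hx'⟩]
  show tot θ t * tot θ _ * (tot θ t)⁻¹ = _
  rw [← tot_conj θ htS (hQS hy₁), ← h5]

/-- Automorphism groups of `Y` are lifts. -/
theorem Y_aut_LL (hQT : Q ≤ preimageAlong θ Tb) {c : MulAut Q} (hc : c ∈ (YY p X Z θ Xb Yb).autGroup Q) : c ∈ (LL X θ Yb).autGroup Q :=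
  aut_LL_of_lb D hQT (YY_lb (mp_autFun hQT hc))

theorem Y_aut_X (hQT : Q ≤ preimageAlong θ Tb) {c : MulAut Q} (hc : c ∈ (YY p X Z θ Xb Yb).autGroup Q) : c ∈ X.autGroup Q :=
  aut_X_of_LL D hQT (Y_aut_LL D hQT hc)

/-- Fully automized in the lift. -/
theorem fa_lift (hZQ : Z ≤ Q) (hQT : Q ≤ preimageAlong θ Tb) (hc : Hc θ Xb Tb Q) (hFA : Yb.IsFullyAutomized p (imageAlong θ Q)) :
    (YY p X Z θ Xb Yb).IsFullyAutomized p Q := by
  have hQS : Q ≤ S := hQT.trans pre_le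
  haveI : Finite Q := finite_of_le hQS
  haveI := T_fin D
  have hle : autInducedBy (preimageAlong θ Tb) Q ≤ (YY p X Z θ Xb Yb).autGroup Q := autInducedBy_le_autGroup _ hQT
  refine ⟨hQT, (isSylowIn_iff_maximal hle).2 ⟨isPGroup_autInducedBy Q (T_p D), fun C hCY hCp hUC => le_antisymm (fun c hc' => ?_) hUC⟩⟩
  obtain ⟨t, ht, htN, hk⟩ := bar_sylow D hZQ hQT hFA (hCY.trans (fun c hc => Y_aut_LL D hQT hc)) hCp hUC hc'
  have htU : normAct Q htN ∈ autInducedBy (preimageAlong θ Tb) Q := normAct_mem_autInducedBy _ Q htN ht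
  have hd : c * (normAct Q htN)⁻¹ ∈ (YY p X Z θ Xb Yb).autGroup Q := Subgroup.mul_mem _ (hCY hc') (Subgroup.inv_mem _ (hle htU))
  obtain ⟨z, hz, hze⟩ := KQ_of D hZQ hQT hc _ (mp_autFun hQT hd) (img_autFun _) (mem_kk.1 hk)
  have hin : c * (normAct Q htN)⁻¹ ∈ autInducedBy (preimageAlong θ Tb) Q :=
    (mem_autInducedBy_iff _ Q _).2 ⟨z, hQT hz, fun x => by
      rw [← autFun_coe]
      exact hze x x.2⟩
  have e7 : c = (c * (normAct Q htN)⁻¹) * normAct Q htN := by group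
  rw [e7]
  exact Subgroup.mul_mem _ hin htU

/-- Receptive in the lift. -/
theorem rec_lift (hZQ : Z ≤ Q) (hQT : Q ≤ preimageAlong θ Tb) (hc : Hc θ Xb Tb Q) (hRec : Yb.IsReceptive (imageAlong θ Q)) :
    (YY p X Z θ Xb Yb).IsReceptive Q := by
  have hQS : Q ≤ S := hQT.trans pre_le
  haveI : Finite Q := finite_of_le hQS
  haveI := T_fin D
  haveI := Tb_fin D
  refine ⟨hQT, fun P₁ φ hφ hr => ?_⟩
  have hfY := mp_of_hom hφ
  have hi := img_of_range hr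
  have hP₁T : P₁ ≤ preimageAlong θ Tb := hfY.le
  have hP₁S := hP₁T.trans pre_le
  have hZP₁ := Z_of_conj D (YY_X hfY) hi hZQ
  obtain ⟨hfX, fb, hfb, e⟩ := YY_lb hfY
  set N := extender (preimageAlong θ Tb) P₁ φ with hN
  have hP₁N : P₁ ≤ N := le_extender _ hφ
  have hNT : N ≤ preimageAlong θ Tb := extender_le_left φ
  have hNS := hNT.trans pre_le
  have hZN := hZP₁.trans hP₁N
  have hNm : ∀ y ∈ N, y ∈ Subgroup.normalizer (P₁ : Set Ω) ∧ ∃ a ∈ preimageAlong θ Tb, ∀ x ∈ P₁, extOf φ (y * x * y⁻¹) = a * extOf φ x * a⁻¹ := by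
    intro y hy
    obtain ⟨h1, h2, a, ha, h3⟩ := (mem_extender_iff φ).1 hy
    refine ⟨h2, a, ha, fun x hx => ?_⟩
    have hm : y * x * y⁻¹ ∈ P₁ := (Subgroup.mem_normalizer_iff.1 h2 x).1 hx
    rw [extOf_of_mem φ hm, extOf_of_mem φ hx]
    exact h3 ⟨x, hx⟩ hm
  have hibar := img_bar hfX e hi
  obtain ⟨Gb, hGb, hGbe⟩ := hfb.ext_rec hRec hibar (im_mono hNS hP₁N) (Y := imageAlong θ N) (fun yb hyb => by
    obtain ⟨y, hy, rfl⟩ := (mem_im hNS).1 hyb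
    obtain ⟨h1, a, ha, h3⟩ := hNm y hy
    refine ⟨(mem_pre.1 (hNT hy)).2, ?_, tot θ a, (mem_pre.1 ha).2, fun xb hxb => ?_⟩
    · have h5 : tot θ y ∈ normalizerIn Sb (imageAlong θ P₁) := by
        have h6 : y ∈ preimageAlong θ (normalizerIn Sb (imageAlong θ P₁)) := by
          rw [← norm_pre D (D.im_le hP₁S), D.pre_im hP₁S hZP₁]
          exact ⟨hNS hy, h1⟩
        exact (mem_pre.1 h6).2
      exact h5.2
    · obtain ⟨x, hx, rfl⟩ := (mem_im hP₁S).1 hxb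
      have hyS := hNS hy
      have hm : y * x * y⁻¹ ∈ P₁ := (Subgroup.mem_normalizer_iff.1 h1 x).1 hx
      rw [← tot_conj θ hyS (hP₁S hx), e _ hm, e x hx, h3 x hx, tot_conj θ (pre_le ha) (hfX.mem_S hx)])
  obtain ⟨G, hG, hGe⟩ := lift_b D hGb
  rw [D.pre_im hNS hZN] at hG hGe
  have hGX := YY_X hG
  have hGt : ∀ x ∈ P₁, tot θ (G x) = tot θ (extOf φ x) := fun x hx => by
    rw [← hGe x (hP₁N hx), hGbe _ (tot_mem_im hP₁S hx), e x hx]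
  obtain ⟨i, hi', i1, i2, i3⟩ := hfY.inverse hi
  have hGQ : ∀ x ∈ P₁, G x ∈ Q := fun x hx => by
    rw [mem_iff_tot D hQS hZQ (hGX.mem_S (hP₁N hx)), hGt x hx]
    exact tot_mem_im hQS (hi.1 x hx)
  have hd : Mp (YY p X Z θ Xb Yb) Q (fun y => G (i y)) := hi'.comp (Y := N) (fun y hy => hP₁N (i3.1 y hy)) hG
  have hdm : ∀ y ∈ Q, G (i y) ∈ Q := fun y hy => hGQ _ (i3.1 y hy)
  obtain ⟨z, hz, hze⟩ := KQ_of D hZQ hQT hc _ hd (LowPi.img_self hd hdm) (fun y hy => by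
    have h5 := hGt _ (i3.1 y hy)
    rw [i2 y hy] at h5
    exact h5)
  have hzT := hQT hz
  have hG' : Mp (YY p X Z θ Xb Yb) N (fun x => z⁻¹ * G x * z⁻¹⁻¹) :=
    hG.comp (fun x hx => hG.mem_S hx) (Mp.conj le_rfl (Subgroup.inv_mem _ hzT))
  obtain ⟨ψ, hψ, eψ⟩ := hG'
  refine ⟨ψ, hψ, fun x hP hNx => ?_⟩
  rw [eψ]
  have hx' : extOf φ x = φ ⟨x, hP⟩ := extOf_of_mem φ hP
  rw [← hx']
  have h5 := hze _ (hi.1 x hP)
  rw [i1 x hP] at h5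
  show z⁻¹ * G x * z⁻¹⁻¹ = _
  rw [h5]
  group

/-- The hypothesis on centric subgroups not in the family. -/
theorem star_centric (hcent : (YY p X Z θ Xb Yb).IsCentric P) (hnot : ¬ Hc θ Xb Tb P) : ∃ Q, (YY p X Z θ Xb Yb).IsConj P Q ∧
    ¬ (autInducedBy (preimageAlong θ Tb) Q ⊓ (pCore p ↥((YY p X Z θ Xb Yb).autGroup Q)).map ((YY p X Z θ Xb Yb).autGroup Q).subtype ≤ Inn Q) := by
  have hPT := hcent.1
  have hPS : P ≤ S := hPT.trans pre_le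
  have hZP : Z ≤ P := by
    have hZT : Z ≤ preimageAlong θ Tb := D.Z_le_pre Tb
    have h1 := hcent.2 P (isConj_refl _ hPT)
    intro z hz
    exact h1 (mem_cent.2 ⟨hZT hz, fun y hy => D.comm hz (hPS hy)⟩)
  have hPb := im_le_of hPT
  have hpi := D.pre_im hPS hZP
  unfold Hc at hnot
  push_neg at hnot
  obtain ⟨Q₂, ⟨φ, hφ, hr⟩, hn⟩ := hnot
  rw [SetLike.not_le_iff_exists] at hn
  obtain ⟨v₂, hv₂, hv₂n⟩ := hn
  obtain ⟨α, hα, φ₀, hφ₀, hαe⟩ := D.hN.1.2.2.2.2.2 _ hPb φ hφ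
  have hv : ∀ y : imageAlong θ P, φ₀ y ∈ Tb := (Yb.le_of_mem hφ₀).2
  have hv₂T : v₂ ∈ Tb := (mem_zz.1 hv₂).1
  set vb : Ω' := ((α⁻¹ ⟨v₂, hv₂T⟩ : Tb) : Ω') with hvb
  have hvbT : vb ∈ Tb := (α⁻¹ ⟨v₂, hv₂T⟩).2
  have hval : ∀ y : imageAlong θ P, φ y = ((α ⟨φ₀ y, hv y⟩ : Tb) : Ω') := fun y => hαe y (hv y)
  have hcomm : ∀ y : imageAlong θ P, φ₀ y * vb = vb * φ₀ y := by
    intro y
    have h1 : φ y ∈ Q₂ := by
      rw [← hr]
      exact ⟨y, rfl⟩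
    have h2 := (mem_zz.1 hv₂).2 _ h1
    rw [hval y] at h2
    have h3 : α ⟨φ₀ y, hv y⟩ * ⟨v₂, hv₂T⟩ = ⟨v₂, hv₂T⟩ * α ⟨φ₀ y, hv y⟩ := Subtype.ext h2
    have h4 : ⟨φ₀ y, hv y⟩ * α⁻¹ ⟨v₂, hv₂T⟩ = α⁻¹ ⟨v₂, hv₂T⟩ * ⟨φ₀ y, hv y⟩ := by
      apply α.injective
      rw [map_mul, map_mul]
      simpa using h3
    exact congrArg Subtype.val h4
  have hvbn : vb ∉ φ₀.range := by
    rintro ⟨y, hy⟩
    apply hv₂n
    have h1 : φ y ∈ Q₂ := by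
      rw [← hr]
      exact ⟨y, rfl⟩
    rw [hval y] at h1
    have h2 : (⟨φ₀ y, hv y⟩ : Tb) = α⁻¹ ⟨v₂, hv₂T⟩ := Subtype.ext hy
    rw [h2] at h1
    simpa using h1
  obtain ⟨J, hJ, hJe⟩ := lift_b D (mp_of_hom hφ₀)
  have hib := D.up_img (YY_X hJ) (hPb.trans D.hTS) hJe (img_of_range rfl)
  rw [hpi] at hJ hJe hib
  set Q₃ := preimageAlong θ φ₀.range with hQ₃
  have hQ₃T : Q₃ ≤ preimageAlong θ Tb := hJ.img_le hib
  have hQ₃S := hQ₃T.trans pre_le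
  have hZQ₃ := D.img_Z (YY_X hJ) hZP hib
  have hrb : φ₀.range ≤ Sb := by
    rintro _ ⟨y, rfl⟩
    exact D.hTS (hv y)
  have him : imageAlong θ Q₃ = φ₀.range := D.im_pre hrb
  obtain ⟨v, hvS, hve⟩ := D.exists_tot (D.hTS hvbT)
  have hvT : v ∈ preimageAlong θ Tb := mem_pre.2 ⟨hvS, by rw [hve]; exact hvbT⟩
  have hvC : v ∈ Cp θ Sb Q₃ := by
    refine mem_pre.2 ⟨hvS, mem_cent.2 ⟨D.tot_mem hvS, ?_⟩⟩
    intro y hy
    rw [him] at hy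
    obtain ⟨u, rfl⟩ := hy
    rw [hve]
    exact hcomm u
  have hvN := Cp_norm D hQ₃S hZQ₃ hvC
  refine ⟨Q₃, hJ.isConj hib, fun hle => ?_⟩
  have hcU : normAct Q₃ hvN.2 ∈ autInducedBy (preimageAlong θ Tb) Q₃ := normAct_mem_autInducedBy _ Q₃ hvN.2 hvT
  have hcY : normAct Q₃ hvN.2 ∈ (YY p X Z θ Xb Yb).autGroup Q₃ := autInducedBy_le_autGroup _ hQ₃T hcU
  haveI : Finite Q₃ := finite_of_le hQ₃S
  have hck : normAct Q₃ hvN.2 ∈ kk θ Q₃ := by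
    refine mem_kk.2 (fun y hy => ?_)
    rw [autFun_of_mem _ hy]
    exact ((mem_Cp D hQ₃S).1 hvC).2 y hy
  have hop : kk θ Q₃ ⊓ (YY p X Z θ Xb Yb).autGroup Q₃ ≤ opAut (YY p X Z θ Xb Yb) p Q₃ := by
    refine le_opAut inf_le_right (isPGroup_of_pow_eq_one (fun a ha => kk_pow D hQ₃S hZQ₃ (Y_aut_X D hQ₃T ha.2) ha.1)) ?_
    intro b hb w hw
    exact ⟨kk_conj D hQ₃S hw.1 (Y_aut_X D hQ₃T hb), Subgroup.mul_mem _ (Subgroup.mul_mem _ hb hw.2) (Subgroup.inv_mem _ hb)⟩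
  obtain ⟨w, hw⟩ := hle ⟨hcU, hop ⟨hck, hcY⟩⟩
  have hwe : ∀ y ∈ Q₃, (w : Ω) * y * (w : Ω)⁻¹ = v * y * v⁻¹ := by
    intro y hy
    have h1 := congrArg (fun a : MulAut Q₃ => ((a ⟨y, hy⟩ : Q₃) : Ω)) hw
    exact h1
  have hwv : (w : Ω)⁻¹ * v ∈ Q₃ := by
    refine hcent.2 Q₃ (hJ.isConj hib) (mem_cent.2 ⟨Subgroup.mul_mem _ (Subgroup.inv_mem _ (hQ₃T w.2)) hvT, fun y hy => ?_⟩)
    have h1 := hwe y hy
    calc y * ((w : Ω)⁻¹ * v) = (w : Ω)⁻¹ * ((w : Ω) * y * (w : Ω)⁻¹) * v := by group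
      _ = (w : Ω)⁻¹ * (v * y * v⁻¹) * v := by rw [h1]
      _ = (w : Ω)⁻¹ * v * y := by group
  have hvQ : v ∈ Q₃ := by
    have e : v = w * ((w : Ω)⁻¹ * v) := by group
    rw [e]
    exact Q₃.mul_mem w.2 hwv
  apply hvbn
  have := (mem_pre.1 hvQ).2
  rwa [hve] at this

/-- **Saturation of the generated system.** -/
theorem Y_sat : (YY p X Z θ Xb Yb).IsSaturated p := by
  haveI := T_fin D
  haveI := Tb_fin D
  refine Cfsg.Agent.Lib.FusionExt.SatCrit4.main (T_p D) (YY p X Z θ Xb Yb) {Q | Z ≤ Q ∧ Q ≤ preimageAlong θ Tb ∧ Hc θ Xb Tb Q} (fun P hP => hP.2.1) ?_ ?_ ?_ ?_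
  · rintro P ⟨h1, h2, h3⟩ Q ⟨φ, hφ, hr⟩
    have hf := mp_of_hom hφ
    have hi := img_of_range hr
    refine ⟨D.img_Z (YY_X hf) h1 hi, hf.img_le hi, ?_⟩
    obtain ⟨i, hi', -, -, i3⟩ := hf.inverse hi
    exact hc_of_map D (YY_X hi') i3 h3
  · rintro P ⟨h1, h2, h3⟩
    have hPb := im_le_of h2
    obtain ⟨Qb, ⟨φ, hφ, hr⟩, hFA, hRec⟩ := D.hYb _ hPb
    have hPS := h2.trans pre_le
    have hi := img_of_range hr
    obtain ⟨J, hJ, hJe⟩ := lift_b D (mp_of_hom hφ)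
    have hpi := D.pre_im hPS h1
    have hib := D.up_img (YY_X hJ) (hPb.trans D.hTS) hJe hi
    rw [hpi] at hJ hJe hib
    set Q := preimageAlong θ Qb with hQ
    have hQb : Qb ≤ Tb := hFA.1
    have hiQ : imageAlong θ Q = Qb := D.im_pre (hQb.trans D.hTS)
    have hZQ := D.img_Z (YY_X hJ) h1 hib
    have hQT : Q ≤ preimageAlong θ Tb := pre_mono hQb
    have hcQ : Hc θ Xb Tb Q := by
      obtain ⟨i, hi', -, -, i3⟩ := hJ.inverse hib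
      exact hc_of_map D (YY_X hi') i3 h3
    refine ⟨Q, hJ.isConj hib, fa_lift D hZQ hQT hcQ (hiQ ▸ hFA), rec_lift D hZQ hQT hcQ (hiQ ▸ hRec)⟩
  · intro E hE P φ hφ
    have hin : InFamB p X Z θ Xb Yb E := by
      intro R g hg
      obtain ⟨ψ, hψ, e⟩ := YY_gen hg
      exact ⟨ψ, hE R ⟨hg.hZ, hg.hT, hg.hc⟩ hψ, e⟩
    exact hom_of_mp (YY_min hin (mp_of_hom hφ))
  · intro P hcent hP
    have hPT := hcent.1
    have hZP : Z ≤ P := by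
      have hZT : Z ≤ preimageAlong θ Tb := D.Z_le_pre Tb
      have h1 := hcent.2 P (isConj_refl _ hPT)
      intro z hz
      exact h1 (mem_cent.2 ⟨hZT hz, fun y hy => D.comm hz (pre_le (hPT hy))⟩)
    exact star_centric D hcent (fun hc => hP ⟨hZP, hPT, hc⟩)

end facts

end Cfsg.Agent.Lib.FusionExt.LiftF
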