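import Cfsg.Agent.Lib.FusionExt.PrimeRes2
import Cfsg.Agent.Lib.FusionExt.Invariant
import Cfsg.Agent.Lib.FusionExt.NormalSubgroup
import Cfsg.Agent.Lib.Fusion.KSystem

/-!
# The extension property of a normal subsystem at lower levels (helper92)

For `E` normal in `F` over `T` and `P ≤ T` with `C_T(Q) ≤ Q` for all `F`-conjugates `Q` of `P`, every `α ∈ Aut_E(P)` extends to a map `β`
of `F` on `P C_S(P)` with `c⁻¹ β(c) ∈ Z(P)` for `c ∈ C_S(P)`.
-/

set_option autoImplicit false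

namespace Cfsg.Agent.Lib.FusionExt.LowPi

open Cfsg Cfsg.FusionSystem Cfsg.Agent.Lib.Fusion.Basic Cfsg.Agent.Lib.Fusion.GroupSystem
open Cfsg.Agent.Lib.FusionExt.MapApi Cfsg.Agent.Lib.FusionExt.Basic Cfsg.Agent.Lib.FusionExt.Normal
open Cfsg.Agent.Lib.FusionExt.SatCrit1 Cfsg.Agent.Lib.FusionExt.PowerSys Cfsg.Agent.Lib.FusionExt.PowerGen
open Cfsg.Agent.Lib.FusionExt.PrimeRes1 Cfsg.Agent.Lib.Fusion.Saturation Cfsg.Agent.Lib.Fusion.Saturation2
open Cfsg.Agent.Lib.Fusion.KSystem Cfsg.Agent.Lib.FusionExt.Invariant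

variable {Ω : Type*} [Group Ω] {S T : Subgroup Ω} {F : FusionSystem S} {E : FusionSystem T} {p : ℕ}
variable {X Y Q R P P' U : Subgroup Ω} {f f' g h k b : Ω → Ω}

/-- `C_T(P)` in the form of the extension condition. -/
abbrev zz (T P : Subgroup Ω) : Subgroup Ω := T ⊓ Subgroup.centralizer (P : Set Ω)

theorem mem_zz {z : Ω} : z ∈ zz T P ↔ z ∈ T ∧ ∀ y ∈ P, y * z = z * y := by
  rw [Subgroup.mem_inf, Subgroup.mem_centralizer_iff]
  rfl

theorem mem_cent {c : Ω} : c ∈ centralizerIn S P ↔ c ∈ S ∧ ∀ y ∈ P, y * c = c * y := by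
  show c ∈ S ⊓ Subgroup.centralizer (P : Set Ω) ↔ _
  rw [Subgroup.mem_inf, Subgroup.mem_centralizer_iff]
  rfl

theorem mem_normalizer_iff' {c : Ω} : c ∈ normalizerIn S P ↔ c ∈ S ∧ c ∈ Subgroup.normalizer (P : Set Ω) := Iff.rfl

theorem maps_sup {A B : Subgroup Ω} (hg : Mp F (A ⊔ B) g) (hA : ∀ a ∈ A, g a ∈ X) (hB : ∀ b ∈ B, g b ∈ X) :
    ∀ x ∈ A ⊔ B, g x ∈ X := by
  obtain ⟨φ, hφ, e⟩ := hg
  intro x hx
  rw [← e ⟨x, hx⟩]
  exact mem_of_sup φ (fun a ha => by rw [e]; exact hA a ha) (fun b hb => by rw [e]; exact hB b hb) ⟨x, hx⟩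

theorem img_self [Finite S] (hf : Mp F X f) (hm : ∀ x ∈ X, f x ∈ X) : Img X f X := by
  obtain ⟨Y', hY⟩ := hf.exists_img
  have hXS : X ≤ S := hf.le
  haveI : Finite X := finite_of_le hXS
  have hle : Y' ≤ X := by
    intro y hy
    obtain ⟨x, hx, rfl⟩ := hY.2 y hy
    exact hm x hx
  have hcard : Nat.card Y' = Nat.card X := hf.card_img hY
  have : Y' = X := Subgroup.eq_of_le_of_card_ge hle hcard.ge
  rwa [this] at hY

/-- An extension over the centralizer. -/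
theorem ext_cent [Finite S] (hr : F.IsReceptive Q) (hf : Mp F X f) (hi : Img X f Q) :
    ∃ g, Mp F (X ⊔ centralizerIn S X) g ∧ ∀ x ∈ X, g x = f x :=
  exists_ext_sup hr hf hi _ le_rfl

theorem cent_le_normalizer : centralizerIn S X ≤ Subgroup.normalizer (X : Set Ω) :=
  fun _ hc => (centralizerIn_le_normalizerIn S X hc).2

theorem exists_mul_of_mem_rr {x : Ω} (hx : x ∈ X ⊔ centralizerIn S X) :
    ∃ c ∈ centralizerIn S X, ∃ r ∈ X, x = c * r := by
  rw [sup_comm] at hx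
  exact exists_mul_of_mem_sup' cent_le_normalizer hx

/-- The image of a centralizing element. -/
theorem map_cent (hg : Mp F (X ⊔ centralizerIn S X) g) (hi : ∀ y ∈ Q, ∃ x ∈ X, g x = y) {c : Ω}
    (hc : c ∈ centralizerIn S X) : g c ∈ centralizerIn S Q := by
  have hcR : c ∈ X ⊔ centralizerIn S X := Subgroup.mem_sup_right hc
  refine mem_cent.2 ⟨hg.mem_S hcR, fun y hy => ?_⟩
  obtain ⟨x, hx, rfl⟩ := hi y hy
  have hxR : x ∈ X ⊔ centralizerIn S X := Subgroup.mem_sup_left hx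
  rw [← hg.map_mul hxR hcR, ← hg.map_mul hcR hxR, (mem_cent.1 hc).2 x hx]

/-- The image of an element of `Z(P)` under an automorphism of `P`. -/
theorem zz_img (hg : Mp F X g) (hPX : P ≤ X) (hi : Img P g P) (hPT : P ≤ T) {z : Ω} (hz : z ∈ zz T P) (hzP : z ∈ P) :
    g z ∈ zz T P := by
  refine mem_zz.2 ⟨hPT (hi.1 z hzP), fun y hy => ?_⟩
  obtain ⟨x, hx, rfl⟩ := hi.2 y hy
  rw [← hg.map_mul (hPX hx) (hPX hzP), ← hg.map_mul (hPX hzP) (hPX hx), (mem_zz.1 hz).2 x hx]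

/-- The extension property of a function on `P`. -/
def PiA (F : FusionSystem S) (T P : Subgroup Ω) (f : Ω → Ω) : Prop :=
  ∃ g, Mp F (P ⊔ centralizerIn S P) g ∧ (∀ x ∈ P, g x = f x) ∧ ∀ c ∈ centralizerIn S P, c⁻¹ * g c ∈ zz T P

theorem PiA.congr (h : PiA F T P f) (e : ∀ x ∈ P, f x = f' x) : PiA F T P f' := by
  obtain ⟨g, h1, h2, h3⟩ := h
  exact ⟨g, h1, fun x hx => (h2 x hx).trans (e x hx), h3⟩

theorem pi_refl (hPS : P ≤ S) : PiA F T P (fun x => x) := by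
  have hc : centralizerIn S P ≤ S := inf_le_left
  refine ⟨fun x => x, Mp.refl (sup_le hPS hc), fun _ _ => rfl, fun c _ => ?_⟩
  rw [inv_mul_cancel]
  exact Subgroup.one_mem _

/-- The extension maps the group `P C_S(P)` to itself. -/
theorem pi_maps (hcz : zz T P ≤ P) (hg : Mp F (P ⊔ centralizerIn S P) g) (hP : ∀ x ∈ P, g x ∈ P)
    (hC : ∀ c ∈ centralizerIn S P, c⁻¹ * g c ∈ zz T P) : ∀ x ∈ P ⊔ centralizerIn S P, g x ∈ P ⊔ centralizerIn S P := by
  refine maps_sup hg (fun a ha => Subgroup.mem_sup_left (hP a ha)) (fun c hc => ?_)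
  have h1 : g c = c * (c⁻¹ * g c) := by group
  rw [h1]
  exact Subgroup.mul_mem _ (Subgroup.mem_sup_right hc) (Subgroup.mem_sup_left (hcz (hC c hc)))

theorem pi_comp (hPT : P ≤ T) (hcz : zz T P ≤ P) (hf : PiA F T P f) (hf' : PiA F T P f') (hi : Img P f P) (hi' : Img P f' P) :
    PiA F T P (fun x => f (f' x)) := by
  obtain ⟨g₁, h1, h2, h3⟩ := hf
  obtain ⟨g₂, h4, h5, h6⟩ := hf'
  have hle : P ≤ P ⊔ centralizerIn S P := le_sup_left
  have hi₁ : Img P g₁ P := hi.congr (fun x hx => (h2 x hx).symm)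
  have hP₂ : ∀ x ∈ P, g₂ x ∈ P := fun x hx => by rw [h5 x hx]; exact hi'.1 x hx
  refine ⟨fun x => g₁ (g₂ x), h4.comp (pi_maps hcz h4 hP₂ h6) h1, fun x hx => ?_, fun c hc => ?_⟩
  · show g₁ (g₂ x) = f (f' x)
    rw [h5 x hx, h2 _ (hi'.1 x hx)]
  · have hz := h6 c hc
    have hzP := hcz hz
    have hcR : c ∈ P ⊔ centralizerIn S P := Subgroup.mem_sup_right hc
    have e : g₂ c = c * (c⁻¹ * g₂ c) := by group
    show c⁻¹ * g₁ (g₂ c) ∈ _
    rw [e, h1.map_mul hcR (hle hzP), ← mul_assoc]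
    exact Subgroup.mul_mem _ (h3 c hc) (zz_img h1 hle hi₁ hPT hz hzP)

/-- Pulling the extension property back along an isomorphism whose target is receptive. -/
theorem pi_pull [Finite S] (hPT : P ≤ T) (hP'T : P' ≤ T) (hcz' : zz T P' ≤ P') (hr : F.IsReceptive P')
    (hh : Mp F P h) (hi : Img P h P') (hfp : ∀ y ∈ P', f' y ∈ P') (hpi : PiA F T P' f')
    (hfe : ∀ x ∈ P, h (f x) = f' (h x)) (hfP : ∀ x ∈ P, f x ∈ P) : PiA F T P f := by
  obtain ⟨ĥ, hĥ, hĥe⟩ := ext_cent hr hh hi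
  obtain ⟨g', hg', hg'e, hg'c⟩ := hpi
  have hleP : P ≤ P ⊔ centralizerIn S P := le_sup_left
  have hi₁ : Img P ĥ P' := hi.congr (fun x hx => (hĥe x hx).symm)
  have hcC : ∀ c ∈ centralizerIn S P, ĥ c ∈ centralizerIn S P' := fun c hc => map_cent hĥ hi₁.2 hc
  have hmapR : ∀ x ∈ P ⊔ centralizerIn S P, ĥ x ∈ P' ⊔ centralizerIn S P' :=
    maps_sup hĥ (fun a ha => Subgroup.mem_sup_left (hi₁.1 a ha)) (fun c hc => Subgroup.mem_sup_right (hcC c hc))
  obtain ⟨H, hH⟩ := hĥ.exists_img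
  have hP'H : P' ≤ H := by
    intro y hy
    obtain ⟨x, hx, rfl⟩ := hi₁.2 y hy
    exact hH.1 x (hleP hx)
  have hg'H : ∀ y ∈ H, g' y ∈ H := by
    intro y hy
    obtain ⟨r, hrR, rfl⟩ := hH.2 y hy
    obtain ⟨c, hc, a, ha, rfl⟩ := exists_mul_of_mem_rr hrR
    have hcR : c ∈ P ⊔ centralizerIn S P := Subgroup.mem_sup_right hc
    have haR : a ∈ P ⊔ centralizerIn S P := hleP ha
    rw [hĥ.map_mul hcR haR, hg'.map_mul (Subgroup.mem_sup_right (hcC c hc)) (hmapR a haR)]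
    refine H.mul_mem ?_ ?_
    · have e : g' (ĥ c) = ĥ c * ((ĥ c)⁻¹ * g' (ĥ c)) := by group
      rw [e]
      exact H.mul_mem (hH.1 c hcR) (hP'H (hcz' (hg'c _ (hcC c hc))))
    · rw [hg'e _ (hi₁.1 a ha)]
      exact hP'H (hfp _ (hi₁.1 a ha))
  obtain ⟨kk, hkk, hk₁, hk₂, hk₃⟩ := hĥ.inverse hH
  refine ⟨fun x => kk (g' (ĥ x)), (hĥ.comp (fun x hx => (hH.1 x hx)) ?_).comp ?_ hkk, fun x hx => ?_, fun c hc => ?_⟩
  · exact hg'.restrict (by
      intro y hy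
      obtain ⟨r, hrR, rfl⟩ := hH.2 y hy
      exact hmapR r hrR)
  · intro x hx
    exact hg'H _ (hH.1 x hx)
  · show kk (g' (ĥ x)) = f x
    rw [hĥe x hx, hg'e _ (hi.1 x hx), ← hfe x hx, ← hĥe _ (hfP x hx)]
    exact hk₁ _ (hleP (hfP x hx))
  · have hcR : c ∈ P ⊔ centralizerIn S P := Subgroup.mem_sup_right hc
    have hz := hg'c _ (hcC c hc)
    obtain ⟨z₀, hz₀, hz₀e⟩ := hi₁.2 _ (hcz' hz)
    have hz₀R : z₀ ∈ P ⊔ centralizerIn S P := hleP hz₀
    have e : g' (ĥ c) = ĥ c * ĥ z₀ := by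
      rw [hz₀e]
      group
    show c⁻¹ * kk (g' (ĥ c)) ∈ _
    rw [e, ← hĥ.map_mul hcR hz₀R, hk₁ _ (Subgroup.mul_mem _ hcR hz₀R), inv_mul_cancel_left]
    refine mem_zz.2 ⟨hPT hz₀, fun y hy => ?_⟩
    have h3 := (mem_zz.1 hz).2 (ĥ y) (hi₁.1 y hy)
    rw [← hz₀e, ← hĥ.map_mul (hleP hy) hz₀R, ← hĥ.map_mul hz₀R (hleP hy)] at h3
    exact hĥ.inj (Subgroup.mul_mem _ (hleP hy) hz₀R) (Subgroup.mul_mem _ hz₀R (hleP hy)) h3


section fn

variable [Finite S] [Fact p.Prime]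

/-- The `p'`-part of an automorphism extending a `p'`-automorphism, with the power recorded. -/
theorem pp_extend' (hU : U ≤ S) (hb : Mp F U b) (hi : Img U b U) (hRU : R ≤ U) (hf : Pp F p R f) (he : ∀ x ∈ R, b x = f x) :
    ∃ f' m, Pp F p U f' ∧ (∀ x ∈ R, f' x = f x) ∧ ∀ x ∈ U, f' x = b^[m] x := by
  obtain ⟨a, haF, ha⟩ := hb.toAut hi
  haveI : Finite U := finite_of_le hU
  haveI : Finite (MulAut U) := Cfsg.Agent.Lib.Fusion.Basic.finite_mulAut_of_finite (A := U)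
  obtain ⟨-, hf2, m₀, hm₀, hf3⟩ := id hf
  have hp : p.Prime := Fact.out
  obtain ⟨k, q, hq, hN⟩ := Nat.exists_eq_pow_mul_and_not_dvd (orderOf_pos a).ne' p hp.ne_one
  have hco : m₀.Coprime (p ^ k) := Nat.Coprime.pow_right k hm₀
  obtain ⟨m, hm1, hm2⟩ := Nat.chineseRemainder hco 1 0
  obtain ⟨d, hd⟩ := (Nat.modEq_zero_iff_dvd).1 hm2
  have ha' : a ^ m ∈ F.autGroup U := Subgroup.pow_mem _ haF m
  have h1 : (a ^ m) ^ q = 1 := by
    rw [← pow_mul, hd]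
    have : p ^ k * d * q = orderOf a * d := by rw [hN]; ring
    rw [this, pow_mul, pow_orderOf_eq_one, one_pow]
  have hco2 : (orderOf (a ^ m)).Coprime p := by
    have h2 : orderOf (a ^ m) ∣ q := orderOf_dvd_of_pow_eq_one h1
    exact Nat.Coprime.coprime_dvd_left h2 ((hp.coprime_iff_not_dvd.2 hq).symm)
  have hU0 : ∀ x ∈ U, autFun (a ^ m) x = b^[m] x := by
    intro x hU'
    rw [autFun_of_mem _ hU']
    have h3 := iterate_autFun (a := a) m ⟨x, hU'⟩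
    rw [← h3]
    have hagree : ∀ y ∈ U, autFun a y = b y := by
      intro y hy
      rw [autFun_of_mem a hy, ha ⟨y, hy⟩]
    exact iterate_congr (fun y hy => by rw [hagree y hy]; exact hi.1 y hy) hagree m hU'
  refine ⟨autFun (a ^ m), m, Pp.of_aut hU ha' hco2, fun x hx => ?_, hU0⟩
  have hU' : x ∈ U := hRU hx
  have hbR : ∀ y ∈ R, b y ∈ R := fun y hy => by rw [he y hy]; exact hf2.1 y hy
  rw [hU0 x hU', iterate_congr hbR he m hx, iterate_modEq hf2.1 hf3 hm1 hx]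
  rfl

/-- Iterating a map with the extension property. -/
theorem iter_zz (hPT : P ≤ T) (hcz : zz T P ≤ P) (hg : Mp F (P ⊔ centralizerIn S P) g) (hi : Img P g P)
    (hC : ∀ c ∈ centralizerIn S P, c⁻¹ * g c ∈ zz T P) (m : ℕ) {c : Ω} (hc : c ∈ centralizerIn S P) :
    c⁻¹ * g^[m] c ∈ zz T P := by
  induction m with
  | zero =>
    show c⁻¹ * c ∈ _
    rw [inv_mul_cancel]
    exact Subgroup.one_mem _
  | succ m ih =>
    have e : g^[m] c = c * (c⁻¹ * g^[m] c) := by group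
    have hcR : c ∈ P ⊔ centralizerIn S P := Subgroup.mem_sup_right hc
    rw [Function.iterate_succ_apply', e, hg.map_mul hcR (Subgroup.mem_sup_left (hcz ih)), ← mul_assoc]
    exact Subgroup.mul_mem _ (hC c hc) (zz_img hg le_sup_left hi hPT ih (hcz ih))

theorem mem_normalizer_of_conj_le' [Finite U] {a : Ω} (h : ∀ x ∈ U, a * x * a⁻¹ ∈ U) :
    a ∈ Subgroup.normalizer (U : Set Ω) := by
  classical
  let φ : U → U := fun x => ⟨a * x * a⁻¹, h x x.2⟩
  have hinj : Function.Injective φ := by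
    intro u v huv
    have : a * (u : Ω) * a⁻¹ = a * v * a⁻¹ := congrArg Subtype.val huv
    exact Subtype.ext (mul_left_cancel (mul_right_cancel this))
  have hsurj := Finite.surjective_of_injective hinj
  rw [Subgroup.mem_normalizer_iff]
  intro x
  refine ⟨h x, fun hx => ?_⟩
  obtain ⟨y, hy⟩ := hsurj ⟨_, hx⟩
  have : a * (y : Ω) * a⁻¹ = a * x * a⁻¹ := congrArg Subtype.val hy
  have e : (y : Ω) = x := mul_left_cancel (mul_right_cancel this)
  rw [← e]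
  exact y.2

/-- Membership in `N_F(P)`. -/
theorem mp_norm (hPS : P ≤ S) (hf : Mp F X f) (hPX : P ≤ X) (hXN : X ≤ normalizerIn S P) (hfN : ∀ x ∈ X, f x ∈ normalizerIn S P)
    (hi : Img P f P) : Mp (normalizerSystem F P hPS) X f := by
  obtain ⟨φ, hφ, e⟩ := hf
  have hle : X ⊔ P ≤ X := sup_le le_rfl hPX
  refine ⟨φ, ⟨hφ, hXN, fun x => by rw [e]; exact hfN _ x.2, φ.comp (Subgroup.inclusion hle), restrict_mem F hle hφ, fun x => rfl, ?_⟩, e⟩
  ext y
  constructor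
  · rintro ⟨x, hx, rfl⟩
    have hx' : (x : Ω) ∈ P := hx
    show φ (Subgroup.inclusion hle x) ∈ P
    rw [e]
    exact hi.1 _ hx'
  · intro hy
    obtain ⟨x, hx, rfl⟩ := hi.2 y hy
    refine ⟨⟨x, Subgroup.mem_sup_right hx⟩, hx, ?_⟩
    show φ (Subgroup.inclusion hle ⟨x, _⟩) = f x
    exact e ⟨x, hPX hx⟩

theorem mp_of_norm (hPS : P ≤ S) (hf : Mp (normalizerSystem F P hPS) X f) : Mp F X f := by
  obtain ⟨φ, hφ, e⟩ := hf
  exact ⟨φ, hφ.1, e⟩

/-- A top-level stability group is inner. -/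
theorem stab_inner (hS : IsPGroup p S) (hF : F.IsSaturated p) (hfn : F.IsFullyNormalized P) (hcz : zz S P ≤ P)
    {κ : MulAut (normalizerIn S P)} (hκ : κ ∈ F.autGroup (normalizerIn S P)) (htriv : ∀ x ∈ P, autFun κ x = x) :
    ∃ z ∈ zz S P, ∀ x ∈ normalizerIn S P, autFun κ x = z * x * z⁻¹ := by
  have hPS : P ≤ S := hfn.1
  let N := normalizerIn S P
  have hNS : N ≤ S := normalizerIn_le_left S P
  haveI : Finite N := finite_of_le hNS
  haveI : Finite (MulAut N) := Cfsg.Agent.Lib.Fusion.Basic.finite_mulAut_of_finite (A := N)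
  have hPN : P ≤ N := le_normalizerIn hPS
  let F' : FusionSystem N := normalizerSystem F P hPS
  have hF' : F'.IsSaturated p := isSaturated_normalizerSystem hS F hF hfn F' (fun _ => rfl)
  have hNp : IsPGroup p N := hS.to_le hNS
  have hfnN : F'.IsFullyNormalized N := by
    refine ⟨le_rfl, fun Q hQ => ?_⟩
    have hQN : Q ≤ N := isConj_right_le F' hQ
    have e : normalizerIn N N = N := le_antisymm (normalizerIn_le_left N N) (le_normalizerIn le_rfl)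
    rw [e]
    exact Subgroup.card_le_of_le (normalizerIn_le_left N Q)
  have hFA : F'.IsFullyAutomized p N := isFullyAutomized_of_isFullyNormalized (F := F') hNp hF' hfnN
  have hiP : Img P (autFun κ) P := by
    have h1 : Img P (fun x => x) P := img_refl P
    exact h1.congr (fun x hx => (htriv x hx).symm)
  have hmN : ∀ x ∈ N, autFun κ x ∈ N := (img_autFun κ).1
  have hκ' : κ ∈ F'.autGroup N := by
    have h1 : Mp F' N (autFun κ) :=
      mp_norm hPS (mp_autFun hNS hκ) hPN le_rfl hmN hiP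
    obtain ⟨a, ha, hae⟩ := h1.toAut (img_autFun κ)
    have : a = κ := by
      ext x
      rw [hae x, autFun_coe]
    rwa [this] at ha
  -- `κ` is a `p`-element
  have hzz : ∀ x : N, (x : Ω)⁻¹ * ((κ x : N) : Ω) ∈ zz S P := by
    intro x
    have hxN : (x : Ω) ∈ Subgroup.normalizer (P : Set Ω) := x.2.2
    refine mem_zz.2 ⟨S.mul_mem (S.inv_mem (hNS x.2)) (hNS (κ x).2), fun y hy => ?_⟩
    have hy1 : (x : Ω)  * y * (x : Ω)⁻¹ ∈ P := (Subgroup.mem_normalizer_iff.1 hxN y).1 hy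
    have h2 := htriv _ hy1
    have hyN : y ∈ N := hPN hy
    have h3 : autFun κ ((x : Ω) * y * (x : Ω)⁻¹) = ((κ x : N) : Ω) * autFun κ y * ((κ x : N) : Ω)⁻¹ := by
      rw [autFun_mul κ (N.mul_mem x.2 hyN) (N.inv_mem x.2), autFun_mul κ x.2 hyN, autFun_inv' κ x.2, autFun_coe]
    rw [h3, htriv y hy] at h2
    have h4 : ((κ x : N) : Ω) * y = (x : Ω) * y * (x : Ω)⁻¹ * ((κ x : N) : Ω) := by
      rw [← h2]
      group
    calc y * ((x : Ω)⁻¹ * ((κ x : N) : Ω)) = (x : Ω)⁻¹ * ((x : Ω) * y * (x : Ω)⁻¹ * ((κ x : N) : Ω)) := by group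
      _ = (x : Ω)⁻¹ * (((κ x : N) : Ω) * y) := by rw [h4]
      _ = _ := by group
  have hpow : ∃ k : ℕ, κ ^ p ^ k = 1 := by
    have hk0 : ∃ k : ℕ, ∀ z : N, (z : Ω) ∈ zz S P → (κ ^ p ^ k) z = z := by
      refine ⟨0, fun z hz => ?_⟩
      apply Subtype.ext
      have := htriv _ (hcz hz)
      rw [autFun_coe] at this
      simpa using this
    obtain ⟨k, hk⟩ := pow_fix_step hNp κ (N := zz S P) (M := N) (fun z hz => hPN (hcz hz)) (fun x _ => hzz x) hk0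
    exact ⟨k, MulEquiv.ext fun x => hk x x.2⟩
  obtain ⟨k, hk⟩ := hpow
  have hZp : IsPGroup p (Subgroup.zpowers κ) := by
    rintro ⟨g, n, rfl⟩
    refine ⟨k, Subtype.ext ?_⟩
    show (κ ^ n) ^ p ^ k = 1
    rw [← zpow_natCast, ← zpow_mul, mul_comm, zpow_mul, zpow_natCast, hk, one_zpow]
  have hZle : Subgroup.zpowers κ ≤ F'.autGroup N := (Subgroup.zpowers_le).2 hκ'
  obtain ⟨χ, hχ, hχr⟩ := IsFullyAutomized.exists_conj F' hFA hZp hZle
  have h5 := hχr κ (Subgroup.mem_zpowers κ)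
  obtain ⟨u, huN, hu⟩ := (mem_autInducedBy_iff N N _).1 h5
  -- `κ` is conjugation by `χ⁻¹ u`
  let z : N := χ⁻¹ ⟨u, huN⟩
  have hκz : ∀ x : N, ((κ x : N) : Ω) = (z : Ω) * x * (z : Ω)⁻¹ := by
    intro x
    have h6 := hu (χ x)
    have h7 : (χ * κ * χ⁻¹) (χ x) = χ (κ x) := by simp
    rw [h7] at h6
    have h8 : χ (κ x) = ⟨u, huN⟩ * χ x * ⟨u, huN⟩⁻¹ := Subtype.ext h6
    have h9 : κ x = χ⁻¹ (⟨u, huN⟩ * χ x * ⟨u, huN⟩⁻¹) := by
      rw [← h8]
      simp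
    rw [h9, map_mul, map_mul, map_inv]
    have h10 : χ⁻¹ (χ x) = x := by simp
    rw [h10]
    rfl
  have hzS : (z : Ω) ∈ S := hNS z.2
  refine ⟨z, mem_zz.2 ⟨hzS, fun y hy => ?_⟩, fun x hx => ?_⟩
  · have h11 := htriv y hy
    rw [autFun_of_mem κ (hPN hy), hκz] at h11
    have h12 : (z : Ω) * y = y * (z : Ω) := by
      have h13 : (z : Ω) * y * (z : Ω)⁻¹ * z = y * z := by rw [h11]
      rwa [inv_mul_cancel_right] at h13
    exact h12.symm
  · rw [autFun_of_mem κ hx, hκz]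

/-- A subgroup of a finite group from a submonoid. -/
def finSub {G : Type*} [Group G] [Finite G] (s : Submonoid G) : Subgroup G :=
  { s with
    inv_mem' := by
      intro x hx
      have h1 : x ^ (orderOf x - 1) * x = 1 := by
        rw [← pow_succ, Nat.sub_add_cancel (orderOf_pos x), pow_orderOf_eq_one]
      rw [← eq_inv_of_mul_eq_one_left h1]
      exact s.pow_mem hx _ }

theorem v_induced {S' : Subgroup Ω} [Finite S'] {F' : FusionSystem S'} (hS' : IsPGroup p S') {A D Z : Subgroup Ω}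
    (hR : A ⊔ D ≤ S') (hFA : F'.IsFullyAutomized p (A ⊔ D)) (hZA : Z ≤ A) (hDn : D ≤ Subgroup.normalizer (A : Set Ω))
    (hZc : ∀ z ∈ Z, ∀ x ∈ A, x * z = z * x)
    (hpA : ∀ a ∈ F'.autGroup (A ⊔ D), ∀ x ∈ A, autFun a x ∈ A)
    (hpD : ∀ a ∈ F'.autGroup (A ⊔ D), ∀ d ∈ D, autFun a d ∈ D)
    (hpZ : ∀ a ∈ F'.autGroup (A ⊔ D), ∀ z ∈ Z, autFun a z ∈ Z)
    {v : MulAut ↥(A ⊔ D)} (hv : v ∈ F'.autGroup (A ⊔ D)) (hvA : ∀ x ∈ A, autFun v x = x)
    (hvD : ∀ d ∈ D, d⁻¹ * autFun v d ∈ Z) : v ∈ autInducedBy S' (A ⊔ D) := by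
  haveI : Finite ↥(A ⊔ D) := finite_of_le hR
  haveI : Finite (MulAut ↥(A ⊔ D)) := Cfsg.Agent.Lib.Fusion.Basic.finite_mulAut_of_finite (A := ↥(A ⊔ D))
  have hleA : A ≤ A ⊔ D := le_sup_left
  have hleD : D ≤ A ⊔ D := le_sup_right
  let YY : Subgroup (MulAut ↥(A ⊔ D)) := finSub
    { carrier := {y | y ∈ F'.autGroup (A ⊔ D) ∧ (∀ x ∈ A, autFun y x = x) ∧ ∀ d ∈ D, d⁻¹ * autFun y d ∈ Z}
      one_mem' := ⟨Subgroup.one_mem _, fun x _ => autFun_one_apply x, fun d _ => by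
        rw [autFun_one_apply, inv_mul_cancel]; exact Z.one_mem⟩
      mul_mem' := by
        rintro y₁ y₂ ⟨h1, h2, h3⟩ ⟨h4, h5, h6⟩
        refine ⟨Subgroup.mul_mem _ h1 h4, fun x hx => ?_, fun d hd => ?_⟩
        · rw [autFun_mul_apply, h5 x hx, h2 x hx]
        · have hz := h6 d hd
          have e : autFun y₂ d = d * (d⁻¹ * autFun y₂ d) := by group
          rw [autFun_mul_apply, e, autFun_mul y₁ (hleD hd) (hleA (hZA hz)), h2 _ (hZA hz), ← mul_assoc]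
          exact Z.mul_mem (h3 d hd) hz }
  have hYY : ∀ {y}, y ∈ YY ↔ y ∈ F'.autGroup (A ⊔ D) ∧ (∀ x ∈ A, autFun y x = x) ∧ ∀ d ∈ D, d⁻¹ * autFun y d ∈ Z := Iff.rfl
  have hvY : v ∈ YY := ⟨hv, hvA, hvD⟩
  have hRp : IsPGroup p ↥(A ⊔ D) := hS'.to_le hR
  have h1 : YY ≤ F'.autGroup (A ⊔ D) := fun y hy => hy.1
  have h2 : IsPGroup p YY := by
    refine isPGroup_of_pow_eq_one (fun y hy => ?_)
    have hk0 : ∃ k : ℕ, ∀ z : ↥(A ⊔ D), (z : Ω) ∈ Z → (y ^ p ^ k) z = z := by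
      refine ⟨0, fun z hz => ?_⟩
      apply Subtype.ext
      have := hy.2.1 _ (hZA hz)
      rw [autFun_coe] at this
      simpa using this
    have hα : ∀ x : ↥(A ⊔ D), (x : Ω) ∈ (A ⊔ D : Subgroup Ω) → (x : Ω)⁻¹ * ((y x : ↥(A ⊔ D)) : Ω) ∈ Z := by
      intro x hx
      have hx' : (x : Ω) ∈ D ⊔ A := by
        rw [sup_comm]
        exact hx
      obtain ⟨d, hd, a, ha, e⟩ := exists_mul_of_mem_sup' hDn hx'
      rw [← autFun_coe, e, autFun_mul y (hleD hd) (hleA ha), hy.2.1 a ha]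
      have hz := hy.2.2 d hd
      have e2 : (d * a)⁻¹ * (autFun y d * a) = a⁻¹ * (d⁻¹ * autFun y d) * a := by group
      have e3 : a⁻¹ * (d⁻¹ * autFun y d) * a = d⁻¹ * autFun y d := by
        have := hZc _ hz a ha
        rw [mul_assoc, ← this]
        group
      rw [e2, e3]
      exact hz
    obtain ⟨k, hk⟩ := pow_fix_step hRp y (N := Z) (M := A ⊔ D) (hZA.trans hleA) hα hk0
    exact ⟨k, MulEquiv.ext fun x => hk x x.2⟩
  have h3 : ∀ a ∈ F'.autGroup (A ⊔ D), ∀ w ∈ YY, a * w * a⁻¹ ∈ YY := by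
    intro a ha w hw
    have hai := Subgroup.inv_mem _ ha
    refine ⟨Subgroup.mul_mem _ (Subgroup.mul_mem _ ha hw.1) hai, fun x hx => ?_, fun d hd => ?_⟩
    · rw [autFun_mul_apply, autFun_mul_apply, hw.2.1 _ (hpA _ hai x hx), autFun_apply_inv]
    · have hd₀ := hpD _ hai d hd
      have hz := hw.2.2 _ hd₀
      have e : autFun w (autFun a⁻¹ d) = autFun a⁻¹ d * ((autFun a⁻¹ d)⁻¹ * autFun w (autFun a⁻¹ d)) := by group
      rw [autFun_mul_apply, autFun_mul_apply, e, autFun_mul a (hleD hd₀) (hleA (hZA hz)), autFun_apply_inv, inv_mul_cancel_left]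
      exact hpZ a ha _ hz
  exact opAut_le_autInducedBy hFA (le_opAut h1 h2 h3 hvY)

theorem mp_pow (hf : Mp F X f) {x : Ω} (hx : x ∈ X) (k : ℕ) : f (x ^ k) = (f x) ^ k := by
  induction k with
  | zero => simpa using hf.map_one
  | succ k ih => rw [pow_succ, hf.map_mul (X.pow_mem hx k) hx, ih, pow_succ]

omit [Finite S] in
theorem mem_of_pow_mem_coprime {y : Ω} {n : ℕ} {H : Subgroup Ω} (h : (orderOf y).Coprime n) (hy : y ^ n ∈ H) : y ∈ H := by
  by_cases h1 : orderOf y = 1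
  · rw [orderOf_eq_one_iff.1 h1]
    exact H.one_mem
  by_cases h0 : orderOf y = 0
  · rw [h0, Nat.coprime_zero_left] at h
    rw [h, pow_one] at hy
    exact hy
  have h2 : 1 < orderOf y := by omega
  obtain ⟨u, -, hu⟩ := Nat.exists_mul_mod_eq_one_of_coprime h.symm h2
  have h3 : y ^ (n * u) = y := by
    rw [← pow_mod_orderOf, hu, pow_one]
  rw [← h3, pow_mul]
  exact H.pow_mem hy u

end fn

end Cfsg.Agent.Lib.FusionExt.LowPi
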