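import Cfsg.Agent.Lib.FusionExt.Glue4

/-!
# Meets of normal subsystems: the stable extension lemmas at one level (helper92)

Here `G` is a saturated system on `R`, `T ≤ R` strongly closed in `G`, and we look at a subgroup `W ≤ T` with
`C_T(W) ≤ W` which is fully normalized in `G`.
-/

set_option autoImplicit false
set_option linter.unusedSectionVars false

namespace Cfsg.Agent.Lib.FusionExt.Meet1

open Cfsg Cfsg.FusionSystem Cfsg.Agent.Lib.Fusion.Basic Cfsg.Agent.Lib.Fusion.GroupSystem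
open Cfsg.Agent.Lib.FusionExt.MapApi Cfsg.Agent.Lib.FusionExt.PowerSys Cfsg.Agent.Lib.FusionExt.LowPi
open Cfsg.Agent.Lib.FusionExt.PrimeRes1 Cfsg.Agent.Lib.Fusion.Saturation Cfsg.Agent.Lib.Fusion.Saturation2
open Cfsg.Agent.Lib.FusionExt.Basic Cfsg.Agent.Lib.FusionExt.Normal Cfsg.Agent.Lib.FusionExt.PowerGen
open Cfsg.Agent.Lib.Fusion.KSystem Cfsg.Agent.Lib.FusionExt.Invariant
open Cfsg.Agent.Lib.FusionExt.PowerE Cfsg.Agent.Lib.FusionExt.SatCrit1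

universe u

variable {Ω : Type u} [Group Ω] {S R T : Subgroup Ω} {F : FusionSystem S} {G : FusionSystem R} {p : ℕ}
variable {W W' X Y U P Q : Subgroup Ω} {f f' g h k d : Ω → Ω}

/-! ### Elementary facts -/

theorem wt_le_norm (hWR : W ≤ R) : W ⊔ centralizerIn R W ≤ normalizerIn R W :=
  sup_le (le_normalizerIn hWR) cent_le_norm

theorem conj_cent_mem {s c : Ω} (hs : s ∈ normalizerIn R W) (hc : c ∈ centralizerIn R W) :
    s * c * s⁻¹ ∈ centralizerIn R W := by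
  refine mem_cent.2 ⟨R.mul_mem (R.mul_mem hs.1 (mem_cent.1 hc).1) (R.inv_mem hs.1), fun y hy => ?_⟩
  have h1 := (mem_cent.1 hc).2 _ (conj_inv_mem hs.2 hy)
  calc y * (s * c * s⁻¹) = s * ((s⁻¹ * y * s) * c) * s⁻¹ := by group
    _ = s * (c * (s⁻¹ * y * s)) * s⁻¹ := by rw [h1]
    _ = s * c * s⁻¹ * y := by group

theorem conj_wt_mem {s x : Ω} (hs : s ∈ normalizerIn R W) (hx : x ∈ W ⊔ centralizerIn R W) :
    s * x * s⁻¹ ∈ W ⊔ centralizerIn R W := by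
  have hle : W ⊔ centralizerIn R W ≤ (W ⊔ centralizerIn R W).comap (MulAut.conj s).toMonoidHom := by
    refine sup_le (fun y hy => ?_) (fun y hy => ?_)
    · exact Subgroup.mem_sup_left (norm_conj hs.2 hy)
    · exact Subgroup.mem_sup_right (conj_cent_mem hs hy)
  exact hle hx

theorem norm_le_norm_wt [Finite R] : normalizerIn R W ≤ Subgroup.normalizer ((W ⊔ centralizerIn R W : Subgroup Ω) : Set Ω) := by
  intro s hs
  haveI : Finite ↥(normalizerIn R W) := finite_of_le (normalizerIn_le_left R W)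
  by_cases hWR : W ≤ R
  · haveI : Finite ↥(W ⊔ centralizerIn R W) := finite_of_le ((wt_le_norm hWR).trans (normalizerIn_le_left R W))
    exact mem_normalizer_of_conj_le' (fun x hx => conj_wt_mem hs hx)
  · rw [Subgroup.mem_normalizer_iff]
    intro x
    constructor
    · exact fun hx => conj_wt_mem hs hx
    · intro hx
      have h1 := conj_wt_mem (Subgroup.inv_mem _ hs) hx
      have e : s⁻¹ * (s * x * s⁻¹) * s⁻¹⁻¹ = x := by group
      rwa [e] at h1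

/-- `W C_R(W)` is fully normalized in `N_G(W)`. -/
theorem wt_fn [Finite R] (hWR : W ≤ R) : (normalizerSystem G W hWR).IsFullyNormalized (W ⊔ centralizerIn R W) := by
  have hNS : normalizerIn R W ≤ R := normalizerIn_le_left R W
  haveI : Finite (normalizerIn R W) := finite_of_le hNS
  refine ⟨wt_le_norm hWR, fun Q hQ => ?_⟩
  have e : normalizerIn (normalizerIn R W) (W ⊔ centralizerIn R W) = normalizerIn R W := by
    refine le_antisymm (normalizerIn_le_left _ _) (fun s hs => ⟨hs, norm_le_norm_wt hs⟩)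
  rw [e]
  exact Subgroup.card_le_of_le (normalizerIn_le_left _ Q)

/-- Maps of `N_G(W)` on overgroups of `W` preserve `W`. -/
theorem norm_img (hWR : W ≤ R) (hf : Mp (normalizerSystem G W hWR) X f) (hWX : W ≤ X) : Img W f W := by
  obtain ⟨φ, ⟨hφ, hXN, hv, ψ, hψ, he, hr⟩, e⟩ := hf
  have hWXW : W ≤ X ⊔ W := le_sup_right
  have heq : ∀ x (hx : x ∈ W), f x = ψ ⟨x, hWXW hx⟩ := by
    intro x hx
    rw [← e ⟨x, hWX hx⟩, ← he ⟨x, hWX hx⟩]
    rfl
  refine ⟨fun x hx => ?_, fun y hy => ?_⟩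
  · rw [heq x hx]
    have h1 : ψ ⟨x, hWXW hx⟩ ∈ (W.subgroupOf (X ⊔ W)).map ψ := ⟨⟨x, hWXW hx⟩, hx, rfl⟩
    rwa [hr] at h1
  · have hy' : y ∈ (W.subgroupOf (X ⊔ W)).map ψ := by rwa [hr]
    obtain ⟨x, hx, rfl⟩ := hy'
    have hx' : (x : Ω) ∈ W := hx
    exact ⟨x, hx', heq x hx'⟩

section main

variable [Finite R] [Fact p.Prime]

/-- The image of `W C_R(W)` under a map sending `W` onto itself. -/
theorem wt_maps (hh : Mp G (W ⊔ centralizerIn R W) h) (hi : Img W h W) : Img (W ⊔ centralizerIn R W) h (W ⊔ centralizerIn R W) := by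
  have hc : ∀ c ∈ centralizerIn R W, h c ∈ centralizerIn R W := fun c hc => map_cent hh hi.2 hc
  exact LowPi.img_self hh (maps_sup hh (fun a ha => Subgroup.mem_sup_left (hi.1 a ha)) (fun c h' => Subgroup.mem_sup_right (hc c h')))

/-- **The stability group is inner.** -/
theorem kh (hR : IsPGroup p R) (hG : G.IsSaturated p) (hTG : G.StronglyClosed T) (hfn : G.IsFullyNormalized W)
    (hWT : W ≤ T) (hcz : zz T W ≤ W) (hd : Mp G (W ⊔ centralizerIn R W) d) (hdW : ∀ x ∈ W, d x = x)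
    (hdc : ∀ c ∈ centralizerIn R W, c⁻¹ * d c ∈ zz T W) :
    ∃ c₀ ∈ centralizerIn R W, ∀ x ∈ W ⊔ centralizerIn R W, d x = c₀ * x * c₀⁻¹ := by
  have hWR : W ≤ R := hfn.1
  have hNR : normalizerIn R W ≤ R := normalizerIn_le_left R W
  haveI : Finite (normalizerIn R W) := finite_of_le hNR
  let F' : FusionSystem (normalizerIn R W) := normalizerSystem G W hWR
  have hF' : F'.IsSaturated p := isSaturated_normalizerSystem hR G hG hfn F' (fun _ => rfl)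
  have hNp : IsPGroup p (normalizerIn R W) := hR.to_le hNR
  have hWtN := wt_le_norm (R := R) hWR
  have hFA : F'.IsFullyAutomized p (W ⊔ centralizerIn R W) :=
    isFullyAutomized_of_isFullyNormalized (F := F') hNp hF' (wt_fn hWR)
  haveI : Finite ↥(W ⊔ centralizerIn R W) := finite_of_le (hWtN.trans hNR)
  haveI : Finite (MulAut ↥(W ⊔ centralizerIn R W)) :=
    Cfsg.Agent.Lib.Fusion.Basic.finite_mulAut_of_finite (A := ↥(W ⊔ centralizerIn R W))
  have hWle : W ≤ W ⊔ centralizerIn R W := le_sup_left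
  have hiW : Img W d W := (img_refl W).congr (fun x hx => (hdW x hx).symm)
  have hiWt := wt_maps hd hiW
  have hd' : Mp F' (W ⊔ centralizerIn R W) d := mp_norm hWR hd hWle hWtN (fun x hx => hWtN (hiWt.1 x hx)) hiW
  obtain ⟨v, hv, ve⟩ := hd'.toAut hiWt
  have vf : ∀ x ∈ W ⊔ centralizerIn R W, autFun v x = d x := fun x hx => by
    rw [autFun_of_mem v hx]
    exact ve ⟨x, hx⟩
  have hDn : centralizerIn R W ≤ Subgroup.normalizer (W : Set Ω) := fun c hc => (cent_le_norm hc).2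
  have hzc : ∀ z ∈ zz T W, ∀ x ∈ W, x * z = z * x := fun z hz x hx => (mem_zz.1 hz).2 x hx
  have hfacts : ∀ a ∈ F'.autGroup (W ⊔ centralizerIn R W), Img W (autFun a) W ∧ Mp G (W ⊔ centralizerIn R W) (autFun a) := by
    intro a ha
    have h1 : Mp F' (W ⊔ centralizerIn R W) (autFun a) := mp_autFun hWtN ha
    exact ⟨norm_img hWR h1 hWle, mp_of_norm hWR h1⟩
  have hin := v_induced (S' := normalizerIn R W) (F' := F') (A := W) (D := centralizerIn R W) (Z := zz T W) hNp hWtN hFA hcz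
    hDn hzc
    (fun a ha x hx => (hfacts a ha).1.1 x hx)
    (fun a ha c hc => map_cent (hfacts a ha).2 (hfacts a ha).1.2 hc)
    (fun a ha z hz => zz_img (hfacts a ha).2 hWle (hfacts a ha).1 hWT hz (hcz hz))
    hv (fun x hx => by rw [vf x (hWle hx), hdW x hx])
    (fun c hc => by
      rw [vf c (Subgroup.mem_sup_right hc)]
      exact hdc c hc)
  obtain ⟨s, hs, hse⟩ := (mem_autInducedBy_iff _ _ _).1 hin
  have hse' : ∀ x ∈ W ⊔ centralizerIn R W, d x = s * x * s⁻¹ := fun x hx => by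
    rw [← vf x hx, autFun_of_mem v hx]
    exact hse ⟨x, hx⟩
  refine ⟨s, mem_cent.2 ⟨hNR hs, fun y hy => ?_⟩, hse'⟩
  have h1 := hse' y (hWle hy)
  rw [hdW y hy] at h1
  calc y * s = s * y * s⁻¹ * s := by rw [← h1]
    _ = s * y := by group

/-- **The conjugation relation extends.** -/
theorem ext_step (hR : IsPGroup p R) (hG : G.IsSaturated p) (hTG : G.StronglyClosed T) (hfn : G.IsFullyNormalized W)
    (hWT : W ≤ T) (hcz : zz T W ≤ W) (hh : Mp G (W ⊔ centralizerIn R W) h) (hi : Img W h W) {y y' : Ω}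
    (hy : y ∈ normalizerIn R W) (hy' : y' ∈ normalizerIn R W) (hrel : ∀ w ∈ W, h (y * w * y⁻¹) = y' * h w * y'⁻¹)
    (hst : ∀ e ∈ centralizerIn R W, (y' * h e * y'⁻¹)⁻¹ * h (y * e * y⁻¹) ∈ zz T W) :
    ∃ c₀ ∈ centralizerIn R W, ∀ x ∈ W ⊔ centralizerIn R W, h (y * x * y⁻¹) = (c₀ * y') * h x * (c₀ * y')⁻¹ := by
  have hWR : W ≤ R := hfn.1
  have hWtN := wt_le_norm (R := R) hWR
  have hNR : normalizerIn R W ≤ R := normalizerIn_le_left R W
  have hWtR : W ⊔ centralizerIn R W ≤ R := hWtN.trans hNR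
  have hWle : W ≤ W ⊔ centralizerIn R W := le_sup_left
  have hiWt := wt_maps hh hi
  obtain ⟨k, hk, hk1, hk2, hk3⟩ := hh.inverse hiWt
  have hkW : Img W k W := by
    refine ⟨fun x hx => ?_, fun x hx => ⟨h x, hi.1 x hx, hk1 x (hWle hx)⟩⟩
    obtain ⟨u, hu, rfl⟩ := hi.2 x hx
    rw [hk1 u (hWle hu)]
    exact hu
  have hy'i : y'⁻¹ ∈ normalizerIn R W := Subgroup.inv_mem _ hy'
  -- the map `d`
  have h1 : Mp G (W ⊔ centralizerIn R W) (fun x => y'⁻¹ * x * y'⁻¹⁻¹) := Mp.conj hWtR (hNR hy'i)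
  have h1m : ∀ x ∈ W ⊔ centralizerIn R W, y'⁻¹ * x * y'⁻¹⁻¹ ∈ W ⊔ centralizerIn R W := fun x hx => conj_wt_mem hy'i hx
  have h2 := (h1.comp h1m hk).comp (Y := W ⊔ centralizerIn R W) (fun x hx => hk3.1 _ (h1m x hx)) (Mp.conj hWtR (hNR hy))
  have h2m : ∀ x ∈ W ⊔ centralizerIn R W, y * k (y'⁻¹ * x * y'⁻¹⁻¹) * y⁻¹ ∈ W ⊔ centralizerIn R W :=
    fun x hx => conj_wt_mem hy (hk3.1 _ (h1m x hx))
  have h3 := h2.comp h2m hh
  have hwm : ∀ {a : Ω}, a ∈ W → y'⁻¹ * a * y'⁻¹⁻¹ ∈ W := fun ha => norm_conj hy'i.2 ha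
  obtain ⟨c₀, hc₀, hc₀e⟩ := kh (d := fun x => h (y * k (y'⁻¹ * x * y'⁻¹⁻¹) * y⁻¹)) hR hG hTG hfn hWT hcz h3
    (fun x hx => by
      show h (y * k (y'⁻¹ * x * y'⁻¹⁻¹) * y⁻¹) = x
      have hu := hkW.1 _ (hwm hx)
      rw [hrel _ hu, hk2 _ (hWle (hwm hx))]
      group)
    (fun c hc => by
      show c⁻¹ * h (y * k (y'⁻¹ * c * y'⁻¹⁻¹) * y⁻¹) ∈ _
      have hc1 : y'⁻¹ * c * y'⁻¹⁻¹ ∈ centralizerIn R W := conj_cent_mem hy'i hc
      have hc2 : k (y'⁻¹ * c * y'⁻¹⁻¹) ∈ centralizerIn R W := map_cent hk hkW.2 hc1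
      have h4 := hst _ hc2
      rw [hk2 _ (Subgroup.mem_sup_right hc1)] at h4
      have e : y' * (y'⁻¹ * c * y'⁻¹⁻¹) * y'⁻¹ = c := by group
      rwa [e] at h4)
  refine ⟨c₀, hc₀, fun x hx => ?_⟩
  have hz := hc₀e _ (conj_wt_mem hy' (hiWt.1 x hx))
  have e1 : y'⁻¹ * (y' * h x * y'⁻¹) * y'⁻¹⁻¹ = h x := by group
  simp only [e1, hk1 x hx] at hz
  rw [hz]
  group

/-- The stability hypothesis when `h` is stable. -/
theorem hst_of_stable (hh : Mp G (W ⊔ centralizerIn R W) h) (hi : Img W h W) (hWT : W ≤ T) (hcz : zz T W ≤ W)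
    (hTG : G.StronglyClosed T) (hC : ∀ c ∈ centralizerIn R W, c⁻¹ * h c ∈ zz T W) {y y' : Ω}
    (hy : y ∈ normalizerIn R W) (hy' : y' ∈ normalizerIn R W)
    (hv : ∀ e ∈ centralizerIn R W, e⁻¹ * ((y * y'⁻¹) * e * (y * y'⁻¹)⁻¹) ∈ zz T W) :
    ∀ e ∈ centralizerIn R W, (y' * h e * y'⁻¹)⁻¹ * h (y * e * y⁻¹) ∈ zz T W := by
  intro e he
  have he' := conj_cent_mem hy' he
  have hzz : ∀ {z s : Ω}, s ∈ normalizerIn R W → z ∈ zz T W → s * z * s⁻¹ ∈ zz T W := by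
    intro z s hs hz
    refine mem_zz.2 ⟨sc_conj_mem G hTG hs.1 (mem_zz.1 hz).1, fun u hu => ?_⟩
    have h1 := (mem_zz.1 hz).2 _ (conj_inv_mem hs.2 hu)
    calc u * (s * z * s⁻¹) = s * ((s⁻¹ * u * s) * z) * s⁻¹ := by group
      _ = s * (z * (s⁻¹ * u * s)) * s⁻¹ := by rw [h1]
      _ = s * z * s⁻¹ * u := by group
  have h1 := hzz hy' (hC e he)
  have h2 := hv _ he'
  have h3 := hC _ (conj_cent_mem hy he)
  have e1 : (y * y'⁻¹) * (y' * e * y'⁻¹) * (y * y'⁻¹)⁻¹ = y * e * y⁻¹ := by group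
  rw [e1] at h2
  have e2 : (y' * h e * y'⁻¹)⁻¹ * h (y * e * y⁻¹) =
      (y' * (e⁻¹ * h e) * y'⁻¹)⁻¹ * (((y' * e * y'⁻¹)⁻¹ * (y * e * y⁻¹)) * ((y * e * y⁻¹)⁻¹ * h (y * e * y⁻¹))) := by
    group
  rw [e2]
  exact Subgroup.mul_mem _ (Subgroup.inv_mem _ h1) (Subgroup.mul_mem _ h2 h3)

/-- The stability hypothesis when the conjugations by `y` and `y'` are stable. -/
theorem hst_of_conj (hh : Mp G (W ⊔ centralizerIn R W) h) (hi : Img W h W) (hWT : W ≤ T) (hcz : zz T W ≤ W)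
    {y y' : Ω} (hy : ∀ e ∈ centralizerIn R W, e⁻¹ * (y * e * y⁻¹) ∈ zz T W)
    (hy' : ∀ e ∈ centralizerIn R W, e⁻¹ * (y' * e * y'⁻¹) ∈ zz T W) :
    ∀ e ∈ centralizerIn R W, (y' * h e * y'⁻¹)⁻¹ * h (y * e * y⁻¹) ∈ zz T W := by
  intro e he
  have hWle : W ≤ W ⊔ centralizerIn R W := le_sup_left
  have heR : e ∈ W ⊔ centralizerIn R W := Subgroup.mem_sup_right he
  have h1 := hy e he
  have h2 := hy' _ (map_cent hh hi.2 he)
  have h3 := zz_img hh hWle hi hWT h1 (hcz h1)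
  have e1 : y * e * y⁻¹ = e * (e⁻¹ * (y * e * y⁻¹)) := by group
  have e2 : h (y * e * y⁻¹) = h e * h (e⁻¹ * (y * e * y⁻¹)) := by
    conv_lhs => rw [e1]
    exact hh.map_mul heR (hWle (hcz h1))
  rw [e2]
  have e3 : (y' * h e * y'⁻¹)⁻¹ * (h e * h (e⁻¹ * (y * e * y⁻¹))) =
      ((h e)⁻¹ * (y' * h e * y'⁻¹))⁻¹ * h (e⁻¹ * (y * e * y⁻¹)) := by group
  rw [e3]
  exact Subgroup.mul_mem _ (Subgroup.inv_mem _ h2) h3

/-- Conjugation by an element of `N_T(W)` is stable. -/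
theorem conj_stable (hTG : G.StronglyClosed T) {t : Ω} (ht : t ∈ normalizerIn T W) :
    ∀ e ∈ centralizerIn R W, e⁻¹ * (t * e * t⁻¹) ∈ zz T W := by
  intro c hc
  have htR : t ∈ R := hTG.1 ht.1
  refine mem_zz.2 ⟨?_, fun y hy => ?_⟩
  · have h1 : c⁻¹ * t * c ∈ T := by
      have := sc_conj_mem G hTG (R.inv_mem (mem_cent.1 hc).1) ht.1
      rwa [inv_inv] at this
    have e : c⁻¹ * (t * c * t⁻¹) = (c⁻¹ * t * c) * t⁻¹ := by group
    rw [e]
    exact T.mul_mem h1 (T.inv_mem ht.1)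
  · have h1 : t⁻¹ * y * t ∈ W := conj_inv_mem ht.2 hy
    have h2 := (mem_cent.1 hc).2 _ h1
    have h3 := (mem_cent.1 hc).2 _ hy
    have h4 : y * (t * c * t⁻¹) = t * c * t⁻¹ * y := by
      calc y * (t * c * t⁻¹) = t * ((t⁻¹ * y * t) * c) * t⁻¹ := by group
        _ = t * (c * (t⁻¹ * y * t)) * t⁻¹ := by rw [h2]
        _ = t * c * t⁻¹ * y := by group
    calc y * (c⁻¹ * (t * c * t⁻¹)) = c⁻¹ * (c * y * c⁻¹) * (t * c * t⁻¹) := by group
      _ = c⁻¹ * y * (t * c * t⁻¹) := by rw [← h3]; group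
      _ = c⁻¹ * (y * (t * c * t⁻¹)) := by group
      _ = c⁻¹ * (t * c * t⁻¹ * y) := by rw [h4]
      _ = c⁻¹ * (t * c * t⁻¹) * y := by group

/-- The elements of `N_R(W)` whose action on `W C_R(W)` is compatible with `h`. -/
def exS (R W : Subgroup Ω) (h : Ω → Ω) : Subgroup Ω where
  carrier := {y | y ∈ normalizerIn R W ∧ ∃ s ∈ normalizerIn R W, ∀ x ∈ W ⊔ centralizerIn R W, h (y * x * y⁻¹) = s * h x * s⁻¹}
  one_mem' := ⟨Subgroup.one_mem _, 1, Subgroup.one_mem _, fun x _ => by simp⟩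
  mul_mem' := by
    rintro a b ⟨ha, s, hs, e⟩ ⟨hb, s', hs', e'⟩
    refine ⟨Subgroup.mul_mem _ ha hb, s * s', Subgroup.mul_mem _ hs hs', fun x hx => ?_⟩
    have e1 : a * b * x * (a * b)⁻¹ = a * (b * x * b⁻¹) * a⁻¹ := by group
    rw [e1, e _ (conj_wt_mem hb hx), e' x hx]
    group
  inv_mem' := by
    rintro a ⟨ha, s, hs, e⟩
    refine ⟨Subgroup.inv_mem _ ha, s⁻¹, Subgroup.inv_mem _ hs, fun x hx => ?_⟩
    have h1 := e _ (conj_wt_mem (Subgroup.inv_mem _ ha) hx)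
    have e1 : a * (a⁻¹ * x * a⁻¹⁻¹) * a⁻¹ = x := by group
    rw [e1] at h1
    rw [h1]
    group

theorem mem_exS {y : Ω} : y ∈ exS R W h ↔ y ∈ normalizerIn R W ∧ ∃ s ∈ normalizerIn R W, ∀ x ∈ W ⊔ centralizerIn R W,
    h (y * x * y⁻¹) = s * h x * s⁻¹ := Iff.rfl

theorem wt_le_exS (hWR : W ≤ R) (hh : Mp G (W ⊔ centralizerIn R W) h) (hi : Img W h W) :
    W ⊔ centralizerIn R W ≤ exS R W h := by
  intro r hr
  have hiWt := wt_maps hh hi
  have hWtN := wt_le_norm (R := R) hWR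
  refine ⟨hWtN hr, h r, hWtN (hiWt.1 r hr), fun x hx => ?_⟩
  exact hh.map_conj hr hx

/-- **Extensions over overgroups of `W C_R(W)`.** -/
theorem ext_over (hR : IsPGroup p R) (hG : G.IsSaturated p) (hfn : G.IsFullyNormalized W)
    (hh : Mp G (W ⊔ centralizerIn R W) h) (hi : Img W h W) (hY1 : W ⊔ centralizerIn R W ≤ Y) (hY2 : Y ≤ exS R W h) :
    ∃ ĥ, Mp G Y ĥ ∧ (∀ x ∈ W ⊔ centralizerIn R W, ĥ x = h x) ∧ ∀ y ∈ Y, ĥ y ∈ normalizerIn R W := by
  have hWR : W ≤ R := hfn.1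
  have hNR : normalizerIn R W ≤ R := normalizerIn_le_left R W
  haveI : Finite (normalizerIn R W) := finite_of_le hNR
  let F' : FusionSystem (normalizerIn R W) := normalizerSystem G W hWR
  have hF' : F'.IsSaturated p := isSaturated_normalizerSystem hR G hG hfn F' (fun _ => rfl)
  have hNp : IsPGroup p (normalizerIn R W) := hR.to_le hNR
  have hWtN := wt_le_norm (R := R) hWR
  have hrc : F'.IsReceptive (W ⊔ centralizerIn R W) :=
    isReceptive_of_isFullyNormalized (F := F') hNp hF' (wt_fn hWR)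
  have hiWt := wt_maps hh hi
  have hh' : Mp F' (W ⊔ centralizerIn R W) h := mp_norm hWR hh le_sup_left hWtN (fun x hx => hWtN (hiWt.1 x hx)) hi
  obtain ⟨ĥ, hĥ, e⟩ := hh'.ext_rec hrc hiWt hY1 (fun y hy => by
    obtain ⟨h1, s, hs, e⟩ := hY2 hy
    exact ⟨h1, norm_le_norm_wt h1, s, hs, e⟩)
  exact ⟨ĥ, mp_of_norm hWR hĥ, e, fun y hy => hĥ.mem_S hy⟩

end main

end Cfsg.Agent.Lib.FusionExt.Meet1
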