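import Cfsg.Agent.Lib.FusionExt.Meet1

/-!
# Meets of normal subsystems: levels, restriction and extension of stable maps (helper92)
-/

set_option autoImplicit false
set_option linter.unusedSectionVars false

namespace Cfsg.Agent.Lib.FusionExt.Meet2

open Cfsg Cfsg.FusionSystem Cfsg.Agent.Lib.Fusion.Basic Cfsg.Agent.Lib.Fusion.GroupSystem
open Cfsg.Agent.Lib.FusionExt.MapApi Cfsg.Agent.Lib.FusionExt.PowerSys Cfsg.Agent.Lib.FusionExt.LowPi
open Cfsg.Agent.Lib.FusionExt.PrimeRes1 Cfsg.Agent.Lib.Fusion.Saturation Cfsg.Agent.Lib.Fusion.Saturation2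
open Cfsg.Agent.Lib.FusionExt.Basic Cfsg.Agent.Lib.FusionExt.Normal Cfsg.Agent.Lib.FusionExt.PowerGen
open Cfsg.Agent.Lib.Fusion.KSystem Cfsg.Agent.Lib.FusionExt.Invariant
open Cfsg.Agent.Lib.FusionExt.PowerE Cfsg.Agent.Lib.FusionExt.Meet1

universe u

variable {Ω : Type u} [Group Ω] {S R T : Subgroup Ω} {F : FusionSystem S} {G : FusionSystem R} {p : ℕ}
variable {W W' X Y U P Q : Subgroup Ω} {f f' g h k d κ : Ω → Ω}

/-- The map conjugated by a map of `F`, for strong invariance. -/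
theorem strong_mp (hSI : StrongInv F G) (hPR : P ≤ R) {χ : Ω → Ω} (hg : Mp G P g) (hgm : ∀ x ∈ P, g x ∈ P) (hχ : Mp F P χ)
    (hi : Img P χ Q) : ∃ g', Mp G Q g' ∧ ∀ x ∈ P, g' (χ x) = χ (g x) := by
  obtain ⟨φ, hφ, e⟩ := hg
  obtain ⟨ψ, hψ, e'⟩ := hχ
  have hφm : ∀ x : P, φ x ∈ P := fun x => by rw [e]; exact hgm x x.2
  obtain ⟨χ₀, hχ₀, hχ₀e⟩ := hSI P P le_rfl hPR φ hφ hφm ψ hψ
  have hle : Q ≤ (P.subgroupOf P).map ψ := by
    intro y hy
    obtain ⟨x, hx, rfl⟩ := hi.2 y hy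
    exact ⟨⟨x, hx⟩, hx, e' ⟨x, hx⟩⟩
  refine ⟨extOf χ₀, (mp_of_hom hχ₀).restrict hle, fun x hx => ?_⟩
  have hmem : χ x ∈ (P.subgroupOf P).map ψ := hle (hi.1 x hx)
  rw [extOf_of_mem χ₀ hmem]
  have h1 := hχ₀e ⟨x, hx⟩ (by
    have : ψ (Subgroup.inclusion le_rfl ⟨x, hx⟩) = χ x := e' ⟨x, hx⟩
    rw [this]
    exact hmem)
  have e1 : (⟨χ x, hmem⟩ : ↥((P.subgroupOf P).map ψ)) = ⟨ψ (Subgroup.inclusion le_rfl ⟨x, hx⟩), by
      have : ψ (Subgroup.inclusion le_rfl ⟨x, hx⟩) = χ x := e' ⟨x, hx⟩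
      rw [this]
      exact hmem⟩ := Subtype.ext (e' ⟨x, hx⟩).symm
  rw [e1, h1, e' ⟨φ ⟨x, hx⟩, hφm _⟩]
  show χ (φ ⟨x, hx⟩) = χ (g x)
  rw [e ⟨x, hx⟩]

/-- The image of a central element of `W` under a map of `F`. -/
theorem zz_img' (hκ : Mp F (W ⊔ centralizerIn S W) κ) (hi : Img W κ W') (hWT : W ≤ T) (hW'T : W' ≤ T) (hT : F.StronglyClosed T) {z : Ω}
    (hz : z ∈ zz T W) (hzW : z ∈ W) : κ z ∈ zz T W' := by
  have hWle : W ≤ W ⊔ centralizerIn S W := le_sup_left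
  refine mem_zz.2 ⟨hW'T (hi.1 z hzW), fun y hy => ?_⟩
  obtain ⟨x, hx, rfl⟩ := hi.2 y hy
  rw [← hκ.map_mul (hWle hx) (hWle hzW), ← hκ.map_mul (hWle hzW) (hWle hx), (mem_zz.1 hz).2 x hx]

/-- A level: a saturated system on a strongly closed subgroup containing `T`, invariant under `F`. -/
structure Lvl (F : FusionSystem S) (G : FusionSystem R) (T : Subgroup Ω) (p : ℕ) : Prop where
  hS : IsPGroup p S
  hF : F.IsSaturated p
  hG : G.IsSaturated p
  sub : G.IsSubsystemOf F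
  scR : F.StronglyClosed R
  scT : F.StronglyClosed T
  hTR : T ≤ R
  tw : ∀ {P Q : Subgroup Ω} {g χ : Ω → Ω}, P ≤ R → Mp G P g → (∀ x ∈ P, g x ∈ P) → Mp F P χ → Img P χ Q →
    ∃ g', Mp G Q g' ∧ ∀ x ∈ P, g' (χ x) = χ (g x)

theorem Lvl.hR (L : Lvl F G T p) : IsPGroup p R := L.hS.to_le L.scR.1

theorem Lvl.scT' (L : Lvl F G T p) : G.StronglyClosed T :=
  ⟨L.hTR, fun Q hQ φ hφ x => L.scT.2 Q hQ φ (L.sub Q hφ) x⟩

theorem Lvl.le (L : Lvl F G T p) : R ≤ S := L.scR.1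

theorem Lvl.mp (L : Lvl F G T p) (h : Mp G X f) : Mp F X f := mp_sub L.sub h

theorem lvl_self (hS : IsPGroup p S) (hF : F.IsSaturated p) (hT : F.StronglyClosed T) : Lvl F F T p where
  hS := hS
  hF := hF
  hG := hF
  sub := fun _ _ h => h
  scR := ⟨le_rfl, fun _ _ φ hφ x => val_mem F hφ x⟩
  scT := hT
  hTR := hT.1
  tw := by
    intro P Q g χ _ hg hgm hχ hi
    obtain ⟨k, hk, hk1, -, hk3⟩ := hχ.inverse hi
    refine ⟨fun y => χ (g (k y)), (hk.comp hk3.1 hg).comp (fun y hy => hgm _ (hk3.1 y hy)) hχ, fun x hx => ?_⟩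
    show χ (g (k (χ x))) = χ (g x)
    rw [hk1 x hx]

theorem lvl_of_normal (hS : IsPGroup p S) (hN : G.IsNormalIn F p) (hT : F.StronglyClosed T) (hTR : T ≤ R) : Lvl F G T p := by
  obtain ⟨⟨hGs, hF, hsub, hsc, hInv, hFr⟩, -⟩ := hN
  refine ⟨hS, hF, hGs, hsub, hsc, hT, hTR, ?_⟩
  intro P Q g χ hPR hg hgm hχ hi
  exact strong_mp (strong_of_inv hInv hFr) hPR hg hgm hχ hi

section main

variable [Finite S] [Fact p.Prime]

theorem Lvl.fn (L : Lvl F G T p) (hfn : F.IsFullyNormalized W) (hWT : W ≤ T) : G.IsFullyNormalized W :=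
  fn_sub L.hS L.hF L.sub L.scR hfn (hWT.trans L.hTR)

theorem Lvl.finite (L : Lvl F G T p) : Finite R := finite_of_le L.scR.1

/-- An element of a `p`-group has order prime to numbers prime to `p`. -/
theorem order_coprime (hR : IsPGroup p R) {y : Ω} (hy : y ∈ R) {m : ℕ} (hm : m.Coprime p) : (orderOf y).Coprime m := by
  obtain ⟨j, hj⟩ := hR ⟨y, hy⟩
  have h1 : y ^ p ^ j = 1 := congrArg Subtype.val hj
  exact Nat.Coprime.coprime_dvd_left (orderOf_dvd_of_pow_eq_one h1) (Nat.Coprime.pow_right j hm).symm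

/-- **Restriction of a stable map of `p'`-order to a normal subgroup.** -/
theorem rc_gen [Finite R] (hR : IsPGroup p R) (hG : G.IsSaturated p) (hTG : G.StronglyClosed T) (hfn : G.IsFullyNormalized P)
    (hPT : P ≤ T) (hUP : U ≤ P) (hczU : zz T U ≤ U) (hczP : zz T P ≤ P) (hiU : Img U f U) (hpp : Pp G p P f)
    (hpi : PiA G T P f) (hcN : ∀ c ∈ centralizerIn R U, c ∈ Subgroup.normalizer (P : Set Ω))
    (hrel : ∀ c ∈ centralizerIn R U, ∃ z ∈ zz T U, ∀ x ∈ P, f (c * x * c⁻¹) = (z * c) * f x * (z * c)⁻¹) :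
    PiA G T U f := by
  obtain ⟨h, hh, he, hc⟩ := hpi
  have hPR : P ≤ R := hfn.1
  have hUT : U ≤ T := hUP.trans hPT
  have hiP : Img P h P := hpp.2.1.congr (fun x hx => (he x hx).symm)
  have hcUP : centralizerIn R P ≤ centralizerIn R U := cent_anti hUP
  have hPle : P ≤ P ⊔ centralizerIn R P := le_sup_left
  have hCle : centralizerIn R P ≤ P ⊔ centralizerIn R P := le_sup_right
  have hZU : ∀ {z : Ω}, z ∈ zz T U → z ∈ P := fun hz => hUP (hczU hz)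
  have hZP : zz T P ≤ zz T U := zz_anti hUP
  -- the elements of `C_R(U)` lie in the extender
  have hex : ∀ c ∈ centralizerIn R U, c ∈ exS R P h := by
    intro c hc'
    obtain ⟨z, hz, hze⟩ := hrel c hc'
    have hcN' : c ∈ normalizerIn R P := ⟨(mem_cent.1 hc').1, hcN c hc'⟩
    have hzN : z ∈ normalizerIn R P := ⟨hPR (hZU hz), Subgroup.le_normalizer (hZU hz)⟩
    have hy' : z * c ∈ normalizerIn R P := Subgroup.mul_mem _ hzN hcN'
    have hrel' : ∀ w ∈ P, h (c * w * c⁻¹) = (z * c) * h w * (z * c)⁻¹ := by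
      intro w hw
      rw [he _ (norm_conj hcN'.2 hw), he w hw]
      exact hze w hw
    have hst := hst_of_stable hh hiP hPT hczP hTG hc hcN' hy' (fun e he' => by
      have e1 : c * (z * c)⁻¹ = z⁻¹ := by group
      rw [e1]
      have e2 : z⁻¹ * e * z⁻¹⁻¹ = e := by
        rw [(mem_cent.1 he').2 _ (P.inv_mem (hZU hz))]
        group
      rw [e2, inv_mul_cancel]
      exact Subgroup.one_mem _)
    obtain ⟨c₀, hc₀, hc₀e⟩ := ext_step hR hG hTG hfn hPT hczP hh hiP hcN' hy' hrel' hst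
    exact ⟨hcN', c₀ * (z * c), Subgroup.mul_mem _ (cent_le_norm hc₀) hy', hc₀e⟩
  obtain ⟨ĥ, hĥ, hĥe, hĥN⟩ := ext_over (Y := centralizerIn R U ⊔ (P ⊔ centralizerIn R P)) hR hG hfn hh hiP le_sup_right
    (sup_le hex (wt_le_exS hPR hh hiP))
  set Yy : Subgroup Ω := centralizerIn R U ⊔ (P ⊔ centralizerIn R P) with hYy
  have hWtY : P ⊔ centralizerIn R P ≤ Yy := le_sup_right
  have hCY : centralizerIn R U ≤ Yy := le_sup_left
  have hĥP : ∀ x ∈ P, ĥ x = f x := fun x hx => by rw [hĥe x (hPle hx), he x hx]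
  have hĥC : ∀ x ∈ centralizerIn R P, x⁻¹ * ĥ x ∈ zz T P := fun x hx => by
    rw [hĥe x (hCle hx)]
    exact hc x hx
  -- the image of elements of `C_R(U)`
  have hĥc : ∀ c ∈ centralizerIn R U, ∃ z ∈ zz T U, ∃ c₁ ∈ centralizerIn R P, ĥ c = z * c * c₁ := by
    intro c hc'
    obtain ⟨z, hz, hze⟩ := hrel c hc'
    have hcY := hCY hc'
    refine ⟨z, hz, (z * c)⁻¹ * ĥ c, mem_cent.2 ⟨?_, fun y hy => ?_⟩, by group⟩
    · refine R.mul_mem (R.inv_mem (R.mul_mem (hPR (hZU hz)) (mem_cent.1 hc').1)) ?_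
      exact hĥ.mem_S hcY
    · obtain ⟨w, hw, rfl⟩ := hpp.2.1.2 y hy
      have hwY := hWtY (hPle hw)
      have h1 := hĥ.map_conj hcY hwY
      rw [hĥP _ (norm_conj (hcN c hc') hw), hĥP w hw, hze w hw] at h1
      exact Cfsg.Agent.Lib.FusionExt.Glue3.comm_of_conj h1.symm
  -- `Y` is invariant
  have hYm : ∀ y ∈ Yy, ĥ y ∈ Yy := by
    refine maps_sup hĥ (fun c hc' => ?_) (fun x hx => ?_)
    · obtain ⟨z, hz, c₁, hc₁, e⟩ := hĥc c hc'
      rw [e]
      exact Yy.mul_mem (Yy.mul_mem (hWtY (hPle (hZU hz))) (hCY hc')) (hWtY (hCle hc₁))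
    · rw [hĥe x hx]
      exact hWtY ((wt_maps hh hiP).1 x hx)
  have hYi : Img Yy ĥ Yy := LowPi.img_self hĥ hYm
  have hYR : Yy ≤ R := hĥ.le
  obtain ⟨b, m, hb, hbe, hbit⟩ := pp_extend' hYR hĥ hYi (hPle.trans hWtY) hpp hĥP
  obtain ⟨hbm, hbi, m₀, hm₀, hm₀e⟩ := hb
  have hle : U ⊔ centralizerIn R U ≤ Yy := sup_le (hUP.trans (hPle.trans hWtY)) hCY
  refine ⟨b, hbm.restrict hle, fun x hx => hbe x (hUP hx), fun c hc' => ?_⟩
  -- the coprime action
  let Vv : Subgroup Ω := zz T U ⊔ centralizerIn R P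
  have hZV : zz T U ≤ Vv := le_sup_left
  have hCV : centralizerIn R P ≤ Vv := le_sup_right
  have hVY : Vv ≤ Yy := sup_le (fun z hz => hWtY (hPle (hZU hz))) (hCle.trans hWtY)
  have hfZ : ∀ u ∈ zz T U, f u ∈ zz T U := fun u hu => by
    have h1 := zz_img hpp.1 hUP hiU hUT hu (hczU hu)
    exact h1
  have hĥV : ∀ v ∈ Vv, ĥ v ∈ Vv := by
    refine maps_sup (hĥ.restrict hVY) (fun u hu => ?_) (fun x hx => ?_)
    · rw [hĥP u (hZU hu)]
      exact hZV (hfZ u hu)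
    · have e : ĥ x = x * (x⁻¹ * ĥ x) := by group
      rw [e]
      exact Vv.mul_mem (hCV hx) (hZV (hZP (hĥC x hx)))
  have hcV0 : c⁻¹ * ĥ c ∈ Vv := by
    obtain ⟨z, hz, c₁, hc₁, e⟩ := hĥc c hc'
    have e1 : c⁻¹ * ĥ c = z * c₁ := by
      rw [e]
      have := (mem_cent.1 hc').2 z (hczU hz)
      calc c⁻¹ * (z * c * c₁) = c⁻¹ * (z * c) * c₁ := by group
        _ = c⁻¹ * (c * z) * c₁ := by rw [this]
        _ = z * c₁ := by group
    rw [e1]
    exact Vv.mul_mem (hZV hz) (hCV hc₁)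
  have hit : ∀ j : ℕ, c⁻¹ * ĥ^[j] c ∈ Vv := by
    intro j
    induction j with
    | zero =>
      show c⁻¹ * c ∈ _
      rw [inv_mul_cancel]
      exact Vv.one_mem
    | succ j ih =>
      have e : ĥ^[j] c = c * (c⁻¹ * ĥ^[j] c) := by group
      rw [Function.iterate_succ_apply', e, hĥ.map_mul (hCY hc') (hVY ih), ← mul_assoc]
      exact Vv.mul_mem hcV0 (hĥV _ ih)
  have hcY := hCY hc'
  have hfc : c⁻¹ * b c ∈ Vv := by
    rw [hbit c hcY]
    exact hit m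
  have hbC : ∀ x ∈ centralizerIn R P, x⁻¹ * b x ∈ zz T P := by
    intro x hx
    have hxW := hCle hx
    rw [hbit x (hWtY hxW), iterate_congr (fun y hy => by rw [hĥe y hy]; exact (wt_maps hh hiP).1 y hy) hĥe m hxW]
    exact iter_zz hPT hczP hh hiP hc m hx
  have hV : ∀ v ∈ Vv, v⁻¹ * b v ∈ zz T U := by
    intro v hv
    have hn : zz T U ≤ Subgroup.normalizer (centralizerIn R P : Set Ω) := by
      intro z hz
      have hzP := hZU hz
      rw [Subgroup.mem_normalizer_iff]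
      intro x
      constructor
      · intro hx
        have e2 : z * x * z⁻¹ = x := by
          rw [(mem_cent.1 hx).2 z hzP]
          group
        rw [e2]
        exact hx
      · intro hx
        have hx0 : z * (z * x * z⁻¹) = (z * x * z⁻¹) * z := (mem_cent.1 hx).2 z hzP
        have e2 : z * x * z⁻¹ * z = z * x := by group
        rw [e2] at hx0
        have e3 : z * x * z⁻¹ = x := mul_left_cancel hx0
        rw [← e3]
        exact hx
    obtain ⟨u, hu, d, hd, rfl⟩ := exists_mul_of_mem_sup' hn hv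
    have huY : u ∈ Yy := hVY (hZV hu)
    have hdY : d ∈ Yy := hVY (hCV hd)
    rw [hbm.map_mul huY hdY, hbe u (hZU hu)]
    have e : (u * d)⁻¹ * (f u * b d) = d⁻¹ * (u⁻¹ * f u) * d * (d⁻¹ * b d) := by group
    have hw : u⁻¹ * f u ∈ zz T U := Subgroup.mul_mem _ (Subgroup.inv_mem _ hu) (hfZ u hu)
    have e2 : d⁻¹ * (u⁻¹ * f u) * d = u⁻¹ * f u := by
      have := (mem_cent.1 hd).2 _ (hZU hw)
      rw [mul_assoc, this]
      group
    rw [e, e2]
    exact Subgroup.mul_mem _ hw (hZP (hbC d hd))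
  have hZ : ∀ u ∈ zz T U, b u ∈ zz T U := fun u hu => by
    rw [hbe u (hZU hu)]
    exact hfZ u hu
  have hZc : ∀ u ∈ zz T U, ∀ v ∈ Vv, u * v = v * u := by
    intro u hu
    have hle2 : Vv ≤ Subgroup.centralizer {u} := by
      refine sup_le (fun z hz => ?_) (fun d hd => ?_)
      · rw [Subgroup.mem_centralizer_singleton_iff]
        exact ((mem_zz.1 hz).2 u (hczU hu)).symm
      · rw [Subgroup.mem_centralizer_singleton_iff]
        exact ((mem_cent.1 hd).2 u (hZU hu)).symm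
    intro v hv
    have := hle2 hv
    rw [Subgroup.mem_centralizer_singleton_iff] at this
    exact this.symm
  have hyR : c⁻¹ * b c ∈ R := hYR (Yy.mul_mem (Yy.inv_mem hcY) (hbi.1 c hcY))
  exact coprime_step hbm hcY hVY hZV hfc hV hZ hZc (hm₀e c hcY) (order_coprime hR hyR hm₀)

/-- **Extension of a stable map of `p'`-order over `X ≤ N_T(W)`.** -/
theorem a5_gen [Finite R] (hR : IsPGroup p R) (hG : G.IsSaturated p) (hTG : G.StronglyClosed T) (hfn : G.IsFullyNormalized W)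
    (hWT : W ≤ T) (hcz : zz T W ≤ W) (hWX : W ≤ X) (hXN : X ≤ normalizerIn T W) (hpp : Pp G p W f) (hpi : PiA G T W f)
    (hrel : ∀ x ∈ X, ∃ x' ∈ X, ∀ w ∈ W, f (x * w * x⁻¹) = x' * f w * x'⁻¹) :
    ∃ b, Mp G X b ∧ Img X b X ∧ (∀ x ∈ W, b x = f x) ∧ (∃ q, q.Coprime p ∧ ∀ x ∈ X, b^[q] x = x) ∧ PiA G T X b := by
  obtain ⟨h, hh, he, hc⟩ := hpi
  have hWR : W ≤ R := hfn.1
  have hTR : T ≤ R := hTG.1
  have hXNR : ∀ {x : Ω}, x ∈ X → x ∈ normalizerIn R W := fun hx => ⟨hTR (hXN hx).1, (hXN hx).2⟩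
  have hXT : X ≤ T := hXN.trans inf_le_left
  have hiW : Img W h W := hpp.2.1.congr (fun x hx => (he x hx).symm)
  have hWle : W ≤ W ⊔ centralizerIn R W := le_sup_left
  have hCle : centralizerIn R W ≤ W ⊔ centralizerIn R W := le_sup_right
  have hiWt := wt_maps hh hiW
  have hex : X ≤ exS R W h := by
    intro x hx
    obtain ⟨x', hx', e⟩ := hrel x hx
    have hrel' : ∀ w ∈ W, h (x * w * x⁻¹) = x' * h w * x'⁻¹ := by
      intro w hw
      rw [he _ (norm_conj (hXN hx).2 hw), he w hw]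
      exact e w hw
    have hst := hst_of_conj hh hiW hWT hcz (conj_stable hTG (hXN hx)) (conj_stable hTG (hXN hx'))
    obtain ⟨c₀, hc₀, hc₀e⟩ := ext_step hR hG hTG hfn hWT hcz hh hiW (hXNR hx) (hXNR hx') hrel' hst
    exact ⟨hXNR hx, c₀ * x', Subgroup.mul_mem _ (cent_le_norm hc₀) (hXNR hx'), hc₀e⟩
  obtain ⟨ĥ, hĥ, hĥe, hĥN⟩ := ext_over (Y := X ⊔ (W ⊔ centralizerIn R W)) hR hG hfn hh hiW le_sup_right
    (sup_le hex (wt_le_exS hWR hh hiW))
  set Yy : Subgroup Ω := X ⊔ (W ⊔ centralizerIn R W) with hYy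
  have hWtY : W ⊔ centralizerIn R W ≤ Yy := le_sup_right
  have hXY : X ≤ Yy := le_sup_left
  have hĥW : ∀ x ∈ W, ĥ x = f x := fun x hx => by rw [hĥe x (hWle hx), he x hx]
  have hĥX : ∀ x ∈ X, ĥ x ∈ X := by
    intro x hx
    obtain ⟨x', hx', e⟩ := hrel x hx
    have hzz : x'⁻¹ * ĥ x ∈ zz T W := by
      refine mem_zz.2 ⟨T.mul_mem (T.inv_mem (hXT hx')) (sc_mp hTG (hĥ.restrict hXY) hXT hx), fun y hy => ?_⟩
      obtain ⟨w, hw, rfl⟩ := hpp.2.1.2 y hy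
      have h1 := hĥ.map_conj (hXY hx) (hWtY (hWle hw))
      rw [hĥW _ (norm_conj (hXN hx).2 hw), hĥW w hw, e w hw] at h1
      exact Cfsg.Agent.Lib.FusionExt.Glue3.comm_of_conj h1.symm
    have e1 : ĥ x = x' * (x'⁻¹ * ĥ x) := by group
    rw [e1]
    exact X.mul_mem hx' (hWX (hcz hzz))
  have hYm : ∀ y ∈ Yy, ĥ y ∈ Yy :=
    maps_sup hĥ (fun x hx => hXY (hĥX x hx)) (fun x hx => by
      rw [hĥe x hx]
      exact hWtY (hiWt.1 x hx))
  have hYi : Img Yy ĥ Yy := LowPi.img_self hĥ hYm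
  have hYR : Yy ≤ R := hĥ.le
  obtain ⟨b, m, hb, hbe, hbit⟩ := pp_extend' hYR hĥ hYi (hWle.trans hWtY) hpp hĥW
  obtain ⟨hbm, hbi, m₀, hm₀, hm₀e⟩ := hb
  have hitX : ∀ (j : ℕ), ∀ x ∈ X, ĥ^[j] x ∈ X := by
    intro j
    induction j with
    | zero => exact fun x hx => hx
    | succ j ih =>
      intro x hx
      rw [Function.iterate_succ_apply']
      exact hĥX _ (ih x hx)
  have hbX : ∀ x ∈ X, b x ∈ X := fun x hx => by
    rw [hbit x (hXY hx)]
    exact hitX m x hx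
  have hbXi : Img X b X := LowPi.img_self (hbm.restrict hXY) hbX
  refine ⟨b, hbm.restrict hXY, hbXi, hbe, ⟨m₀, hm₀, fun x hx => hm₀e x (hXY hx)⟩, b,
    hbm.restrict (sup_le hXY (fun c hc' => hWtY (hCle (cent_anti hWX hc')))), fun _ _ => rfl, fun c hc' => ?_⟩
  have hcW : c ∈ centralizerIn R W := cent_anti hWX hc'
  have hcWt := hCle hcW
  have hcY := hWtY hcWt
  have h1 : c⁻¹ * b c ∈ zz T W := by
    rw [hbit c hcY, iterate_congr (fun y hy => by rw [hĥe y hy]; exact hiWt.1 y hy) hĥe m hcWt]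
    exact iter_zz hWT hcz hh hiW hc m hcW
  refine mem_zz.2 ⟨(mem_zz.1 h1).1, fun y hy => ?_⟩
  obtain ⟨x, hx, rfl⟩ := hbXi.2 y hy
  have h2 : b x * b c = b c * b x := by
    rw [← hbm.map_mul (hXY hx) hcY, ← hbm.map_mul hcY (hXY hx), (mem_cent.1 hc').2 x hx]
  have h3 := (mem_cent.1 hc').2 (b x) (hbX x hx)
  calc b x * (c⁻¹ * b c) = c⁻¹ * (c * b x * c⁻¹) * b c := by group
    _ = c⁻¹ * b x * b c := by rw [← h3]; group
    _ = c⁻¹ * (b x * b c) := by group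
    _ = c⁻¹ * (b c * b x) := by rw [h2]
    _ = c⁻¹ * b c * b x := by group

/-- Two maps on `X ≤ N_T(W)` agreeing on `W` differ by `C_T(W)`. -/
theorem two_maps (hT : F.StronglyClosed T) {b₁ b₂ : Ω → Ω} (hXN : X ≤ normalizerIn T W) (hWX : W ≤ X) (h₁ : Mp F X b₁) (h₂ : Mp F X b₂)
    (he : ∀ x ∈ W, b₁ x = f x) (he' : ∀ x ∈ W, b₂ x = f x) (hi : Img W f W) {x : Ω} (hx : x ∈ X) : (b₁ x)⁻¹ * b₂ x ∈ zz T W := by
  have hXT : X ≤ T := hXN.trans inf_le_left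
  refine mem_zz.2 ⟨T.mul_mem (T.inv_mem (sc_mp hT h₁ hXT hx)) (sc_mp hT h₂ hXT hx), fun y hy => ?_⟩
  obtain ⟨w, hw, rfl⟩ := hi.2 y hy
  have hw' := norm_conj (hXN hx).2 hw
  have h1 := h₁.map_conj hx (hWX hw)
  have h2 := h₂.map_conj hx (hWX hw)
  rw [he _ hw', he w hw] at h1
  rw [he' _ hw', he' w hw] at h2
  exact Cfsg.Agent.Lib.FusionExt.Glue3.comm_of_conj (h2.symm.trans h1)

/-- **`X ≤ N_T(W)` is fully centralized for `W` fully normalized.** -/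
theorem fc_up (hS : IsPGroup p S) (hF : F.IsSaturated p) (hT : F.StronglyClosed T) (hfn : F.IsFullyNormalized W)
    (hWT : W ≤ T) (hcz : zz T W ≤ W) (hWX : W ≤ X) (hXN : X ≤ normalizerIn T W) : F.IsFullyCentralized X := by
  have hTS : T ≤ S := hT.1
  have hXT : X ≤ T := hXN.trans inf_le_left
  have hXS : X ≤ S := hXT.trans hTS
  have hWS : W ≤ S := hfn.1
  refine ⟨hXS, fun Q hQ => ?_⟩
  obtain ⟨φ₀, hφ₀, hr⟩ := id hQ
  have hφ : Mp F X (extOf φ₀) := mp_of_hom hφ₀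
  have hφi : Img X (extOf φ₀) Q := by
    refine ⟨fun x hx => ?_, fun y hy => ?_⟩
    · rw [extOf_of_mem φ₀ hx, ← hr]
      exact ⟨_, rfl⟩
    · rw [← hr] at hy
      obtain ⟨x, rfl⟩ := hy
      exact ⟨x, x.2, extOf_coe φ₀ x⟩
  set φ := extOf φ₀ with hφdef
  haveI : Finite Q := finite_of_le (isConj_right_le F hQ)
  obtain ⟨W₁, hW₁⟩ := (hφ.restrict hWX).exists_img
  have hW₁Q : W₁ ≤ Q := by
    intro y hy
    obtain ⟨w, hw, rfl⟩ := hW₁.2 y hy
    exact hφi.1 w (hWX hw)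
  have hQS : Q ≤ S := isConj_right_le F hQ
  have hW₁S : W₁ ≤ S := hW₁Q.trans hQS
  haveI : Finite W₁ := finite_of_le hW₁S
  have hW₁W : F.IsConj W₁ W := isConj_symm F ((hφ.restrict hWX).isConj hW₁)
  obtain ⟨ρ, hρ, hρN, hρi⟩ := Cfsg.Agent.Lib.FusionExt.Glue1.nm_map hS hF hfn hW₁W
  have hQN : Q ≤ normalizerIn S W₁ := by
    intro y hy
    refine ⟨hQS hy, mem_normalizer_of_conj_le' (fun u hu => ?_)⟩
    obtain ⟨x, hx, rfl⟩ := hφi.2 y hy
    obtain ⟨w, hw, rfl⟩ := hW₁.2 u hu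
    rw [← hφ.map_conj hx (hWX hw)]
    exact hW₁.1 _ (norm_conj (hXN hx).2 hw)
  have hCN : centralizerIn S Q ≤ normalizerIn S W₁ := (cent_anti hW₁Q).trans cent_le_norm
  obtain ⟨X₂, hX₂⟩ := (hρ.restrict hQN).exists_img
  -- `g₀`
  have hg₀ : Mp F X (fun x => ρ (φ x)) := hφ.comp (fun x hx => hQN (hφi.1 x hx)) hρ
  have hg₀i : Img X (fun x => ρ (φ x)) X₂ := hφi.comp hX₂
  have hg₀W : Img W (fun x => ρ (φ x)) W := hW₁.comp hρi
  have hX₂T : X₂ ≤ T := by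
    intro y hy
    obtain ⟨x, hx, rfl⟩ := hg₀i.2 y hy
    exact sc_mp hT hg₀ hXT hx
  have hX₂N : X₂ ≤ normalizerIn T W := by
    intro y hy
    obtain ⟨u, hu, rfl⟩ := hX₂.2 y hy
    exact ⟨hX₂T (hX₂.1 u hu), (hρN u (hQN hu)).2⟩
  have hWX₂ : W ≤ X₂ := by
    intro y hy
    obtain ⟨w, hw, rfl⟩ := hg₀W.2 y hy
    exact hg₀i.1 w (hWX hw)
  -- `C_S(Q)` embeds in `C_S(X₂)`
  haveI : Finite ↥(centralizerIn S X₂) := finite_of_le inf_le_left
  haveI : Finite ↥(centralizerIn S X) := finite_of_le inf_le_left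
  have hc1 : Nat.card (centralizerIn S Q) ≤ Nat.card (centralizerIn S X₂) := by
    refine Nat.card_le_card_of_injective (fun c : centralizerIn S Q => (⟨ρ c, mem_cent.2 ⟨hρ.mem_S (hCN c.2), fun y hy => ?_⟩⟩ :
      centralizerIn S X₂)) ?_
    · obtain ⟨u, hu, rfl⟩ := hX₂.2 y hy
      rw [← hρ.map_mul (hQN hu) (hCN c.2), ← hρ.map_mul (hCN c.2) (hQN hu), (mem_cent.1 c.2).2 u hu]
    · intro a b hab
      have : ρ a = ρ b := congrArg Subtype.val hab
      exact Subtype.ext (hρ.inj (hCN a.2) (hCN b.2) this)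
  -- the extension
  have hrW := isReceptive_of_isFullyNormalized F hS hF hfn
  obtain ⟨ĝ, hĝ, hĝe⟩ := ext_cent hrW (hg₀.restrict hWX) hg₀W
  have hĝW : Img W ĝ W := hg₀W.congr (fun x hx => (hĝe x hx).symm)
  have hTF := hT
  have hiWt := wt_maps hĝ hĝW
  have hex : X ≤ exS S W ĝ := by
    intro x hx
    have hxN : x ∈ normalizerIn S W := ⟨hTS (hXN hx).1, (hXN hx).2⟩
    have hx' : ρ (φ x) ∈ normalizerIn T W := hX₂N (hg₀i.1 x hx)
    have hx'N : ρ (φ x) ∈ normalizerIn S W := ⟨hTS hx'.1, hx'.2⟩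
    have hrel' : ∀ w ∈ W, ĝ (x * w * x⁻¹) = ρ (φ x) * ĝ w * (ρ (φ x))⁻¹ := by
      intro w hw
      rw [hĝe _ (norm_conj (hXN hx).2 hw), hĝe w hw]
      exact hg₀.map_conj hx (hWX hw)
    have hst := hst_of_conj hĝ hĝW hWT hcz (conj_stable (G := F) hT (hXN hx)) (conj_stable (G := F) hT hx')
    obtain ⟨c₀, hc₀, hc₀e⟩ := ext_step hS hF hT hfn hWT hcz hĝ hĝW hxN hx'N hrel' hst
    exact ⟨hxN, c₀ * ρ (φ x), Subgroup.mul_mem _ (cent_le_norm hc₀) hx'N, hc₀e⟩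
  obtain ⟨ĥ, hĥ, hĥe, hĥN⟩ := ext_over (Y := X ⊔ (W ⊔ centralizerIn S W)) hS hF hfn hĝ hĝW le_sup_right
    (sup_le hex (wt_le_exS hWS hĝ hĝW))
  set Yy : Subgroup Ω := X ⊔ (W ⊔ centralizerIn S W) with hYy
  have hWle : W ≤ W ⊔ centralizerIn S W := le_sup_left
  have hWtY : W ⊔ centralizerIn S W ≤ Yy := le_sup_right
  have hXY : X ≤ Yy := le_sup_left
  have hĥW : ∀ x ∈ W, ĥ x = ρ (φ x) := fun x hx => by rw [hĥe x (hWle hx), hĝe x hx]
  have hĥX : ∀ x ∈ X, ĥ x ∈ X₂ := by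
    intro x hx
    have hzz := two_maps hT hXN hWX hg₀ (hĥ.restrict hXY) (fun _ _ => rfl) hĥW hg₀W hx
    have e1 : ĥ x = ρ (φ x) * ((ρ (φ x))⁻¹ * ĥ x) := by group
    rw [e1]
    exact X₂.mul_mem (hg₀i.1 x hx) (hWX₂ (hcz hzz))
  -- `C_S(X₂)` embeds in `C_S(X)`
  obtain ⟨k, hk, hk1, hk2, hk3⟩ := hĝ.inverse hiWt
  have hc2 : Nat.card (centralizerIn S X₂) ≤ Nat.card (centralizerIn S X) := by
    have hC₂W : ∀ c ∈ centralizerIn S X₂, c ∈ W ⊔ centralizerIn S W := fun c hc =>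
      Subgroup.mem_sup_right (cent_anti hWX₂ hc)
    have hmem : ∀ c ∈ centralizerIn S X₂, k c ∈ centralizerIn S X := by
      intro c hc
      have hkc := hk3.1 c (hC₂W c hc)
      refine mem_cent.2 ⟨hk.mem_S (hC₂W c hc), fun x hx => ?_⟩
      have hkY := hWtY hkc
      apply hĥ.inj (Yy.mul_mem (hXY hx) hkY) (Yy.mul_mem hkY (hXY hx))
      rw [hĥ.map_mul (hXY hx) hkY, hĥ.map_mul hkY (hXY hx), hĥe _ hkc, hk2 c (hC₂W c hc)]
      exact (mem_cent.1 hc).2 _ (hĥX x hx)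
    refine Nat.card_le_card_of_injective (fun c : centralizerIn S X₂ => (⟨k c, hmem c c.2⟩ : centralizerIn S X)) ?_
    intro a b hab
    have e : k a = k b := congrArg Subtype.val hab
    have h1 := hk2 a (hC₂W a a.2)
    have h2 := hk2 b (hC₂W b b.2)
    rw [e, h2] at h1
    exact Subtype.ext h1.symm
  exact hc1.trans hc2

/-- **Transport of the stable extension property between fully centralized subgroups.** -/
theorem st_tr (L : Lvl F G T p) (hWfc : F.IsFullyCentralized W) (hW'fc : F.IsFullyCentralized W') (hWT : W ≤ T) (hcz : zz T W ≤ W)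
    (hκ : Mp F W κ) (hi : Img W κ W') (hpi : PiA G T W f) (hfW : ∀ x ∈ W, f x ∈ W) (hfe : ∀ x ∈ W, f' (κ x) = κ (f x)) :
    PiA G T W' f' := by
  obtain ⟨g, hg, he, hc⟩ := hpi
  have hr' : F.IsReceptive W' := isReceptive_of_isFullyCentralized F L.hS L.hF hW'fc
  obtain ⟨κh, hκh, hκhe⟩ := ext_cent hr' hκ hi
  have hWS : W ≤ S := hWfc.1
  have hiκ : Img W κh W' := hi.congr (fun x hx => (hκhe x hx).symm)
  have hRS : R ≤ S := L.le
  have hWR : W ≤ R := hWT.trans L.hTR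
  have hW'T : W' ≤ T := by
    intro y hy
    obtain ⟨x, hx, rfl⟩ := hi.2 y hy
    exact sc_mp L.scT hκ hWT hx
  have hW'R : W' ≤ R := hW'T.trans L.hTR
  have hCR : centralizerIn R W ≤ centralizerIn S W := fun c hc => mem_cent.2 ⟨hRS (mem_cent.1 hc).1, (mem_cent.1 hc).2⟩
  have hle : W ⊔ centralizerIn R W ≤ W ⊔ centralizerIn S W := sup_le_sup_left hCR _
  have hCmem : ∀ c ∈ centralizerIn S W, κh c ∈ centralizerIn S W' := fun c hc => map_cent hκh hiκ.2 hc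
  have hCleS : centralizerIn S W ≤ W ⊔ centralizerIn S W := le_sup_right
  have hCRmem : ∀ c ∈ centralizerIn R W, κh c ∈ centralizerIn R W' := by
    intro c hc
    have h1 := hCmem c (hCR hc)
    exact mem_cent.2 ⟨sc_mp L.scR (hκh.restrict ((hCR.trans hCleS))) inf_le_left hc, (mem_cent.1 h1).2⟩
  -- surjectivity on centralizers
  haveI : Finite ↥(centralizerIn S W') := finite_of_le inf_le_left
  haveI : Finite ↥(centralizerIn S W) := finite_of_le inf_le_left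
  have hconj : F.IsConj W W' := hκ.isConj hi
  have hcard : Nat.card (centralizerIn S W') ≤ Nat.card (centralizerIn S W) := hWfc.2 W' hconj
  have hsurj : ∀ c' ∈ centralizerIn S W', ∃ c ∈ centralizerIn S W, κh c = c' := by
    let m : centralizerIn S W → centralizerIn S W' := fun c => ⟨κh c, hCmem c c.2⟩
    have hinj : Function.Injective m := by
      intro a b hab
      have e : κh a = κh b := congrArg Subtype.val hab
      exact Subtype.ext (hκh.inj (hCleS a.2) (hCleS b.2) e)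
    have hbij := (Nat.bijective_iff_injective_and_card m).2 ⟨hinj, le_antisymm (Nat.card_le_card_of_injective m hinj) hcard⟩
    intro c' hc'
    obtain ⟨c, hc⟩ := hbij.2 ⟨c', hc'⟩
    exact ⟨c, c.2, congrArg Subtype.val hc⟩
  obtain ⟨H, hH⟩ := hκh.exists_img
  obtain ⟨k, hk, hk1, hk2, hk3⟩ := hκh.inverse hH
  have hsurjR : ∀ c' ∈ centralizerIn R W', ∃ c ∈ centralizerIn R W, κh c = c' := by
    intro c' hc'
    have hc'S : c' ∈ centralizerIn S W' := mem_cent.2 ⟨hRS (mem_cent.1 hc').1, (mem_cent.1 hc').2⟩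
    obtain ⟨c, hc, e⟩ := hsurj c' hc'S
    have hc'H : c' ∈ H := by
      rw [← e]
      exact hH.1 c (hCleS hc)
    have h1 : k c' ∈ R := sc_mp L.scR (hk.restrict (inf_le_left : H ⊓ R ≤ H)) inf_le_right ⟨hc'H, (mem_cent.1 hc').1⟩
    rw [← e, hk1 c (hCleS hc)] at h1
    exact ⟨c, mem_cent.2 ⟨h1, (mem_cent.1 hc).2⟩, e⟩
  have hWtImg : Img (W ⊔ centralizerIn R W) κh (W' ⊔ centralizerIn R W') := by
    refine ⟨maps_sup (hκh.restrict hle) (fun a ha => Subgroup.mem_sup_left (hiκ.1 a ha))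
      (fun c hc => Subgroup.mem_sup_right (hCRmem c hc)), fun y hy => ?_⟩
    obtain ⟨c', hc', w', hw', rfl⟩ := exists_mul_of_mem_rr hy
    obtain ⟨c, hc, rfl⟩ := hsurjR c' hc'
    obtain ⟨w, hw, rfl⟩ := hiκ.2 w' hw'
    refine ⟨c * w, Subgroup.mul_mem _ (Subgroup.mem_sup_right hc) (Subgroup.mem_sup_left hw), ?_⟩
    exact hκh.map_mul (hCleS (hCR hc)) (Subgroup.mem_sup_left hw)
  have hgm : ∀ x ∈ W ⊔ centralizerIn R W, g x ∈ W ⊔ centralizerIn R W :=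
    pi_maps hcz hg (fun x hx => by rw [he x hx]; exact hfW x hx) hc
  have hWtR : W ⊔ centralizerIn R W ≤ R := hg.le
  obtain ⟨g', hg', e⟩ := L.tw hWtR hg hgm (hκh.restrict hle) hWtImg
  refine ⟨g', hg', fun y hy => ?_, fun c' hc' => ?_⟩
  · obtain ⟨x, hx, rfl⟩ := hiκ.2 y hy
    have hx' : x ∈ W ⊔ centralizerIn R W := Subgroup.mem_sup_left hx
    rw [e x hx', he x hx, hκhe _ (hfW x hx), hκhe x hx, hfe x hx]
  · obtain ⟨c, hc₁, rfl⟩ := hsurjR c' hc'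
    have hcW : c ∈ W ⊔ centralizerIn R W := Subgroup.mem_sup_right hc₁
    have hz := hc c hc₁
    have hzW := hcz hz
    rw [e c hcW]
    have e1 : g c = c * (c⁻¹ * g c) := by group
    rw [e1, hκh.map_mul (hCleS (hCR hc₁)) (Subgroup.mem_sup_left hzW), inv_mul_cancel_left]
    exact zz_img' hκh hiκ hWT hW'T L.scT hz hzW

end main

end Cfsg.Agent.Lib.FusionExt.Meet2
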