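import Cfsg.Agent.Lib.FusionExt.Meet3
import Cfsg.Agent.Lib.FusionExt.HyperfocalGroup

/-!
# Meets of normal subsystems: the Sylow subgroup of the candidate automizer (helper92)
-/

set_option autoImplicit false
set_option linter.unusedSectionVars false

namespace Cfsg.Agent.Lib.FusionExt.Meet4

open Cfsg Cfsg.FusionSystem Cfsg.Agent.Lib.Fusion.Basic Cfsg.Agent.Lib.Fusion.GroupSystem
open Cfsg.Agent.Lib.FusionExt.MapApi Cfsg.Agent.Lib.FusionExt.PowerSys Cfsg.Agent.Lib.FusionExt.LowPi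
open Cfsg.Agent.Lib.FusionExt.PrimeRes1 Cfsg.Agent.Lib.Fusion.Saturation Cfsg.Agent.Lib.Fusion.Saturation2
open Cfsg.Agent.Lib.FusionExt.Basic Cfsg.Agent.Lib.FusionExt.Normal Cfsg.Agent.Lib.FusionExt.PowerGen
open Cfsg.Agent.Lib.Fusion.KSystem Cfsg.Agent.Lib.FusionExt.Invariant
open Cfsg.Agent.Lib.FusionExt.PowerE Cfsg.Agent.Lib.FusionExt.Meet1 Cfsg.Agent.Lib.FusionExt.Meet2
open Cfsg.Agent.Lib.FusionExt.Glue1 Cfsg.Agent.Lib.FusionExt.Meet3 Cfsg.Agent.Lib.FusionExt.CentE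
open Cfsg.Agent.Lib.Core.Residual

universe u

section group

variable {A : Type*} [Group A] [Finite A] {p : ℕ} [Fact p.Prime] {Γ Ψ P : Subgroup A}

theorem sylow_subgroupOf {A' B D : Subgroup A} (h : IsSylowIn p A' B) (hAB : A' ≤ B) (hBD : B ≤ D) :
    IsSylowIn p (A'.subgroupOf D) (B.subgroupOf D) := by
  have hle : A'.subgroupOf D ≤ B.subgroupOf D := fun x hx => hAB hx
  rw [isSylowIn_iff_maximal hle]
  obtain ⟨h1, h2⟩ := (isSylowIn_iff_maximal hAB).1 h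
  refine ⟨isPGroup_subgroupOf D h1, fun C hCB hC hAC => ?_⟩
  have e := h2 (C.map D.subtype) ?_ (hC.map _) ?_
  · apply le_antisymm _ hAC
    intro x hx
    have h3 : (x : A) ∈ C.map D.subtype := ⟨x, hx, rfl⟩
    rw [e] at h3
    exact h3
  · rintro _ ⟨x, hx, rfl⟩
    exact hCB hx
  · intro x hx
    exact ⟨⟨x, hBD (hAB hx)⟩, hAC hx, rfl⟩

/-- The focal bound. -/
theorem focal_le (hΨ : IsSylowIn p Ψ Γ) (hPΓ : P ≤ Γ)
    (hfoc : ∀ g ∈ Γ, ∀ x ∈ Ψ, g * x * g⁻¹ ∈ Ψ → x⁻¹ * (g * x * g⁻¹) ∈ P) :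
    Ψ ⊓ (pResidual p Γ).map Γ.subtype ≤ P := by
  obtain ⟨R, hR⟩ := hΨ
  rintro y ⟨hyΨ, y₀, hy₀, rfl⟩
  have hmem : y₀ ∈ (groupFusionSystem (R : Subgroup Γ)).hyperfocalSubgroup p := by
    rw [Cfsg.Agent.Lib.FusionExt.HyperfocalGroup.hyperfocal_eq R]
    refine ⟨?_, hy₀⟩
    rw [hR]
    exact hyΨ
  have hle : (groupFusionSystem (R : Subgroup Γ)).hyperfocalSubgroup p ≤ P.subgroupOf Γ := by
    apply (Subgroup.closure_le _).2
    rintro _ ⟨Q, α, x, hQ, hα, rfl⟩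
    obtain ⟨h, hh, hv⟩ := Cfsg.Agent.Lib.FusionExt.HyperfocalGroup.exists_residual_of_mem R hQ α hα
    have hsub : ∀ y : Γ, y ∈ (R : Subgroup Γ) → (y : A) ∈ Ψ := fun y hy => by
      rw [hR] at hy
      exact hy
    have hxR : ((x : Γ) : A) ∈ Ψ := hsub _ (hQ x.2)
    have hαR : ((((α : MulAut Q) x : Q) : Γ) : A) ∈ Ψ := hsub _ (hQ ((α : MulAut Q) x).2)
    have e : (((α : MulAut Q) x : Q) : Γ) = h * (x : Γ) * h⁻¹ := hv x
    rw [e] at hαR
    have := hfoc (h : Γ).1 (h : Γ).2 ((x : Γ) : A) hxR hαR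
    show (((x : Γ)⁻¹ * (((α : MulAut Q) x : Q) : Γ) : Γ) : A) ∈ P
    rw [e]
    exact this
  exact hle hmem

theorem res_le : (pResidual p Γ).map Γ.subtype ≤ Γ := by
  rintro _ ⟨x, -, rfl⟩
  exact x.2

theorem res_normal {b d : A} (hb : b ∈ Γ) (hd : d ∈ (pResidual p Γ).map Γ.subtype) :
    b * d * b⁻¹ ∈ (pResidual p Γ).map Γ.subtype := by
  obtain ⟨d₀, hd₀, rfl⟩ := hd
  exact ⟨(⟨b, hb⟩ : Γ) * d₀ * (⟨b, hb⟩ : Γ)⁻¹, (pResidual_normal (p := p) (G := Γ)).conj_mem d₀ hd₀ ⟨b, hb⟩, rfl⟩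

theorem mem_res_of_pow {a : A} (ha : a ∈ Γ) {q : ℕ} (hq : q.Coprime p) (he : a ^ q = 1) :
    a ∈ (pResidual p Γ).map Γ.subtype := by
  refine ⟨⟨a, ha⟩, mem_pResidual_of_coprime ?_, rfl⟩
  have h1 : orderOf (⟨a, ha⟩ : Γ) = orderOf a := Subgroup.orderOf_mk a ha
  rw [h1]
  exact Nat.Coprime.coprime_dvd_left (orderOf_dvd_of_pow_eq_one he) hq

/-- **`P` is Sylow in `P O^p(Γ)`.** -/
theorem focal_syl (hΨ : IsSylowIn p Ψ Γ) (hΨΓ : Ψ ≤ Γ) (hPΨ : P ≤ Ψ)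
    (hfoc : ∀ g ∈ Γ, ∀ x ∈ Ψ, g * x * g⁻¹ ∈ Ψ → x⁻¹ * (g * x * g⁻¹) ∈ P) :
    IsSylowIn p P (P ⊔ (pResidual p Γ).map Γ.subtype) := by
  set O := (pResidual p Γ).map Γ.subtype with hO
  have hPΓ := hPΨ.trans hΨΓ
  have hOΓ : O ≤ Γ := res_le
  have hle := focal_le hΨ hPΓ hfoc
  rw [← hO] at hle
  have hΨO : IsSylowIn p (Ψ ⊓ O) O := hΨ.inf_normal hΨΓ hOΓ (fun b hb d hd => res_normal hb hd)
  have hmax := ((isSylowIn_iff_maximal inf_le_right).1 hΨO).2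
  have hΨp : IsPGroup p Ψ := hΨ.isPGroup hΨΓ
  rw [isSylowIn_iff_maximal le_sup_left]
  refine ⟨hΨp.to_le hPΨ, fun C hCle hC hPC => ?_⟩
  have hCO : C ⊓ O = Ψ ⊓ O := hmax (C ⊓ O) inf_le_right hC.to_inf_left (fun x hx => ⟨hPC (hle hx), hx.2⟩)
  have hn : P ≤ Subgroup.normalizer (O : Set A) := by
    intro π hπ
    rw [Subgroup.mem_normalizer_iff]
    intro x
    refine ⟨fun hx => res_normal (hPΓ hπ) hx, fun hx => ?_⟩
    have := res_normal (p := p) (Γ := Γ) (Γ.inv_mem (hPΓ hπ)) hx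
    have e : π⁻¹ * (π * x * π⁻¹) * π⁻¹⁻¹ = x := by group
    rwa [e] at this
  apply le_antisymm _ hPC
  intro x hx
  obtain ⟨π, hπ, o, ho, rfl⟩ := Cfsg.Agent.Lib.FusionExt.Normal.exists_mul_of_mem_sup' hn (hCle hx)
  have hoC : o ∈ C := by
    have := C.mul_mem (C.inv_mem (hPC hπ)) hx
    rwa [inv_mul_cancel_left] at this
  have hoP : o ∈ P := by
    have h1 : o ∈ C ⊓ O := ⟨hoC, ho⟩
    rw [hCO] at h1
    exact hle h1
  exact P.mul_mem hπ hoP

/-- `Γ = Ψ O^p(Γ)`. -/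
theorem sup_res (hΨ : IsSylowIn p Ψ Γ) (hΨΓ : Ψ ≤ Γ) : Ψ ⊔ (pResidual p Γ).map Γ.subtype = Γ :=
  eq_of_sylow_pprime hΨ le_sup_left (sup_le hΨΓ res_le) (fun a ha ⟨_, hq, he⟩ =>
    Subgroup.mem_sup_right (mem_res_of_pow ha hq he))

end group

section main

theorem conj_inv_eq {G : Type*} [Group G] {z A s : G} (h : z = s * A * s⁻¹) : s⁻¹ * z * s = A := by
  rw [h]
  group

variable {Ω : Type u} [Group Ω] {S T T₁ T₂ : Subgroup Ω} {F : FusionSystem S} {E₁ : FusionSystem T₁} {E₂ : FusionSystem T₂} {p : ℕ}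
variable {W W' X Y U U' P Q : Subgroup Ω} {f f' g h k κ φ ψ χ : Ω → Ω}
variable [Finite S] [Fact p.Prime]

/-- **A Sylow subgroup of `Γ(W)` consisting of stable conjugations.** -/
theorem exists_Psi (C : Ctx F E₁ E₂ T p) (hfn : F.IsFullyNormalized W) (hWT : W ≤ T) (hcz : zz T W ≤ W) {Γ : Subgroup (MulAut W)}
    (hΓ : ∀ α, α ∈ Γ ↔ Gd F E₁ E₂ T W (autFun α)) :
    ∃ Ψ : Subgroup (MulAut W), Ψ ≤ Γ ∧ IsSylowIn p Ψ Γ ∧ autInducedBy T W ≤ Ψ ∧ ∀ π ∈ Ψ, ∃ s ∈ normalizerIn S W,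
      (∀ x ∈ W, autFun π x = s * x * s⁻¹) ∧ ∀ c ∈ centralizerIn S W, c⁻¹ * (s * c * s⁻¹) ∈ zz T W := by
  have hS := C.hS
  have hF := C.hF
  have hT := C.scT
  have hTS := C.TS
  have hWS : W ≤ S := hfn.1
  have hNS : normalizerIn S W ≤ S := normalizerIn_le_left S W
  haveI : Finite (normalizerIn S W) := finite_of_le hNS
  let F' : FusionSystem (normalizerIn S W) := normalizerSystem F W hWS
  have hF' : F'.IsSaturated p := isSaturated_normalizerSystem hS F hF hfn F' (fun _ => rfl)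
  have hNp : IsPGroup p (normalizerIn S W) := hS.to_le hNS
  have hWtN := wt_le_norm (R := S) hWS
  have hFA : F'.IsFullyAutomized p (W ⊔ centralizerIn S W) :=
    isFullyAutomized_of_isFullyNormalized (F := F') hNp hF' (wt_fn hWS)
  have hsyl : IsSylowIn p (autInducedBy (normalizerIn S W) (W ⊔ centralizerIn S W)) (F'.autGroup (W ⊔ centralizerIn S W)) := hFA.2
  haveI : Finite ↥(W ⊔ centralizerIn S W) := finite_of_le (hWtN.trans hNS)
  haveI : Finite (MulAut ↥(W ⊔ centralizerIn S W)) :=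
    Cfsg.Agent.Lib.Fusion.Basic.finite_mulAut_of_finite (A := ↥(W ⊔ centralizerIn S W))
  haveI : Finite W := finite_of_le hWS
  haveI : Finite (MulAut W) := Cfsg.Agent.Lib.Fusion.Basic.finite_mulAut_of_finite (A := W)
  have hWle : W ≤ W ⊔ centralizerIn S W := le_sup_left
  have hCle : centralizerIn S W ≤ W ⊔ centralizerIn S W := le_sup_right
  have hWfc : F.IsFullyCentralized W := isFullyCentralized_of_isFullyNormalized F hS hF hfn
  have hfact : ∀ b ∈ F'.autGroup (W ⊔ centralizerIn S W), Img W (autFun b) W ∧ Mp F (W ⊔ centralizerIn S W) (autFun b) := by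
    intro b hb
    have h1 : Mp F' (W ⊔ centralizerIn S W) (autFun b) := mp_autFun hWtN hb
    exact ⟨norm_img hWS h1 hWle, mp_of_norm hWS h1⟩
  have hstZ : ∀ b ∈ F'.autGroup (W ⊔ centralizerIn S W), ∀ z ∈ zz T W, autFun b z ∈ zz T W :=
    fun b hb z hz => zz_img (hfact b hb).2 hWle (hfact b hb).1 hWT hz (hcz hz)
  let Gh : Subgroup (MulAut ↥(W ⊔ centralizerIn S W)) := finSub
    { carrier := {a | a ∈ F'.autGroup (W ⊔ centralizerIn S W) ∧ Gd F E₁ E₂ T W (autFun a) ∧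
        ∀ c ∈ centralizerIn S W, c⁻¹ * autFun a c ∈ zz T W}
      one_mem' := by
        refine ⟨Subgroup.one_mem _, (gd_inner C hWT (t := 1) (Subgroup.one_mem _)).congr (fun x _ => by
          rw [autFun_one_apply]
          group), fun c _ => ?_⟩
        rw [autFun_one_apply, inv_mul_cancel]
        exact Subgroup.one_mem _
      mul_mem' := by
        rintro a b ⟨ha, ha2, ha3⟩ ⟨hb, hb2, hb3⟩
        refine ⟨Subgroup.mul_mem _ ha hb, (gd_comp C hWT hcz ha2 hb2).congr (fun x _ => (autFun_mul_apply a b x).symm), fun c hc => ?_⟩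
        have hz := hb3 c hc
        have e : autFun b c = c * (c⁻¹ * autFun b c) := by group
        rw [autFun_mul_apply, e, autFun_mul a (hCle hc) (hWle (hcz hz)), ← mul_assoc]
        exact Subgroup.mul_mem _ (ha3 c hc) (hstZ a ha _ hz) }
  have hGh : ∀ {a}, a ∈ Gh ↔ a ∈ F'.autGroup (W ⊔ centralizerIn S W) ∧ Gd F E₁ E₂ T W (autFun a) ∧
        ∀ c ∈ centralizerIn S W, c⁻¹ * autFun a c ∈ zz T W := Iff.rfl
  have hGhle : Gh ≤ F'.autGroup (W ⊔ centralizerIn S W) := fun a ha => ha.1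
  have hGhn : ∀ b ∈ F'.autGroup (W ⊔ centralizerIn S W), ∀ a ∈ Gh, b * a * b⁻¹ ∈ Gh := by
    intro b hb a ha
    obtain ⟨ha1, ha2, ha3⟩ := ha
    have hbi := Subgroup.inv_mem _ hb
    refine ⟨Subgroup.mul_mem _ (Subgroup.mul_mem _ hb ha1) hbi, ?_, fun c hc => ?_⟩
    · exact gd_tr C hWfc hWfc hWT hcz ((hfact b hb).2.restrict hWle) (hfact b hb).1 ha2 (fun x hx => by
        exact Cfsg.Agent.Lib.FusionExt.Glue1.conj_fun b a x)
    · have hc' : autFun b⁻¹ c ∈ centralizerIn S W := map_cent (hfact _ hbi).2 (hfact _ hbi).1.2 hc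
      have hz := ha3 _ hc'
      have e : autFun a (autFun b⁻¹ c) = autFun b⁻¹ c * ((autFun b⁻¹ c)⁻¹ * autFun a (autFun b⁻¹ c)) := by group
      rw [autFun_mul_apply, autFun_mul_apply, e, autFun_mul b (hCle hc') (hWle (hcz hz)), autFun_apply_inv, inv_mul_cancel_left]
      exact hstZ b hb _ hz
  have hsy2 := hsyl.inf_normal (autInducedBy_le_autGroup F' hWtN) hGhle hGhn
  have hstab : ∀ {a : MulAut ↥(W ⊔ centralizerIn S W)}, Img W (autFun a) W → a ∈ stabSub (W ⊔ centralizerIn S W) W := by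
    intro a ha x
    constructor
    · intro h1
      obtain ⟨u, hu, e⟩ := ha.2 _ h1
      have e' : autFun a u = autFun a (x : Ω) := by rw [e, autFun_coe]
      rw [← autFun_inj a e']
      exact hu
    · intro h1
      rw [← autFun_coe]
      exact ha.1 _ h1
  have hGhD : Gh ≤ stabSub (W ⊔ centralizerIn S W) W := fun a ha => hstab ha.2.1.1
  have hsy3 := sylow_subgroupOf hsy2 inf_le_right hGhD
  have hle3 : (autInducedBy (normalizerIn S W) (W ⊔ centralizerIn S W) ⊓ Gh).subgroupOf (stabSub (W ⊔ centralizerIn S W) W) ≤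
      Gh.subgroupOf (stabSub (W ⊔ centralizerIn S W) W) := fun x hx => hx.2
  have hsy4 := image_sylow (stabRes hWle) hsy3 hle3
  have hρf : ∀ (a : stabSub (W ⊔ centralizerIn S W) W), ∀ x ∈ W, autFun (stabRes hWle a) x = autFun a.1 x := by
    intro a x hx
    rw [autFun_of_mem _ hx, autFun_of_mem _ (hWle hx), stabRes_apply]
  have hB : (Gh.subgroupOf (stabSub (W ⊔ centralizerIn S W) W)).map (stabRes hWle) = Γ := by
    apply le_antisymm
    · rintro _ ⟨a, ha, rfl⟩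
      have ha' : a.1 ∈ Gh := ha
      exact (hΓ _).2 (ha'.2.1.congr (fun x hx => (hρf a x hx).symm))
    · intro α hα
      have hα' := (hΓ α).1 hα
      obtain ⟨g, hg, he, hc⟩ := hα'.2.1
      have hiW : Img W g W := hα'.1.congr (fun x hx => (he x hx).symm)
      have hiWt := wt_maps hg hiW
      have hg' : Mp F' (W ⊔ centralizerIn S W) g := mp_norm hWS hg hWle hWtN (fun x hx => hWtN (hiWt.1 x hx)) hiW
      obtain ⟨a, ha, hae⟩ := hg'.toAut hiWt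
      have haf : ∀ x ∈ W ⊔ centralizerIn S W, autFun a x = g x := fun x hx => by
        rw [autFun_of_mem a hx]
        exact hae ⟨x, hx⟩
      have haW : ∀ x ∈ W, autFun a x = autFun α x := fun x hx => by rw [haf x (hWle hx), he x hx]
      have haG : a ∈ Gh := ⟨ha, hα'.congr (fun x hx => (haW x hx).symm), fun c hc' => by
        rw [haf c (hCle hc')]
        exact hc c hc'⟩
      refine ⟨⟨a, hGhD haG⟩, haG, eq_of_autFun (fun x hx => ?_)⟩
      rw [hρf _ x hx]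
      exact haW x hx
  rw [hB] at hsy4
  refine ⟨_, ?_, hsy4, ?_, ?_⟩
  · rintro _ ⟨a, ha, rfl⟩
    rw [← hB]
    exact ⟨a, ha.2, rfl⟩
  · intro c hc
    obtain ⟨t, ht, hte⟩ := inT_iff.1 hc
    have htN : t ∈ normalizerIn S W := ⟨hTS ht.1, ht.2⟩
    have htW : t ∈ Subgroup.normalizer ((W ⊔ centralizerIn S W : Subgroup Ω) : Set Ω) := norm_le_norm_wt htN
    have ha1 := normAct_mem_autInducedBy (normalizerIn S W) (W ⊔ centralizerIn S W) htW htN
    have hafun : ∀ x ∈ W ⊔ centralizerIn S W, autFun (normAct (W ⊔ centralizerIn S W) htW) x = t * x * t⁻¹ :=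
      fun x hx => normAct_fun htW hx
    have haG : normAct (W ⊔ centralizerIn S W) htW ∈ Gh := by
      refine ⟨autInducedBy_le_autGroup F' hWtN ha1, ?_, fun e he => ?_⟩
      · exact (gd_inner C hWT ht).congr (fun x hx => (hafun x (hWle hx)).symm)
      · rw [hafun e (hCle he)]
        exact conj_stable (G := F) hT ht e he
    refine ⟨⟨_, hGhD haG⟩, ⟨ha1, haG⟩, eq_of_autFun (fun x hx => ?_)⟩
    rw [hρf _ x hx, hafun x (hWle hx), hte x hx]
  · rintro _ ⟨a, ⟨ha1, ha2⟩, rfl⟩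
    obtain ⟨s, hs, hse⟩ := (mem_autInducedBy_iff _ _ _).1 ha1
    have hse' : ∀ x ∈ W ⊔ centralizerIn S W, autFun a.1 x = s * x * s⁻¹ := fun x hx => by
      rw [autFun_of_mem a.1 hx]
      exact hse ⟨x, hx⟩
    refine ⟨s, hs, fun x hx => ?_, fun c hc => ?_⟩
    · rw [hρf a x hx, hse' x (hWle hx)]
    · rw [← hse' c (hCle hc)]
      exact ha2.2.2 c hc

/-- `Aut_G(W) ∩ Aut_S(W) = Aut_R(W)`. -/
theorem inter_aut {R : Subgroup Ω} {G : FusionSystem R} (L : Lvl F G T p) (hfn : F.IsFullyNormalized W) (hWT : W ≤ T) {a : MulAut W}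
    (ha : a ∈ G.autGroup W) (ha2 : a ∈ autInducedBy S W) : a ∈ autInducedBy R W := by
  haveI : Finite R := L.finite
  have hWR : W ≤ R := hWT.trans L.hTR
  haveI : Finite W := finite_of_le hWR
  haveI : Finite (MulAut W) := Cfsg.Agent.Lib.Fusion.Basic.finite_mulAut_of_finite (A := W)
  have hFA : G.IsFullyAutomized p W := isFullyAutomized_of_isFullyNormalized (F := G) L.hR L.hG (L.fn hfn hWT)
  have hsyl : IsSylowIn p (autInducedBy R W) (G.autGroup W) := hFA.2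
  have hmax := ((isSylowIn_iff_maximal (autInducedBy_le_autGroup G hWR)).1 hsyl).2
  have e := hmax (autInducedBy S W ⊓ G.autGroup W) inf_le_right (isPGroup_autInducedBy W L.hS).to_inf_left
    (fun x hx => ⟨autInducedBy_mono W L.le hx, autInducedBy_le_autGroup G hWR hx⟩)
  rw [← e]
  exact ⟨ha2, ha⟩

/-- The commutator lies in a strongly closed subgroup. -/
theorem trick_i {T' Yy : Subgroup Ω} {ĥ : Ω → Ω} (hT' : F.StronglyClosed T') (hWT' : W ≤ T') (hcz : zz T W ≤ W) (hĥ : Mp F Yy ĥ)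
    (hCY : centralizerIn S W ≤ Yy) (hst : ∀ c ∈ centralizerIn S W, c⁻¹ * ĥ c ∈ zz T W) {s t : Ω} (hs : s ∈ Yy) (ht : t ∈ T')
    (hc : t⁻¹ * s ∈ centralizerIn S W) : ĥ s * s⁻¹ ∈ T' := by
  set c := t⁻¹ * s with hcd
  have hs' : s = t * c := by rw [hcd]; group
  have htY : t ∈ Yy := by
    have e : t = s * c⁻¹ := by rw [hcd]; group
    rw [e]
    exact Yy.mul_mem hs (Yy.inv_mem (hCY hc))
  have hz := hst c hc
  have hzW := hcz hz
  have hĥt : ĥ t ∈ T' := sc_mp hT' (hĥ.restrict (inf_le_left : Yy ⊓ T' ≤ Yy)) inf_le_right ⟨htY, ht⟩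
  have e1 : ĥ s = ĥ t * ĥ c := by
    rw [hs']
    exact hĥ.map_mul htY (hCY hc)
  have e2 : c * (c⁻¹ * ĥ c) * c⁻¹ = c⁻¹ * ĥ c := by
    have := (mem_cent.1 hc).2 _ hzW
    rw [← this]
    group
  have e3 : ĥ s * s⁻¹ = ĥ t * (c * (c⁻¹ * ĥ c) * c⁻¹) * t⁻¹ := by
    rw [e1, hs']
    group
  rw [e3, e2]
  exact T'.mul_mem (T'.mul_mem hĥt (hWT' hzW)) (T'.inv_mem ht)

/-- **The key computation.** -/
theorem trick (C : Ctx F E₁ E₂ T p) (hfn : F.IsFullyNormalized W) (hWT : W ≤ T) (hcz : zz T W ≤ W) (hg : PiA F T W g) (hi : Img W g W)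
    {s s' : Ω} (hs : s ∈ normalizerIn S W) (hs' : s' ∈ normalizerIn S W) (hst : ∀ c ∈ centralizerIn S W, c⁻¹ * (s * c * s⁻¹) ∈ zz T W)
    (hst' : ∀ c ∈ centralizerIn S W, c⁻¹ * (s' * c * s'⁻¹) ∈ zz T W) (hrel : ∀ w ∈ W, g (s * w * s⁻¹) = s' * g w * s'⁻¹)
    {t₁ t₂ : Ω} (ht₁ : t₁ ∈ T₁) (hc₁ : t₁⁻¹ * s ∈ centralizerIn S W) (ht₂ : t₂ ∈ T₂) (hc₂ : t₂⁻¹ * s ∈ centralizerIn S W) :
    ∃ u ∈ normalizerIn T W, ∀ w ∈ W, u * w * u⁻¹ = s⁻¹ * (s' * w * s'⁻¹) * s := by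
  have hS := C.hS
  have hF := C.hF
  have hT := C.scT
  have hTS := C.TS
  have hWS : W ≤ S := hfn.1
  obtain ⟨ĝ, hĝ, hĝe, hĝc⟩ := hg
  have hĝW : Img W ĝ W := hi.congr (fun x hx => (hĝe x hx).symm)
  have hrel' : ∀ w ∈ W, ĝ (s * w * s⁻¹) = s' * ĝ w * s'⁻¹ := by
    intro w hw
    rw [hĝe _ (norm_conj hs.2 hw), hĝe w hw]
    exact hrel w hw
  have hstt := hst_of_conj hĝ hĝW hWT hcz hst hst'
  obtain ⟨c₀, hc₀, hc₀e⟩ := ext_step hS hF hT hfn hWT hcz hĝ hĝW hs hs' hrel' hstt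
  have hsex : s ∈ exS S W ĝ := ⟨hs, c₀ * s', Subgroup.mul_mem _ (cent_le_norm hc₀) hs', hc₀e⟩
  obtain ⟨ĥ, hĥ, hĥe, hĥN⟩ := ext_over (Y := Subgroup.zpowers s ⊔ (W ⊔ centralizerIn S W)) hS hF hfn hĝ hĝW le_sup_right
    (sup_le (Subgroup.zpowers_le.2 hsex) (wt_le_exS hWS hĝ hĝW))
  set Yy : Subgroup Ω := Subgroup.zpowers s ⊔ (W ⊔ centralizerIn S W) with hYy
  have hWle : W ≤ W ⊔ centralizerIn S W := le_sup_left
  have hCle : centralizerIn S W ≤ W ⊔ centralizerIn S W := le_sup_right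
  have hWtY : W ⊔ centralizerIn S W ≤ Yy := le_sup_right
  have hsY : s ∈ Yy := Subgroup.mem_sup_left (Subgroup.mem_zpowers s)
  have hstĥ : ∀ c ∈ centralizerIn S W, c⁻¹ * ĥ c ∈ zz T W := fun c hc => by
    rw [hĥe c (hCle hc)]
    exact hĝc c hc
  have h1 := trick_i C.L₁.scR (hWT.trans C.L₁.hTR) hcz hĥ (hCle.trans hWtY) hstĥ hsY ht₁ hc₁
  have h2 := trick_i C.L₂.scR (hWT.trans C.L₂.hTR) hcz hĥ (hCle.trans hWtY) hstĥ hsY ht₂ hc₂
  have h3 : ĥ s * s⁻¹ ∈ T := C.hinf _ h1 h2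
  have hĥs : ĥ s ∈ normalizerIn S W := hĥN s hsY
  refine ⟨s⁻¹ * ĥ s, ⟨?_, Subgroup.mul_mem _ (Subgroup.inv_mem _ hs.2) hĥs.2⟩, fun w hw => ?_⟩
  · have h4 := sc_conj_mem F hT (S.inv_mem hs.1) h3
    have e : s⁻¹ * (ĥ s * s⁻¹) * s⁻¹⁻¹ = s⁻¹ * ĥ s := by group
    rwa [e] at h4
  · obtain ⟨w₀, hw₀, rfl⟩ := hĝW.2 w hw
    have hw₀Y := hWtY (hWle hw₀)
    have h5 := hĥ.map_conj hsY hw₀Y
    rw [hĥe _ (hWle hw₀), hĥe _ (hWle (norm_conj hs.2 hw₀)), hrel' w₀ hw₀] at h5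
    have e : (s⁻¹ * ĥ s) * ĝ w₀ * (s⁻¹ * ĥ s)⁻¹ = s⁻¹ * (ĥ s * ĝ w₀ * (ĥ s)⁻¹) * s := by group
    rw [e, ← h5]

/-- **The Sylow subgroup of the candidate automizer at a fully normalized subgroup.** -/
theorem syl_main (C : Ctx F E₁ E₂ T p) (hfn : F.IsFullyNormalized W) (hWT : W ≤ T) (hcz : zz T W ≤ W) :
    IsSylowIn p (autInducedBy T W) (AA F E₁ E₂ T p W) := by
  have hS := C.hS
  have hF := C.hF
  have hT := C.scT
  have hTS := C.TS
  have hWS : W ≤ S := hfn.1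
  have hTp : IsPGroup p T := hS.to_le hTS
  haveI : Finite T := finite_of_le hTS
  haveI : Finite W := finite_of_le hWS
  haveI : Finite (MulAut W) := Cfsg.Agent.Lib.Fusion.Basic.finite_mulAut_of_finite (A := W)
  obtain ⟨Γ, hΓ⟩ := exists_Gam C hWT hcz
  obtain ⟨Ψ, hΨΓ, hΨ, hAutΨ, hΨs⟩ := exists_Psi C hfn hWT hcz hΓ
  have hWfc : F.IsFullyCentralized W := isFullyCentralized_of_isFullyNormalized F hS hF hfn
  have hrW := isReceptive_of_isFullyNormalized F hS hF hfn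
  set O := (pResidual p Γ).map Γ.subtype with hO
  have hOΓ : O ≤ Γ := res_le
  have hAutΓ := hAutΨ.trans hΨΓ
  -- `Γ` is normal in `Aut_F(W)`
  have hΓn : ∀ β ∈ F.autGroup W, ∀ α ∈ Γ, β * α * β⁻¹ ∈ Γ := by
    intro β hβ α hα
    refine (hΓ _).2 (gd_tr C hWfc hWfc hWT hcz (mp_autFun hWS hβ) (img_autFun β) ((hΓ α).1 hα) (fun x _ => ?_))
    exact conj_fun β α x
  -- the focal condition
  have hfoc : ∀ g ∈ Γ, ∀ x ∈ Ψ, g * x * g⁻¹ ∈ Ψ → x⁻¹ * (g * x * g⁻¹) ∈ autInducedBy T W := by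
    intro g hg x hx hgx
    obtain ⟨s, hs, hse, hsc⟩ := hΨs x hx
    obtain ⟨s', hs', hse', hsc'⟩ := hΨs _ hgx
    have hxG := (hΓ x).1 (hΨΓ hx)
    have hxAS : x ∈ autInducedBy S W := by
      refine (mem_autInducedBy_iff S W x).2 ⟨s, hs.1, fun y => ?_⟩
      rw [← autFun_coe]
      exact hse y y.2
    -- elements of `T₁`, `T₂`
    have hlevel : ∀ {R : Subgroup Ω} {G : FusionSystem R}, Lvl F G T p → PiA G T W (autFun x) →
        ∃ t ∈ R, t⁻¹ * s ∈ centralizerIn S W := by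
      intro R G L hpi
      have h1 : Mp G W (autFun x) := pi_mp hpi
      obtain ⟨a, ha, hae⟩ := h1.toAut (img_autFun x)
      have hax : a = x := eq_of_autFun (fun y hy => by
        rw [autFun_of_mem a hy]
        exact hae ⟨y, hy⟩)
      rw [hax] at ha
      obtain ⟨t, ht, hte⟩ := (mem_autInducedBy_iff R W x).1 (inter_aut L hfn hWT ha hxAS)
      refine ⟨t, ht, mem_cent.2 ⟨S.mul_mem (S.inv_mem (L.le ht)) hs.1, fun y hy => ?_⟩⟩
      have h2 := hte ⟨y, hy⟩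
      rw [← autFun_coe, hse y hy] at h2
      have h3 : s * y * s⁻¹ = t * y * t⁻¹ := h2
      exact Cfsg.Agent.Lib.FusionExt.Glue3.comm_of_conj h3
    obtain ⟨t₁, ht₁, hc₁⟩ := hlevel C.L₁ hxG.2.2.1
    obtain ⟨t₂, ht₂, hc₂⟩ := hlevel C.L₂ hxG.2.2.2
    have hgG := (hΓ g).1 hg
    obtain ⟨u, hu, hue⟩ := trick C hfn hWT hcz hgG.2.1 hgG.1 hs hs' hsc hsc' (fun w hw => by
      rw [← hse' _ (autFun_mem g hw), conj_fun, hse w hw]) ht₁ hc₁ ht₂ hc₂
    refine inT_iff.2 ⟨u, hu, fun y hy => ?_⟩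
    rw [hue y hy, autFun_mul_apply, hse' y hy]
    have hz : s' * y * s'⁻¹ ∈ W := norm_conj hs'.2 hy
    have h1 := hse _ (autFun_mem x⁻¹ hz)
    rw [autFun_apply_inv] at h1
    exact (conj_inv_eq h1).symm
  have hsylQ := focal_syl hΨ hΨΓ hAutΨ hfoc
  rw [← hO] at hsylQ
  have hΓeq : Ψ ⊔ O = Γ := sup_res hΨ hΨΓ
  -- the elements of `Ψ` normalize `Aut_T(W)`
  have hπAut : ∀ π ∈ Ψ, ∀ c ∈ autInducedBy T W, π⁻¹ * c * π ∈ autInducedBy T W := by
    intro π hπ c hc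
    obtain ⟨s, hs, hse, -⟩ := hΨs π hπ
    obtain ⟨t, ht, hte⟩ := inT_iff.1 hc
    have hsi : s⁻¹ ∈ normalizerIn S W := Subgroup.inv_mem _ hs
    refine inT_iff.2 ⟨s⁻¹ * t * s⁻¹⁻¹, ⟨sc_conj_mem F hT hsi.1 ht.1, Subgroup.mul_mem _ (Subgroup.mul_mem _ hsi.2 ht.2)
      (Subgroup.inv_mem _ hsi.2)⟩, fun y hy => ?_⟩
    have e : autFun (π⁻¹ * c * π) y = autFun π⁻¹ (autFun c (autFun π y)) := by
      rw [autFun_mul_apply, autFun_mul_apply]
    rw [e, hse y hy, hte _ (norm_conj hs.2 hy)]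
    have hw : t * (s * y * s⁻¹) * t⁻¹ ∈ W := norm_conj ht.2 (norm_conj hs.2 hy)
    have h2 := hse _ (autFun_mem π⁻¹ hw)
    rw [autFun_apply_inv] at h2
    rw [← conj_inv_eq h2]
    group
  -- conjugates of `Aut_T(W)`
  have hΓF : ∀ γ ∈ Γ, γ ∈ F.autGroup W := by
    intro γ hγ
    obtain ⟨a, ha, hae⟩ := ((hΓ γ).1 hγ).mp.toAut (img_autFun γ)
    have : a = γ := eq_of_autFun (fun y hy => by
      rw [autFun_of_mem a hy]
      exact hae ⟨y, hy⟩)
    rwa [← this]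
  have hΨn : Ψ ≤ Subgroup.normalizer (O : Set (MulAut W)) := by
    intro π hπ
    rw [Subgroup.mem_normalizer_iff]
    intro x
    refine ⟨fun hx => res_normal (hΨΓ hπ) hx, fun hx => ?_⟩
    have := res_normal (p := p) (Γ := Γ) (Γ.inv_mem (hΨΓ hπ)) hx
    have e : π⁻¹ * (π * x * π⁻¹) * π⁻¹⁻¹ = x := by group
    rwa [e] at this
  have hN : ∀ β ∈ F.autGroup W, ∀ c ∈ autInducedBy T W, β * c * β⁻¹ ∈ autInducedBy T W ⊔ O := by
    intro β hβ c hc
    let L : Subgroup (MulAut W) := (autInducedBy T W).map (MulAut.conj β).toMonoidHom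
    have hLle : L ≤ Γ := by
      rintro _ ⟨q, hq, rfl⟩
      exact hΓn β hβ q (hAutΓ hq)
    have hLp : IsPGroup p L := (isPGroup_autInducedBy W hTp).map _
    obtain ⟨γ, hγ, hγL⟩ := hΨ.exists_conj hLle hLp
    have hh : ∀ q ∈ autInducedBy T W, (γ * β) * q * (γ * β)⁻¹ ∈ Ψ := by
      intro q hq
      have := hγL _ ⟨q, hq, rfl⟩
      have e : (γ * β) * q * (γ * β)⁻¹ = γ * ((MulAut.conj β).toMonoidHom q) * γ⁻¹ := by
        simp [MulAut.conj_apply, mul_assoc]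
      rw [e]
      exact this
    have hm : Mp F W (autFun (γ * β)) := mp_autFun hWS (Subgroup.mul_mem _ (hΓF γ hγ) hβ)
    obtain ⟨ĥ, hĥ, hĥe⟩ := hm.ext_rec hrW (img_autFun _) (le_normalizerIn hWT) (fun y hy => by
      obtain ⟨s, hs, hse, -⟩ := hΨs _ (hh _ (normAct_mem_autInducedBy T W hy.2 hy.1))
      refine ⟨hTS hy.1, hy.2, s, hs.1, fun x hx => ?_⟩
      rw [← hse _ (autFun_mem _ hx), conj_fun, normAct_fun hy.2 hx])
    have hc1 : ∀ q ∈ autInducedBy T W, (γ * β) * q * (γ * β)⁻¹ ∈ autInducedBy T W := by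
      intro q hq
      obtain ⟨t, ht, hte⟩ := inT_iff.1 hq
      have hWN : W ≤ normalizerIn T W := le_normalizerIn hWT
      have key : ∀ y ∈ W, autFun ((γ * β) * q * (γ * β)⁻¹) y = ĥ t * y * (ĥ t)⁻¹ := by
        intro y hy
        obtain ⟨x, hx, rfl⟩ := (img_autFun (γ * β)).2 y hy
        rw [conj_fun, hte x hx, ← hĥe _ (norm_conj ht.2 hx), ← hĥe x hx]
        exact hĥ.map_conj ht (hWN hx)
      refine inT_iff.2 ⟨ĥ t, ⟨sc_mp hT hĥ inf_le_left ht, mem_normalizer_of_conj_le' (fun y hy => ?_)⟩, key⟩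
      rw [← key y hy]
      exact autFun_mem _ hy
    have hγ' : γ ∈ Ψ ⊔ O := by
      rw [hΓeq]
      exact hγ
    obtain ⟨π, hπ, o, ho, rfl⟩ := Cfsg.Agent.Lib.FusionExt.Normal.exists_mul_of_mem_sup' hΨn hγ'
    have hc₂ := hπAut π hπ _ (hc1 c hc)
    set c₂ := π⁻¹ * ((π * o * β) * c * (π * o * β)⁻¹) * π with hc₂d
    have hoΓ := hOΓ ho
    have hc₂Γ := hAutΓ hc₂
    have e : β * c * β⁻¹ = (o⁻¹ * (c₂ * o * c₂⁻¹)) * c₂ := by
      rw [hc₂d]
      group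
    rw [e]
    exact Subgroup.mul_mem _ (Subgroup.mem_sup_right (O.mul_mem (O.inv_mem ho) (res_normal hc₂Γ ho)))
      (Subgroup.mem_sup_left hc₂)
  have hAA : AA F E₁ E₂ T p W = autInducedBy T W ⊔ O := by
    apply le_antisymm
    · refine (Subgroup.closure_le _).2 (fun α hα => ?_)
      rcases hα with hα | hα
      · obtain ⟨h1, q, hq, h2⟩ := hα
        have hαΓ : α ∈ Γ := (hΓ α).2 (gd_of_gm hWfc h1)
        refine Subgroup.mem_sup_right (mem_res_of_pow hαΓ hq ?_)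
        ext x
        have := h2 x x.2
        rw [iterate_autFun] at this
        exact this
      · obtain ⟨W'', φ, t, hW'', h1, h2, ht, h3⟩ := hα
        obtain ⟨ρ, hρ, hρN, hρi⟩ := nm_map hS hF hfn (isConj_symm F (h1.isConj h2))
        have hW''T : W'' ≤ T := by
          intro y hy
          obtain ⟨x, hx, rfl⟩ := h2.2 y hy
          exact sc_mp hT h1 hWT hx
        have hW''N : W'' ≤ normalizerIn S W'' := le_normalizerIn (hW''T.trans hTS)
        have htS : t ∈ normalizerIn S W'' := ⟨hTS ht.1, ht.2⟩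
        have hNle : normalizerIn T W'' ≤ normalizerIn S W'' := inf_le_inf_right _ hTS
        have hρt : ρ t ∈ normalizerIn T W := ⟨sc_mp hT (hρ.restrict hNle) inf_le_left ht, (hρN t htS).2⟩
        have hβm : Mp F W (fun x => ρ (φ x)) := h1.comp (fun x hx => hW''N (h2.1 x hx)) hρ
        have hβi : Img W (fun x => ρ (φ x)) W := h2.comp hρi
        obtain ⟨β, hβ, hβe⟩ := hβm.toAut hβi
        have hβf : ∀ x ∈ W, autFun β x = ρ (φ x) := fun x hx => by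
          rw [autFun_of_mem β hx]
          exact hβe ⟨x, hx⟩
        have hc' := normAct_mem_autInducedBy T W hρt.2 hρt.1
        have e : α = β⁻¹ * normAct W hρt.2 * β⁻¹⁻¹ := by
          apply eq_of_autFun
          intro x hx
          have hαx := autFun_mem α hx
          have h5 : autFun β (autFun α x) = autFun (normAct W hρt.2) (autFun β x) := by
            rw [normAct_fun hρt.2 (autFun_mem β hx), hβf _ hαx, hβf x hx, h3 x hx]
            exact hρ.map_conj htS (hW''N (h2.1 x hx))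
          rw [inv_inv, autFun_mul_apply, autFun_mul_apply, ← h5, autFun_inv_apply]
        rw [e]
        exact hN _ (Subgroup.inv_mem _ hβ) _ hc'
    · refine sup_le (fun c hc => aa_inner hfn hc) ?_
      rw [hO, Subgroup.map_le_iff_le_comap]
      refine (Subgroup.closure_le _).2 (fun x hx => ?_)
      have hx' : (orderOf x).Coprime p := hx
      have hxG := (hΓ x).1 x.2
      refine Subgroup.subset_closure (Or.inl ⟨gm_of_gd C hWfc hWT hcz hxG, orderOf x, hx', fun y hy => ?_⟩)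
      have h1 : (Γ.subtype x) ^ orderOf x = 1 := by
        rw [← map_pow, pow_orderOf_eq_one, map_one]
      rw [show y = ((⟨y, hy⟩ : W) : Ω) from rfl, iterate_autFun, h1]
      rfl
  rw [hAA]
  exact hsylQ

end main

end Cfsg.Agent.Lib.FusionExt.Meet4
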