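import Cfsg.Agent.Lib.FusionExt.Meet4

/-!
# Meets of normal subsystems: restriction to smaller `T`-centric subgroups (helper92)
-/

set_option autoImplicit false
set_option linter.unusedSectionVars false

namespace Cfsg.Agent.Lib.FusionExt.Meet5

open Cfsg Cfsg.FusionSystem Cfsg.Agent.Lib.Fusion.Basic Cfsg.Agent.Lib.Fusion.GroupSystem
open Cfsg.Agent.Lib.FusionExt.MapApi Cfsg.Agent.Lib.FusionExt.PowerSys Cfsg.Agent.Lib.FusionExt.LowPi
open Cfsg.Agent.Lib.FusionExt.PrimeRes1 Cfsg.Agent.Lib.Fusion.Saturation Cfsg.Agent.Lib.Fusion.Saturation2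
open Cfsg.Agent.Lib.FusionExt.Basic Cfsg.Agent.Lib.FusionExt.Normal Cfsg.Agent.Lib.FusionExt.PowerGen
open Cfsg.Agent.Lib.Fusion.KSystem Cfsg.Agent.Lib.FusionExt.Invariant
open Cfsg.Agent.Lib.FusionExt.PowerE Cfsg.Agent.Lib.FusionExt.Meet1 Cfsg.Agent.Lib.FusionExt.Meet2
open Cfsg.Agent.Lib.FusionExt.Glue1 Cfsg.Agent.Lib.FusionExt.Meet3 Cfsg.Agent.Lib.FusionExt.CentE
open Cfsg.Agent.Lib.Core.Residual Cfsg.Agent.Lib.FusionExt.Meet4

universe u

variable {Ω : Type u} [Group Ω] {S T T₁ T₂ : Subgroup Ω} {F : FusionSystem S} {E₁ : FusionSystem T₁} {E₂ : FusionSystem T₂} {p : ℕ}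
variable {W W' X Y U U' P Q : Subgroup Ω} {f f' g h k κ φ ψ χ : Ω → Ω}
variable [Finite S] [Fact p.Prime]

/-- The elements of `C_S(U)` act trivially modulo `C_T(U)` on a `T`-subgroup normalizing `U`. -/
theorem cent_stable (hT : F.StronglyClosed T) (hP : P ≤ T) (hn : P ≤ Subgroup.normalizer (U : Set Ω)) {c x : Ω}
    (hc : c ∈ centralizerIn S U) (hx : x ∈ P) : x⁻¹ * (c * x * c⁻¹) ∈ zz T U := by
  have hcS := (mem_cent.1 hc).1
  refine mem_zz.2 ⟨T.mul_mem (T.inv_mem (hP hx)) (sc_conj_mem F hT hcS (hP hx)), fun u hu => ?_⟩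
  have hv : x * u * x⁻¹ ∈ U := norm_conj (hn hx) hu
  have h1 := (mem_cent.1 hc).2 _ hu
  have h2 := (mem_cent.1 hc).2 _ hv
  have h3 : (c * x * c⁻¹) * u = (x * u * x⁻¹) * (c * x * c⁻¹) := by
    calc (c * x * c⁻¹) * u = c * x * (c⁻¹ * (u * c)) * c⁻¹ := by group
      _ = c * x * (c⁻¹ * (c * u)) * c⁻¹ := by rw [h1]
      _ = c * (x * u * x⁻¹) * x * c⁻¹ := by group
      _ = (c * (x * u * x⁻¹)) * x * c⁻¹ := by group
      _ = ((x * u * x⁻¹) * c) * x * c⁻¹ := by rw [h2]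
      _ = (x * u * x⁻¹) * (c * x * c⁻¹) := by group
  calc u * (x⁻¹ * (c * x * c⁻¹)) = x⁻¹ * ((x * u * x⁻¹) * (c * x * c⁻¹)) := by group
    _ = x⁻¹ * ((c * x * c⁻¹) * u) := by rw [h3]
    _ = x⁻¹ * (c * x * c⁻¹) * u := by group

/-- The elements of `C_S(U)` normalize any `T`-subgroup normalizing `U` and containing `U`. -/
theorem cent_normalizes (hT : F.StronglyClosed T) (hP : P ≤ T) (hUP : U ≤ P) (hcz : zz T U ≤ U) (hn : P ≤ Subgroup.normalizer (U : Set Ω))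
    {c : Ω} (hc : c ∈ centralizerIn S U) : c ∈ Subgroup.normalizer (P : Set Ω) := by
  haveI : Finite P := finite_of_le (hP.trans hT.1)
  refine mem_normalizer_of_conj_le' (fun x hx => ?_)
  have h1 := hUP (hcz (cent_stable hT hP hn hc hx))
  have e : c * x * c⁻¹ = x * (x⁻¹ * (c * x * c⁻¹)) := by group
  rw [e]
  exact P.mul_mem hx h1

/-- Conjugation by an element of `N_T(U)` lies in `AA(U)`. -/
theorem aa_inner_any (C : Ctx F E₁ E₂ T p) (huc : Uc F T U) {t : Ω} (ht : t ∈ normalizerIn T U) :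
    ∃ α ∈ AA F E₁ E₂ T p U, ∀ x ∈ U, autFun α x = t * x * t⁻¹ := by
  have hS := C.hS
  have hF := C.hF
  have hT := C.scT
  have hTS := C.TS
  have hUS := huc.1.trans hTS
  obtain ⟨W, hUW, hWfn⟩ := exists_isFullyNormalized F hUS
  obtain ⟨ρ, hρ, hρN, hρi⟩ := nm_map hS hF hWfn hUW
  have htS : t ∈ normalizerIn S U := ⟨hTS ht.1, ht.2⟩
  have hUN : U ≤ normalizerIn S U := le_normalizerIn hUS
  have hNle : normalizerIn T U ≤ normalizerIn S U := inf_le_inf_right _ hTS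
  have hρt : ρ t ∈ normalizerIn T W := ⟨sc_mp hT (hρ.restrict hNle) inf_le_left ht, (hρN t htS).2⟩
  refine ⟨normAct U ht.2, Subgroup.subset_closure (Or.inr ⟨W, ρ, ρ t, hWfn, hρ.restrict hUN, hρi, hρt, fun x hx => ?_⟩),
    fun x hx => normAct_fun ht.2 hx⟩
  rw [normAct_fun ht.2 hx]
  exact hρ.map_conj htS (hUN hx)

/-- A stability element in `AA(P)`, `P` fully normalized, is induced by `Z(U)`. -/
theorem a6fn (C : Ctx F E₁ E₂ T p) (hfn : F.IsFullyNormalized P) (hPT : P ≤ T) (hczP : zz T P ≤ P) {κ : MulAut P}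
    (hκ : κ ∈ AA F E₁ E₂ T p P) (huc : Uc F T U) (hUP : U ≤ P) (hid : ∀ w ∈ U, autFun κ w = w)
    (hst : ∀ y ∈ P, y⁻¹ * autFun κ y ∈ zz T U) : ∃ z ∈ zz T U, ∀ y ∈ P, autFun κ y = z * y * z⁻¹ := by
  have hTS := C.TS
  have hTp : IsPGroup p T := C.hS.to_le hTS
  haveI : Finite T := finite_of_le hTS
  have hcz : zz T U ≤ U := huc.self hTS
  have hPS := hPT.trans hTS
  haveI : Finite P := finite_of_le hPS
  haveI : Finite (MulAut P) := Cfsg.Agent.Lib.Fusion.Basic.finite_mulAut_of_finite (A := P)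
  obtain ⟨k, hk⟩ := IsPGroup.iff_card.1 hTp
  have hpow : ∀ u ∈ T, u ^ p ^ k = 1 := by
    intro u hu
    have := pow_card_eq_one' (x := (⟨u, hu⟩ : T))
    rw [hk] at this
    exact congrArg Subtype.val this
  have hmp : ∀ {a : MulAut P}, ∀ {x y : Ω}, x ∈ P → y ∈ P → autFun a (x * y) = autFun a x * autFun a y :=
    fun hx hy => autFun_mul _ hx hy
  have hit : ∀ (m : ℕ), ∀ y ∈ P, autFun (κ ^ m) y = y * (y⁻¹ * autFun κ y) ^ m := by
    intro m
    induction m with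
    | zero =>
      intro y _
      simp only [pow_zero, mul_one]
      exact autFun_one_apply y
    | succ m ih =>
      intro y hy
      have hu : y⁻¹ * autFun κ y ∈ U := hcz (hst y hy)
      rw [pow_succ', autFun_mul_apply, ih y hy, hmp hy (hUP (U.pow_mem hu m)), hid _ (U.pow_mem hu m), pow_succ', ← mul_assoc,
        mul_inv_cancel_left]
  have hone : κ ^ p ^ k = 1 := by
    apply Cfsg.Agent.Lib.FusionExt.Glue2.eq_one_of_fun
    intro x hx
    rw [hit _ x hx, hpow _ (hst x hx).1, mul_one]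
  have hCle : Subgroup.zpowers κ ≤ AA F E₁ E₂ T p P := Subgroup.zpowers_le.2 hκ
  have hCp : IsPGroup p (Subgroup.zpowers κ) := by
    refine isPGroup_of_pow_eq_one (fun β hβ => ?_)
    obtain ⟨i, rfl⟩ := Subgroup.mem_zpowers_iff.1 hβ
    refine ⟨k, ?_⟩
    rw [← zpow_natCast, ← zpow_mul, mul_comm, zpow_mul, zpow_natCast, hone, one_zpow]
  obtain ⟨g₀, hg₀, hgc⟩ := (syl_main C hfn hPT hczP).exists_conj hCle hCp
  obtain ⟨t, ht, et⟩ := inT_iff.1 (hgc κ (Subgroup.mem_zpowers κ))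
  have hucP : Uc F T P := huc.up hUP hPT
  have hg₀F := (gm_of_AA C hucP hg₀).1
  obtain ⟨W', hW'⟩ := (hg₀F.restrict hUP).exists_img
  have hucW' : Uc F T W' := huc.conj C.scT (hg₀F.restrict hUP) hW'
  have hact : ∀ y ∈ P, t * autFun g₀ y * t⁻¹ = autFun g₀ (autFun κ y) := by
    intro y hy
    rw [← et _ (autFun_mem g₀ hy), conj_fun]
  have htz : t ∈ zz T W' := by
    refine mem_zz.2 ⟨ht.1, fun y hy => ?_⟩
    obtain ⟨w, hw, rfl⟩ := hW'.2 y hy
    have h1 := hact w (hUP hw)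
    rw [hid w hw] at h1
    calc autFun g₀ w * t = t * autFun g₀ w * t⁻¹ * t := by rw [h1]
      _ = t * autFun g₀ w := by group
  obtain ⟨z, hz, rfl⟩ := hW'.2 t (hucW'.self hTS htz)
  have hzcomm : ∀ y ∈ P, autFun κ y = z * y * z⁻¹ := by
    intro y hy
    have h2 := hact y hy
    have h3 : autFun g₀ (z * y * z⁻¹) = autFun g₀ z * autFun g₀ y * (autFun g₀ z)⁻¹ := by
      rw [autFun_mul g₀ (P.mul_mem (hUP hz) hy) (P.inv_mem (hUP hz)), autFun_mul g₀ (hUP hz) hy, autFun_inv' g₀ (hUP hz)]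
    exact (autFun_inj g₀ (h2.symm.trans h3.symm))
  refine ⟨z, mem_zz.2 ⟨huc.1 hz, fun y hy => ?_⟩, hzcomm⟩
  have h4 := hzcomm y (hUP hy)
  rw [hid y hy] at h4
  calc y * z = z * y * z⁻¹ * z := by rw [← h4]
    _ = z * y := by group

/-- **The commutator relation with `C_S(U)`.** -/
theorem rc_core (C : Ctx F E₁ E₂ T p) (hfn : F.IsFullyNormalized P) (hPT : P ≤ T) (hczP : zz T P ≤ P) (huc : Uc F T U) (hUP : U ≤ P)
    (hn : P ≤ Subgroup.normalizer (U : Set Ω)) {β : MulAut P} (hβ : β ∈ AA F E₁ E₂ T p P) (hi : Img U (autFun β) U) {c : Ω}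
    (hc : c ∈ centralizerIn S U) : ∃ z ∈ zz T U, ∀ x ∈ P, autFun β (c * x * c⁻¹) = (z * c) * autFun β x * (z * c)⁻¹ := by
  have hT := C.scT
  have hTS := C.TS
  have hcz : zz T U ≤ U := huc.self hTS
  have hPS := hPT.trans hTS
  have hcS := (mem_cent.1 hc).1
  have hcn : c ∈ Subgroup.normalizer (P : Set Ω) := cent_normalizes hT hPT hUP hcz hn hc
  let γ : MulAut P := normAct P hcn
  have hγ : γ ∈ F.autGroup P := autInducedBy_le_autGroup F hPS (normAct_mem_autInducedBy S P hcn hcS)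
  have hγf : ∀ x ∈ P, autFun γ x = c * x * c⁻¹ := fun x hx => normAct_fun hcn hx
  have hβi : β⁻¹ ∈ AA F E₁ E₂ T p P := Subgroup.inv_mem _ hβ
  let κ : MulAut P := β * (γ * β⁻¹ * γ⁻¹)
  have hκ : κ ∈ AA F E₁ E₂ T p P := Subgroup.mul_mem _ hβ (AA_conj hPS hγ hβi)
  have hκe : ∀ x, autFun κ x = autFun β (autFun γ (autFun β⁻¹ (autFun γ⁻¹ x))) := by
    intro x
    show autFun (β * (γ * β⁻¹ * γ⁻¹)) x = _
    rw [autFun_mul_apply, autFun_mul_apply, autFun_mul_apply]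
  have hγU : ∀ u ∈ U, autFun γ u = u := by
    intro u hu
    rw [hγf u (hUP hu)]
    exact cent_conj_eq hc hu
  have hγiU : ∀ u ∈ U, autFun γ⁻¹ u = u := by
    intro u hu
    have := autFun_inv_apply γ u
    rwa [hγU u hu] at this
  have hβiU : Img U (autFun β⁻¹) U := by
    refine ⟨fun u hu => ?_, fun u hu => ⟨autFun β u, hi.1 u hu, autFun_inv_apply β u⟩⟩
    obtain ⟨w, hw, rfl⟩ := hi.2 u hu
    rw [autFun_inv_apply]
    exact hw
  have hZ : ∀ {a : MulAut P}, Img U (autFun a) U → ∀ z ∈ zz T U, autFun a z ∈ zz T U := by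
    intro a ha z hz
    refine mem_zz.2 ⟨huc.1 (ha.1 z (hcz hz)), fun y hy => ?_⟩
    obtain ⟨w, hw, rfl⟩ := ha.2 y hy
    rw [← autFun_mul a (hUP hw) (hUP (hcz hz)), ← autFun_mul a (hUP (hcz hz)) (hUP hw), (mem_zz.1 hz).2 w hw]
  have hid : ∀ w ∈ U, autFun κ w = w := by
    intro w hw
    rw [hκe, hγiU w hw, hγU _ (hβiU.1 w hw), autFun_apply_inv]
  have hst1 : ∀ x ∈ P, x⁻¹ * autFun γ x ∈ zz T U := fun x hx => by
    rw [hγf x hx]
    exact cent_stable hT hPT hn hc hx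
  have hst2 : ∀ x ∈ P, x⁻¹ * autFun γ⁻¹ x ∈ zz T U := by
    intro x hx
    have hw := autFun_mem γ⁻¹ hx
    have h1 := hst1 _ hw
    rw [autFun_apply_inv] at h1
    have h2 := Subgroup.inv_mem _ h1
    rwa [mul_inv_rev, inv_inv] at h2
  have hst : ∀ y ∈ P, y⁻¹ * autFun κ y ∈ zz T U := by
    intro y hy
    have hz₁ := hst2 y hy
    set z₁ := y⁻¹ * autFun γ⁻¹ y with hz₁d
    have e1 : autFun γ⁻¹ y = y * z₁ := by rw [hz₁d]; group
    have hz₂ := hZ hβiU z₁ hz₁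
    have hz₁P := hUP (hcz hz₁)
    have hβy := autFun_mem β⁻¹ hy
    have hz₃ := hst1 _ hβy
    have e2 : autFun γ (autFun β⁻¹ y) = autFun β⁻¹ y * ((autFun β⁻¹ y)⁻¹ * autFun γ (autFun β⁻¹ y)) := by group
    rw [hκe, e1, autFun_mul β⁻¹ hy hz₁P, autFun_mul γ hβy (hUP (hcz hz₂)), hγU _ (hcz hz₂), e2,
      autFun_mul β (P.mul_mem hβy (hUP (hcz hz₃))) (hUP (hcz hz₂)), autFun_mul β hβy (hUP (hcz hz₃)), autFun_apply_inv,
      mul_assoc, inv_mul_cancel_left]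
    exact Subgroup.mul_mem _ (hZ hi _ hz₃) (hZ hi _ hz₂)
  obtain ⟨z, hz, hze⟩ := a6fn C hfn hPT hczP hκ huc hUP hid hst
  refine ⟨z, hz, fun x hx => ?_⟩
  have hβx := autFun_mem β hx
  have h1 := hze _ (autFun_mem γ hβx)
  rw [hκe, autFun_inv_apply, autFun_inv_apply, hγf x hx, hγf _ hβx] at h1
  rw [h1]
  group

/-- The stable restriction at one level. -/
theorem rc_lvl {R : Subgroup Ω} {G : FusionSystem R} (L : Lvl F G T p) (hfn : F.IsFullyNormalized P) (hPT : P ≤ T) (hczP : zz T P ≤ P)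
    (hczU : zz T U ≤ U) (hUP : U ≤ P) (hn : P ≤ Subgroup.normalizer (U : Set Ω)) {f : Ω → Ω} (hpi : PiA G T P f) (hiP : Img P f P)
    (hq : ∃ q : ℕ, q.Coprime p ∧ ∀ x ∈ P, f^[q] x = x) (hi : Img U f U)
    (hrel : ∀ c ∈ centralizerIn S U, ∃ z ∈ zz T U, ∀ x ∈ P, f (c * x * c⁻¹) = (z * c) * f x * (z * c)⁻¹) : PiA G T U f := by
  haveI : Finite R := L.finite
  have hRS : R ≤ S := L.le
  have hC : ∀ c ∈ centralizerIn R U, c ∈ centralizerIn S U := fun c hc => mem_cent.2 ⟨hRS (mem_cent.1 hc).1, (mem_cent.1 hc).2⟩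
  exact rc_gen L.hR L.hG L.scT' (L.fn hfn hPT) hPT hUP hczU hczP hi ⟨pi_mp hpi, hiP, hq⟩ hpi
    (fun c hc => cent_normalizes L.scT hPT hUP hczU hn (hC c hc)) (fun c hc => hrel c (hC c hc))

/-- A position with `P'` fully normalized and `U'` fully centralized. -/
theorem exists_good_pos (C : Ctx F E₁ E₂ T p) (huc : Uc F T U) (hPT : P ≤ T) (hUP : U ≤ P) (hn : P ≤ Subgroup.normalizer (U : Set Ω)) :
    ∃ P' U' ρ, F.IsFullyNormalized P' ∧ F.IsFullyCentralized U' ∧ Mp F P ρ ∧ Img P ρ P' ∧ Img U ρ U' := by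
  have hS := C.hS
  have hF := C.hF
  have hT := C.scT
  have hTS := C.TS
  have hUS := huc.1.trans hTS
  obtain ⟨U₁, hUU₁, hU₁fn⟩ := exists_isFullyNormalized F hUS
  obtain ⟨ψ', hψ, hψN, hψi⟩ := nm_map hS hF hU₁fn hUU₁
  have hPN : P ≤ normalizerIn S U := fun x hx => ⟨hTS (hPT hx), hn hx⟩
  obtain ⟨P₁, hP₁⟩ := (hψ.restrict hPN).exists_img
  have hP₁T : P₁ ≤ T := by
    intro y hy
    obtain ⟨x, hx, rfl⟩ := hP₁.2 y hy
    exact sc_mp hT (hψ.restrict hPN) hPT hx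
  have hU₁P₁ : U₁ ≤ P₁ := by
    intro y hy
    obtain ⟨x, hx, rfl⟩ := hψi.2 y hy
    exact hP₁.1 x (hUP hx)
  have hP₁N : P₁ ≤ Subgroup.normalizer (U₁ : Set Ω) := by
    intro y hy
    obtain ⟨x, hx, rfl⟩ := hP₁.2 y hy
    exact (hψN x (hPN hx)).2
  obtain ⟨P', hP₁P', hP'fn⟩ := exists_isFullyNormalized F (hP₁T.trans hTS)
  obtain ⟨χ', hχ, hχN, hχi⟩ := nm_map hS hF hP'fn hP₁P'
  have hU₁c : Uc F T U₁ := huc.conj hT (hψ.restrict (hUP.trans hPN)) hψi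
  have hP₁NN : P₁ ≤ normalizerIn S P₁ := le_normalizerIn (hP₁T.trans hTS)
  have hCN : centralizerIn S U₁ ≤ normalizerIn S P₁ := fun c hc =>
    ⟨(mem_cent.1 hc).1, cent_normalizes hT hP₁T hU₁P₁ (hU₁c.self hTS) hP₁N hc⟩
  obtain ⟨U', hU'⟩ := (hχ.restrict (hU₁P₁.trans hP₁NN)).exists_img
  have hU₁fc := isFullyCentralized_of_isFullyNormalized F hS hF hU₁fn
  have hconj : F.IsConj U₁ U' := (hχ.restrict (hU₁P₁.trans hP₁NN)).isConj hU'
  have hU'S : U' ≤ S := isConj_right_le F hconj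
  haveI : Finite ↥(centralizerIn S U') := finite_of_le inf_le_left
  haveI : Finite ↥(centralizerIn S U₁) := finite_of_le inf_le_left
  refine ⟨P', U', _, hP'fn, ⟨hU'S, fun Q hQ => ?_⟩, (hψ.restrict hPN).comp (fun x hx => hP₁NN (hP₁.1 x hx)) hχ,
    hP₁.comp hχi, hψi.comp hU'⟩
  have h1 : Nat.card (centralizerIn S Q) ≤ Nat.card (centralizerIn S U₁) := hU₁fc.2 Q (isConj_trans F hconj hQ)
  refine h1.trans (Nat.card_le_card_of_injective (fun c : centralizerIn S U₁ => (⟨χ' c, mem_cent.2 ⟨hχ.mem_S (hCN c.2), fun y hy => ?_⟩⟩ :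
      centralizerIn S U')) ?_)
  · obtain ⟨u, hu, rfl⟩ := hU'.2 y hy
    have huN := hP₁NN (hU₁P₁ hu)
    rw [← hχ.map_mul huN (hCN c.2), ← hχ.map_mul (hCN c.2) huN, (mem_cent.1 c.2).2 u hu]
  · intro a b hab
    have e : χ' a = χ' b := congrArg Subtype.val hab
    exact Subtype.ext (hχ.inj (hCN a.2) (hCN b.2) e)

/-- Restriction of `p'`-elements to normal subgroups. -/
theorem res_q (C : Ctx F E₁ E₂ T p) (huP : Uc F T P) {β : MulAut P} (hβ : β ∈ AA F E₁ E₂ T p P) {q : ℕ} (hq : β ^ q = 1)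
    (hqc : q.Coprime p) (huc : Uc F T U) (hUP : U ≤ P) (hn : P ≤ Subgroup.normalizer (U : Set Ω)) (hi : Img U (autFun β) U) :
    ∃ α ∈ AA F E₁ E₂ T p U, ∀ x ∈ U, autFun α x = autFun β x := by
  have hT := C.scT
  have hTS := C.TS
  obtain ⟨P', U', ρ, hP'fn, hU'fc, hρ, hρi, hρU⟩ := exists_good_pos C huc huP.1 hUP hn
  obtain ⟨β', hβ', hβ'e⟩ := AA_tr hρ hρi hβ
  have huP' : Uc F T P' := huP.conj hT hρ hρi
  have huU' : Uc F T U' := huc.conj hT (hρ.restrict hUP) hρU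
  have hP'T := huP'.1
  have hU'P' : U' ≤ P' := by
    intro y hy
    obtain ⟨x, hx, rfl⟩ := hρU.2 y hy
    exact hρi.1 x (hUP hx)
  have hn' : P' ≤ Subgroup.normalizer (U' : Set Ω) := by
    intro y hy
    obtain ⟨x, hx, rfl⟩ := hρi.2 y hy
    haveI : Finite U' := finite_of_le (huU'.1.trans hTS)
    refine mem_normalizer_of_conj_le' (fun u hu => ?_)
    obtain ⟨w, hw, rfl⟩ := hρU.2 u hu
    rw [← hρ.map_conj hx (hUP hw)]
    exact hρU.1 _ (norm_conj (hn hx) hw)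
  have hiU' : Img U' (autFun β') U' := by
    refine ⟨fun y hy => ?_, fun y hy => ?_⟩
    · obtain ⟨x, hx, rfl⟩ := hρU.2 y hy
      rw [hβ'e x (hUP hx)]
      exact hρU.1 _ (hi.1 x hx)
    · obtain ⟨x, hx, rfl⟩ := hρU.2 y hy
      obtain ⟨u, hu, rfl⟩ := hi.2 x hx
      exact ⟨ρ u, hρU.1 u hu, hβ'e u (hUP hu)⟩
  have hpow : ∀ j : ℕ, ∀ x ∈ P, autFun (β' ^ j) (ρ x) = ρ (autFun (β ^ j) x) := by
    intro j
    induction j with
    | zero =>
      intro x _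
      simp only [pow_zero, autFun_one_apply]
    | succ j ih =>
      intro x hx
      rw [pow_succ, pow_succ, autFun_mul_apply, autFun_mul_apply, hβ'e x hx, ih _ (autFun_mem β hx)]
  have hβ'q : ∀ y ∈ P', (autFun β')^[q] y = y := by
    intro y hy
    obtain ⟨x, hx, rfl⟩ := hρi.2 y hy
    rw [show ρ x = ((⟨ρ x, hy⟩ : P') : Ω) from rfl, iterate_autFun]
    rw [← autFun_coe]
    show autFun (β' ^ q) (ρ x) = ρ x
    rw [hpow q x hx, hq, autFun_one_apply]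
  -- the core
  have hGm := gm_of_AA C huP' hβ'
  have hP'fc := isFullyCentralized_of_isFullyNormalized F C.hS C.hF hP'fn
  have hGd := gd_of_gm hP'fc hGm
  have hczP := huP'.self hTS
  have hczU := huU'.self hTS
  have hrel := fun c hc => rc_core C hP'fn hP'T hczP huU' hU'P' hn' hβ' hiU' (c := c) hc
  have hqq : ∃ q : ℕ, q.Coprime p ∧ ∀ x ∈ P', (autFun β')^[q] x = x := ⟨q, hqc, hβ'q⟩
  have hGdU : Gd F E₁ E₂ T U' (autFun β') := ⟨hiU',
    rc_lvl C.L₀ hP'fn hP'T hczP hczU hU'P' hn' hGd.2.1 hGd.1 hqq hiU' hrel,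
    rc_lvl C.L₁ hP'fn hP'T hczP hczU hU'P' hn' hGd.2.2.1 hGd.1 hqq hiU' hrel,
    rc_lvl C.L₂ hP'fn hP'T hczP hczU hU'P' hn' hGd.2.2.2 hGd.1 hqq hiU' hrel⟩
  have hGmU := gm_of_gd C hU'fc huU'.1 hczU hGdU
  obtain ⟨α', -, hα'e⟩ := hGmU.1.toAut hiU'
  have hα'f : ∀ y ∈ U', autFun α' y = autFun β' y := fun y hy => by
    rw [autFun_of_mem α' hy]
    exact hα'e ⟨y, hy⟩
  have hα' : α' ∈ AA F E₁ E₂ T p U' := by
    refine Subgroup.subset_closure (Or.inl ⟨hGmU.congr (fun y hy => (hα'f y hy).symm), q, hqc, fun y hy => ?_⟩)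
    rw [iterate_congr (img_autFun α').1 hα'f q hy]
    exact hβ'q y (hU'P' hy)
  obtain ⟨k', hk', hk1, hk2, hk3⟩ := (hρ.restrict hUP).inverse hρU
  obtain ⟨α, hα, hαe⟩ := AA_tr hk' hk3 hα'
  refine ⟨α, hα, fun x hx => ?_⟩
  have h1 := hαe _ (hρU.1 x hx)
  rw [hk1 x hx, hα'f _ (hρU.1 x hx), hβ'e x (hUP hx), hk1 _ (hi.1 x hx)] at h1
  exact h1

/-- Restriction of `p`-elements. -/
theorem res_p (C : Ctx F E₁ E₂ T p) (huP : Uc F T P) {β : MulAut P} (hβ : β ∈ AA F E₁ E₂ T p P) {k' : ℕ} (hk' : β ^ p ^ k' = 1)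
    (huc : Uc F T U) (hUP : U ≤ P) (hi : Img U (autFun β) U) :
    ∃ α ∈ AA F E₁ E₂ T p U, ∀ x ∈ U, autFun α x = autFun β x := by
  have hS := C.hS
  have hF := C.hF
  have hT := C.scT
  have hTS := C.TS
  have hPS := huP.1.trans hTS
  haveI : Finite P := finite_of_le hPS
  obtain ⟨P', hPP', hP'fn⟩ := exists_isFullyNormalized F hPS
  obtain ⟨φ₀, hφ₀, hr⟩ := id hPP'
  have hφ : Mp F P (extOf φ₀) := mp_of_hom hφ₀
  have hφi : Img P (extOf φ₀) P' := by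
    refine ⟨fun x hx => ?_, fun y hy => ?_⟩
    · rw [extOf_of_mem φ₀ hx, ← hr]
      exact ⟨_, rfl⟩
    · rw [← hr] at hy
      obtain ⟨x, rfl⟩ := hy
      exact ⟨x, x.2, extOf_coe φ₀ x⟩
  set ρ := extOf φ₀ with hρd
  obtain ⟨β', hβ', hβ'e⟩ := AA_tr hφ hφi hβ
  have huP' : Uc F T P' := huP.conj hT hφ hφi
  have hP'S := huP'.1.trans hTS
  haveI : Finite P' := finite_of_le hP'S
  haveI : Finite (MulAut P') := Cfsg.Agent.Lib.Fusion.Basic.finite_mulAut_of_finite (A := P')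
  have hpow : ∀ j : ℕ, ∀ x ∈ P, autFun (β' ^ j) (ρ x) = ρ (autFun (β ^ j) x) := by
    intro j
    induction j with
    | zero =>
      intro x _
      simp only [pow_zero, autFun_one_apply]
    | succ j ih =>
      intro x hx
      rw [pow_succ, pow_succ, autFun_mul_apply, autFun_mul_apply, hβ'e x hx, ih _ (autFun_mem β hx)]
  have hone : β' ^ p ^ k' = 1 := by
    apply Cfsg.Agent.Lib.FusionExt.Glue2.eq_one_of_fun
    intro y hy
    obtain ⟨x, hx, rfl⟩ := hφi.2 y hy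
    rw [hpow _ x hx, hk', autFun_one_apply]
  have hCle : Subgroup.zpowers β' ≤ AA F E₁ E₂ T p P' := Subgroup.zpowers_le.2 hβ'
  have hCp : IsPGroup p (Subgroup.zpowers β') := by
    refine isPGroup_of_pow_eq_one (fun b hb => ?_)
    obtain ⟨i, rfl⟩ := Subgroup.mem_zpowers_iff.1 hb
    refine ⟨k', ?_⟩
    rw [← zpow_natCast, ← zpow_mul, mul_comm, zpow_mul, zpow_natCast, hone, one_zpow]
  obtain ⟨g₀, hg₀, hgc⟩ := (syl_main C hP'fn huP'.1 (huP'.self hTS)).exists_conj hCle hCp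
  obtain ⟨t, ht, et⟩ := inT_iff.1 (hgc β' (Subgroup.mem_zpowers β'))
  have hg₀F := (gm_of_AA C huP' hg₀).1
  -- the map `ζ`
  have hζ : Mp F P (fun x => autFun g₀ (ρ x)) := hφ.comp hφi.1 hg₀F
  obtain ⟨U₂, hU₂⟩ := (hζ.restrict hUP).exists_img
  have hact : ∀ x ∈ P, t * autFun g₀ (ρ x) * t⁻¹ = autFun g₀ (ρ (autFun β x)) := by
    intro x hx
    rw [← et _ (autFun_mem g₀ (hφi.1 x hx)), conj_fun, hβ'e x hx]
  have huU₂ : Uc F T U₂ := huc.conj hT (hζ.restrict hUP) hU₂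
  have htN : t ∈ normalizerIn T U₂ := by
    haveI : Finite U₂ := finite_of_le (huU₂.1.trans hTS)
    refine ⟨ht.1, mem_normalizer_of_conj_le' (fun y hy => ?_)⟩
    obtain ⟨x, hx, rfl⟩ := hU₂.2 y hy
    show t * autFun g₀ (ρ x) * t⁻¹ ∈ U₂
    rw [hact x (hUP hx)]
    exact hU₂.1 _ (hi.1 x hx)
  obtain ⟨α₂, hα₂, hα₂e⟩ := aa_inner_any C huU₂ htN
  obtain ⟨l, hl, hl1, hl2, hl3⟩ := (hζ.restrict hUP).inverse hU₂
  obtain ⟨α, hα, hαe⟩ := AA_tr hl hl3 hα₂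
  refine ⟨α, hα, fun x hx => ?_⟩
  have hy := hU₂.1 x hx
  have h1 := hαe _ hy
  rw [hl1 x hx, hα₂e _ hy] at h1
  rw [h1]
  show l (t * autFun g₀ (ρ x) * t⁻¹) = _
  rw [hact x (hUP hx)]
  exact hl1 _ (hi.1 x hx)

/-- Iterates of an automorphism stabilizing `U`. -/
theorem img_pow {β : MulAut P} (hUP : U ≤ P) (hU : Finite U) (hi : Img U (autFun β) U) (j : ℕ) : Img U (autFun (β ^ j)) U := by
  induction j with
  | zero => exact (img_refl U).congr (fun x _ => by rw [pow_zero, autFun_one_apply])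
  | succ j ih => exact (hi.comp ih).congr (fun x _ => by rw [pow_succ, autFun_mul_apply])

/-- **Restriction.** -/
theorem res_main (C : Ctx F E₁ E₂ T p) : ∀ (d : ℕ) (P U : Subgroup Ω) (f : Ω → Ω), Nat.card P - Nat.card U = d →
    Aa F E₁ E₂ T p P f → Uc F T U → U ≤ P → Img U f U → Aa F E₁ E₂ T p U f := by
  have hTS := C.TS
  have hTp : IsPGroup p T := C.hS.to_le hTS
  intro d
  induction d using Nat.strong_induction_on with
  | _ d ih =>
  intro P U f hd hf huc hUP hi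
  obtain ⟨huP, α, hα, hαe⟩ := hf
  have hPT := huP.1
  have hPS := hPT.trans hTS
  haveI : Finite P := finite_of_le hPS
  haveI : Finite U := finite_of_le (hUP.trans hPS)
  haveI : Finite (MulAut P) := Cfsg.Agent.Lib.Fusion.Basic.finite_mulAut_of_finite (A := P)
  by_cases hUe : U = P
  · subst hUe
    exact ⟨huP, α, hα, hαe⟩
  have hlt : U < P := lt_of_le_of_ne hUP hUe
  have hPp : IsPGroup p P := hTp.to_le hPT
  have hUV : U < normalizerIn P U := lt_normalizerIn hPp hlt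
  have hVP : normalizerIn P U ≤ P := normalizerIn_le_left P U
  have hiα : Img U (autFun α) U := hi.congr (fun x hx => (hαe x (hUP hx)).symm)
  by_cases hVe : normalizerIn P U = P
  · -- the normal case
    have hn : P ≤ Subgroup.normalizer (U : Set Ω) := by
      intro x hx
      rw [← hVe] at hx
      exact hx.2
    obtain ⟨u, v, hαuv, ⟨k', hk'⟩, q, hq, hqe⟩ := exists_parts (p := p) α
    obtain ⟨α₁, hα₁, hα₁e⟩ := res_p C huP (Subgroup.pow_mem _ hα u) hk' huc hUP (img_pow hUP inferInstance hiα u)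
    obtain ⟨α₂, hα₂, hα₂e⟩ := res_q C huP (Subgroup.pow_mem _ hα v) hqe hq huc hUP hn (img_pow hUP inferInstance hiα v)
    refine ⟨huc, α₁ * α₂, Subgroup.mul_mem _ hα₁ hα₂, fun x hx => ?_⟩
    have hx2 := (img_pow hUP inferInstance hiα v).1 x hx
    rw [autFun_mul_apply, hα₂e x hx, hα₁e _ hx2, ← autFun_mul_apply, ← hαuv, hαe x (hUP hx)]
  · have hVlt : normalizerIn P U < P := lt_of_le_of_ne hVP hVe
    have hVf : Img (normalizerIn P U) (autFun α) (normalizerIn P U) := by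
      refine LowPi.img_self ((gm_of_AA C huP hα).1.restrict hVP) (fun y hy => ⟨autFun_mem α (hVP hy), ?_⟩)
      refine mem_normalizer_of_conj_le' (fun u hu => ?_)
      obtain ⟨w, hw, rfl⟩ := hiα.2 u hu
      have hwP := hUP hw
      have hyP := hVP hy
      have e : autFun α y * autFun α w * (autFun α y)⁻¹ = autFun α (y * w * y⁻¹) := by
        rw [autFun_mul α (P.mul_mem hyP hwP) (P.inv_mem hyP), autFun_mul α hyP hwP, autFun_inv' α hyP]
      rw [e]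
      exact hiα.1 _ (norm_conj hy.2 hw)
    have huV : Uc F T (normalizerIn P U) := huc.up hUV.le (hVP.trans hPT)
    have hc1 : Nat.card U < Nat.card (normalizerIn P U) :=
      Cfsg.Agent.Lib.FusionExt.SatCrit1.card_lt_of_lt (S := P) hUV.le hUV.ne hVP
    have hc2 : Nat.card (normalizerIn P U) < Nat.card P :=
      Cfsg.Agent.Lib.FusionExt.SatCrit1.card_lt_of_lt (S := P) hVP hVlt.ne le_rfl
    have h1 : Aa F E₁ E₂ T p (normalizerIn P U) f :=
      ih _ (by omega) P _ f rfl ⟨huP, α, hα, hαe⟩ huV hVP (hVf.congr (fun x hx => hαe x (hVP hx)))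
    exact ih _ (by omega) _ U f rfl h1 huc hUV.le hi

/-- **The family.** -/
theorem fam (C : Ctx F E₁ E₂ T p) : Fam F T (Aa F E₁ E₂ T p) where
  sc := C.scT
  congr := fun {P f g} h e => by
    obtain ⟨h1, α, hα, hαe⟩ := h
    exact ⟨h1, α, hα, fun x hx => (hαe x hx).trans (e x hx)⟩
  uc := fun h => h.1
  mp := fun {P f} h => by
    obtain ⟨h1, α, hα, hαe⟩ := h
    exact (gm_of_AA C h1 hα).1.congr hαe
  img := fun {P f} h => by
    obtain ⟨h1, α, hα, hαe⟩ := h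
    exact (img_autFun α).congr hαe
  inner := fun {P t} h ht => by
    obtain ⟨α, hα, e⟩ := aa_inner_any C h ht
    exact ⟨h, α, hα, e⟩
  comp := fun {P f g} h1 h2 => by
    obtain ⟨h1, α, hα, hαe⟩ := h1
    obtain ⟨-, β, hβ, hβe⟩ := h2
    refine ⟨h1, β * α, Subgroup.mul_mem _ hβ hα, fun x hx => ?_⟩
    rw [autFun_mul_apply, hαe x hx, hβe _ ((img_autFun α).congr hαe |>.1 x hx)]
  inv := fun {P f} h => by
    obtain ⟨h1, α, hα, hαe⟩ := h
    refine ⟨autFun α⁻¹, ⟨h1, α⁻¹, Subgroup.inv_mem _ hα, fun _ _ => rfl⟩, fun x hx => ?_⟩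
    rw [← hαe x hx, autFun_inv_apply]
  tr := fun {P P' f φ} h hφ hi => by
    obtain ⟨h1, α, hα, hαe⟩ := h
    obtain ⟨α', hα', e⟩ := AA_tr hφ hi hα
    exact ⟨autFun α', ⟨h1.conj C.scT hφ hi, α', hα', fun _ _ => rfl⟩, fun x hx => by rw [e x hx, hαe x hx]⟩
  res := fun {P U f} h hU hUP hi => res_main C _ P U f rfl h hU hUP hi

end Cfsg.Agent.Lib.FusionExt.Meet5
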