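import Cfsg.Agent.Lib.FusionExt.Meet5

/-!
# Meets of normal subsystems: extension of `p'`-automorphisms (helper92)
-/

set_option autoImplicit false
set_option linter.unusedSectionVars false

namespace Cfsg.Agent.Lib.FusionExt.Meet6

open Cfsg Cfsg.FusionSystem Cfsg.Agent.Lib.Fusion.Basic Cfsg.Agent.Lib.Fusion.GroupSystem
open Cfsg.Agent.Lib.FusionExt.MapApi Cfsg.Agent.Lib.FusionExt.PowerSys Cfsg.Agent.Lib.FusionExt.LowPi
open Cfsg.Agent.Lib.FusionExt.PrimeRes1 Cfsg.Agent.Lib.Fusion.Saturation Cfsg.Agent.Lib.Fusion.Saturation2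
open Cfsg.Agent.Lib.FusionExt.Basic Cfsg.Agent.Lib.FusionExt.Normal Cfsg.Agent.Lib.FusionExt.PowerGen
open Cfsg.Agent.Lib.Fusion.KSystem Cfsg.Agent.Lib.FusionExt.Invariant
open Cfsg.Agent.Lib.FusionExt.PowerE Cfsg.Agent.Lib.FusionExt.Meet1 Cfsg.Agent.Lib.FusionExt.Meet2
open Cfsg.Agent.Lib.FusionExt.Glue1 Cfsg.Agent.Lib.FusionExt.Meet3 Cfsg.Agent.Lib.FusionExt.CentE
open Cfsg.Agent.Lib.Core.Residual Cfsg.Agent.Lib.FusionExt.Meet4 Cfsg.Agent.Lib.FusionExt.Meet5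

universe u

section alg

/-- The partial norms. -/
def Nf {A : Type*} [CommGroup A] (τ : A →* A) (k : A) : ℕ → A
  | 0 => 1
  | n + 1 => τ (Nf τ k n) * k

/-- The products of the partial norms. -/
def Uf {A : Type*} [CommGroup A] (τ : A →* A) (k : A) : ℕ → A
  | 0 => 1
  | n + 1 => Uf τ k n * Nf τ k n

theorem Uf_rel {A : Type*} [CommGroup A] (τ : A →* A) (k : A) (n : ℕ) :
    τ (Uf τ k n) = Uf τ k n * Nf τ k n * (k ^ n)⁻¹ := by
  induction n with
  | zero => simp [Uf, Nf]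
  | succ n ih =>
    have e : τ (Nf τ k n) = Nf τ k (n + 1) * k⁻¹ := by
      show _ = τ (Nf τ k n) * k * k⁻¹
      simp
    show τ (Uf τ k n * Nf τ k n) = Uf τ k n * Nf τ k n * Nf τ k (n + 1) * (k ^ (n + 1))⁻¹
    rw [map_mul, ih, e, pow_succ, mul_inv_rev]
    simp only [mul_assoc, mul_comm, mul_left_comm]

/-- **Conjugacy of complements, in the form needed.** -/
theorem sz_alg {H : Type*} [Group H] {K : Subgroup H} {g k : H} {q r : ℕ} (hab : ∀ x ∈ K, ∀ y ∈ K, x * y = y * x)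
    (hτ : ∀ x ∈ K, g⁻¹ * x * g ∈ K) (hk : k ∈ K) (hgq : g ^ q = 1) (hgkq : (g * k) ^ q = 1) (hexp : (k ^ q) ^ r = k) :
    ∃ u ∈ K, u * (g * k) * u⁻¹ = g := by
  letI : CommGroup K := { (inferInstance : Group K) with
    mul_comm := fun a b => Subtype.ext (hab a a.2 b b.2) }
  let τ : K →* K := MonoidHom.mk' (fun x => ⟨g⁻¹ * x * g, hτ x x.2⟩) (fun a b => Subtype.ext (by
    show g⁻¹ * ((a : H) * b) * g = (g⁻¹ * a * g) * (g⁻¹ * b * g)
    group))
  let k₀ : K := ⟨k, hk⟩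
  have hN : ∀ n : ℕ, (g * k) ^ n = g ^ n * ((Nf τ k₀ n : K) : H) := by
    intro n
    induction n with
    | zero => simp [Nf]
    | succ n ih =>
      have e : ((Nf τ k₀ (n + 1) : K) : H) = g⁻¹ * ((Nf τ k₀ n : K) : H) * g * k := rfl
      rw [pow_succ, ih, e, pow_succ]
      group
  have hNq : Nf τ k₀ q = 1 := by
    apply Subtype.ext
    have h1 := hN q
    rw [hgkq, hgq, one_mul] at h1
    exact h1.symm
  have hrel := Uf_rel τ k₀ q
  rw [hNq, mul_one] at hrel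
  have hexp' : (k₀ ^ q) ^ r = k₀ := Subtype.ext hexp
  have hrel2 : τ (Uf τ k₀ q ^ r) = Uf τ k₀ q ^ r * k₀⁻¹ := by
    rw [map_pow, hrel, mul_pow, inv_pow, hexp']
  refine ⟨((Uf τ k₀ q ^ r : K) : H), (Uf τ k₀ q ^ r : K).2, ?_⟩
  set u : K := Uf τ k₀ q ^ r with hu
  have h2 : g⁻¹ * (u : H) * g = (u : H) * k⁻¹ := congrArg Subtype.val hrel2
  have h3 : (u : H) * g = g * ((u : H) * k⁻¹) := by
    rw [← h2]
    group
  calc (u : H) * (g * k) * (u : H)⁻¹ = ((u : H) * g) * k * (u : H)⁻¹ := by group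
    _ = g * ((u : H) * k⁻¹) * k * (u : H)⁻¹ := by rw [h3]
    _ = g := by group

/-- The inverse exponent. -/
theorem exists_exp {G : Type*} [Group G] [Finite G] {k : G} {e q : ℕ} (hk : k ^ e = 1) (hco : e.Coprime q) : ∃ r : ℕ, (k ^ q) ^ r = k := by
  have h1 : orderOf k ∣ e := orderOf_dvd_of_pow_eq_one hk
  have hc : (orderOf k).Coprime q := Nat.Coprime.coprime_dvd_left h1 hco
  by_cases h : orderOf k = 1
  · refine ⟨0, ?_⟩
    rw [pow_zero, orderOf_eq_one_iff.1 h]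
  have h2 : 1 < orderOf k := by
    have := orderOf_pos k
    omega
  obtain ⟨r, -, hr⟩ := Nat.exists_mul_mod_eq_one_of_coprime hc.symm h2
  refine ⟨r, ?_⟩
  rw [← pow_mul, ← pow_mod_orderOf, hr, pow_one]

end alg

variable {Ω : Type u} [Group Ω] {S T T₁ T₂ : Subgroup Ω} {F : FusionSystem S} {E₁ : FusionSystem T₁} {E₂ : FusionSystem T₂} {p : ℕ}
variable {W W' X Y U U' P Q : Subgroup Ω} {f f' g h k κ φ ψ χ : Ω → Ω}
variable [Finite S] [Fact p.Prime]

/-- Two automorphisms of `p'`-order of `X` agreeing on `W` and modulo `C_T(W)` are conjugate in `Aut_F(X)`. -/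
theorem sz_conj (hS : IsPGroup p S) (hT : F.StronglyClosed T) (hWX : W ≤ X) (hXT : X ≤ T) (hcz : zz T W ≤ W)
    {a a' : MulAut X} (haF : a ∈ F.autGroup X) (ha'F : a' ∈ F.autGroup X) (hW : ∀ x ∈ W, autFun a x = autFun a' x)
    (hiW : Img W (autFun a) W) (hco : ∀ x ∈ X, (autFun a x)⁻¹ * autFun a' x ∈ zz T W) {q : ℕ} (hq : a ^ q = 1) (hq' : a' ^ q = 1)
    (hqc : q.Coprime p) : ∃ u ∈ F.autGroup X, u * a' * u⁻¹ = a := by
  have hTS := hT.1
  have hXS := hXT.trans hTS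
  have hTp : IsPGroup p T := hS.to_le hTS
  haveI : Finite T := finite_of_le hTS
  haveI : Finite X := finite_of_le hXS
  haveI : Finite (MulAut X) := Cfsg.Agent.Lib.Fusion.Basic.finite_mulAut_of_finite (A := X)
  obtain ⟨e₀, he₀⟩ := IsPGroup.iff_card.1 hTp
  have hpow : ∀ u ∈ T, u ^ p ^ e₀ = 1 := by
    intro u hu
    have := pow_card_eq_one' (x := (⟨u, hu⟩ : T))
    rw [he₀] at this
    exact congrArg Subtype.val this
  have hZW : ∀ z ∈ zz T W, z ∈ X := fun z hz => hWX (hcz hz)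
  -- the stability group
  let K : Subgroup (MulAut X) := finSub
    { carrier := {c | c ∈ F.autGroup X ∧ (∀ w ∈ W, autFun c w = w) ∧ ∀ x ∈ X, x⁻¹ * autFun c x ∈ zz T W}
      one_mem' := ⟨Subgroup.one_mem _, fun w _ => autFun_one_apply w, fun x _ => by
        rw [autFun_one_apply, inv_mul_cancel]
        exact Subgroup.one_mem _⟩
      mul_mem' := by
        rintro c d ⟨h1, h2, h3⟩ ⟨h4, h5, h6⟩
        refine ⟨Subgroup.mul_mem _ h1 h4, fun w hw => ?_, fun x hx => ?_⟩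
        · rw [autFun_mul_apply, h5 w hw, h2 w hw]
        · have hz := h6 x hx
          have e : autFun d x = x * (x⁻¹ * autFun d x) := by group
          rw [autFun_mul_apply, e, autFun_mul c hx (hZW _ hz), h2 _ (hcz hz), ← mul_assoc]
          exact Subgroup.mul_mem _ (h3 x hx) hz }
  have hK : ∀ {c}, c ∈ K ↔ c ∈ F.autGroup X ∧ (∀ w ∈ W, autFun c w = w) ∧ ∀ x ∈ X, x⁻¹ * autFun c x ∈ zz T W := Iff.rfl
  have hab : ∀ c ∈ K, ∀ d ∈ K, c * d = d * c := by
    rintro c ⟨-, h2, h3⟩ d ⟨-, h5, h6⟩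
    apply eq_of_autFun
    intro x hx
    have hz := h6 x hx
    have hz' := h3 x hx
    set z := x⁻¹ * autFun d x with hzd
    set z' := x⁻¹ * autFun c x with hz'd
    have e : autFun d x = x * z := by rw [hzd]; group
    have e' : autFun c x = x * z' := by rw [hz'd]; group
    have ec : autFun c (autFun d x) = x * z' * z := by
      rw [e, autFun_mul c hx (hZW _ hz), h2 _ (hcz hz), e']
    have ed : autFun d (autFun c x) = x * z * z' := by
      rw [e', autFun_mul d hx (hZW _ hz'), h5 _ (hcz hz'), e]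
    rw [autFun_mul_apply, autFun_mul_apply, ec, ed]
    calc x * z' * z = x * (z' * z) := mul_assoc _ _ _
      _ = x * (z * z') := by rw [(mem_zz.1 hz').2 z (hcz hz)]
      _ = x * z * z' := (mul_assoc _ _ _).symm
  have hWT : W ≤ T := hWX.trans hXT
  have hinvW : Img W (autFun a⁻¹) W := by
    refine ⟨fun u hu => ?_, fun u hu => ⟨autFun a u, hiW.1 u hu, autFun_inv_apply a u⟩⟩
    obtain ⟨w, hw, rfl⟩ := hiW.2 u hu
    rw [autFun_inv_apply]
    exact hw
  have hainv := Subgroup.inv_mem _ haF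
  have hZinv : ∀ z ∈ zz T W, autFun a⁻¹ z ∈ zz T W :=
    fun z hz => zz_img (mp_autFun hXS hainv) hWX hinvW hWT hz (hcz hz)
  have hk : a⁻¹ * a' ∈ K := by
    refine ⟨Subgroup.mul_mem _ hainv ha'F, fun w hw => ?_, fun x hx => ?_⟩
    · rw [autFun_mul_apply, ← hW w hw, autFun_inv_apply]
    · have hz := hco x hx
      have e : autFun a' x = autFun a x * ((autFun a x)⁻¹ * autFun a' x) := by group
      have hax := autFun_mem a hx
      rw [autFun_mul_apply, e, autFun_mul a⁻¹ hax (hZW _ hz), autFun_inv_apply, inv_mul_cancel_left]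
      exact hZinv _ hz
  have hτ : ∀ c ∈ K, a⁻¹ * c * a ∈ K := by
    rintro c ⟨h1, h2, h3⟩
    refine ⟨Subgroup.mul_mem _ (Subgroup.mul_mem _ hainv h1) haF, fun w hw => ?_, fun x hx => ?_⟩
    · rw [autFun_mul_apply, autFun_mul_apply, h2 _ (hiW.1 w hw), autFun_inv_apply]
    · have hax := autFun_mem a hx
      have hz := h3 _ hax
      have e : autFun c (autFun a x) = autFun a x * ((autFun a x)⁻¹ * autFun c (autFun a x)) := by group
      rw [autFun_mul_apply, autFun_mul_apply, e, autFun_mul a⁻¹ hax (hZW _ hz), autFun_inv_apply, inv_mul_cancel_left]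
      exact hZinv _ hz
  have hexpK : (a⁻¹ * a') ^ p ^ e₀ = 1 := by
    obtain ⟨-, h2, h3⟩ := hk
    set c := a⁻¹ * a' with hc
    have hit : ∀ (m : ℕ), ∀ y ∈ X, autFun (c ^ m) y = y * (y⁻¹ * autFun c y) ^ m := by
      intro m
      induction m with
      | zero =>
        intro y _
        simp only [pow_zero, mul_one]
        exact autFun_one_apply y
      | succ m ih =>
        intro y hy
        have hu : y⁻¹ * autFun c y ∈ W := hcz (h3 y hy)
        rw [pow_succ', autFun_mul_apply, ih y hy, autFun_mul c hy (hWX (W.pow_mem hu m)), h2 _ (W.pow_mem hu m), pow_succ', ← mul_assoc,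
          mul_inv_cancel_left]
    apply Cfsg.Agent.Lib.FusionExt.Glue2.eq_one_of_fun
    intro x hx
    rw [hit _ x hx, hpow _ (h3 x hx).1, mul_one]
  obtain ⟨r, hr⟩ := exists_exp hexpK (Nat.Coprime.pow_left e₀ hqc.symm)
  have e1 : a * (a⁻¹ * a') = a' := by group
  obtain ⟨u, hu, hue⟩ := sz_alg hab hτ hk hq (by rw [e1]; exact hq') hr
  rw [e1] at hue
  exact ⟨u, hu.1, hue⟩

theorem pow_of_iter {a : MulAut X} {q : ℕ} (h : ∀ x ∈ X, (autFun a)^[q] x = x) : a ^ q = 1 := by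
  ext x
  have := h x x.2
  rw [iterate_autFun] at this
  exact this

/-- **The extension property of the family at fully normalized subgroups.** -/
theorem ext_a5 (C : Ctx F E₁ E₂ T p) (hfn : F.IsFullyNormalized W) (hWT : W ≤ T) (hcz : zz T W ≤ W) {f : Ω → Ω}
    (hf : Aa F E₁ E₂ T p W f) (hq : ∃ m : ℕ, m.Coprime p ∧ ∀ x ∈ W, f^[m] x = x) (hWX : W ≤ X) (hXN : X ≤ normalizerIn T W)
    (hrel : ∀ x ∈ X, ∃ x' ∈ X, ∀ w ∈ W, f (x * w * x⁻¹) = x' * f w * x'⁻¹) :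
    ∃ f', Aa F E₁ E₂ T p X f' ∧ ∀ w ∈ W, f' w = f w := by
  have hT := C.scT
  have hTS := C.TS
  obtain ⟨huW, α, hα, hαe⟩ := hf
  have hWfc := isFullyCentralized_of_isFullyNormalized F C.hS C.hF hfn
  have hGd : Gd F E₁ E₂ T W f := (gd_of_gm hWfc (gm_of_AA C huW hα)).congr hαe
  have hXT : X ≤ T := hXN.trans inf_le_left
  have hXS := hXT.trans hTS
  haveI : Finite X := finite_of_le hXS
  haveI : Finite (MulAut X) := Cfsg.Agent.Lib.Fusion.Basic.finite_mulAut_of_finite (A := X)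
  have hXfc := fc_up C.hS C.hF hT hfn hWT hcz hWX hXN
  have huX : Uc F T X := huW.up hWX hXT
  have hczX := huX.self hTS
  have lev : ∀ {R : Subgroup Ω} {G : FusionSystem R}, Lvl F G T p → PiA G T W f → ∃ b, Mp G X b ∧ Img X b X ∧ (∀ x ∈ W, b x = f x) ∧
      (∃ q : ℕ, q.Coprime p ∧ ∀ x ∈ X, b^[q] x = x) ∧ PiA G T X b := by
    intro R G L hpi
    haveI : Finite R := L.finite
    exact a5_gen L.hR L.hG L.scT' (L.fn hfn hWT) hWT hcz hWX hXN ⟨pi_mp hpi, hGd.1, hq⟩ hpi hrel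
  obtain ⟨b₀, hb₀, hb₀i, hb₀W, ⟨q₀, hq₀, hq₀e⟩, hb₀pi⟩ := lev C.L₀ hGd.2.1
  obtain ⟨a₀, ha₀, ha₀e⟩ := hb₀.toAut hb₀i
  have ha₀f : ∀ x ∈ X, autFun a₀ x = b₀ x := fun x hx => by
    rw [autFun_of_mem a₀ hx]
    exact ha₀e ⟨x, hx⟩
  have htrans : ∀ {R : Subgroup Ω} {G : FusionSystem R}, Lvl F G T p → PiA G T W f → PiA G T X b₀ := by
    intro R G L hpi
    obtain ⟨b, hb, hbi, hbW, ⟨q', hq', hq'e⟩, hbpi⟩ := lev L hpi
    obtain ⟨a', ha', ha'e⟩ := (L.mp hb).toAut hbi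
    have ha'f : ∀ x ∈ X, autFun a' x = b x := fun x hx => by
      rw [autFun_of_mem a' hx]
      exact ha'e ⟨x, hx⟩
    have h1 : a₀ ^ q₀ = 1 := pow_of_iter (fun x hx => by
      rw [iterate_congr (img_autFun a₀).1 ha₀f q₀ hx]
      exact hq₀e x hx)
    have h2 : a' ^ q' = 1 := pow_of_iter (fun x hx => by
      rw [iterate_congr (img_autFun a').1 ha'f q' hx]
      exact hq'e x hx)
    have h3 : a₀ ^ (q₀ * q') = 1 := by rw [pow_mul, h1, one_pow]
    have h4 : a' ^ (q₀ * q') = 1 := by rw [mul_comm, pow_mul, h2, one_pow]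
    have hWa₀ : ∀ x ∈ W, autFun a₀ x = f x := fun x hx => by rw [ha₀f x (hWX hx), hb₀W x hx]
    have hWa' : ∀ x ∈ W, autFun a' x = f x := fun x hx => by rw [ha'f x (hWX hx), hbW x hx]
    obtain ⟨u, hu, hue⟩ := sz_conj C.hS hT hWX hXT hcz ha₀ ha' (fun x hx => by rw [hWa₀ x hx, hWa' x hx])
      (hGd.1.congr (fun x hx => (hWa₀ x hx).symm))
      (fun x hx => two_maps hT hXN hWX (mp_autFun hXS ha₀) (mp_autFun hXS ha') hWa₀ hWa' hGd.1 hx)
      h3 h4 (Nat.Coprime.mul_left hq₀ hq')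
    refine st_tr L hXfc hXfc hXT hczX (mp_autFun hXS hu) (img_autFun u) hbpi hbi.1 (fun x hx => ?_)
    rw [← ha₀f _ (autFun_mem u hx), ← ha'f x hx, ← hue, conj_fun]
  have hGdX : Gd F E₁ E₂ T X b₀ := ⟨hb₀i, hb₀pi, htrans C.L₁ hGd.2.2.1, htrans C.L₂ hGd.2.2.2⟩
  have hGmX := gm_of_gd C hXfc hXT hczX hGdX
  refine ⟨b₀, ⟨huX, a₀, Subgroup.subset_closure (Or.inl ⟨hGmX.congr (fun x hx => (ha₀f x hx).symm), q₀, hq₀, fun x hx => ?_⟩), ha₀f⟩, hb₀W⟩
  rw [iterate_congr (img_autFun a₀).1 ha₀f q₀ hx]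
  exact hq₀e x hx

end Cfsg.Agent.Lib.FusionExt.Meet6
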