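import Cfsg.Agent.Lib.FusionExt.Meet6

/-!
# Meets of normal subsystems: the good subgroups and the Frattini argument (helper92)
-/

set_option autoImplicit false
set_option linter.unusedSectionVars false

namespace Cfsg.Agent.Lib.FusionExt.Meet7

open Cfsg Cfsg.FusionSystem Cfsg.Agent.Lib.Fusion.Basic Cfsg.Agent.Lib.Fusion.GroupSystem
open Cfsg.Agent.Lib.FusionExt.MapApi Cfsg.Agent.Lib.FusionExt.PowerSys Cfsg.Agent.Lib.FusionExt.LowPi
open Cfsg.Agent.Lib.FusionExt.PrimeRes1 Cfsg.Agent.Lib.Fusion.Saturation Cfsg.Agent.Lib.Fusion.Saturation2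
open Cfsg.Agent.Lib.FusionExt.Basic Cfsg.Agent.Lib.FusionExt.Normal Cfsg.Agent.Lib.FusionExt.PowerGen
open Cfsg.Agent.Lib.Fusion.KSystem Cfsg.Agent.Lib.FusionExt.Invariant
open Cfsg.Agent.Lib.FusionExt.PowerE Cfsg.Agent.Lib.FusionExt.Meet1 Cfsg.Agent.Lib.FusionExt.Meet2
open Cfsg.Agent.Lib.FusionExt.Glue1 Cfsg.Agent.Lib.FusionExt.Glue2 Cfsg.Agent.Lib.FusionExt.Glue3 Cfsg.Agent.Lib.FusionExt.Glue4
open Cfsg.Agent.Lib.FusionExt.Meet3 Cfsg.Agent.Lib.FusionExt.CentE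
open Cfsg.Agent.Lib.Core.Residual Cfsg.Agent.Lib.FusionExt.Meet4 Cfsg.Agent.Lib.FusionExt.Meet5 Cfsg.Agent.Lib.FusionExt.Meet6

universe u

variable {Ω : Type u} [Group Ω] {S T T₁ T₂ : Subgroup Ω} {F : FusionSystem S} {E₁ : FusionSystem T₁} {E₂ : FusionSystem T₂} {p : ℕ}
variable {W W' X Y U U' P Q : Subgroup Ω} {f f' g h k κ φ ψ χ a : Ω → Ω}
variable [Finite S] [Fact p.Prime]

/-- `aSub` is `AA`. -/
theorem aSub_eq (C : Ctx F E₁ E₂ T p) (h : Uc F T W) : aSub (fam C) h = AA F E₁ E₂ T p W := by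
  ext α
  constructor
  · rintro ⟨-, β, hβ, e⟩
    have : β = α := eq_of_autFun e
    rwa [← this]
  · intro hα
    exact ⟨h, α, hα, fun _ _ => rfl⟩

/-- A maps of `T` sending `W` to `W'` transports the Sylow property. -/
theorem syl_tr (C : Ctx F E₁ E₂ T p) (ha : Mp F T a) (hai : Img T a T) (huW : Uc F T W) (hi : Img W a W')
    (hsyl : IsSylowIn p (autInducedBy T W') (AA F E₁ E₂ T p W')) : IsSylowIn p (autInducedBy T W) (AA F E₁ E₂ T p W) := by
  have hT := C.scT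
  have hTS := C.TS
  have hWT := huW.1
  have hWS := hWT.trans hTS
  have haW : Mp F W a := ha.restrict hWT
  have hW'T : W' ≤ T := by
    intro y hy
    obtain ⟨x, hx, rfl⟩ := hi.2 y hy
    exact hai.1 x (hWT hx)
  have huW' : Uc F T W' := huW.conj hT haW hi
  haveI : Finite W' := finite_of_le (hW'T.trans hTS)
  haveI : Finite W := finite_of_le hWS
  haveI : Finite (MulAut W') := Cfsg.Agent.Lib.Fusion.Basic.finite_mulAut_of_finite (A := W')
  obtain ⟨e, hee⟩ := exists_iso haW hi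
  have hce := fun β (x : Ω) (hx : x ∈ W) => autFun_congr_apply e hee β hx
  obtain ⟨b, hb, hb1, hb2, hbi⟩ := ha.inverse hai
  have hbW : Img W' b W := by
    refine ⟨fun y hy => ?_, fun x hx => ⟨a x, hi.1 x hx, hb1 x (hWT hx)⟩⟩
    obtain ⟨x, hx, rfl⟩ := hi.2 y hy
    rw [hb1 x (hWT hx)]
    exact hx
  let c : MulAut W' ≃* MulAut W := (MulAut.congr e).symm
  have hcc : ∀ β : MulAut W', MulAut.congr e (c β) = β := fun β => (MulAut.congr e).apply_symm_apply β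
  have hcc' : ∀ β : MulAut W, c (MulAut.congr e β) = β := fun β => (MulAut.congr e).symm_apply_apply β
  -- the map on `AA`
  have hAA : (AA F E₁ E₂ T p W').map c.toMonoidHom = AA F E₁ E₂ T p W := by
    apply le_antisymm
    · rintro _ ⟨β, hβ, rfl⟩
      obtain ⟨β', hβ', e'⟩ := AA_tr (hb.restrict hW'T) hbW hβ
      have : β' = c β := by
        apply eq_of_autFun
        intro x hx
        have hax := hi.1 x hx
        have h1 := e' _ hax
        rw [hb1 x (hWT hx)] at h1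
        rw [h1]
        have h2 := hce (c β) x hx
        rw [hcc] at h2
        have h3 : a (autFun (c β) x) ∈ W' := hi.1 _ (autFun_mem _ hx)
        rw [h2, hb1 _ (hWT (autFun_mem _ hx))]
      show c β ∈ _
      rwa [← this]
    · intro β hβ
      obtain ⟨β', hβ', e'⟩ := AA_tr haW hi hβ
      refine ⟨β', hβ', ?_⟩
      show c β' = β
      have : β' = MulAut.congr e β := by
        apply eq_of_autFun
        intro y hy
        obtain ⟨x, hx, rfl⟩ := hi.2 y hy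
        rw [e' x hx, hce β x hx]
      rw [this, hcc']
  have hAT : (autInducedBy T W').map c.toMonoidHom = autInducedBy T W := by
    apply le_antisymm
    · rintro _ ⟨β, hβ, rfl⟩
      obtain ⟨t, ht, hte⟩ := inT_iff.1 hβ
      have key : ∀ x ∈ W, autFun (c β) x = b t * x * (b t)⁻¹ := by
        intro x hx
        have hax := hi.1 x hx
        have h2 := hce (c β) x hx
        rw [hcc, hte _ hax] at h2
        apply ha.inj (hWT (autFun_mem _ hx)) (T.mul_mem (T.mul_mem (hbi.1 t ht.1) (hWT hx)) (T.inv_mem (hbi.1 t ht.1)))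
        rw [← h2, ha.map_mul (T.mul_mem (hbi.1 t ht.1) (hWT hx)) (T.inv_mem (hbi.1 t ht.1)),
          ha.map_mul (hbi.1 t ht.1) (hWT hx), ha.map_inv (hbi.1 t ht.1), hb2 t ht.1]
      refine inT_iff.2 ⟨b t, ⟨hbi.1 t ht.1, ?_⟩, key⟩
      refine mem_normalizer_of_conj_le' (fun x hx => ?_)
      rw [← key x hx]
      exact autFun_mem _ hx
    · intro β hβ
      obtain ⟨t, ht, hte⟩ := inT_iff.1 hβ
      have key : ∀ y ∈ W', autFun (MulAut.congr e β) y = a t * y * (a t)⁻¹ := by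
        intro y hy
        obtain ⟨x, hx, rfl⟩ := hi.2 y hy
        rw [hce β x hx, hte x hx]
        exact ha.map_conj ht.1 (hWT hx)
      have hat : a t ∈ T := hai.1 t ht.1
      have hm : MulAut.congr e β ∈ autInducedBy T W' := by
        refine inT_iff.2 ⟨a t, ⟨hat, ?_⟩, key⟩
        refine mem_normalizer_of_conj_le' (fun y hy => ?_)
        rw [← key y hy]
        exact autFun_mem _ hy
      exact ⟨_, hm, hcc' β⟩
  have hle : autInducedBy T W' ≤ AA F E₁ E₂ T p W' := fun x hx => by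
    obtain ⟨t, ht, e'⟩ := inT_iff.1 hx
    obtain ⟨α, hα, e''⟩ := aa_inner_any C huW' ht
    have : α = x := eq_of_autFun (fun y hy => (e'' y hy).trans (e' y hy).symm)
    rwa [← this]
  have := image_sylow c.toMonoidHom hsyl hle
  rwa [hAA, hAT] at this

/-- The good subgroups. -/
def Fl (F : FusionSystem S) (T W : Subgroup Ω) : Prop :=
  Uc F T W ∧ ∃ a W', Mp F T a ∧ Img T a T ∧ Img W a W' ∧ F.IsFullyNormalized W'

/-- Contrapositive form of the centric condition at a fully normalized subgroup. -/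
theorem uc_of_fn {R : Subgroup Ω} {G : FusionSystem R} [Finite R] (hR : IsPGroup p R) (hG : G.IsSaturated p) (hfn : G.IsFullyNormalized W)
    (hcz : zz T W ≤ W) (hTG : G.StronglyClosed T) {Q : Subgroup Ω} (hQ : G.IsConj Q W) : zz T Q ≤ Q := by
  have hr := isReceptive_of_isFullyNormalized G hR hG hfn
  obtain ⟨φ₀, hφ₀, hφr⟩ := hQ
  have hφ : Mp G Q (extOf φ₀) := mp_of_hom hφ₀
  have hφi : Img Q (extOf φ₀) W := by
    refine ⟨fun x hx => ?_, fun y hy => ?_⟩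
    · rw [extOf_of_mem φ₀ hx, ← hφr]
      exact ⟨_, rfl⟩
    · rw [← hφr] at hy
      obtain ⟨x, rfl⟩ := hy
      exact ⟨x, x.2, extOf_coe φ₀ x⟩
  obtain ⟨ĝ, hĝ, hĝe⟩ := ext_cent hr hφ hφi
  have hĝi : Img Q ĝ W := hφi.congr (fun x hx => (hĝe x hx).symm)
  intro z hz
  have hzT := (mem_zz.1 hz).1
  have hzC : z ∈ centralizerIn R Q := mem_cent.2 ⟨hTG.1 hzT, (mem_zz.1 hz).2⟩
  have hzW : z ∈ Q ⊔ centralizerIn R Q := Subgroup.mem_sup_right hzC
  have hgz : ĝ z ∈ zz T W := by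
    refine mem_zz.2 ⟨sc_mp hTG (hĝ.restrict (inf_le_left : (Q ⊔ centralizerIn R Q) ⊓ T ≤ _)) inf_le_right ⟨hzW, hzT⟩,
      (mem_cent.1 (map_cent hĝ hĝi.2 hzC)).2⟩
  obtain ⟨x, hx, e⟩ := hĝi.2 _ (hcz hgz)
  rw [← hĝ.inj (Subgroup.mem_sup_left hx) hzW e]
  exact hx

theorem uc_of_fn_F (C : Ctx F E₁ E₂ T p) (hfn : F.IsFullyNormalized W) (hWT : W ≤ T) (hcz : zz T W ≤ W) : Uc F T W :=
  ⟨hWT, fun Q hQ => uc_of_fn C.hS C.hF hfn hcz C.scT (isConj_symm F hQ)⟩

/-- **The Frattini argument for `F`.** -/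
theorem fr_F (C : Ctx F E₁ E₂ T p) : ∀ (X : Subgroup Ω) (f : Ω → Ω), X ≤ T → Mp F X f → Fa F T (Aa F E₁ E₂ T p) X f := by
  refine fr_gen (fam C) C.hS C.hF C.scT (fun _ _ h => h) (fun h => (fam C).mp h) (fun W h hfn => ?_) (fun W hfn hWT hnu hcz => ?_)
  · rw [aSub_eq C]
    exact syl_main C hfn h.1 (h.self C.TS)
  · exact hnu (uc_of_fn_F C hfn hWT hcz)

/-- **The good subgroups.** -/
theorem flS (C : Ctx F E₁ E₂ T p) : FlS (fam C) p (Fl F T) where
  uc := fun h => h.1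
  syl := fun {W} h => by
    rw [aSub_eq C]
    obtain ⟨huW, a, W', ha, hai, hi, hfn⟩ := h
    have huW' : Uc F T W' := huW.conj C.scT (ha.restrict huW.1) hi
    exact syl_tr C ha hai huW hi (syl_main C hfn huW'.1 (huW'.self C.TS))
  ext := by
    intro W X f hW hf hq hWX hXN hrel
    obtain ⟨huW, a, W', ha, hai, hi, hfn⟩ := hW
    have hA := fam C
    have hT := C.scT
    have hTS := C.TS
    have hXT : X ≤ T := hXN.trans inf_le_left
    have hWT := huW.1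
    obtain ⟨b, hb, hb1, hb2, hbi⟩ := ha.inverse hai
    have huW' : Uc F T W' := huW.conj hT (ha.restrict hWT) hi
    obtain ⟨X', hX'⟩ := (ha.restrict hXT).exists_img
    have hX'T : X' ≤ T := by
      intro y hy
      obtain ⟨x, hx, rfl⟩ := hX'.2 y hy
      exact hai.1 x (hXT hx)
    have hW'T := huW'.1
    obtain ⟨f₁, hf₁, hf₁e⟩ := hA.tr hf (ha.restrict hWT) hi
    have hWX' : W' ≤ X' := by
      intro y hy
      obtain ⟨x, hx, rfl⟩ := hi.2 y hy
      exact hX'.1 x (hWX hx)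
    have hX'N : X' ≤ normalizerIn T W' := by
      intro y hy
      obtain ⟨x, hx, rfl⟩ := hX'.2 y hy
      haveI : Finite W' := finite_of_le (hW'T.trans hTS)
      refine ⟨hX'T (hX'.1 x hx), mem_normalizer_of_conj_le' (fun u hu => ?_)⟩
      obtain ⟨w, hw, rfl⟩ := hi.2 u hu
      rw [← ha.map_conj (hXT hx) (hWT hw)]
      exact hi.1 _ (norm_conj (hXN hx).2 hw)
    have hfW := (hA.img hf)
    have hq' : ∃ m : ℕ, m.Coprime p ∧ ∀ x ∈ W', f₁^[m] x = x := by
      obtain ⟨m, hm, hme⟩ := hq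
      refine ⟨m, hm, fun y hy => ?_⟩
      obtain ⟨x, hx, rfl⟩ := hi.2 y hy
      have key : ∀ j : ℕ, f₁^[j] (a x) = a (f^[j] x) := by
        intro j
        induction j with
        | zero => rfl
        | succ j ih =>
          rw [Function.iterate_succ_apply', Function.iterate_succ_apply', ih, hf₁e _ (iterate_mem hfW.1 j hx)]
      rw [key m, hme x hx]
    have hrel' : ∀ x ∈ X', ∃ x' ∈ X', ∀ w ∈ W', f₁ (x * w * x⁻¹) = x' * f₁ w * x'⁻¹ := by
      intro y hy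
      obtain ⟨x, hx, rfl⟩ := hX'.2 y hy
      obtain ⟨x', hx', e⟩ := hrel x hx
      refine ⟨a x', hX'.1 x' hx', fun u hu => ?_⟩
      obtain ⟨w, hw, rfl⟩ := hi.2 u hu
      rw [← ha.map_conj (hXT hx) (hWT hw), hf₁e _ (norm_conj (hXN hx).2 hw), hf₁e w hw, e w hw]
      exact ha.map_conj (hXT hx') (hWT (hfW.1 w hw))
    obtain ⟨f₂, hf₂, hf₂e⟩ := ext_a5 C hfn hW'T (huW'.self hTS) hf₁ hq' hWX' hX'N hrel'
    have hbX : Img X' b X := by
      refine ⟨fun y hy => ?_, fun x hx => ⟨a x, hX'.1 x hx, hb1 x (hXT hx)⟩⟩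
      obtain ⟨x, hx, rfl⟩ := hX'.2 y hy
      rw [hb1 x (hXT hx)]
      exact hx
    obtain ⟨f₃, hf₃, hf₃e⟩ := hA.tr hf₂ (hb.restrict hX'T) hbX
    refine ⟨f₃, hf₃, fun w hw => ?_⟩
    have h1 := hf₃e _ (hWX' (hi.1 w hw))
    rw [hb1 w (hWT hw), hf₂e _ (hi.1 w hw), hf₁e w hw, hb1 _ (hWT (hfW.1 w hw))] at h1
    exact h1
  exist := by
    intro U hU
    have hA := fam C
    have hT := C.scT
    have hTS := C.TS
    obtain ⟨W₀, hUW₀, hW₀fn⟩ := exists_isFullyNormalized F (hU.1.trans hTS)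
    obtain ⟨φ₀, hφ₀, hr⟩ := id hUW₀
    obtain ⟨a, δ, h1, h2, h3, h4⟩ := fr_F C U (extOf φ₀) hU.1 (mp_of_hom hφ₀)
    obtain ⟨W, hW⟩ := (h3.mp hA).exists_img
    refine ⟨W, δ, ⟨hU.conj hT (h3.mp hA) hW, a, W₀, h1, h2, ⟨fun y hy => ?_, fun y hy => ?_⟩, hW₀fn⟩, h3, hW⟩
    · obtain ⟨x, hx, rfl⟩ := hW.2 y hy
      rw [← h4 x hx, extOf_of_mem φ₀ hx, ← hr]
      exact ⟨_, rfl⟩
    · rw [← hr] at hy
      obtain ⟨x, rfl⟩ := hy
      exact ⟨δ x, hW.1 x x.2, by rw [← h4 x x.2, extOf_coe]⟩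

/-- Saturation of the meet. -/
theorem D_saturated (C : Ctx F E₁ E₂ T p) : (mkD (fam C)).IsSaturated p :=
  D_sat (C.hS.to_le C.TS) (fam C) (flS C) (fr_F C)

end Cfsg.Agent.Lib.FusionExt.Meet7
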