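import Cfsg.Agent.Lib.FusionExt.Meet7
import Cfsg.Agent.Lib.FusionExt.PPrimeMin
import Cfsg.Agent.Lib.FusionExt.Comp1
import Cfsg.Agent.Lib.Fusion.Alperin

/-!
# Meets of normal subsystems: the theorem (helper92)
-/

set_option autoImplicit false
set_option linter.unusedSectionVars false

namespace Cfsg.Agent.Lib.FusionExt.Meet8

open Cfsg Cfsg.FusionSystem Cfsg.Agent.Lib.Fusion.Basic Cfsg.Agent.Lib.Fusion.GroupSystem
open Cfsg.Agent.Lib.FusionExt.MapApi Cfsg.Agent.Lib.FusionExt.PowerSys Cfsg.Agent.Lib.FusionExt.LowPi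
open Cfsg.Agent.Lib.FusionExt.PrimeRes1 Cfsg.Agent.Lib.Fusion.Saturation Cfsg.Agent.Lib.Fusion.Saturation2
open Cfsg.Agent.Lib.FusionExt.Basic Cfsg.Agent.Lib.FusionExt.Normal Cfsg.Agent.Lib.FusionExt.PowerGen
open Cfsg.Agent.Lib.Fusion.KSystem Cfsg.Agent.Lib.FusionExt.Invariant
open Cfsg.Agent.Lib.FusionExt.PowerE Cfsg.Agent.Lib.FusionExt.Meet1 Cfsg.Agent.Lib.FusionExt.Meet2
open Cfsg.Agent.Lib.FusionExt.Glue1 Cfsg.Agent.Lib.FusionExt.Glue2 Cfsg.Agent.Lib.FusionExt.Glue3 Cfsg.Agent.Lib.FusionExt.Glue4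
open Cfsg.Agent.Lib.FusionExt.Meet3 Cfsg.Agent.Lib.FusionExt.CentE
open Cfsg.Agent.Lib.Core.Residual Cfsg.Agent.Lib.FusionExt.Meet4 Cfsg.Agent.Lib.FusionExt.Meet5 Cfsg.Agent.Lib.FusionExt.Meet6
open Cfsg.Agent.Lib.FusionExt.Meet7

universe u

variable {Ω : Type u} [Group Ω] {S T T₁ T₂ R : Subgroup Ω} {F : FusionSystem S} {E₁ : FusionSystem T₁} {E₂ : FusionSystem T₂} {p : ℕ}
variable {G : FusionSystem R}
variable {W W' X Y U U' P Q : Subgroup Ω} {f f' g h k κ φ ψ χ a : Ω → Ω}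
variable [Finite S] [Fact p.Prime]

/-- Maps of the family are maps of each level. -/
theorem aa_mp (C : Ctx F E₁ E₂ T p) (L : Lvl F G T p) (hpi : ∀ {W : Subgroup Ω} {f' : Ω → Ω}, Gd F E₁ E₂ T W f' → PiA G T W f')
    (h : Aa F E₁ E₂ T p P f) : Mp G P f := by
  obtain ⟨h1, α, hα, hαe⟩ := h
  exact (gm_mp_lvl C L hpi h1 (gm_of_AA C h1 hα)).congr hαe

/-- The meet is contained in each level. -/
theorem D_le (C : Ctx F E₁ E₂ T p) (L : Lvl F G T p) (hpi : ∀ {W : Subgroup Ω} {f' : Ω → Ω}, Gd F E₁ E₂ T W f' → PiA G T W f') :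
    (mkD (fam C)).IsSubsystemOf G := by
  intro P φ hφ
  have h1 : Dp T (Aa F E₁ E₂ T p) P (extOf φ) := (mp_D (A := fam C)).1 (mp_of_hom hφ)
  have key : ∀ {X : Subgroup Ω} {f : Ω → Ω}, Dp T (Aa F E₁ E₂ T p) X f → Mp G X f := by
    intro X f hd
    induction hd with
    | @nil X' f' hX h => exact (Mp.refl (hX.trans L.hTR)).congr (fun x hx => (h x hx).symm)
    | @cons X' Y' P' g' h' f' h1 h2 h3 h4 h5 ih =>
      exact (((aa_mp C L hpi h1).restrict h2).comp h3.1 ih).congr (fun x hx => (h5 x hx).symm)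
  exact hom_of_mp (key h1)

/-- The Frattini argument at each level. -/
theorem fr_lvl (C : Ctx F E₁ E₂ T p) (L : Lvl F G T p) (hpi : ∀ {W : Subgroup Ω} {f' : Ω → Ω}, Gd F E₁ E₂ T W f' → PiA G T W f') :
    ∀ (X : Subgroup Ω) (f : Ω → Ω), X ≤ T → Mp G X f → Fa G T (Aa F E₁ E₂ T p) X f := by
  haveI : Finite R := L.finite
  have hTp : IsPGroup p T := C.hS.to_le C.TS
  haveI : Finite T := finite_of_le C.TS
  have hA := fam C
  have hDs := D_saturated C
  have hDG := D_le C L hpi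
  refine fr_gen hA L.hR L.hG L.scT' L.sub (fun h => aa_mp C L hpi h) (fun W h hfn => ?_) (fun W hfn hWT hnu hcz => hnu ?_)
  · have hfnD : (mkD hA).IsFullyNormalized W := fn_sub L.hR L.hG hDG L.scT' hfn h.1
    have hFA := isFullyAutomized_of_isFullyNormalized (F := mkD hA) hTp hDs hfnD
    have hs : IsSylowIn p (autInducedBy T W) ((mkD hA).autGroup W) := hFA.2
    have e : (mkD hA).autGroup W = aSub hA h :=
      le_antisymm (fun α hα => aut_D hTp hA (flS C) h hα) (fun α hα => le_aut_D hA h hα)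
    rwa [e] at hs
  · refine ⟨hWT, fun Q hQ => ?_⟩
    obtain ⟨φ₀, hφ₀, hr⟩ := hQ
    have hφi : Img W (extOf φ₀) Q := by
      refine ⟨fun x hx => ?_, fun y hy => ?_⟩
      · rw [extOf_of_mem φ₀ hx, ← hr]
        exact ⟨_, rfl⟩
      · rw [← hr] at hy
        obtain ⟨x, rfl⟩ := hy
        exact ⟨x, x.2, extOf_coe φ₀ x⟩
    obtain ⟨a, δ, h1, h2, h3, h4⟩ := fr_F C W (extOf φ₀) hWT (mp_of_hom hφ₀)
    obtain ⟨W₁, hW₁⟩ := (h3.mp hA).exists_img
    have hδG : Mp G W δ := mp_sub hDG ((mp_D (A := hA)).2 h3)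
    have hz1 : zz T W₁ ≤ W₁ := uc_of_fn L.hR L.hG hfn hcz L.scT' (isConj_symm G (hδG.isConj hW₁))
    obtain ⟨b, hb, hb1, hb2, hbi⟩ := h1.inverse h2
    intro z hz
    have hzT := (mem_zz.1 hz).1
    have hbz : b z ∈ zz T W₁ := by
      refine mem_zz.2 ⟨hbi.1 z hzT, fun y hy => ?_⟩
      obtain ⟨x, hx, rfl⟩ := hW₁.2 y hy
      have hδT := h3.mem_T hA hx
      have h5 : a (δ x) ∈ Q := by
        rw [← h4 x hx]
        exact hφi.1 x hx
      have h6 := (mem_zz.1 hz).2 _ h5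
      apply h1.inj (T.mul_mem hδT (hbi.1 z hzT)) (T.mul_mem (hbi.1 z hzT) hδT)
      rw [h1.map_mul hδT (hbi.1 z hzT), h1.map_mul (hbi.1 z hzT) hδT, hb2 z hzT]
      exact h6
    obtain ⟨x, hx, ex⟩ := hW₁.2 _ (hz1 hbz)
    have h9 : z = extOf φ₀ x := by
      rw [h4 x hx, ex, hb2 z hzT]
    rw [h9]
    exact hφi.1 x hx

/-- `T` has no other conjugates. -/
theorem T_fc (hT : F.StronglyClosed T) : F.IsFullyCentralized T := by
  refine ⟨hT.1, fun Q hQ => ?_⟩
  obtain ⟨φ, hφ, hr⟩ := id hQ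
  have hQT : Q ≤ T := by
    rw [← hr]
    rintro _ ⟨x, rfl⟩
    exact hT.2 T le_rfl φ hφ x
  haveI : Finite T := finite_of_le hT.1
  have : Q = T := Subgroup.eq_of_le_of_card_ge hQT (isConj_card_eq F hQ).le
  rw [this]

/-- **Normality at each level.** -/
theorem D_normal_lvl (C : Ctx F E₁ E₂ T p) (L : Lvl F G T p) (hpi : ∀ {W : Subgroup Ω} {f' : Ω → Ω}, Gd F E₁ E₂ T W f' → PiA G T W f') :
    (mkD (fam C)).IsNormalIn G p := by
  haveI : Finite R := L.finite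
  have hTp : IsPGroup p T := C.hS.to_le C.TS
  haveI : Finite T := finite_of_le C.TS
  have hA := fam C
  refine D_normal L.hG hTp hA (D_saturated C) L.scT' L.sub (D_le C L hpi) (fr_lvl C L hpi) (fun α hα => ?_)
  have huT : Uc F T T := uc_top C.scT
  have hα' := aut_D hTp hA (flS C) huT hα
  rw [aSub_eq C] at hα'
  have hGd := gd_of_gm (T_fc C.scT) (gm_of_AA C huT hα')
  obtain ⟨g, hg, he, hc⟩ := hpi hGd
  have hiT : Img T g T := hGd.1.congr (fun x hx => (he x hx).symm)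
  obtain ⟨β, hβ, hβe⟩ := hg.toAut (wt_maps hg hiT)
  refine ⟨β, hβ, fun x => ?_, fun c hc' => ?_⟩
  · rw [hβe, ← autFun_coe α]
    exact he x x.2
  · rw [hβe]
    exact hc c hc'

/-- **The meet contains every other normal subsystem over `T`.** -/
theorem largest (C : Ctx F E₁ E₂ T p) (D' : FusionSystem T) (hF' : D'.IsNormalIn F p) (h₁ : D'.IsNormalIn E₁ p) (h₂ : D'.IsNormalIn E₂ p) :
    D'.IsSubsystemOf (mkD (fam C)) := by
  have hT := C.scT
  have hTS := C.TS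
  have hTp : IsPGroup p T := C.hS.to_le hTS
  haveI : Finite T := finite_of_le hTS
  haveI : Finite T₁ := finite_of_le C.L₁.le
  haveI : Finite T₂ := finite_of_le C.L₂.le
  have hA := fam C
  have hDs' : D'.IsSaturated p := hF'.1.1
  have LD : Lvl F D' T p := lvl_of_normal C.hS hF' hT le_rfl
  have hFrD := hF'.1.2.2.2.2.2
  have hT' : D'.IsSubsystemOf F := hF'.1.2.2.1
  have hmain : D' ≤ mkD hA := by
    refine Cfsg.Agent.Lib.Fusion.Alperin.alperin_goldschmidt D' hTp hDs' (mkD hA) (fun P hP α hα => ?_)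
    have hPT : P ≤ T := by
      rcases hP with hP | hP
      · exact hP.le
      · exact hP.1.1
    have hfnP : D'.IsFullyNormalized P := by
      rcases hP with rfl | hP
      · refine ⟨le_rfl, fun Q hQ => ?_⟩
        have e : normalizerIn P P = P := le_antisymm (normalizerIn_le_left P P) (le_normalizerIn le_rfl)
        rw [e]
        exact Subgroup.card_le_of_le (normalizerIn_le_left P Q)
      · exact hP.2.1
    have huc : Uc F T P := by
      rcases hP with rfl | hP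
      · exact uc_top hT
      · exact ⟨hP.1.1, fun Q hQ => Cfsg.Agent.Lib.FusionExt.PPrimeMin.hc_of_centric hFrD hP.1 hQ⟩
    suffices hαA : α ∈ AA F E₁ E₂ T p P by
      refine le_aut_D hA huc ?_
      rw [aSub_eq C]
      exact hαA
    have hFA := isFullyAutomized_of_isFullyNormalized (F := D') hTp hDs' hfnP
    have hsyl : IsSylowIn p (autInducedBy T P) (D'.autGroup P) := hFA.2
    haveI : Finite P := finite_of_le hPT
    haveI : Finite (MulAut P) := Cfsg.Agent.Lib.Fusion.Basic.finite_mulAut_of_finite (A := P)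
    have hK : D'.autGroup P ⊓ AA F E₁ E₂ T p P = D'.autGroup P := by
      refine eq_of_sylow_pprime hsyl (fun c hc => ⟨autInducedBy_le_autGroup D' hPT hc, ?_⟩) inf_le_left ?_
      · obtain ⟨t, ht, e'⟩ := inT_iff.1 hc
        obtain ⟨β, hβ, e''⟩ := aa_inner_any C huc ht
        have : β = c := eq_of_autFun (fun y hy => (e'' y hy).trans (e' y hy).symm)
        rwa [← this]
      · rintro b hb ⟨q, hq, hqe⟩
        refine ⟨hb, Subgroup.subset_closure (Or.inl ⟨⟨LD.mp (mp_autFun hPT hb), img_autFun b, fun W φ hW hφ hi => ?_⟩, q, hq, fun x hx => ?_⟩)⟩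
        · have huW := huc.conj hT hφ hi
          obtain ⟨g', hg', e⟩ := LD.tw hPT (mp_autFun hPT hb) (img_autFun b).1 hφ hi
          have hg'i : Img W g' W := by
            refine ⟨fun y hy => ?_, fun y hy => ?_⟩
            · obtain ⟨x, hx, rfl⟩ := hi.2 y hy
              rw [e x hx]
              exact hi.1 _ (autFun_mem b hx)
            · obtain ⟨x, hx, rfl⟩ := hi.2 y hy
              obtain ⟨u, hu, rfl⟩ := (img_autFun b).2 x hx
              exact ⟨φ u, hi.1 u hu, e u hu⟩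
          obtain ⟨a', ha', ha'e⟩ := hg'.toAut hg'i
          have ha'f : ∀ y ∈ W, autFun a' y = g' y := fun y hy => by
            rw [autFun_of_mem a' hy]
            exact ha'e ⟨y, hy⟩
          refine ⟨autFun a', ⟨img_autFun a', pi_main C.hS hF' W huW.1 huW.2 a' ha',
            pi_main C.L₁.hR h₁ W huW.1 (fun Q hQ => huW.2 Q ?_) a' ha', pi_main C.L₂.hR h₂ W huW.1 (fun Q hQ => huW.2 Q ?_) a' ha'⟩, fun x hx => ?_⟩
          · obtain ⟨ρ, hρ, hr⟩ := hQ
            exact ⟨ρ, C.L₁.sub W hρ, hr⟩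
          · obtain ⟨ρ, hρ, hr⟩ := hQ
            exact ⟨ρ, C.L₂.sub W hρ, hr⟩
          · rw [ha'f _ (hi.1 x hx)]
            exact e x hx
        · rw [show x = ((⟨x, hx⟩ : P) : Ω) from rfl, iterate_autFun, hqe]
          rfl
    rw [← hK] at hα
    exact hα.2
  exact fun P φ hφ => hmain P hφ

/-- **Aschbacher's theorem on the intersection of normal subsystems.** -/
theorem meet_main (hS : IsPGroup p S) (h₁ : E₁.IsNormalIn F p) (h₂ : E₂.IsNormalIn F p) :
    ∃ D : FusionSystem (T₁ ⊓ T₂), (D.IsNormalIn F p ∧ D.IsNormalIn E₁ p ∧ D.IsNormalIn E₂ p) ∧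
      ∀ D' : FusionSystem (T₁ ⊓ T₂), D'.IsNormalIn F p → D'.IsNormalIn E₁ p → D'.IsNormalIn E₂ p → D'.IsSubsystemOf D := by
  have hF : F.IsSaturated p := h₁.1.2.1
  have hsc₁ : F.StronglyClosed T₁ := h₁.1.2.2.2.1
  have hsc₂ : F.StronglyClosed T₂ := h₂.1.2.2.2.1
  have hT : F.StronglyClosed (T₁ ⊓ T₂) := Cfsg.Agent.Lib.FusionExt.Comp1.sc_inf hsc₁ hsc₂
  have C : Ctx F E₁ E₂ (T₁ ⊓ T₂) p :=
    ⟨lvl_self hS hF hT, lvl_of_normal hS h₁ hT inf_le_left, lvl_of_normal hS h₂ hT inf_le_right, fun x h1 h2 => ⟨h1, h2⟩⟩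
  refine ⟨mkD (fam C), ⟨D_normal_lvl C C.L₀ (fun h => h.2.1), D_normal_lvl C C.L₁ (fun h => h.2.2.1), D_normal_lvl C C.L₂ (fun h => h.2.2.2)⟩,
    fun D' h1 h2 h3 => largest C D' h1 h2 h3⟩

end Cfsg.Agent.Lib.FusionExt.Meet8
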