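import Cfsg.Agent.Lib.Fusion.GroupSystem

/-!
# Maps of a fusion system as total functions; stabilizers; saturation through hulls (helper92)
-/

set_option autoImplicit false

namespace Cfsg.Agent.Lib.FusionExt.MapApi

open Cfsg Cfsg.FusionSystem Cfsg.Agent.Lib.Fusion.Basic Cfsg.Agent.Lib.Fusion.GroupSystem

variable {Ω : Type*} [Group Ω] {S : Subgroup Ω}

/-- The function `f` agrees on `X` with a map of `F` with source `X`. -/
def Mp (F : FusionSystem S) (X : Subgroup Ω) (f : Ω → Ω) : Prop :=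
  ∃ φ ∈ F.Hom X, ∀ x : X, φ x = f x

/-- `f` carries `X` onto `Y`. -/
def Img (X : Subgroup Ω) (f : Ω → Ω) (Y : Subgroup Ω) : Prop :=
  (∀ x ∈ X, f x ∈ Y) ∧ ∀ y ∈ Y, ∃ x ∈ X, f x = y

open Classical in
/-- A homomorphism on `X` as a total function. -/
noncomputable def extOf {X : Subgroup Ω} (φ : X →* Ω) : Ω → Ω :=
  fun x => if h : x ∈ X then φ ⟨x, h⟩ else x

theorem extOf_of_mem {X : Subgroup Ω} (φ : X →* Ω) {x : Ω} (h : x ∈ X) : extOf φ x = φ ⟨x, h⟩ := by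
  simp only [extOf, dif_pos h]

theorem extOf_coe {X : Subgroup Ω} (φ : X →* Ω) (x : X) : extOf φ x = φ x := extOf_of_mem φ x.2

theorem mp_of_hom {F : FusionSystem S} {X : Subgroup Ω} {φ : X →* Ω} (h : φ ∈ F.Hom X) :
    Mp F X (extOf φ) := ⟨φ, h, fun x => (extOf_coe φ x).symm⟩

/-- A total function that is a homomorphism on `X`, as a homomorphism. -/
def homOf (X : Subgroup Ω) (f : Ω → Ω) (h : ∀ x ∈ X, ∀ y ∈ X, f (x * y) = f x * f y) : X →* Ω :=
  MonoidHom.mk' (fun x => f x) (fun a b => h a a.2 b b.2)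

theorem homOf_apply (X : Subgroup Ω) (f : Ω → Ω) (h : ∀ x ∈ X, ∀ y ∈ X, f (x * y) = f x * f y) (x : X) :
    homOf X f h x = f x := rfl

theorem Img.unique {X Y Z : Subgroup Ω} {f : Ω → Ω} (h1 : Img X f Y) (h2 : Img X f Z) : Y = Z := by
  ext y
  constructor
  · intro hy
    obtain ⟨x, hx, rfl⟩ := h1.2 y hy
    exact h2.1 x hx
  · intro hy
    obtain ⟨x, hx, rfl⟩ := h2.2 y hy
    exact h1.1 x hx

theorem Img.congr {X Y : Subgroup Ω} {f g : Ω → Ω} (h : Img X f Y) (e : ∀ x ∈ X, f x = g x) :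
    Img X g Y := by
  refine ⟨fun x hx => e x hx ▸ h.1 x hx, fun y hy => ?_⟩
  obtain ⟨x, hx, rfl⟩ := h.2 y hy
  exact ⟨x, hx, (e x hx).symm⟩

theorem Img.comp {X Y Z : Subgroup Ω} {f g : Ω → Ω} (h : Img X f Y) (k : Img Y g Z) :
    Img X (fun x => g (f x)) Z := by
  refine ⟨fun x hx => k.1 _ (h.1 x hx), fun z hz => ?_⟩
  obtain ⟨y, hy, rfl⟩ := k.2 z hz
  obtain ⟨x, hx, rfl⟩ := h.2 y hy
  exact ⟨x, hx, rfl⟩

theorem img_refl (X : Subgroup Ω) : Img X (fun x => x) X := ⟨fun _ h => h, fun y hy => ⟨y, hy, rfl⟩⟩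

namespace Mp

variable {F : FusionSystem S} {X Y Z Q : Subgroup Ω} {f g k : Ω → Ω}

theorem le (hf : Mp F X f) : X ≤ S := by
  obtain ⟨φ, hφ, -⟩ := hf
  exact Cfsg.Agent.Lib.Fusion.Basic.le_of_mem F hφ

theorem mem_S (hf : Mp F X f) {x : Ω} (hx : x ∈ X) : f x ∈ S := by
  obtain ⟨φ, hφ, e⟩ := hf
  rw [← e ⟨x, hx⟩]
  exact val_mem F hφ _

theorem congr (hf : Mp F X f) (e : ∀ x ∈ X, f x = g x) : Mp F X g := by
  obtain ⟨φ, hφ, e'⟩ := hf
  exact ⟨φ, hφ, fun x => (e' x).trans (e x x.2)⟩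

theorem restrict (hf : Mp F X f) (hY : Y ≤ X) : Mp F Y f := by
  obtain ⟨φ, hφ, e⟩ := hf
  exact ⟨φ.comp (Subgroup.inclusion hY), restrict_mem F hY hφ, fun x => e ⟨x, hY x.2⟩⟩

theorem comp (hf : Mp F X f) (hm : ∀ x ∈ X, f x ∈ Y) (hg : Mp F Y g) :
    Mp F X (fun x => g (f x)) := by
  obtain ⟨φ, hφ, e⟩ := hf
  obtain ⟨ψ, hψ, e'⟩ := hg
  have hv : ∀ x : X, φ x ∈ Y := fun x => by rw [e]; exact hm _ x.2
  refine ⟨ψ.comp (φ.codRestrict Y hv), F.comp_mem hφ hψ hv, fun x => ?_⟩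
  show ψ ⟨φ x, hv x⟩ = g (f x)
  rw [e' ⟨φ x, hv x⟩]
  show g (φ x) = _
  rw [e]

theorem conj (hX : X ≤ S) {a : Ω} (ha : a ∈ S) : Mp F X (fun x => a * x * a⁻¹) :=
  ⟨conjHom X a, F.conj_mem hX ha, fun _ => rfl⟩

theorem refl (hX : X ≤ S) : Mp F X (fun x => x) := ⟨X.subtype, subtype_mem F hX, fun _ => rfl⟩

theorem map_mul (hf : Mp F X f) {x y : Ω} (hx : x ∈ X) (hy : y ∈ X) : f (x * y) = f x * f y := by
  obtain ⟨φ, hφ, e⟩ := hf
  rw [← e ⟨x, hx⟩, ← e ⟨y, hy⟩, ← e ⟨x * y, X.mul_mem hx hy⟩, ← _root_.map_mul]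
  rfl

theorem map_one (hf : Mp F X f) : f 1 = 1 := by
  obtain ⟨φ, hφ, e⟩ := hf
  rw [← e ⟨1, X.one_mem⟩]
  exact _root_.map_one φ

theorem map_inv (hf : Mp F X f) {x : Ω} (hx : x ∈ X) : f x⁻¹ = (f x)⁻¹ := by
  obtain ⟨φ, hφ, e⟩ := hf
  rw [← e ⟨x, hx⟩, ← e ⟨x⁻¹, X.inv_mem hx⟩, ← _root_.map_inv]
  rfl

theorem map_conj (hf : Mp F X f) {x y : Ω} (hx : x ∈ X) (hy : y ∈ X) :
    f (x * y * x⁻¹) = f x * f y * (f x)⁻¹ := by
  rw [hf.map_mul (X.mul_mem hx hy) (X.inv_mem hx), hf.map_mul hx hy, hf.map_inv hx]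

theorem inj (hf : Mp F X f) {x y : Ω} (hx : x ∈ X) (hy : y ∈ X) (e : f x = f y) : x = y := by
  obtain ⟨φ, hφ, e'⟩ := hf
  have : φ ⟨x, hx⟩ = φ ⟨y, hy⟩ := by rw [e', e']; exact e
  exact congrArg Subtype.val (F.injective_of_mem hφ this)

theorem exists_img (hf : Mp F X f) : ∃ Y, Img X f Y := by
  obtain ⟨φ, hφ, e⟩ := hf
  refine ⟨φ.range, fun x hx => ⟨⟨x, hx⟩, e _⟩, ?_⟩
  rintro _ ⟨x, rfl⟩
  exact ⟨x, x.2, (e x).symm⟩

theorem img_le (hf : Mp F X f) (hi : Img X f Y) : Y ≤ S := by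
  intro y hy
  obtain ⟨x, hx, rfl⟩ := hi.2 y hy
  exact hf.mem_S hx

/-- A conjugacy of the system from a map. -/
theorem isConj (hf : Mp F X f) (hi : Img X f Y) : F.IsConj X Y := by
  obtain ⟨φ, hφ, e⟩ := hf
  refine ⟨φ, hφ, le_antisymm ?_ ?_⟩
  · rintro _ ⟨x, rfl⟩
    rw [e]
    exact hi.1 _ x.2
  · intro y hy
    obtain ⟨x, hx, rfl⟩ := hi.2 y hy
    exact ⟨⟨x, hx⟩, e _⟩

theorem range_eq {φ : X →* Ω} (e : ∀ x : X, φ x = f x) (hi : Img X f Y) : φ.range = Y := by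
  refine le_antisymm ?_ ?_
  · rintro _ ⟨x, rfl⟩
    rw [e]
    exact hi.1 _ x.2
  · intro y hy
    obtain ⟨x, hx, rfl⟩ := hi.2 y hy
    exact ⟨⟨x, hx⟩, e _⟩

/-- The inverse of a map. -/
theorem inverse (hf : Mp F X f) (hi : Img X f Y) :
    ∃ g, Mp F Y g ∧ (∀ x ∈ X, g (f x) = x) ∧ (∀ y ∈ Y, f (g y) = y) ∧ Img Y g X := by
  obtain ⟨φ, hφ, e⟩ := id hf
  have hr : φ.range = Y := range_eq e hi
  obtain ⟨ψ, hψ, h1, h2, h3, hr'⟩ := exists_inv F hφ hr
  have key : ∀ x ∈ X, extOf ψ (f x) = x := by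
    intro x hx
    have hm : φ ⟨x, hx⟩ ∈ Y := hr ▸ ⟨⟨x, hx⟩, rfl⟩
    have := h2 ⟨x, hx⟩ hm
    rw [extOf_of_mem ψ (hi.1 x hx)]
    have e2 : (⟨f x, hi.1 x hx⟩ : Y) = ⟨φ ⟨x, hx⟩, hm⟩ := Subtype.ext (e ⟨x, hx⟩).symm
    rw [e2]
    exact this
  have key2 : ∀ y ∈ Y, f (extOf ψ y) = y := by
    intro y hy
    obtain ⟨x, hx, rfl⟩ := hi.2 y hy
    rw [key x hx]
  refine ⟨extOf ψ, mp_of_hom hψ, key, key2, ?_, fun x hx => ⟨f x, hi.1 x hx, key x hx⟩⟩
  intro y hy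
  rw [extOf_of_mem ψ hy]
  exact h1 ⟨y, hy⟩

theorem card_img (hf : Mp F X f) (hi : Img X f Y) : Nat.card Y = Nat.card X :=
  (isConj_card_eq F (hf.isConj hi)).symm

/-- Receptivity, in terms of total functions. -/
theorem ext_rec (hQ : F.IsReceptive Q) (hf : Mp F X f) (hi : Img X f Q) (hXY : X ≤ Y)
    (hY : ∀ y ∈ Y, y ∈ S ∧ y ∈ Subgroup.normalizer (X : Set Ω) ∧
      ∃ a ∈ S, ∀ x ∈ X, f (y * x * y⁻¹) = a * f x * a⁻¹) :
    ∃ g, Mp F Y g ∧ ∀ x ∈ X, g x = f x := by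
  obtain ⟨φ, hφ, e⟩ := hf
  have hr : φ.range = Q := range_eq e hi
  have hT : Y ≤ extender S X φ := by
    intro y hy
    obtain ⟨h1, h2, a, ha, h3⟩ := hY y hy
    refine mem_extender_of φ h1 h2 ha (fun x => ?_)
    rw [e, e]
    exact h3 x x.2
  obtain ⟨ψ, hψ, hext⟩ := IsReceptive.exists_extension F hQ hφ hr hT hXY
  refine ⟨extOf ψ, mp_of_hom hψ, fun x hx => ?_⟩
  rw [extOf_of_mem ψ (hXY hx), ← e ⟨x, hx⟩]
  exact hext ⟨x, hx⟩

/-- An automorphism from a map with image its source. -/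
theorem toAut (hf : Mp F X f) (hi : Img X f X) :
    ∃ a ∈ F.autGroup X, ∀ x : X, ((a x : X) : Ω) = f x := by
  obtain ⟨φ, hφ, e⟩ := hf
  obtain ⟨a, ha, h⟩ := exists_aut_of_range F hφ (range_eq e hi)
  exact ⟨a, ha, fun x => (h x).trans (e x)⟩

end Mp

/-- An automorphism as a total function. -/
noncomputable def autFun {X : Subgroup Ω} (a : MulAut X) : Ω → Ω := extOf (autHom a)

theorem autFun_coe {X : Subgroup Ω} (a : MulAut X) (x : X) : autFun a x = ((a x : X) : Ω) :=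
  extOf_coe _ x

theorem autFun_of_mem {X : Subgroup Ω} (a : MulAut X) {x : Ω} (h : x ∈ X) :
    autFun a x = ((a ⟨x, h⟩ : X) : Ω) := autFun_coe a ⟨x, h⟩

theorem mp_autFun {F : FusionSystem S} {X : Subgroup Ω} (hX : X ≤ S) {a : MulAut X}
    (ha : a ∈ F.autGroup X) : Mp F X (autFun a) :=
  mp_of_hom (autHom_mem F hX ha)

theorem img_autFun {X : Subgroup Ω} (a : MulAut X) : Img X (autFun a) X := by
  refine ⟨fun x hx => ?_, fun y hy => ?_⟩
  · rw [autFun_of_mem a hx]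
    exact (a ⟨x, hx⟩).2
  · refine ⟨_, (a.symm ⟨y, hy⟩).2, ?_⟩
    rw [autFun_coe]
    simp

/-! ### Stabilizers -/

/-- The stabilizer in `Aut(Q)` of the subset `P ∩ Q`. -/
def stabSub (Q P : Subgroup Ω) : Subgroup (MulAut Q) where
  carrier := {c | ∀ x : Q, ((c x : Q) : Ω) ∈ P ↔ (x : Ω) ∈ P}
  mul_mem' := by
    intro a b ha hb x
    exact (ha (b x)).trans (hb x)
  one_mem' := fun x => Iff.rfl
  inv_mem' := by
    intro a ha x
    have := ha (a⁻¹ x)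
    rw [MulAut.apply_inv_self] at this
    exact this.symm

theorem mem_stabSub {Q P : Subgroup Ω} {c : MulAut Q} :
    c ∈ stabSub Q P ↔ ∀ x : Q, ((c x : Q) : Ω) ∈ P ↔ (x : Ω) ∈ P := Iff.rfl

/-- Restriction of a stabilizing automorphism. -/
def stabRes {Q P : Subgroup Ω} (hP : P ≤ Q) : stabSub Q P →* MulAut P :=
  MonoidHom.mk' (fun c =>
    { toFun := fun x => ⟨(c.1 ⟨x, hP x.2⟩ : Q), (c.2 ⟨x, hP x.2⟩).2 x.2⟩
      invFun := fun x => ⟨(c.1⁻¹ ⟨x, hP x.2⟩ : Q), ((stabSub Q P).inv_mem c.2 ⟨x, hP x.2⟩).2 x.2⟩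
      left_inv := fun x => by
        apply Subtype.ext
        show ((c.1⁻¹ (c.1 ⟨x, hP x.2⟩) : Q) : Ω) = x
        rw [MulAut.inv_apply_self]
      right_inv := fun x => by
        apply Subtype.ext
        show ((c.1 (c.1⁻¹ ⟨x, hP x.2⟩) : Q) : Ω) = x
        rw [MulAut.apply_inv_self]
      map_mul' := fun x y => by
        apply Subtype.ext
        show ((c.1 (⟨x, hP x.2⟩ * ⟨y, hP y.2⟩) : Q) : Ω) = _
        rw [_root_.map_mul]
        rfl })
    (fun a b => by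
      ext x
      rfl)

theorem stabRes_apply {Q P : Subgroup Ω} (hP : P ≤ Q) (c : stabSub Q P) (x : P) :
    ((stabRes hP c x : P) : Ω) = (c.1 ⟨x, hP x.2⟩ : Q) := rfl

/-! ### Sylow subgroups and homomorphisms -/

section sylow

variable {G H : Type*} [Group G] [Group H] {p : ℕ}

theorem image_sylow [Finite G] [Fact p.Prime] (f : G →* H) {A B : Subgroup G}
    (h : IsSylowIn p A B) (hAB : A ≤ B) : IsSylowIn p (A.map f) (B.map f) := by
  obtain ⟨R, hR⟩ := h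
  have hsurj : Function.Surjective (f.subgroupMap B) := f.subgroupMap_surjective B
  refine ⟨R.mapSurjective hsurj, ?_⟩
  rw [Sylow.coe_mapSurjective, hR]
  ext ⟨y, hy⟩
  constructor
  · rintro ⟨⟨a, haB⟩, ha, e⟩
    have e' : f a = y := congrArg Subtype.val e
    exact ⟨a, ha, e'⟩
  · rintro ⟨a, ha, e⟩
    refine ⟨⟨a, hAB ha⟩, ha, Subtype.ext e⟩

theorem exists_sylowIn [Finite G] [Fact p.Prime] (L : Subgroup G) : ∃ W ≤ L, IsSylowIn p W L := by
  obtain ⟨W₀⟩ : Nonempty (Sylow p L) := inferInstance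
  refine ⟨(W₀ : Subgroup L).map L.subtype, ?_, ⟨W₀, ?_⟩⟩
  · rintro _ ⟨x, -, rfl⟩
    exact x.2
  · ext x
    constructor
    · intro hx
      exact ⟨x, hx, rfl⟩
    · rintro ⟨y, hy, e⟩
      have : y = x := Subtype.ext e
      rwa [← this]

/-- The position lemma. -/
theorem exists_position [Finite G] [Fact p.Prime] {U A L : Subgroup G} (hU : IsSylowIn p U A)
    (hUA : U ≤ A) (hL : L ≤ A) :
    ∃ a ∈ A, IsSylowIn p (U ⊓ L.map (MulAut.conj a).toMonoidHom) (L.map (MulAut.conj a).toMonoidHom) := by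
  obtain ⟨W, hWL, hW⟩ := exists_sylowIn (p := p) L
  have hWp : IsPGroup p W := hW.isPGroup hWL
  obtain ⟨a, ha, hc⟩ := hU.exists_conj (hWL.trans hL) hWp
  refine ⟨a, ha, ?_⟩
  set c : G →* G := (MulAut.conj a).toMonoidHom with hc'
  have hinj : Function.Injective c := (MulAut.conj a).injective
  have hW' : IsSylowIn p (W.map c) (L.map c) := image_sylow c hW hWL
  have hW'le : W.map c ≤ U ⊓ L.map c := by
    rintro _ ⟨x, hx, rfl⟩
    exact ⟨hc x hx, x, hWL hx, rfl⟩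
  have hmax := (isSylowIn_iff_maximal (Subgroup.map_mono hWL)).1 hW'
  have hUp : IsPGroup p (U ⊓ L.map c : Subgroup G) := (hU.isPGroup hUA).to_inf_left
  have e : U ⊓ L.map c = W.map c := hmax.2 _ inf_le_right hUp hW'le
  rw [e]
  exact hW'

end sylow

section hull

variable {F : FusionSystem S} {p : ℕ} [Fact p.Prime] [Finite S]

omit [Fact p.Prime] [Finite S] in
theorem stabRes_mem {Q P : Subgroup Ω} (hQS : Q ≤ S) (hP : P ≤ Q) (c : stabSub Q P)
    (hc : c.1 ∈ F.autGroup Q) : stabRes hP c ∈ F.autGroup P := by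
  have h1 : Mp F P (autFun c.1) := (mp_autFun hQS hc).restrict hP
  obtain ⟨φ, hφ, e⟩ := h1
  refine mem_autGroup_of_hom F hφ _ (fun x => ?_)
  rw [e, stabRes_apply, autFun_of_mem c.1 (hP x.2)]

/-- Fully automized from the stabilizer in a fully automized overgroup. -/
theorem isFullyAutomized_of_stab {Q P : Subgroup Ω} (hS : IsPGroup p S) (hQS : Q ≤ S)
    (hP : P ≤ Q)
    (hsyl : IsSylowIn p (autInducedBy S Q ⊓ stabSub Q P) (F.autGroup Q ⊓ stabSub Q P))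
    (hsurj : ∀ α ∈ F.autGroup P, ∃ c : stabSub Q P, c.1 ∈ F.autGroup Q ∧ stabRes hP c = α) :
    F.IsFullyAutomized p P := by
  haveI : Finite Q := finite_of_le hQS
  have hPS : P ≤ S := hP.trans hQS
  set D := stabSub Q P with hD
  let A' : Subgroup D := (autInducedBy S Q).subgroupOf D
  let B' : Subgroup D := (F.autGroup Q).subgroupOf D
  have hA'B' : A' ≤ B' := fun x hx => autInducedBy_le_autGroup F hQS hx
  have hsylD : IsSylowIn p A' B' := by
    rw [isSylowIn_iff_maximal hA'B']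
    obtain ⟨h1, h2⟩ := (isSylowIn_iff_maximal
      (inf_le_inf_right _ (autInducedBy_le_autGroup F hQS))).1 hsyl
    refine ⟨isPGroup_subgroupOf D (isPGroup_autInducedBy Q hS), fun C hCB hC hAC => ?_⟩
    have e := h2 (C.map D.subtype) ?_ (hC.map _) ?_
    · apply le_antisymm _ hAC
      intro x hx
      have h3 : (x : MulAut Q) ∈ C.map D.subtype := ⟨x, hx, rfl⟩
      rw [e] at h3
      exact h3.1
    · rintro _ ⟨x, hx, rfl⟩
      exact ⟨hCB hx, x.2⟩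
    · rintro x ⟨hx1, hx2⟩
      exact ⟨⟨x, hx2⟩, hAC hx1, rfl⟩
  have h1 := image_sylow (stabRes hP) hsylD hA'B'
  have e1 : B'.map (stabRes hP) = F.autGroup P := by
    apply le_antisymm
    · rintro _ ⟨c, hc, rfl⟩
      exact stabRes_mem hQS hP c hc
    · intro α hα
      obtain ⟨c, hc, rfl⟩ := hsurj α hα
      exact ⟨c, hc, rfl⟩
  rw [e1] at h1
  have hle : A'.map (stabRes hP) ≤ autInducedBy S P := by
    rintro _ ⟨c, hc, rfl⟩
    obtain ⟨g, hg, hgc⟩ := (mem_autInducedBy_iff S Q c.1).1 hc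
    refine (mem_autInducedBy_iff S P _).2 ⟨g, hg, fun x => ?_⟩
    rw [stabRes_apply, hgc]
  have hle2 : A'.map (stabRes hP) ≤ F.autGroup P := hle.trans (autInducedBy_le_autGroup F hPS)
  have e2 := ((isSylowIn_iff_maximal hle2).1 h1).2 _ (autInducedBy_le_autGroup F hPS)
    (isPGroup_autInducedBy P hS) hle
  rw [← e2] at h1
  exact ⟨hPS, h1⟩

/-- **Saturation through hulls.** -/
theorem isSaturated_of_hull (hS : IsPGroup p S) (F : FusionSystem S) (cl : Subgroup Ω → Subgroup Ω)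
    (hle : ∀ P, P ≤ S → P ≤ cl P)
    (hsat : ∀ P, P ≤ S → ∃ Q, F.IsConj (cl P) Q ∧ F.IsFullyAutomized p Q ∧ F.IsReceptive Q)
    (hext : ∀ P f, Mp F P f → ∃ g, Mp F (cl P) g ∧ (∀ x ∈ P, g x = f x) ∧
      ∀ P', Img P f P' → Img (cl P) g (cl P'))
    (huniq : ∀ P f g, Mp F (cl P) f → Mp F (cl P) g → (∀ x ∈ P, f x = g x) → ∀ x ∈ cl P, f x = g x) :
    F.IsSaturated p := by
  -- the image of a hull is the hull of the image
  have hclimg : ∀ X X' f, Mp F (cl X) f → X ≤ S → Img X f X' → Img (cl X) f (cl X') := by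
    intro X X' f hf hX hi
    obtain ⟨g, hg, hgf, h3⟩ := hext X f (hf.restrict (hle X hX))
    exact (h3 X' hi).congr (fun x hx => (huniq X g f hg hf hgf x hx))
  intro P hPS
  obtain ⟨Q, ⟨ψ₀, hψ₀, hr₀⟩, hQFA, hQrec⟩ := hsat P hPS
  have hQS : Q ≤ S := hQFA.1
  haveI : Finite Q := finite_of_le hQS
  -- the function
  have hf₀ : Mp F (cl P) (extOf ψ₀) := mp_of_hom hψ₀
  have hi₀ : Img (cl P) (extOf ψ₀) Q := by
    refine ⟨fun x hx => ?_, fun y hy => ?_⟩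
    · rw [extOf_of_mem ψ₀ hx, ← hr₀]
      exact ⟨_, rfl⟩
    · rw [← hr₀] at hy
      obtain ⟨x, rfl⟩ := hy
      exact ⟨x, x.2, extOf_coe ψ₀ x⟩
  obtain ⟨P₀, hP₀⟩ := (hf₀.restrict (hle P hPS)).exists_img
  have hclP₀ : cl P₀ = Q := (hclimg P P₀ _ hf₀ hPS hP₀).unique hi₀
  have hP₀Q : P₀ ≤ Q := by
    intro y hy
    obtain ⟨x, hx, rfl⟩ := hP₀.2 y hy
    exact hi₀.1 x (hle P hPS hx)
  -- position
  have hUA := autInducedBy_le_autGroup F hQS
  obtain ⟨a, haA, hpos⟩ := exists_position (p := p) (A := F.autGroup Q) (U := autInducedBy S Q)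
    (L := F.autGroup Q ⊓ stabSub Q P₀) hQFA.2 hUA inf_le_left
  have hfa : Mp F Q (autFun a) := mp_autFun hQS haA
  obtain ⟨P₁, hP₁⟩ := (hfa.restrict hP₀Q).exists_img
  have hP₁Q : P₁ ≤ Q := by
    intro y hy
    obtain ⟨x, hx, rfl⟩ := hP₁.2 y hy
    exact hfa.mem_S (hP₀Q hx) |> fun _ => (img_autFun a).1 x (hP₀Q hx)
  have hP₀S : P₀ ≤ S := hP₀Q.trans hQS
  have hP₁S : P₁ ≤ S := hP₁Q.trans hQS
  have hclP₁ : cl P₁ = Q := by
    have h1 : Img (cl P₀) (autFun a) (cl P₁) :=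
      hclimg P₀ P₁ _ (by rw [hclP₀]; exact hfa) hP₀S hP₁
    rw [hclP₀] at h1
    exact h1.unique (img_autFun a)
  -- membership in P₁
  have hmemP₁ : ∀ x : Q, ((a x : Q) : Ω) ∈ P₁ ↔ (x : Ω) ∈ P₀ := by
    intro x
    constructor
    · intro h
      obtain ⟨y, hy, e⟩ := hP₁.2 _ h
      rw [autFun_of_mem a (hP₀Q hy)] at e
      have e' : a ⟨y, hP₀Q hy⟩ = a x := Subtype.ext e
      have e'' := a.injective e'
      rw [← e'']
      exact hy
    · intro h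
      have := hP₁.1 x h
      rwa [autFun_coe] at this
  -- the conjugate of the stabilizer
  have hLa : (F.autGroup Q ⊓ stabSub Q P₀).map (MulAut.conj a).toMonoidHom =
      F.autGroup Q ⊓ stabSub Q P₁ := by
    ext c
    constructor
    · rintro ⟨b, ⟨hb1, hb2⟩, rfl⟩
      refine ⟨?_, fun x => ?_⟩
      · exact (F.autGroup Q).mul_mem ((F.autGroup Q).mul_mem haA hb1) ((F.autGroup Q).inv_mem haA)
      · have e : ((MulAut.conj a).toMonoidHom b) x = a (b (a⁻¹ x)) := rfl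
        rw [e, hmemP₁, hb2]
        have := hmemP₁ (a⁻¹ x)
        rw [MulAut.apply_inv_self] at this
        exact this.symm
    · rintro ⟨hc1, hc2⟩
      refine ⟨a⁻¹ * c * a, ⟨?_, fun x => ?_⟩, ?_⟩
      · exact (F.autGroup Q).mul_mem ((F.autGroup Q).mul_mem ((F.autGroup Q).inv_mem haA) hc1) haA
      · have e : (a⁻¹ * c * a) x = a⁻¹ (c (a x)) := rfl
        rw [e]
        have h1 := hmemP₁ (a⁻¹ (c (a x)))
        rw [MulAut.apply_inv_self] at h1
        rw [← h1, hc2, hmemP₁]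
      · show a * (a⁻¹ * c * a) * a⁻¹ = c
        group
  rw [hLa] at hpos
  have hsyl : IsSylowIn p (autInducedBy S Q ⊓ stabSub Q P₁) (F.autGroup Q ⊓ stabSub Q P₁) := by
    have e : autInducedBy S Q ⊓ (F.autGroup Q ⊓ stabSub Q P₁) = autInducedBy S Q ⊓ stabSub Q P₁ := by
      rw [← inf_assoc, inf_eq_left.2 hUA]
    rwa [e] at hpos
  refine ⟨P₁, ?_, ?_, hP₁S, ?_⟩
  · -- conjugate
    have h1 : Mp F P (fun x => autFun a (extOf ψ₀ x)) :=
      (hf₀.restrict (hle P hPS)).comp (fun x hx => hi₀.1 x (hle P hPS hx)) hfa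
    exact h1.isConj (hP₀.comp hP₁)
  · -- fully automized
    refine isFullyAutomized_of_stab hS hQS hP₁Q hsyl (fun α hα => ?_)
    have hα' : Mp F P₁ (autFun α) := mp_autFun hP₁S hα
    obtain ⟨g, hg, hgα, h3⟩ := hext P₁ _ hα'
    have hi := h3 P₁ (img_autFun α)
    rw [hclP₁] at hg hi
    obtain ⟨c, hc, hcg⟩ := hg.toAut hi
    have hcst : c ∈ stabSub Q P₁ := by
      intro x
      constructor
      · intro h
        obtain ⟨y, hy, e⟩ := (img_autFun α).2 _ h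
        have hyQ : y ∈ Q := hP₁Q hy
        have e3 : ((c ⟨y, hyQ⟩ : Q) : Ω) = ((c x : Q) : Ω) := by
          rw [hcg ⟨y, hyQ⟩]
          exact (hgα y hy).trans e
        have e' : c ⟨y, hyQ⟩ = c x := Subtype.ext e3
        have e'' := c.injective e'
        rw [← e'']
        exact hy
      · intro h
        rw [hcg, hgα _ h]
        exact (img_autFun α).1 _ h
    refine ⟨⟨c, hcst⟩, hc, ?_⟩
    ext x
    rw [stabRes_apply, hcg, hgα _ x.2, autFun_coe]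
  · -- receptive
    intro R φ hφ hr
    have hf : Mp F R (extOf φ) := mp_of_hom hφ
    have hRS : R ≤ S := Cfsg.Agent.Lib.Fusion.Basic.le_of_mem F hφ
    have hiR : Img R (extOf φ) P₁ := by
      refine ⟨fun x hx => ?_, fun y hy => ?_⟩
      · rw [extOf_of_mem φ hx, ← hr]
        exact ⟨_, rfl⟩
      · rw [← hr] at hy
        obtain ⟨x, rfl⟩ := hy
        exact ⟨x, x.2, extOf_coe φ x⟩
    obtain ⟨g, hg, hgf, h3⟩ := hext R _ hf
    have hi := h3 P₁ hiR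
    rw [hclP₁] at hi
    have hRle : R ≤ extender S R φ := le_extender F hφ
    have hclR : R ≤ cl R := hle R hRS
    -- elements of the extender act on the hull
    have hclRS : cl R ≤ S := hg.le
    obtain ⟨φt, hφt, eφt⟩ := id hg
    have hrt : φt.range = Q := Mp.range_eq eφt hi
    have hT : extender S R φ ≤ extender S (cl R) φt := by
      intro y hy
      obtain ⟨hy1, hy2, a, ha, hy3⟩ := (mem_extender_iff φ).1 hy
      have hcy : Mp F (cl R) (fun x => y * x * y⁻¹) := Mp.conj hclRS hy1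
      have hiy : Img R (fun x => y * x * y⁻¹) R := by
        refine ⟨fun x hx => (Subgroup.mem_normalizer_iff.1 hy2 x).1 hx, fun z hz => ?_⟩
        refine ⟨y⁻¹ * z * y, ?_, by group⟩
        have := (Subgroup.mem_normalizer_iff.1 hy2 (y⁻¹ * z * y)).2
        apply this
        have e : y * (y⁻¹ * z * y) * y⁻¹ = z := by group
        rwa [e]
      have hicy := hclimg R R _ hcy hRS hiy
      have hyN : y ∈ Subgroup.normalizer (cl R : Set Ω) := by
        rw [Subgroup.mem_normalizer_iff]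
        intro z
        refine ⟨fun hz => hicy.1 z hz, fun hz => ?_⟩
        obtain ⟨w, hw, e⟩ := hicy.2 _ hz
        have : w = z := mul_left_cancel (mul_right_cancel e)
        rwa [← this]
      have hc1 : Mp F (cl R) (fun x => g (y * x * y⁻¹)) := hcy.comp (fun x hx => hicy.1 x hx) hg
      have hc2 : Mp F (cl R) (fun x => a * g x * a⁻¹) :=
        hg.comp (fun x hx => hg.mem_S hx) (Mp.conj le_rfl ha)
      have hag : ∀ x ∈ cl R, g (y * x * y⁻¹) = a * g x * a⁻¹ := by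
        refine huniq R _ _ hc1 hc2 (fun x hx => ?_)
        have hm : y * x * y⁻¹ ∈ R := hiy.1 x hx
        show g (y * x * y⁻¹) = a * g x * a⁻¹
        rw [hgf _ hm, hgf _ hx, extOf_of_mem φ hm, extOf_of_mem φ hx]
        exact hy3 ⟨x, hx⟩ hm
      refine mem_extender_of φt hy1 hyN ha (fun x => ?_)
      rw [eφt, eφt]
      exact hag x x.2
    obtain ⟨ψ₀, hψ₀, hext₀⟩ := hQrec.2 (cl R) φt hφt hrt
    refine ⟨ψ₀.comp (Subgroup.inclusion hT), restrict_mem F hT hψ₀, fun x hP hN => ?_⟩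
    show ψ₀ ⟨x, hT hN⟩ = φ ⟨x, hP⟩
    rw [hext₀ x (hclR hP) (hT hN), eφt ⟨x, hclR hP⟩]
    show g x = _
    rw [hgf x hP, extOf_of_mem φ hP]

end hull

end Cfsg.Agent.Lib.FusionExt.MapApi
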