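import Cfsg.Agent.Lib.Fusion.TateHyp
import Cfsg.Agent.Lib.FusionExt.Mp

/-!
# A determinant for right-equivariant permutations of a characteristic biset (helper92)

For a biequivariant function `w : X → A` with values in an abelian group, a right-equivariant permutation `σ` of `X` has a
determinant `∏ w (σ x) / w x`, the product over right orbits. It is multiplicative, equals `ρ(s) ^ |X / S|` on left
multiplication by `s`, and for a permutation that commutes with the left action of a subgroup `Y` it is trivial, provided `A` has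
exponent `p` and all centralizers in `S` of the conjugates of `Y` lie in the kernel of `ρ`.
-/

set_option autoImplicit false

namespace Cfsg.Agent.Lib.FusionExt.PowerDet

open Cfsg Cfsg.FusionSystem Cfsg.Agent.Lib.Fusion.Basic
open Cfsg.Agent.Lib.Fusion.Biset Cfsg.Agent.Lib.Fusion.CharBiset3 Cfsg.Agent.Lib.Fusion.ModelGroup
open Cfsg.Agent.Lib.Fusion.BisetTransfer Cfsg.Agent.Lib.Fusion.TateHyp
open Cfsg.Agent.Lib.FusionExt.MapApi

universe u v

variable {Ω : Type u} [Group Ω] {S : Subgroup Ω} {X : Type u} [MulAction (Bi S) X]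
variable {A : Type v} [CommGroup A]

attribute [local instance] xiAct

/-- The right orbit of a point. -/
abbrev mkX (x : X) : Xi S X := Quotient.mk (rSetoid (S := S) (X := X)) x

/-- Right-equivariant permutations. -/
def RE (S : Subgroup Ω) {X : Type u} [MulAction (Bi S) X] (σ : Equiv.Perm X) : Prop := ∀ (u : S) (x : X), σ (rS u x) = rS u (σ x)

theorem RE.one : RE S (1 : Equiv.Perm X) := fun _ _ => rfl

theorem RE.mul {σ τ : Equiv.Perm X} (hσ : RE S σ) (hτ : RE S τ) : RE S (σ * τ) := fun u x => by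
  show σ (τ (rS u x)) = rS u (σ (τ x))
  rw [hτ, hσ]

theorem RE.inv {σ : Equiv.Perm X} (hσ : RE S σ) : RE S σ⁻¹ := fun u x => by
  apply σ.injective
  show σ (σ⁻¹ (rS u x)) = σ (rS u (σ⁻¹ x))
  rw [hσ]
  simp

theorem RE.pow {σ : Equiv.Perm X} (hσ : RE S σ) (m : ℕ) : RE S (σ ^ m) := by
  induction m with
  | zero => exact RE.one
  | succ m ih =>
    rw [pow_succ]
    exact ih.mul hσ

/-- Functions that are right-equivariant for `ρ`. -/
def RW (ρ : S →* A) (w : X → A) : Prop := ∀ (u : S) (x : X), w (rS u x) = w x * (ρ u)⁻¹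

theorem exists_rS_of_mk_eq {x y : X} (h : mkX (S := S) x = mkX y) : ∃ u : S, y = rS u x :=
  Quotient.exact h

theorem mk_rS (u : S) (x : X) : mkX (S := S) (rS u x) = mkX x :=
  Quotient.sound ((rSetoid (S := S)).symm ⟨u, rfl⟩)

theorem mk_out (ξ : Xi S X) : mkX (S := S) ξ.out = ξ := Quotient.out_eq ξ

theorem mk_lS (s : S) (x : X) : mkX (S := S) (lS s x) = s • mkX x := rfl

/-- The permutation of right orbits. -/
def bar (σ : Equiv.Perm X) (hσ : RE S σ) : Equiv.Perm (Xi S X) :=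
  Quotient.congr σ (by
    intro x y
    constructor
    · rintro ⟨u, rfl⟩
      exact ⟨u, hσ u x⟩
    · rintro ⟨u, hu⟩
      refine ⟨u, σ.injective ?_⟩
      rw [hu]
      exact (hσ u x).symm)

theorem bar_mk (σ : Equiv.Perm X) (hσ : RE S σ) (x : X) : bar σ hσ (mkX x) = mkX (σ x) := rfl

section det

variable [Finite X] {ρ : S →* A} {w w' : X → A} {σ τ : Equiv.Perm X}

/-- The determinant. -/
noncomputable def dt (S : Subgroup Ω) {X : Type u} [MulAction (Bi S) X] [Finite X] (w : X → A) (σ : Equiv.Perm X) : A := ∏ ξ : Xi S X, w (σ ξ.out) * (w ξ.out)⁻¹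

theorem dl_eq (hw : RW ρ w) (hσ : RE S σ) {x y : X} (h : mkX (S := S) x = mkX y) :
    w (σ x) * (w x)⁻¹ = w (σ y) * (w y)⁻¹ := by
  obtain ⟨u, rfl⟩ := exists_rS_of_mk_eq h
  rw [hσ, hw, hw, mul_inv, inv_inv, mul_mul_mul_comm, inv_mul_cancel, mul_one]

theorem dt_mul (hw : RW ρ w) (hσ : RE S σ) (hτ : RE S τ) : dt S w (σ * τ) = dt S w σ * dt S w τ := by
  have key : ∀ ξ : Xi S X, w ((σ * τ) ξ.out) * (w ξ.out)⁻¹ =
      (w (σ (bar τ hτ ξ).out) * (w (bar τ hτ ξ).out)⁻¹) * (w (τ ξ.out) * (w ξ.out)⁻¹) := by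
    intro ξ
    have h1 : mkX (S := S) (bar τ hτ ξ).out = mkX (τ ξ.out) := by
      rw [mk_out, ← bar_mk τ hτ, mk_out]
    rw [dl_eq hw hσ h1]
    show w (σ (τ ξ.out)) * (w ξ.out)⁻¹ = _
    rw [mul_assoc, inv_mul_cancel_left]
  unfold dt
  rw [Finset.prod_congr rfl (fun ξ _ => key ξ), Finset.prod_mul_distrib]
  congr 1
  exact Equiv.prod_comp (bar τ hτ) (fun ξ => w (σ ξ.out) * (w ξ.out)⁻¹)

theorem dt_one : dt S w (1 : Equiv.Perm X) = 1 := by
  unfold dt
  refine Finset.prod_eq_one (fun ξ _ => ?_)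
  show w ξ.out * (w ξ.out)⁻¹ = 1
  rw [mul_inv_cancel]

theorem dt_inv (hw : RW ρ w) (hσ : RE S σ) : dt S w σ⁻¹ = (dt S w σ)⁻¹ := by
  have h := dt_mul hw hσ.inv hσ
  rw [inv_mul_cancel, dt_one] at h
  exact eq_inv_of_mul_eq_one_left h.symm

theorem dt_pow (hw : RW ρ w) (hσ : RE S σ) (m : ℕ) : dt S w (σ ^ m) = (dt S w σ) ^ m := by
  induction m with
  | zero => simpa using dt_one
  | succ m ih => rw [pow_succ, pow_succ, dt_mul hw (hσ.pow m) hσ, ih]

omit [Finite X] in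
theorem aux_comm (a b c d : A) : a * b⁻¹ = (c * d⁻¹) * ((a * c⁻¹) * (b * d⁻¹)⁻¹) := by
  rw [mul_inv, inv_inv]
  have : (c * d⁻¹) * ((a * c⁻¹) * (b⁻¹ * d)) = (c * c⁻¹) * (d⁻¹ * d) * (a * b⁻¹) := by ac_rfl
  rw [this]
  simp

theorem dt_indep (hw : RW ρ w) (hw' : RW ρ w') (hσ : RE S σ) : dt S w σ = dt S w' σ := by
  let r : Xi S X → A := fun ξ => w ξ.out * (w' ξ.out)⁻¹
  have hr : ∀ x : X, w x * (w' x)⁻¹ = r (mkX x) := by
    intro x
    obtain ⟨u, hu⟩ := exists_rS_of_mk_eq (mk_out (S := S) (mkX x)).symm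
    show w x * (w' x)⁻¹ = w (mkX (S := S) x).out * (w' (mkX (S := S) x).out)⁻¹
    rw [hu, hw, hw', mul_inv, inv_inv, mul_mul_mul_comm, inv_mul_cancel, mul_one]
  have key : ∀ ξ : Xi S X, w (σ ξ.out) * (w ξ.out)⁻¹ =
      (w' (σ ξ.out) * (w' ξ.out)⁻¹) * (r (bar σ hσ ξ) * (r ξ)⁻¹) := by
    intro ξ
    have h1 : r (bar σ hσ ξ) = w (σ ξ.out) * (w' (σ ξ.out))⁻¹ := by
      rw [hr (σ ξ.out), ← bar_mk σ hσ, mk_out]
    have h2 : r ξ = w ξ.out * (w' ξ.out)⁻¹ := rfl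
    rw [h1, h2]
    exact aux_comm _ _ _ _
  unfold dt
  have h3 : ∏ ξ : Xi S X, (r (bar σ hσ ξ) * (r ξ)⁻¹) = 1 := by
    rw [Finset.prod_mul_distrib, Equiv.prod_comp (bar σ hσ) r, Finset.prod_inv_distrib, mul_inv_cancel]
  rw [Finset.prod_congr rfl (fun ξ _ => key ξ), Finset.prod_mul_distrib, h3, mul_one]

/-- Left multiplication as a permutation. -/
def lP (s : S) : Equiv.Perm X := MulAction.toPerm ((s, 1) : Bi S)

theorem lP_apply (s : S) (x : X) : lP s x = lS s x := rfl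

theorem RE_lP (s : S) : RE S (lP s : Equiv.Perm X) := fun u x => lS_rS s u x

theorem dt_lP (hl : ∀ (s : S) (x : X), w (lS s x) = ρ s * w x) (s : S) :
    dt S w (lP s) = ρ s ^ Nat.card (Xi S X) := by
  unfold dt
  have : ∀ ξ : Xi S X, w (lP s ξ.out) * (w ξ.out)⁻¹ = ρ s := by
    intro ξ
    rw [lP_apply, hl, mul_inv_cancel_right]
  rw [Finset.prod_congr rfl (fun ξ _ => this ξ), Finset.prod_const, Finset.card_univ,
    Nat.card_eq_fintype_card]

end det

/-! ### A product over a set with a `p`-group action -/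

theorem prod_eq_one_of_invariant {p : ℕ} [Fact p.Prime] {P Z : Type*} [Group P] [Finite P] [MulAction P Z] [Fintype Z]
    (hP : IsPGroup p P) (hA : ∀ a : A, a ^ p = 1) (f : Z → A) (hf : ∀ (g : P) (z : Z), f (g • z) = f z)
    (h1 : ∀ z : Z, (∀ g : P, g • z = z) → f z = 1) : ∏ z : Z, f z = 1 := by
  classical
  let Q := MulAction.orbitRel.Quotient P Z
  letI : Fintype Q := Fintype.ofFinite _
  let q : Z → Q := fun z => Quotient.mk (MulAction.orbitRel P Z) z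
  rw [← Finset.prod_fiberwise Finset.univ q f]
  refine Finset.prod_eq_one (fun c _ => ?_)
  induction c using Quotient.inductionOn with
  | _ z₀ =>
  have hc : ∀ z ∈ Finset.univ.filter (fun z => q z = Quotient.mk (MulAction.orbitRel P Z) z₀), f z = f z₀ := by
    intro z hz
    have h2 : q z = Quotient.mk (MulAction.orbitRel P Z) z₀ := (Finset.mem_filter.1 hz).2
    have h3 : z ∈ MulAction.orbit P z₀ := MulAction.orbitRel_apply.1 (Quotient.exact h2)
    obtain ⟨g, rfl⟩ := h3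
    exact hf g z₀
  rw [Finset.prod_congr rfl hc, Finset.prod_const]
  have hcard : (Finset.univ.filter (fun z => q z = Quotient.mk (MulAction.orbitRel P Z) z₀)).card =
      Nat.card (MulAction.orbit P z₀) := by
    rw [Nat.card_eq_fintype_card, ← Fintype.card_subtype]
    refine Fintype.card_congr (Equiv.subtypeEquivRight (fun z => ?_))
    constructor
    · intro h
      exact MulAction.orbitRel_apply.1 (Quotient.exact h)
    · intro h
      exact Quotient.sound (MulAction.orbitRel_apply.2 h)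
  rw [hcard]
  have hdvd : Nat.card (MulAction.orbit P z₀) ∣ Nat.card P := by
    rw [Nat.card_congr (MulAction.orbitEquivQuotientStabilizer P z₀)]
    exact Subgroup.index_dvd_card _
  obtain ⟨k, hk⟩ := IsPGroup.iff_card.1 hP
  rw [hk] at hdvd
  obtain ⟨j, -, hj⟩ := (Nat.dvd_prime_pow (Fact.out : p.Prime)).1 hdvd
  rcases j with _ | j
  · rw [pow_zero] at hj
    have h4 : ∀ g : P, g • z₀ = z₀ := by
      intro g
      haveI : Subsingleton (MulAction.orbit P z₀) := (Nat.card_eq_one_iff_unique.1 hj).1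
      exact congrArg Subtype.val (Subsingleton.elim (⟨g • z₀, MulAction.mem_orbit z₀ g⟩ : MulAction.orbit P z₀) ⟨z₀, MulAction.mem_orbit_self z₀⟩)
    rw [h1 z₀ h4, one_pow]
  · rw [hj, pow_succ, mul_comm, pow_mul, hA, one_pow]

/-! ### Partially defined equivariant functions -/

theorem exists_partial_equivariant {G Y B : Type*} [Group G] [MulAction G Y] [MulAction G B] (N : Set Y)
    (hN : ∀ (g : G) (y : Y), y ∈ N → g • y ∈ N) (b₀ : B) (h : ∀ y ∈ N, ∀ g : G, g • y = y → g • b₀ = b₀) :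
    ∃ w : Y → B, ∀ (g : G) (y : Y), y ∈ N → w (g • y) = g • w y := by
  classical
  let N' : SubMulAction G Y := { carrier := N, smul_mem' := fun g y hy => hN g y hy }
  obtain ⟨w₁, hw₁, -⟩ := exists_equivariant (G₀ := G) (X := N') (Y := B) (fun _ _ => True)
    (fun _ _ _ _ => trivial) (fun y => ⟨b₀, trivial, fun g hg => h y y.2 g (congrArg Subtype.val hg)⟩)
  refine ⟨fun y => if hy : y ∈ N then w₁ ⟨y, hy⟩ else b₀, fun g y hy => ?_⟩
  have hgy : g • y ∈ N := hN g y hy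
  simp only [dif_pos hy, dif_pos hgy]
  exact hw₁ g ⟨y, hy⟩

/-! ### The key triviality -/

section crux

variable [Finite S] [Finite X] {ρ : S →* A} {w : X → A} {p : ℕ} [Fact p.Prime]

/-- The points whose right orbit is fixed by the subgroup `P'`. -/
def FX (P' : Subgroup S) (x : X) : Prop := ∀ g ∈ P', ∃ g' : S, lS g x = rS g' x

/-- The group of right-equivariant permutations that commute with `P'`. -/
def KK (P' : Subgroup S) : Subgroup (Equiv.Perm X) where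
  carrier := {v | RE S v ∧ ∀ g ∈ P', ∀ x : X, v (lS g x) = lS g (v x)}
  mul_mem' := by
    rintro a b ⟨ha, ha'⟩ ⟨hb, hb'⟩
    refine ⟨ha.mul hb, fun g hg x => ?_⟩
    show a (b (lS g x)) = lS g (a (b x))
    rw [hb' g hg, ha' g hg]
  one_mem' := ⟨RE.one, fun _ _ _ => rfl⟩
  inv_mem' := by
    rintro a ⟨ha, ha'⟩
    refine ⟨ha.inv, fun g hg x => ?_⟩
    apply a.injective
    show a (a⁻¹ (lS g x)) = a (lS g (a⁻¹ x))
    rw [ha' g hg]
    simp

theorem FX_KK {P' : Subgroup S} {v : Equiv.Perm X} (hv : v ∈ KK P') {x : X} (h : FX P' x) : FX P' (v x) := by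
  intro g hg
  obtain ⟨g', hg'⟩ := h g hg
  refine ⟨g', ?_⟩
  rw [← hv.2 g hg, hg', hv.1]

theorem FX_rS {P' : Subgroup S} {x : X} (u : S) (h : FX P' x) : FX P' (rS u x) := by
  intro g hg
  obtain ⟨g', hg'⟩ := h g hg
  refine ⟨u * g' * u⁻¹, ?_⟩
  rw [lS_rS, hg', ← rS_mul, ← rS_mul]
  simp

theorem FX_lS {P' : Subgroup S} {x : X} {g₀ : S} (hg₀ : g₀ ∈ P') (h : FX P' x) : FX P' (lS g₀ x) := by
  intro g hg
  obtain ⟨g', hg'⟩ := h (g₀⁻¹ * g * g₀) (P'.mul_mem (P'.mul_mem (P'.inv_mem hg₀) hg) hg₀)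
  refine ⟨g', ?_⟩
  rw [← lS_rS, ← hg', ← lS_mul, ← lS_mul]
  congr 1
  group

/-- **The key triviality**, in terms of the biset. -/
theorem dt_eq_one (hfree : ∀ (x : X) (u : S), rS u x = x → u = 1) (hA : ∀ a : A, a ^ p = 1) (hS : IsPGroup p S)
    (P' : Subgroup S) (hw : RW ρ w) (hwl : ∀ (g : S) (x : X), w (lS g x) = ρ g * w x)
    (hC : ∀ x : X, FX P' x → ∀ y : S, (∀ g ∈ P', ∀ g' : S, lS g x = rS g' x → y * g' = g' * y) → ρ y = 1)
    {u : Equiv.Perm X} (hu : u ∈ KK P') : dt S w u = 1 := by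
  classical
  -- the action of `KK P' × S`
  letI i₁ : MulAction (↥(KK P' : Subgroup (Equiv.Perm X)) × S) X :=
    { smul := fun g x => rS g.2 (g.1.1 x)
      one_smul := fun x => rS_one x
      mul_smul := fun g g' x => by
        show rS (g.2 * g'.2) (g.1.1 (g'.1.1 x)) = rS g.2 (g.1.1 (rS g'.2 (g'.1.1 x)))
        rw [rS_mul, g.1.2.1] }
  letI i₂ : MulAction (↥(KK P' : Subgroup (Equiv.Perm X)) × S) A :=
    { smul := fun g a => a * (ρ g.2)⁻¹
      one_smul := fun a => by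
        show a * (ρ 1)⁻¹ = a
        simp
      mul_smul := fun g g' a => by
        show a * (ρ (g.2 * g'.2))⁻¹ = a * (ρ g'.2)⁻¹ * (ρ g.2)⁻¹
        rw [map_mul, mul_inv, mul_assoc, mul_comm (ρ g.2)⁻¹] }
  have hfree' : ∀ {x : X} {a b : S}, rS a x = rS b x → a = b := by
    intro x a b h
    have h1 : rS (b⁻¹ * a) x = x := by rw [rS_mul, h, ← rS_mul, inv_mul_cancel, rS_one]
    have h2 := hfree x _ h1
    rwa [inv_mul_eq_one, eq_comm] at h2
  obtain ⟨w₁, hw₁⟩ := exists_partial_equivariant (G := ↥(KK P' : Subgroup (Equiv.Perm X)) × S) (Y := X) (B := A)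
    {x | FX P' x} (fun g x hx => FX_rS g.2 (FX_KK g.1.2 hx)) (1 : A) (by
      intro x hx g hg
      have hg' : rS g.2 (g.1.1 x) = x := hg
      have hv : g.1.1 x = rS g.2⁻¹ x := by
        nth_rewrite 2 [← hg']
        rw [rS_inv_rS]
      have h1 : ρ g.2⁻¹ = 1 := by
        refine hC x hx g.2⁻¹ (fun a ha a' ha' => ?_)
        apply hfree' (x := x)
        have h2 : g.1.1 (lS a x) = lS a (g.1.1 x) := g.1.2.2 a ha x
        rw [ha', g.1.2.1, hv, lS_rS, ha'] at h2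
        rw [rS_mul, rS_mul]
        exact h2.symm
      show (1 : A) * (ρ g.2)⁻¹ = 1
      rw [← map_inv, h1, mul_one])
  have hw₁' : ∀ (v : Equiv.Perm X) (hv : v ∈ KK P') (y : S) (x : X), FX P' x → w₁ (rS y (v x)) = w₁ x * (ρ y)⁻¹ :=
    fun v hv y x hx => hw₁ (⟨v, hv⟩, y) x hx
  let W : X → A := fun x => if FX P' x then w₁ x else w x
  have hWfx : ∀ x, FX P' x → W x = w₁ x := fun x hx => if_pos hx
  have hWn : ∀ x, ¬ FX P' x → W x = w x := fun x hx => if_neg hx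
  have hnotr : ∀ (a : S) {x : X}, ¬ FX P' x → ¬ FX P' (rS a x) := by
    intro a x hx hr
    apply hx
    have := FX_rS a⁻¹ hr
    rwa [rS_inv_rS] at this
  have hW : RW ρ W := by
    intro a x
    by_cases hx : FX P' x
    · rw [hWfx _ (FX_rS a hx), hWfx _ hx]
      exact hw₁' 1 (Subgroup.one_mem _) a x hx
    · rw [hWn _ (hnotr a hx), hWn _ hx]
      exact hw a x
  rw [dt_indep hw hW hu.1]
  letI i₃ : MulAction ↥P' (Xi S X) := inferInstance
  have hP' : IsPGroup p ↥P' := hS.to_subgroup P'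
  refine prod_eq_one_of_invariant hP' hA (fun ξ : Xi S X => W (u ξ.out) * (W ξ.out)⁻¹) ?_ ?_
  · intro g ξ
    show W (u ((g : S) • ξ).out) * (W ((g : S) • ξ).out)⁻¹ = W (u ξ.out) * (W ξ.out)⁻¹
    have h1 : mkX (S := S) ((g : S) • ξ).out = mkX (lS (g : S) ξ.out) := by
      rw [mk_out, mk_lS, mk_out]
    rw [dl_eq hW hu.1 h1]
    by_cases hx : FX P' ξ.out
    · have hux := FX_KK hu hx
      have hl := FX_lS g.2 hx
      have hul := FX_KK hu hl
      rw [hWfx _ hul, hWfx _ hl, hWfx _ hux, hWfx _ hx]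
      have e1 := hw₁' u hu 1 _ hl
      have e2 := hw₁' u hu 1 _ hx
      rw [rS_one, map_one, inv_one, mul_one] at e1 e2
      rw [e1, e2, mul_inv_cancel, mul_inv_cancel]
    · have hnl : ¬ FX P' (lS (g : S) ξ.out) := by
        intro h
        apply hx
        have := FX_lS (P'.inv_mem g.2) h
        rwa [← lS_mul, inv_mul_cancel, lS_one] at this
      have hnu : ∀ {z : X}, ¬ FX P' z → ¬ FX P' (u z) := by
        intro z hz h
        apply hz
        have := FX_KK ((KK P').inv_mem hu) h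
        simpa using this
      rw [hWn _ (hnu hnl), hWn _ hnl, hWn _ (hnu hx), hWn _ hx, hu.2 g g.2, hwl, hwl, mul_inv,
        mul_mul_mul_comm, mul_inv_cancel, one_mul]
  · intro ξ hξ
    have hx : FX P' ξ.out := by
      intro g hg
      have h1 := hξ ⟨g, hg⟩
      have h2 : mkX (S := S) (lS g ξ.out) = mkX ξ.out := by
        rw [mk_lS, mk_out]
        exact h1
      obtain ⟨a, ha⟩ := exists_rS_of_mk_eq h2
      exact ⟨a⁻¹, ((congrArg (rS a⁻¹) ha).trans (rS_inv_rS a _)).symm⟩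
    show W (u ξ.out) * (W ξ.out)⁻¹ = 1
    have hux := FX_KK hu hx
    rw [hWfx _ hux, hWfx _ hx]
    have e2 := hw₁' u hu 1 _ hx
    rw [rS_one, map_one, inv_one, mul_one] at e2
    rw [e2, mul_inv_cancel]

end crux

/-! ### Permutations covering maps of the system -/

section sig

/-- `σ` covers the function `f` on `Y`. -/
def IsSig (S : Subgroup Ω) {X : Type u} [MulAction (Bi S) X] (Y : Subgroup Ω) (f : Ω → Ω) (σ : Equiv.Perm X) : Prop :=
  RE S σ ∧ ∀ (y : Ω) (_ : y ∈ Y) (h₁ : y ∈ S) (h₂ : f y ∈ S) (x : X), σ (lS ⟨y, h₁⟩ x) = lS ⟨f y, h₂⟩ (σ x)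

variable {Y Z : Subgroup Ω} {f g k : Ω → Ω} {σ τ : Equiv.Perm X}
variable [Finite S] [Finite X] {ρ : S →* A} {w : X → A} {p : ℕ} [Fact p.Prime] {F : FusionSystem S}

theorem IsSig.congr (h : IsSig S Y f σ) (e : ∀ y ∈ Y, f y = g y) : IsSig S Y g σ := by
  refine ⟨h.1, fun y hy h₁ h₂ x => ?_⟩
  have h₂' : f y ∈ S := by rwa [e y hy]
  rw [h.2 y hy h₁ h₂' x]
  have e2 : (⟨f y, h₂'⟩ : S) = ⟨g y, h₂⟩ := Subtype.ext (e y hy)
  rw [e2]

theorem IsSig.restrict (h : IsSig S Y f σ) (hZ : Z ≤ Y) : IsSig S Z f σ :=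
  ⟨h.1, fun y hy => h.2 y (hZ hy)⟩

theorem IsSig.comp (h : IsSig S Y f σ) (hm : ∀ y ∈ Y, f y ∈ Z) (hZ : Z ≤ S) (h' : IsSig S Z g τ) :
    IsSig S Y (fun y => g (f y)) (τ * σ) := by
  refine ⟨h'.1.mul h.1, fun y hy h₁ h₂ x => ?_⟩
  show τ (σ (lS ⟨y, h₁⟩ x)) = lS ⟨g (f y), h₂⟩ (τ (σ x))
  rw [h.2 y hy h₁ (hZ (hm y hy)) x, h'.2 (f y) (hm y hy) (hZ (hm y hy)) h₂]

theorem IsSig.inv (h : IsSig S Y f σ) (hY : Y ≤ S) (hk : ∀ z ∈ Z, k z ∈ Y ∧ f (k z) = z) : IsSig S Z k σ⁻¹ := by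
  refine ⟨h.1.inv, fun z hz h₁ h₂ x => ?_⟩
  obtain ⟨h3, h4⟩ := hk z hz
  apply σ.injective
  show σ (σ⁻¹ (lS ⟨z, h₁⟩ x)) = σ (lS ⟨k z, h₂⟩ (σ⁻¹ x))
  have h5 : f (k z) ∈ S := by rwa [h4]
  rw [h.2 (k z) h3 h₂ h5 (σ⁻¹ x)]
  have h6 : ∀ w : X, σ (σ⁻¹ w) = w := fun w => σ.apply_symm_apply w
  rw [h6, h6]
  have e2 : (⟨z, h₁⟩ : S) = ⟨f (k z), h5⟩ := Subtype.ext h4.symm
  rw [e2]

theorem IsSig.pow (h : IsSig S Y f σ) (hm : ∀ y ∈ Y, f y ∈ Y) (hY : Y ≤ S) (m : ℕ) :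
    IsSig S Y (f^[m]) (σ ^ m) := by
  induction m with
  | zero =>
    refine ⟨RE.one, fun y _ h₁ h₂ x => rfl⟩
  | succ m ih =>
    have h1 := ih.comp (g := f) (τ := σ) (Z := Y) (fun y hy => ?_) hY h
    · rw [pow_succ']
      refine h1.congr (fun y hy => ?_)
      rw [Function.iterate_succ_apply']
    · clear ih
      induction m generalizing y with
      | zero => exact hy
      | succ m ih2 =>
        rw [Function.iterate_succ_apply']
        exact hm _ (ih2 y hy)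

theorem isSig_lP (hY : Y ≤ S) (s : S) :
    IsSig S Y (fun y => (s : Ω) * y * (s : Ω)⁻¹) (lP s : Equiv.Perm X) := by
  refine ⟨RE_lP s, fun y _ h₁ h₂ x => ?_⟩
  show lS s (lS ⟨y, h₁⟩ x) = lS ⟨(s : Ω) * y * (s : Ω)⁻¹, h₂⟩ (lS s x)
  rw [← lS_mul, ← lS_mul]
  congr 1
  apply Subtype.ext
  show (s : Ω) * y = (s : Ω) * y * (s : Ω)⁻¹ * s
  group

theorem exists_sig (hX : IsChar F p X) (hf : Mp F Y f) :
    ∃ σ : Equiv.Perm X, IsSig S Y f σ := by
  obtain ⟨φ, hφ, e⟩ := hf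
  obtain ⟨σ, hR, hL⟩ := exists_sigma F hX hφ
  refine ⟨σ, hR, fun y hy h₁ h₂ x => ?_⟩
  have := hL ⟨y, hy⟩ x
  have e2 : (⟨φ ⟨y, hy⟩, val_mem F hφ _⟩ : S) = ⟨f y, h₂⟩ := Subtype.ext (e ⟨y, hy⟩)
  rw [e2] at this
  exact this

/-- Under the centralizer hypothesis, permutations covering the same function have the same determinant. -/
theorem sig_unique (hX : IsChar F p X) (hA : ∀ a : A, a ^ p = 1) (hS : IsPGroup p S)
    (hw : RW ρ w) (hwl : ∀ (g : S) (x : X), w (lS g x) = ρ g * w x) (hY : Y ≤ S)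
    (hC : ∀ ψ ∈ F.Hom Y, ∀ y : S, (∀ a : Y, (y : Ω) * ψ a = ψ a * y) → ρ y = 1)
    (hf : ∀ y ∈ Y, f y ∈ S) (h₁ : IsSig S Y f σ) (h₂ : IsSig S Y f τ) : dt S w σ = dt S w τ := by
  have hfree : ∀ (x : X) (u : S), rS u x = x → u = 1 := hX.free_right
  have hfree' : ∀ {x : X} {a b : S}, rS a x = rS b x → a = b := by
    intro x a b h
    have h1 : rS (b⁻¹ * a) x = x := by rw [rS_mul, h, ← rS_mul, inv_mul_cancel, rS_one]
    have h2 := hfree x _ h1
    rwa [inv_mul_eq_one, eq_comm] at h2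
  let P' : Subgroup S := Y.subgroupOf S
  have hu : τ⁻¹ * σ ∈ KK (X := X) P' := by
    refine ⟨h₂.1.inv.mul h₁.1, fun g hg x => ?_⟩
    have hg' : (g : Ω) ∈ Y := hg
    have e1 : lS g x = lS ⟨(g : Ω), g.2⟩ x := rfl
    apply τ.injective
    show τ (τ⁻¹ (σ (lS g x))) = τ (lS g (τ⁻¹ (σ x)))
    have h3 := h₂.2 g hg' g.2 (hf g hg') (τ⁻¹ (σ x))
    rw [e1, h₁.2 g hg' g.2 (hf g hg') x]
    rw [h3]
    simp
  have hC' : ∀ x : X, FX P' x → ∀ y : S, (∀ g ∈ P', ∀ g' : S, lS g x = rS g' x → y * g' = g' * y) → ρ y = 1 := by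
    intro x hx y hy
    obtain ⟨D, hD, φ, hφ, h1, h2⟩ := exists_stab_hom hX.free_right x S le_rfl
    have hφF := hX.gen x D hD φ hφ h1
    have hYD : Y ≤ D := by
      intro a ha
      have haS := hY ha
      obtain ⟨g', hg'⟩ := hx ⟨a, haS⟩ ha
      have h3 : (((⟨a, haS⟩ : S), g'⁻¹) : Bi S) • x = x := by
        rw [smul_eq, lS_rS, hg', rS_inv_rS]
      exact (h2 a haS g'⁻¹ h3).1
    refine hC (φ.comp (Subgroup.inclusion hYD)) (restrict_mem F hYD hφF) y (fun a => ?_)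
    have haS := hY a.2
    have h3 := h1 ⟨a, hYD a.2⟩
    set a' : S := ⟨φ ⟨a, hYD a.2⟩, hφ _⟩ with ha'
    have h4 : lS (⟨a, haS⟩ : S) x = rS a'⁻¹ x := by
      rw [smul_eq, lS_rS] at h3
      have h5 := congrArg (rS a'⁻¹) h3
      rwa [rS_inv_rS] at h5
    have h6 := hy ⟨a, haS⟩ a.2 a'⁻¹ h4
    have h7 : y * a' = a' * y := by
      have h8 : a' * (y * a'⁻¹) * a' = a' * (a'⁻¹ * y) * a' := by
        rw [h6]
      exact (by simpa [mul_assoc] using h8 : a' * y = y * a').symm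
    exact congrArg Subtype.val h7
  have h3 := dt_eq_one hfree hA hS P' hw hwl hC' hu
  rw [dt_mul hw h₂.1.inv h₁.1, dt_inv hw h₂.1] at h3
  exact (inv_mul_eq_one.1 h3).symm

/-- The biequivariant function. -/
theorem exists_w (hX : IsChar F p X) (ρ : S →* A)
    (hρ : ∀ (P : Subgroup Ω) (φ : P →* Ω) (hφ : φ ∈ F.Hom P) (x : P),
      ρ ⟨φ x, val_mem F hφ x⟩ = ρ ⟨x, le_of_mem F hφ x.2⟩) :
    ∃ w : X → A, RW ρ w ∧ ∀ (g : S) (x : X), w (lS g x) = ρ g * w x := by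
  letI i₂ : MulAction (Bi S) A :=
    { smul := fun g a => ρ g.1 * a * (ρ g.2)⁻¹
      one_smul := fun a => by
        show ρ (1 : S) * a * (ρ (1 : S))⁻¹ = a
        simp
      mul_smul := fun g g' a => by
        show ρ (g.1 * g'.1) * a * (ρ (g.2 * g'.2))⁻¹ = ρ g.1 * (ρ g'.1 * a * (ρ g'.2)⁻¹) * (ρ g.2)⁻¹
        simp only [map_mul, mul_inv_rev]
        ac_rfl }
  obtain ⟨w, hw, -⟩ := exists_equivariant (G₀ := Bi S) (X := X) (Y := A) (fun _ _ => True)
    (fun _ _ _ _ => trivial) (fun x => ⟨1, trivial, fun g hg => by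
      obtain ⟨D, φ, hφ, hz, hu⟩ := exists_hom_of_smul_eq hX (z := g.1) (u := g.2) (ω := x) hg
      have h1 := hρ D φ hφ ⟨g.1, hz⟩
      have h2 : (⟨φ ⟨g.1, hz⟩, val_mem F hφ _⟩ : S) = g.2 := Subtype.ext hu
      rw [h2] at h1
      show ρ g.1 * 1 * (ρ g.2)⁻¹ = 1
      rw [h1]
      simp⟩)
  refine ⟨w, fun u x => ?_, fun g x => ?_⟩
  · have := hw (1, u) x
    have e : w (((1, u) : Bi S) • x) = ρ 1 * w x * (ρ u)⁻¹ := this
    show w (((1, u) : Bi S) • x) = _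
    rw [e]
    simp
  · have := hw (g, 1) x
    have e : w (((g, 1) : Bi S) • x) = ρ g * w x * (ρ 1)⁻¹ := this
    show w (((g, 1) : Bi S) • x) = _
    rw [e]
    simp

end sig

end Cfsg.Agent.Lib.FusionExt.PowerDet
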