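import Cfsg.Agent.Lib.FusionExt.PowerSys
import Cfsg.Agent.Lib.FusionExt.Normal

/-!
# The subsystem generated by `p'`-automorphisms (helper92)

For `T ≤ S` the smallest subsystem of `F` over `T` containing all `p'`-automorphisms of subgroups of `T` in `F`. A Frattini
argument and generation by the `F`-centric-type subgroups of `T`.
-/

set_option autoImplicit false

namespace Cfsg.Agent.Lib.FusionExt.PowerE

open Cfsg Cfsg.FusionSystem Cfsg.Agent.Lib.Fusion.Basic Cfsg.Agent.Lib.FusionExt.MapApi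
open Cfsg.Agent.Lib.FusionExt.PowerSys Cfsg.Agent.Lib.Fusion.Saturation Cfsg.Agent.Lib.Fusion.Saturation2
open Cfsg.Agent.Lib.Fusion.Alperin Cfsg.Agent.Lib.FusionExt.Hyperfocal Cfsg.Agent.Lib.FusionExt.SatCrit1

variable {Ω : Type*} [Group Ω] {S T : Subgroup Ω} {F : FusionSystem S} {p : ℕ}

theorem hom_of_mp {D : FusionSystem T} {X : Subgroup Ω} {φ : X →* Ω} (h : Mp D X (extOf φ)) : φ ∈ D.Hom X := by
  obtain ⟨φ', hφ', e⟩ := h
  have : φ' = φ := by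
    ext x
    rw [e, extOf_coe]
  rwa [← this]

theorem mp_sub {D : FusionSystem T} (hD : D.IsSubsystemOf F) {X : Subgroup Ω} {f : Ω → Ω} (h : Mp D X f) : Mp F X f := by
  obtain ⟨φ, hφ, e⟩ := h
  exact ⟨φ, hD X hφ, e⟩

/-- The family of subsystems over `T` containing all `p'`-automorphisms. -/
def InFam (F : FusionSystem S) (p : ℕ) (D : FusionSystem T) : Prop :=
  D.IsSubsystemOf F ∧ ∀ Q : Subgroup Ω, Q ≤ T → ∀ f, Pp F p Q f → Mp D Q f

theorem eAx (hTS : T ≤ S) : SysAx T (fun X f => X ≤ T ∧ Mp F X f ∧ (∀ x ∈ X, f x ∈ T) ∧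
    ∀ D : FusionSystem T, InFam F p D → Mp D X f) := by
  refine ⟨?_, ?_, ?_, ?_, ?_, ?_, ?_, ?_⟩
  · rintro X f g ⟨h1, h2, h3, h4⟩ e
    exact ⟨h1, h2.congr e, fun x hx => e x hx ▸ h3 x hx, fun D hD => (h4 D hD).congr e⟩
  · rintro X f ⟨h1, -⟩
    exact h1
  · rintro X f x ⟨-, -, h3, -⟩ hx
    exact h3 x hx
  · rintro X f x y ⟨-, h2, -⟩ hx hy
    exact h2.map_mul hx hy
  · rintro X f x y ⟨-, h2, -⟩ hx hy e
    exact h2.inj hx hy e
  · intro X a hX ha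
    exact ⟨hX, Mp.conj (hX.trans hTS) (hTS ha), fun x hx => T.mul_mem (T.mul_mem ha (hX hx)) (T.inv_mem ha),
      fun D _ => Mp.conj hX ha⟩
  · rintro X Y f g ⟨h1, h2, -, h4⟩ hm ⟨-, g2, g3, g4⟩
    exact ⟨h1, h2.comp hm g2, fun x hx => g3 _ (hm x hx), fun D hD => (h4 D hD).comp hm (g4 D hD)⟩
  · rintro X Y f ⟨h1, h2, h3, h4⟩ hi
    obtain ⟨k, hk, a1, -, a3⟩ := h2.inverse hi
    refine ⟨k, ⟨fun y hy => ?_, hk, fun y hy => h1 (a3.1 y hy), fun D hD => ?_⟩, a1⟩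
    · obtain ⟨x, hx, rfl⟩ := hi.2 y hy
      exact h3 x hx
    · obtain ⟨k', hk', b1, -, -⟩ := (h4 D hD).inverse hi
      refine hk'.congr (fun y hy => ?_)
      obtain ⟨x, hx, rfl⟩ := hi.2 y hy
      rw [b1 x hx, a1 x hx]

/-- The smallest subsystem over `T` containing all `p'`-automorphisms. -/
noncomputable def eS (hTS : T ≤ S) (F : FusionSystem S) (p : ℕ) : FusionSystem T := mkSys (eAx (F := F) (p := p) hTS)

variable {hTS : T ≤ S} {X Y Q R : Subgroup Ω} {f g h k : Ω → Ω} {s : Ω}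

theorem mp_eS : Mp (eS hTS F p) X f ↔ X ≤ T ∧ Mp F X f ∧ (∀ x ∈ X, f x ∈ T) ∧
    ∀ D : FusionSystem T, InFam F p D → Mp D X f := mp_mkSys _

theorem eS_min {D : FusionSystem T} (hD : InFam F p D) (h : Mp (eS hTS F p) X f) : Mp D X f :=
  (mp_eS.1 h).2.2.2 D hD

theorem eS_sub : (eS hTS F p).IsSubsystemOf F := by
  intro P φ hφ
  exact hom_of_mp (mp_eS.1 (mp_of_hom hφ)).2.1

theorem eS_inFam : InFam F p (eS hTS F p) := by
  refine ⟨eS_sub, fun Q hQ f hf => mp_eS.2 ⟨hQ, hf.1, fun x hx => hQ (hf.2.1.1 x hx), fun D hD => hD.2 Q hQ f hf⟩⟩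

theorem inFam_conj {D : FusionSystem T} (hD : InFam F p D) (hsS : s ∈ S) (hs : ∀ t, s * t * s⁻¹ ∈ T ↔ t ∈ T) :
    InFam F p (conjSys D hs) := by
  refine ⟨fun P φ hφ => ?_, fun Q hQ f hf => ?_⟩
  · have h1 := (mp_conjSys hs).1 (mp_of_hom hφ)
    exact hom_of_mp (mp_of_tw (mp_sub hD.1 h1) hsS)
  · refine (mp_conjSys hs).2 (hD.2 _ (fun y hy => ?_) _ (pp_tw hf hsS))
    exact (hs y).1 (hQ hy)

section normal

variable (hTn : ∀ g ∈ S, ∀ x ∈ T, g * x * g⁻¹ ∈ T)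

include hTn in
theorem conj_iff (hsS : s ∈ S) (t : Ω) : s * t * s⁻¹ ∈ T ↔ t ∈ T := by
  constructor
  · intro h
    have h1 := hTn _ (S.inv_mem hsS) _ h
    have e : s⁻¹ * (s * t * s⁻¹) * s⁻¹⁻¹ = t := by group
    rwa [e] at h1
  · exact hTn s hsS t

include hTn in
/-- The system is invariant under conjugation by `S`. -/
theorem eS_tw (hsS : s ∈ S) (h : Mp (eS hTS F p) X f) : Mp (eS hTS F p) (cj s X) (tw s f) :=
  (mp_conjSys (conj_iff hTn hsS)).1 (eS_min (inFam_conj eS_inFam hsS (conj_iff hTn hsS)) h)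

/-- A function which, on the part in `T`, is a conjugation following a map of `E`. -/
def FP (E : FusionSystem T) (S T P : Subgroup Ω) (f : Ω → Ω) : Prop :=
  ∃ s ∈ S, ∃ g, Mp E (P ⊓ T) g ∧ ∀ x ∈ P ⊓ T, f x = s * g x * s⁻¹

theorem FP.congr {E : FusionSystem T} {P : Subgroup Ω} (h1 : FP E S T P f) (e : ∀ x ∈ P, f x = g x) : FP E S T P g := by
  obtain ⟨s, hs, k, hk, a⟩ := h1
  exact ⟨s, hs, k, hk, fun x hx => by rw [← e x hx.1, a x hx]⟩

theorem FP.restrict {E : FusionSystem T} {P : Subgroup Ω} (h1 : FP E S T P f) (hQ : Q ≤ P) : FP E S T Q f := by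
  obtain ⟨s, hs, k, hk, a⟩ := h1
  exact ⟨s, hs, k, hk.restrict (inf_le_inf_right T hQ), fun x hx => a x ⟨hQ hx.1, hx.2⟩⟩

include hTn in
theorem FP.comp {P : Subgroup Ω} (h1 : FP (eS hTS F p) S T P f) (hm : ∀ x ∈ P, f x ∈ Q) (h2 : FP (eS hTS F p) S T Q g) :
    FP (eS hTS F p) S T P (fun x => g (f x)) := by
  obtain ⟨s, hs, a, ha, ea⟩ := h1
  obtain ⟨s', hs', b, hb, eb⟩ := h2
  have hfT : ∀ x ∈ P ⊓ T, f x ∈ T := by
    intro x hx
    rw [ea x hx]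
    exact hTn s hs _ (ha.mem_S hx)
  refine ⟨s' * s, S.mul_mem hs' hs, fun x => tw s b (a x), ha.comp (Y := cj s (Q ⊓ T)) (fun x hx => ?_) (eS_tw hTn hs hb),
    fun x hx => ?_⟩
  · rw [mem_cj, ← ea x hx]
    exact ⟨hm x hx.1, hfT x hx⟩
  · show g (f x) = s' * s * (s⁻¹ * b (s * a x * s⁻¹) * s) * (s' * s)⁻¹
    rw [eb (f x) ⟨hm x hx.1, hfT x hx⟩, ea x hx]
    group

include hTn in
theorem FP.inv {P : Subgroup Ω} (hsc : F.StronglyClosed T) (hi : Img P f Q) (hk : Mp F Q k) (hkm : ∀ y ∈ Q, k y ∈ P)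
    (h2 : ∀ y ∈ Q, f (k y) = y) (h1 : FP (eS hTS F p) S T P f) : FP (eS hTS F p) S T Q k := by
  obtain ⟨s, hs, a, ha, ea⟩ := h1
  obtain ⟨Y₀, hY₀⟩ := ha.exists_img
  obtain ⟨a', ha', b1, -, -⟩ := ha.inverse hY₀
  have hinv := S.inv_mem hs
  have hkT : ∀ y ∈ Q ⊓ T, k y ∈ P ⊓ T := by
    intro y hy
    refine ⟨hkm y hy.1, ?_⟩
    obtain ⟨φ, hφ, e⟩ := hk.restrict (inf_le_left : Q ⊓ T ≤ Q)
    rw [← e ⟨y, hy⟩]
    exact hsc.2 _ inf_le_right φ hφ ⟨y, hy⟩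
  have hval : ∀ y ∈ Q ⊓ T, s⁻¹ * y * s = a (k y) := by
    intro y hy
    have h3 := ea _ (hkT y hy)
    rw [h2 y hy.1] at h3
    calc s⁻¹ * y * s = s⁻¹ * (s * a (k y) * s⁻¹) * s := by rw [← h3]
      _ = a (k y) := by group
  have hle : Q ⊓ T ≤ cj s⁻¹ Y₀ := by
    intro y hy
    rw [mem_cj, inv_inv, hval y hy]
    exact hY₀.1 _ (hkT y hy)
  refine ⟨s⁻¹, hinv, tw s⁻¹ a', (eS_tw hTn hinv ha').restrict hle, fun y hy => ?_⟩
  show k y = s⁻¹ * (s⁻¹⁻¹ * a' (s⁻¹ * y * s⁻¹⁻¹) * s⁻¹) * s⁻¹⁻¹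
  rw [inv_inv, hval y hy, b1 _ (hkT y hy)]
  group

/-! ### `p'`-automorphisms restrict -/

theorem sc_mp (hsc : F.StronglyClosed T) (h : Mp F X f) (hX : X ≤ T) {x : Ω} (hx : x ∈ X) : f x ∈ T := by
  obtain ⟨φ, hφ, e⟩ := h
  rw [← e ⟨x, hx⟩]
  exact hsc.2 X hX φ hφ ⟨x, hx⟩

theorem pp_inf [Fact p.Prime] (hsc : F.StronglyClosed T) (h : Pp F p X f) : Pp F p (X ⊓ T) f := by
  obtain ⟨a1, a2, m, hm, a3⟩ := h
  have hmem : ∀ x ∈ X ⊓ T, f x ∈ X ⊓ T := fun x hx =>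
    ⟨a2.1 x hx.1, sc_mp hsc (a1.restrict inf_le_left) inf_le_right hx⟩
  refine ⟨a1.restrict inf_le_left, ⟨hmem, fun y hy => ?_⟩, m, hm, fun x hx => a3 x hx.1⟩
  have hm0 : m ≠ 0 := by
    rintro rfl
    have hp : p = 1 := by simpa using hm
    exact (Fact.out : p.Prime).ne_one hp
  obtain ⟨n, rfl⟩ := Nat.exists_eq_succ_of_ne_zero hm0
  refine ⟨f^[n] y, iterate_mem hmem n hy, ?_⟩
  have := a3 y hy.1
  rwa [Function.iterate_succ_apply'] at this

/-! ### The Frattini argument -/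

section frat

variable [Fact p.Prime] [Finite S]

include hTn in
theorem frat (hS : IsPGroup p S) (hF : F.IsSaturated p) (hsc : F.StronglyClosed T) (P : Subgroup Ω) (φ : P →* Ω)
    (hφ : φ ∈ F.Hom P) : FP (eS hTS F p) S T P (extOf φ) := by
  refine alperin_induction F hS hF (fun P φ => FP (eS hTS F p) S T P (extOf φ)) ?_ ?_ ?_ ?_ P φ hφ
  · intro P hP α hα
    have hfn : F.IsFullyNormalized P := by
      rcases hP with rfl | hP
      · exact isFullyNormalized_top F hS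
      · exact hP.2.1
    have hA := isFullyAutomized_of_isFullyNormalized F hS hF hfn
    have hPS := hfn.1
    let K : Subgroup (MulAut P) :=
      { carrier := {β | β ∈ F.autGroup P ∧ FP (eS hTS F p) S T P (autFun β)}
        mul_mem' := by
          rintro a b ⟨ha, ha'⟩ ⟨hb, hb'⟩
          refine ⟨Subgroup.mul_mem _ ha hb, ?_⟩
          refine (FP.comp hTn (Q := P) hb' (img_autFun b).1 ha').congr (fun x hx => ?_)
          rw [autFun_of_mem _ hx, autFun_of_mem _ (b ⟨x, hx⟩).2, autFun_of_mem _ hx]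
          rfl
        one_mem' := by
          refine ⟨Subgroup.one_mem _, 1, S.one_mem, fun x => x, (Mp.refl inf_le_right), fun x hx => ?_⟩
          rw [autFun_of_mem _ hx.1]
          simp
        inv_mem' := by
          rintro a ⟨ha, ha'⟩
          have hinv : a⁻¹ ∈ F.autGroup P := Subgroup.inv_mem _ ha
          refine ⟨hinv, FP.inv hTn hsc (img_autFun a) (mp_autFun hPS hinv) (img_autFun a⁻¹).1 (fun y hy => ?_) ha'⟩
          rw [autFun_of_mem _ hy, autFun_of_mem _ ((a⁻¹) ⟨y, hy⟩).2]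
          simp }
    have := aut_le_of_isFullyAutomized F hA K ?_ ?_ hα
    · exact this.2
    · rw [Subgroup.map_le_iff_le_comap]
      apply (Subgroup.closure_le _).2
      intro β hβ
      have hβ' : (orderOf (β : MulAut P)).Coprime p := by
        rwa [Subgroup.orderOf_coe]
      have h1 : Pp F p P (autFun (β : MulAut P)) := Pp.of_aut hPS β.2 hβ'
      have h2 := pp_inf hsc h1
      refine ⟨β.2, 1, S.one_mem, autFun (β : MulAut P), eS_inFam.2 _ inf_le_right _ h2, fun x _ => by simp⟩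
    · apply (Subgroup.closure_le _).2
      rintro β ⟨g, hg, hβ⟩
      have hβ2 : β ∈ autInducedBy S P := Subgroup.subset_closure ⟨g, hg, hβ⟩
      refine ⟨autInducedBy_le_autGroup F hPS hβ2, g, hg, fun x => x, Mp.refl inf_le_right, fun x hx => ?_⟩
      rw [autFun_of_mem _ hx.1, hβ ⟨x, hx.1⟩]
  · intro P Q hQP φ _ h1
    refine (h1.restrict hQP).congr (fun x hx => ?_)
    rw [extOf_of_mem _ hx, extOf_of_mem _ (hQP hx)]
    rfl
  · intro P Q R e e' _ _ h1 h2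
    refine (FP.comp hTn (Q := Q) h1 (fun x hx => ?_) h2).congr (fun x hx => ?_)
    · rw [extOf_of_mem _ hx]
      exact (e ⟨x, hx⟩).2
    · rw [extOf_of_mem _ hx, extOf_of_mem _ hx]
      exact extOf_of_mem _ (e ⟨x, hx⟩).2
  · intro P Q e he h1
    have hi : Img P (extOf (isoHom e)) Q := by
      refine ⟨fun x hx => ?_, fun y hy => ?_⟩
      · rw [extOf_of_mem _ hx]
        exact (e ⟨x, hx⟩).2
      · refine ⟨(e.symm ⟨y, hy⟩ : P), (e.symm ⟨y, hy⟩).2, ?_⟩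
        rw [extOf_coe, isoHom_apply]
        simp
    obtain ⟨k, hk, a1, a2, a3⟩ := (mp_of_hom he).inverse hi
    have hk' : ∀ y ∈ Q, k y = extOf (isoHom e.symm) y := by
      intro y hy
      obtain ⟨x, hx, rfl⟩ := hi.2 y hy
      rw [a1 x hx, extOf_of_mem _ hy, isoHom_apply]
      have : (⟨extOf (isoHom e) x, hy⟩ : Q) = e ⟨x, hx⟩ := Subtype.ext (extOf_of_mem _ hx)
      rw [this]
      simp
    refine FP.inv hTn hsc hi (hk.congr hk') (fun y hy => ?_) (fun y hy => ?_) h1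
    · rw [← hk' y hy]
      exact a3.1 y hy
    · rw [← hk' y hy]
      exact a2 y hy

include hTn in
/-- The Frattini argument for functions on subgroups of `T`. -/
theorem frat' (hS : IsPGroup p S) (hF : F.IsSaturated p) (hsc : F.StronglyClosed T) (hX : X ≤ T) (hf : Mp F X f) :
    ∃ s ∈ S, ∃ g, Mp (eS hTS F p) X g ∧ ∀ x ∈ X, f x = s * g x * s⁻¹ := by
  obtain ⟨φ, hφ, e⟩ := hf
  obtain ⟨s, hs, g, hg, eg⟩ := frat hTn hS hF hsc X φ hφ
  refine ⟨s, hs, g, hg.restrict (le_inf le_rfl hX), fun x hx => ?_⟩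
  rw [← eg x ⟨hx, hX hx⟩, extOf_of_mem _ hx, e ⟨x, hx⟩]

end frat

end normal

end Cfsg.Agent.Lib.FusionExt.PowerE
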