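import Cfsg.Agent.Lib.FusionExt.PowerE

/-!
# Generation of the `p'`-subsystem by its `F`-centric-type subgroups (helper92)
-/

set_option autoImplicit false

namespace Cfsg.Agent.Lib.FusionExt.PowerGen

open Cfsg Cfsg.FusionSystem Cfsg.Agent.Lib.Fusion.Basic Cfsg.Agent.Lib.FusionExt.MapApi
open Cfsg.Agent.Lib.FusionExt.PowerSys Cfsg.Agent.Lib.Fusion.Saturation Cfsg.Agent.Lib.Fusion.Saturation2
open Cfsg.Agent.Lib.FusionExt.SatCrit1 Cfsg.Agent.Lib.FusionExt.PowerE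

variable {Ω : Type*} [Group Ω] {S T : Subgroup Ω} {F : FusionSystem S} {p : ℕ}
variable {X Y Q R U : Subgroup Ω} {f g h k b : Ω → Ω} {s : Ω}

/-- The subgroups of `T` all of whose conjugates contain their centralizers in `T`. -/
def CC (F : FusionSystem S) (T : Subgroup Ω) : Set (Subgroup Ω) :=
  {P | P ≤ T ∧ ∀ Q, F.IsConj P Q → centralizerIn T Q ≤ Q}

theorem card_cj (s : Ω) (K : Subgroup Ω) : Nat.card (cj s K) = Nat.card K := by
  refine Nat.card_congr ⟨fun x => ⟨s * x * s⁻¹, x.2⟩, fun y => ⟨s⁻¹ * y * s, mem_cj_inv y.2⟩, fun x => ?_, fun y => ?_⟩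
  · apply Subtype.ext
    show s⁻¹ * (s * x * s⁻¹) * s = x
    group
  · apply Subtype.ext
    show s * (s⁻¹ * y * s) * s⁻¹ = y
    group

theorem normalizerIn_cj (hs : s ∈ S) (R : Subgroup Ω) : normalizerIn S (cj s R) = cj s (normalizerIn S R) := by
  ext y
  constructor
  · rintro ⟨h1, h2⟩
    refine ⟨S.mul_mem (S.mul_mem hs h1) (S.inv_mem hs), (?_ : s * y * s⁻¹ ∈ Subgroup.normalizer (R : Set Ω))⟩
    have h2' : y ∈ Subgroup.normalizer ((cj s R : Subgroup Ω) : Set Ω) := h2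
    rw [Subgroup.mem_normalizer_iff] at h2' ⊢
    intro z
    have h3 := h2' (s⁻¹ * z * s)
    have e1 : s⁻¹ * z * s ∈ cj s R ↔ z ∈ R := by
      rw [mem_cj]
      have : s * (s⁻¹ * z * s) * s⁻¹ = z := by group
      rw [this]
    have e2 : y * (s⁻¹ * z * s) * y⁻¹ ∈ cj s R ↔ s * y * s⁻¹ * z * (s * y * s⁻¹)⁻¹ ∈ R := by
      rw [mem_cj]
      have : s * (y * (s⁻¹ * z * s) * y⁻¹) * s⁻¹ = s * y * s⁻¹ * z * (s * y * s⁻¹)⁻¹ := by group
      rw [this]
    rw [e1, e2] at h3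
    exact h3
  · rintro ⟨h1, h2⟩
    have h1' : y ∈ S := by
      have e : y = s⁻¹ * (s * y * s⁻¹) * s := by group
      rw [e]
      exact S.mul_mem (S.mul_mem (S.inv_mem hs) h1) hs
    refine ⟨h1', (?_ : y ∈ Subgroup.normalizer ((cj s R : Subgroup Ω) : Set Ω))⟩
    have h2' : s * y * s⁻¹ ∈ Subgroup.normalizer (R : Set Ω) := h2
    rw [Subgroup.mem_normalizer_iff] at h2' ⊢
    intro z
    have h3 := h2' (s * z * s⁻¹)
    have e2 : s * y * s⁻¹ * (s * z * s⁻¹) * (s * y * s⁻¹)⁻¹ = s * (y * z * y⁻¹) * s⁻¹ := by group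
    rw [e2] at h3
    exact h3

theorem img_cj (R : Subgroup Ω) (s : Ω) : Img R (fun x => s⁻¹ * x * s) (cj s R) := by
  refine ⟨fun x hx => mem_cj_inv hx, fun y hy => ⟨s * y * s⁻¹, hy, ?_⟩⟩
  group

theorem mp_cj (hR : R ≤ S) (hs : s ∈ S) : Mp F R (fun x => s⁻¹ * x * s) :=
  (Mp.conj hR (S.inv_mem hs)).congr (fun x _ => by simp)

theorem isFN_cj (hs : s ∈ S) (hfn : F.IsFullyNormalized R) : F.IsFullyNormalized (cj s R) := by
  have hc : F.IsConj R (cj s R) := (mp_cj hfn.1 hs).isConj (img_cj R s)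
  refine ⟨isConj_right_le F hc, fun Q hQ => ?_⟩
  rw [normalizerIn_cj hs, card_cj]
  exact hfn.2 Q (isConj_trans F hc hQ)

theorem iterate_modEq (hm : ∀ x ∈ Q, f x ∈ Q) {m₀ : ℕ} (hm₀ : ∀ x ∈ Q, f^[m₀] x = x) {a c : ℕ} (e : a ≡ c [MOD m₀])
    {x : Ω} (hx : x ∈ Q) : f^[a] x = f^[c] x := by
  have hj : ∀ (j : ℕ) (y : Ω), y ∈ Q → f^[m₀ * j] y = y := by
    intro j y hy
    induction j with
    | zero => rfl
    | succ j ih => rw [Nat.mul_succ, Function.iterate_add_apply, hm₀ y hy, ih]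
  have key : ∀ n : ℕ, f^[n] x = f^[n % m₀] x := by
    intro n
    conv_lhs => rw [← Nat.mod_add_div n m₀]
    rw [Function.iterate_add_apply, hj _ x hx]
  rw [key a, key c, e]

section finite

variable [Finite S] [Fact p.Prime]

/-- The `p'`-part of an automorphism extending a `p'`-automorphism. -/
theorem pp_extend (hU : U ≤ S) (hb : Mp F U b) (hi : Img U b U) (hRU : R ≤ U) (hf : Pp F p R f) (he : ∀ x ∈ R, b x = f x) :
    ∃ f', Pp F p U f' ∧ ∀ x ∈ R, f' x = f x := by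
  obtain ⟨a, haF, ha⟩ := hb.toAut hi
  haveI : Finite U := finite_of_le hU
  haveI : Finite (MulAut U) := Cfsg.Agent.Lib.Fusion.Basic.finite_mulAut_of_finite (A := U)
  obtain ⟨-, hf2, m₀, hm₀, hf3⟩ := id hf
  have hp : p.Prime := Fact.out
  obtain ⟨k, q, hq, hN⟩ := Nat.exists_eq_pow_mul_and_not_dvd (orderOf_pos a).ne' p hp.ne_one
  have hco : m₀.Coprime (p ^ k) := Nat.Coprime.pow_right k hm₀
  obtain ⟨m, hm1, hm2⟩ := Nat.chineseRemainder hco 1 0
  obtain ⟨d, hd⟩ := (Nat.modEq_zero_iff_dvd).1 hm2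
  have ha' : a ^ m ∈ F.autGroup U := Subgroup.pow_mem _ haF m
  have h1 : (a ^ m) ^ q = 1 := by
    rw [← pow_mul, hd]
    have : p ^ k * d * q = orderOf a * d := by rw [hN]; ring
    rw [this, pow_mul, pow_orderOf_eq_one, one_pow]
  have hco2 : (orderOf (a ^ m)).Coprime p := by
    have h2 : orderOf (a ^ m) ∣ q := orderOf_dvd_of_pow_eq_one h1
    exact Nat.Coprime.coprime_dvd_left h2 ((hp.coprime_iff_not_dvd.2 hq).symm)
  refine ⟨autFun (a ^ m), Pp.of_aut hU ha' hco2, fun x hx => ?_⟩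
  have hU' : x ∈ U := hRU hx
  rw [autFun_of_mem _ hU']
  have h3 := iterate_autFun (a := a) m ⟨x, hU'⟩
  rw [← h3]
  have hagree : ∀ y ∈ R, autFun a y = f y := by
    intro y hy
    rw [autFun_of_mem a (hRU hy), ha ⟨y, hRU hy⟩, he y hy]
  have hfm : ∀ y ∈ R, autFun a y ∈ R := fun y hy => by
    rw [hagree y hy]
    exact hf2.1 y hy
  show (autFun a)^[m] x = f x
  rw [iterate_congr hfm hagree m hx, iterate_modEq hf2.1 hf3 hm1 hx]
  rfl

theorem exists_ext_sup (hr : F.IsReceptive R) (hf : Mp F Q f) (hi : Img Q f R) (C : Subgroup Ω)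
    (hC : C ≤ centralizerIn S Q) : ∃ g, Mp F (Q ⊔ C) g ∧ ∀ x ∈ Q, g x = f x := by
  obtain ⟨φ, hφ, e⟩ := id hf
  have hrg : φ.range = R := Mp.range_eq e hi
  have hT : Q ⊔ C ≤ extender S Q φ := sup_le (le_extender F hφ) (hC.trans (centralizerIn_le_extender φ))
  obtain ⟨ψ, hψ, hext⟩ := IsReceptive.exists_extension F hr hφ hrg hT le_sup_left
  refine ⟨extOf ψ, mp_of_hom hψ, fun x hx => ?_⟩
  rw [extOf_of_mem _ (le_sup_left (a := Q) (b := C) hx), ← e ⟨x, hx⟩]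
  exact hext ⟨x, hx⟩

theorem centralizerIn_mono (hTS : T ≤ S) (P : Subgroup Ω) : centralizerIn T P ≤ centralizerIn S P :=
  fun _ hx => ⟨hTS hx.1, hx.2⟩

theorem exists_ext_cent (hsc : F.StronglyClosed T) (hr : F.IsReceptive R) (hRT : R ≤ T) (hf : Pp F p R f) :
    ∃ f', Pp F p (R ⊔ centralizerIn T R) f' ∧ ∀ x ∈ R, f' x = f x := by
  have hTS := hsc.1
  set C := centralizerIn T R with hCdef
  have hCT : C ≤ T := inf_le_left
  have hUS : R ⊔ C ≤ S := sup_le (hRT.trans hTS) (hCT.trans hTS)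
  obtain ⟨g, hg, hge⟩ := exists_ext_sup hr hf.1 hf.2.1 C (centralizerIn_mono hTS R)
  have hcomm : ∀ c ∈ C, ∀ y ∈ R, c * y = y * c := by
    intro c hc y hy
    exact ((Subgroup.mem_centralizer_iff.1 hc.2) y hy).symm
  have hgC : ∀ c ∈ C, g c ∈ C := by
    intro c hc
    refine ⟨sc_mp hsc (hg.restrict le_sup_right) hCT hc, Subgroup.mem_centralizer_iff.2 fun y hy => ?_⟩
    obtain ⟨r, hr', rfl⟩ := hf.2.1.2 y hy
    have hrU : r ∈ R ⊔ C := Subgroup.mem_sup_left hr'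
    have hcU : c ∈ R ⊔ C := Subgroup.mem_sup_right hc
    rw [← hge r hr', ← hg.map_mul hrU hcU, ← hg.map_mul hcU hrU, hcomm c hc r hr']
  have hnorm : R ≤ Subgroup.normalizer (C : Set Ω) := by
    intro r hr'
    rw [Subgroup.mem_normalizer_iff]
    intro c
    constructor
    · intro hc
      have : r * c * r⁻¹ = c := by rw [← hcomm c hc r hr']; group
      rwa [this]
    · intro hc
      have h1 : r⁻¹ * (r * c * r⁻¹) * r = c := by group
      have h2 : c = r * c * r⁻¹ := by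
        have := hcomm _ hc r hr'
        have h3 : r * c * r⁻¹ * r = r * (r * c * r⁻¹) := this
        have h4 : r * c = r * (r * c * r⁻¹) := by
          rw [← h3]
          group
        exact mul_left_cancel h4
      rw [h2]
      exact hc
  have hgU : ∀ x ∈ R ⊔ C, g x ∈ R ⊔ C := by
    intro x hx
    obtain ⟨r, hr', c, hc, rfl⟩ := Cfsg.Agent.Lib.FusionExt.Normal.exists_mul_of_mem_sup' hnorm hx
    rw [hg.map_mul (Subgroup.mem_sup_left hr') (Subgroup.mem_sup_right hc), hge r hr']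
    exact Subgroup.mul_mem _ (Subgroup.mem_sup_left (hf.2.1.1 r hr')) (Subgroup.mem_sup_right (hgC c hc))
  obtain ⟨Y₀, hY₀⟩ := hg.exists_img
  have hY₀U : Y₀ ≤ R ⊔ C := by
    intro y hy
    obtain ⟨x, hx, rfl⟩ := hY₀.2 y hy
    exact hgU x hx
  have hcard := hg.card_img hY₀
  have hY₀eq : Y₀ = R ⊔ C := eq_of_le_of_card hY₀U hcard.ge hUS
  rw [hY₀eq] at hY₀
  exact pp_extend hUS hg hY₀ le_sup_left hf hge

theorem mem_CC_of_rec (hsc : F.StronglyClosed T) (hr : F.IsReceptive R) (hRT : R ≤ T) (hC : centralizerIn T R ≤ R) :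
    R ∈ CC F T := by
  have hTS := hsc.1
  refine ⟨hRT, fun Q hQ => ?_⟩
  obtain ⟨φ, hφ, hrg⟩ := isConj_symm F hQ
  have hi : Img Q (extOf φ) R := by
    refine ⟨fun x hx => ?_, fun y hy => ?_⟩
    · rw [extOf_of_mem _ hx, ← hrg]
      exact ⟨_, rfl⟩
    · rw [← hrg] at hy
      obtain ⟨x, rfl⟩ := hy
      exact ⟨x, x.2, extOf_coe φ x⟩
  intro c hc
  obtain ⟨g, hg, hge⟩ := exists_ext_sup hr (mp_of_hom hφ) hi (centralizerIn T Q) (centralizerIn_mono hTS Q)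
  have hcU : c ∈ Q ⊔ centralizerIn T Q := Subgroup.mem_sup_right hc
  have h1 : g c ∈ centralizerIn T R := by
    refine ⟨sc_mp hsc (hg.restrict le_sup_right) inf_le_left hc, Subgroup.mem_centralizer_iff.2 fun y hy => ?_⟩
    obtain ⟨q, hq, rfl⟩ := hi.2 y hy
    have hqU : q ∈ Q ⊔ centralizerIn T Q := Subgroup.mem_sup_left hq
    rw [← hge q hq, ← hg.map_mul hqU hcU, ← hg.map_mul hcU hqU]
    congr 1
    exact (Subgroup.mem_centralizer_iff.1 hc.2) q hq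
  obtain ⟨q, hq, e⟩ := hi.2 _ (hC h1)
  rw [← hge q hq] at e
  have := hg.inj (Subgroup.mem_sup_left hq) hcU e
  rwa [← this]

theorem top_mem_CC (hsc : F.StronglyClosed T) : T ∈ CC F T := by
  refine ⟨le_rfl, fun Q hQ => ?_⟩
  obtain ⟨φ, hφ, hrg⟩ := hQ
  have hle : Q ≤ T := by
    rw [← hrg]
    rintro _ ⟨x, rfl⟩
    exact hsc.2 T le_rfl φ hφ x
  have hcard : Nat.card T = Nat.card Q := isConj_card_eq F ⟨φ, hφ, hrg⟩
  have : Q = T := eq_of_le_of_card hle hcard.le hsc.1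
  rw [this]
  exact inf_le_left

end finite

theorem card_le_of_mp {D : FusionSystem T} (hf : Mp D X f) (hm : ∀ x ∈ X, f x ∈ Y) [Finite Y] : Nat.card X ≤ Nat.card Y :=
  Nat.card_le_card_of_injective (fun x : X => (⟨f x, hm x x.2⟩ : Y)) (fun a c e =>
    Subtype.ext (hf.inj a.2 c.2 (congrArg Subtype.val e)))

theorem e3Ax [Finite T] (E E' : FusionSystem T) (n : ℕ) :
    SysAx T (fun X f => Mp E X f ∧ (n ≤ Nat.card X → Mp E' X f)) := by
  refine ⟨?_, ?_, ?_, ?_, ?_, ?_, ?_, ?_⟩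
  · rintro X f g ⟨h1, h2⟩ e
    exact ⟨h1.congr e, fun hn => (h2 hn).congr e⟩
  · rintro X f ⟨h1, -⟩
    exact h1.le
  · rintro X f x ⟨h1, -⟩ hx
    exact h1.mem_S hx
  · rintro X f x y ⟨h1, -⟩ hx hy
    exact h1.map_mul hx hy
  · rintro X f x y ⟨h1, -⟩ hx hy e
    exact h1.inj hx hy e
  · intro X a hX ha
    exact ⟨Mp.conj hX ha, fun _ => Mp.conj hX ha⟩
  · rintro X Y f g ⟨h1, h2⟩ hm ⟨g1, g2⟩
    refine ⟨h1.comp hm g1, fun hn => (h2 hn).comp hm (g2 ?_)⟩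
    haveI : Finite Y := finite_of_le g1.le
    exact hn.trans (card_le_of_mp h1 hm)
  · rintro X Y f ⟨h1, h2⟩ hi
    obtain ⟨k, hk, a1, -, -⟩ := h1.inverse hi
    refine ⟨k, ⟨hk, fun hn => ?_⟩, a1⟩
    have hn' : n ≤ Nat.card X := by rwa [← h1.card_img hi]
    obtain ⟨k', hk', b1, -, -⟩ := (h2 hn').inverse hi
    refine hk'.congr (fun y hy => ?_)
    obtain ⟨x, hx, rfl⟩ := hi.2 y hy
    rw [b1 x hx, a1 x hx]

section gen

variable [Finite S] [Fact p.Prime] {hTS : T ≤ S}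

theorem step_gen (hS : IsPGroup p S) (hF : F.IsSaturated p) (hsc : F.StronglyClosed T)
    (hTn : ∀ g ∈ S, ∀ x ∈ T, g * x * g⁻¹ ∈ T) (E' : FusionSystem T)
    (hC : ∀ P ∈ CC F T, ∀ f, Mp (eS hTS F p) P f → Mp E' P f) (hQ : Q ≤ T) (hf : Pp F p Q f)
    (hH : ∀ (X : Subgroup Ω) (f : Ω → Ω), Mp (eS hTS F p) X f → Nat.card Q < Nat.card X → Mp E' X f) : Mp E' Q f := by
  by_cases hQT : Q = T
  · subst hQT
    exact hC Q (top_mem_CC hsc) f (eS_inFam.2 _ le_rfl f hf)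
  obtain ⟨R₀, hQR₀, hfn⟩ := exists_isFullyNormalized F (hQ.trans hTS)
  have hA := isFullyAutomized_of_isFullyNormalized F hS hF hfn
  have hR₀r := isReceptive_of_isFullyNormalized F hS hF hfn
  obtain ⟨φ, hφ, hv, hr⟩ := exists_normalizer_map F hS hA hR₀r hQR₀
  set Q₁ := normalizerIn S Q ⊓ T with hQ₁
  have hQQ₁ : Q ≤ Q₁ := fun x hx => ⟨⟨hTS (hQ hx), Subgroup.le_normalizer hx⟩, hQ hx⟩
  have hQ₁T : Q₁ ≤ T := inf_le_right
  obtain ⟨s, hs, g, hg, eg⟩ := frat' (hTS := hTS) hTn hS hF hsc hQ₁T ((mp_of_hom hφ).restrict inf_le_left)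
  have hi : Img Q g (cj s R₀) := by
    refine ⟨fun x hx => ?_, fun y hy => ?_⟩
    · rw [mem_cj, ← eg x (hQQ₁ hx), ← hr]
      refine ⟨⟨x, (hQQ₁ hx).1⟩, hx, ?_⟩
      rw [extOf_of_mem _ (hQQ₁ hx).1]
    · have hy' : s * y * s⁻¹ ∈ R₀ := hy
      rw [← hr] at hy'
      obtain ⟨x, hx, e⟩ := hy'
      have hxQ : (x : Ω) ∈ Q := hx
      refine ⟨x, hxQ, ?_⟩
      have h2 := eg x (hQQ₁ hxQ)
      rw [extOf_of_mem _ x.2] at h2
      have h3 : s * y * s⁻¹ = s * g x * s⁻¹ := by rw [← h2]; exact e.symm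
      have h4 := mul_left_cancel (mul_right_cancel h3)
      exact h4.symm
  set R := cj s R₀ with hR
  have hlt : Nat.card Q < Nat.card Q₁ := by
    obtain ⟨y, hyT, hyQ, hyN⟩ := exists_normalizing hS hQ hQT hTS
    refine card_lt_of_lt hQQ₁ (fun e => hyQ ?_) (hQ₁T.trans hTS)
    rw [e]
    exact ⟨⟨hTS hyT, hyN⟩, hyT⟩
  have hg' := hH Q₁ g hg hlt
  have hgQ := hg.restrict hQQ₁
  obtain ⟨μ, hμ, a1, a2, a3⟩ := hgQ.inverse hi
  obtain ⟨μ', hμ', b1, -, -⟩ := (hg'.restrict hQQ₁).inverse hi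
  have hμE' : Mp E' R μ := by
    refine hμ'.congr (fun y hy => ?_)
    obtain ⟨x, hx, rfl⟩ := hi.2 y hy
    rw [b1 x hx, a1 x hx]
  have hRT : R ≤ T := by
    intro y hy
    obtain ⟨x, hx, rfl⟩ := hi.2 y hy
    exact hgQ.mem_S hx
  have hf' : Pp F p R (fun y => g (f (μ y))) :=
    Pp.conj_iso hf (mp_sub eS_sub hgQ) hi (mp_sub eS_sub hμ) a1 a2 a3.1
  have hfnR : F.IsFullyNormalized R := isFN_cj hs hfn
  have hrR := isReceptive_of_isFullyNormalized F hS hF hfnR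
  have hf'E' : Mp E' R (fun y => g (f (μ y))) := by
    by_cases hCR : centralizerIn T R ≤ R
    · exact hC R (mem_CC_of_rec hsc hrR hRT hCR) _ (eS_inFam.2 R hRT _ hf')
    · obtain ⟨f', hf'', he⟩ := exists_ext_cent hsc hrR hRT hf'
      have hUT : R ⊔ centralizerIn T R ≤ T := sup_le hRT inf_le_left
      have h1 := eS_inFam (hTS := hTS).2 _ hUT _ hf''
      have hcardR : Nat.card Q = Nat.card R := (hgQ.card_img hi).symm
      have hlt2 : Nat.card Q < Nat.card ↥(R ⊔ centralizerIn T R) := by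
        rw [hcardR]
        refine card_lt_of_lt le_sup_left (fun e => hCR ?_) (hUT.trans hTS)
        intro c hc
        have h5 : c ∈ R ⊔ centralizerIn T R := Subgroup.mem_sup_right hc
        rwa [← e] at h5
      have h2 := hH _ _ h1 hlt2
      exact (h2.restrict le_sup_left).congr he
  have h3 : Mp E' Q (fun x => g (f (μ (g x)))) := (hg'.restrict hQQ₁).comp hi.1 hf'E'
  have hm3 : ∀ x ∈ Q, g (f (μ (g x))) ∈ R := fun x hx => hf'.2.1.1 (g x) (hi.1 x hx)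
  have h4 : Mp E' Q (fun x => μ (g (f (μ (g x))))) := h3.comp hm3 hμE'
  refine h4.congr (fun x hx => ?_)
  show μ (g (f (μ (g x)))) = f x
  rw [a1 x hx, a1 _ (hf.2.1.1 x hx)]

/-- **Generation.** -/
theorem gen_E (hS : IsPGroup p S) (hF : F.IsSaturated p) (hsc : F.StronglyClosed T)
    (hTn : ∀ g ∈ S, ∀ x ∈ T, g * x * g⁻¹ ∈ T) (E' : FusionSystem T)
    (h : ∀ P ∈ CC F T, (eS hTS F p).Hom P ⊆ E'.Hom P) : eS hTS F p ≤ E' := by
  have hC : ∀ P ∈ CC F T, ∀ f, Mp (eS hTS F p) P f → Mp E' P f := by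
    rintro P hP f ⟨φ, hφ, e⟩
    exact ⟨φ, h P hP hφ, e⟩
  haveI : Finite T := finite_of_le hTS
  have key : ∀ (d : ℕ) (X : Subgroup Ω) (f : Ω → Ω), Nat.card T - Nat.card X = d → Mp (eS hTS F p) X f → Mp E' X f := by
    intro d
    induction d using Nat.strong_induction_on with
    | _ d ih =>
    intro X f hd hf
    have hXT : ∀ {Z : Subgroup Ω} {f : Ω → Ω}, Mp (eS hTS F p) Z f → Nat.card Z ≤ Nat.card T := by
      intro Z f hZ
      exact Subgroup.card_le_of_le hZ.le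
    have hH : ∀ (X' : Subgroup Ω) (f' : Ω → Ω), Mp (eS hTS F p) X' f' → Nat.card X < Nat.card X' → Mp E' X' f' := by
      intro X' f' hf' hlt
      have h1 := hXT hf'
      exact ih (Nat.card T - Nat.card X') (by omega) X' f' rfl hf'
    have hfam : InFam F p (mkSys (e3Ax (eS hTS F p) E' (Nat.card X))) := by
      refine ⟨fun P φ hφ => ?_, fun Q hQ f' hf' => ?_⟩
      · have h1 := (mp_mkSys (e3Ax (eS hTS F p) E' (Nat.card X))).1 (mp_of_hom hφ)
        exact hom_of_mp (mp_sub eS_sub h1.1)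
      · have h1 : Mp (eS hTS F p) Q f' := eS_inFam.2 Q hQ f' hf'
        refine (mp_mkSys (e3Ax (eS hTS F p) E' (Nat.card X))).2 ⟨h1, fun hn => ?_⟩
        rcases hn.lt_or_eq with hlt | heq
        · exact hH Q f' h1 hlt
        · exact step_gen hS hF hsc hTn E' hC hQ hf' (by rwa [← heq])
    have h2 := eS_min hfam hf
    exact ((mp_mkSys (e3Ax (eS hTS F p) E' (Nat.card X))).1 h2).2 le_rfl
  intro P φ hφ
  exact hom_of_mp (key _ P (extOf φ) rfl (mp_of_hom hφ))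

end gen

end Cfsg.Agent.Lib.FusionExt.PowerGen
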