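import Cfsg.Agent.Lib.FusionExt.PowerGen
import Cfsg.Agent.Lib.FusionExt.PIndex

/-!
# Saturation of the `p'`-subsystem over a normal subgroup of prime index containing the hyperfocal subgroup (helper92)
-/

set_option autoImplicit false

namespace Cfsg.Agent.Lib.FusionExt.PowerSat

open Cfsg Cfsg.FusionSystem Cfsg.Agent.Lib.Fusion.Basic Cfsg.Agent.Lib.FusionExt.MapApi
open Cfsg.Agent.Lib.FusionExt.PowerSys Cfsg.Agent.Lib.Fusion.Saturation Cfsg.Agent.Lib.Fusion.Saturation2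
open Cfsg.Agent.Lib.FusionExt.SatCrit1 Cfsg.Agent.Lib.FusionExt.PowerE Cfsg.Agent.Lib.FusionExt.PowerGen
open Cfsg.Agent.Lib.FusionExt.PowerDet Cfsg.Agent.Lib.Fusion.Biset Cfsg.Agent.Lib.Fusion.CharBiset3
open Cfsg.Agent.Lib.Fusion.ModelGroup Cfsg.Agent.Lib.Fusion.GroupSystem

universe u v

variable {Ω : Type u} [Group Ω] {S T : Subgroup Ω} {F : FusionSystem S} {p : ℕ}
variable {X : Type u} [MulAction (Bi S) X] {A : Type v} [CommGroup A] {ρ : S →* A} {w : X → A}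
variable {Y Z Q R : Subgroup Ω} {f g : Ω → Ω} {hTS : T ≤ S}

section d

variable [Finite X] [Finite S] [Fact p.Prime]

/-- Maps of `F` between subgroups of `T` covered by a permutation of determinant one. -/
theorem dAx (hTS : T ≤ S) (hw : RW ρ w) (hwl : ∀ (g : S) (x : X), w (lS g x) = ρ g * w x)
    (hρT : ∀ x : S, (x : Ω) ∈ T → ρ x = 1) :
    SysAx T (fun Y f => Y ≤ T ∧ Mp F Y f ∧ (∀ y ∈ Y, f y ∈ T) ∧ ∃ σ : Equiv.Perm X, IsSig S Y f σ ∧ dt S w σ = 1) := by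
  refine ⟨?_, ?_, ?_, ?_, ?_, ?_, ?_, ?_⟩
  · rintro Y f g ⟨h1, h2, h3, σ, h4, h5⟩ e
    exact ⟨h1, h2.congr e, fun y hy => e y hy ▸ h3 y hy, σ, h4.congr e, h5⟩
  · rintro Y f ⟨h1, -⟩
    exact h1
  · rintro Y f y ⟨-, -, h3, -⟩ hy
    exact h3 y hy
  · rintro Y f x y ⟨-, h2, -⟩ hx hy
    exact h2.map_mul hx hy
  · rintro Y f x y ⟨-, h2, -⟩ hx hy e
    exact h2.inj hx hy e
  · intro Y a hY ha
    refine ⟨hY, Mp.conj (hY.trans hTS) (hTS ha), fun x hx => T.mul_mem (T.mul_mem ha (hY hx)) (T.inv_mem ha),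
      lP ⟨a, hTS ha⟩, isSig_lP (hY.trans hTS) ⟨a, hTS ha⟩, ?_⟩
    rw [dt_lP hwl, hρT _ ha, one_pow]
  · rintro Y Z f g ⟨h1, h2, -, σ, h4, h5⟩ hm ⟨g1, g2, g3, τ, g4, g5⟩
    refine ⟨h1, h2.comp hm g2, fun x hx => g3 _ (hm x hx), τ * σ, h4.comp hm (g1.trans hTS) g4, ?_⟩
    rw [dt_mul hw g4.1 h4.1, g5, h5, mul_one]
  · rintro Y Z f ⟨h1, h2, h3, σ, h4, h5⟩ hi
    obtain ⟨k, hk, a1, a2, a3⟩ := h2.inverse hi
    refine ⟨k, ⟨fun z hz => ?_, hk, fun z hz => h1 (a3.1 z hz), σ⁻¹,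
      h4.inv (h1.trans hTS) (fun z hz => ⟨a3.1 z hz, a2 z hz⟩), ?_⟩, a1⟩
    · obtain ⟨y, hy, rfl⟩ := hi.2 z hz
      exact h3 y hy
    · rw [dt_inv hw h4.1, h5, inv_one]

theorem d_inFam (hX : IsChar F p X) (hw : RW ρ w) (hwl : ∀ (g : S) (x : X), w (lS g x) = ρ g * w x)
    (hρT : ∀ x : S, (x : Ω) ∈ T → ρ x = 1) (hexp : ∀ a : A, a ^ p = 1) :
    InFam F p (mkSys (dAx (F := F) hTS hw hwl hρT)) := by
  refine ⟨fun P φ hφ => hom_of_mp ((mp_mkSys _).1 (mp_of_hom hφ)).2.1, fun Q hQ f hf => (mp_mkSys _).2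
    ⟨hQ, hf.1, fun y hy => hQ (hf.2.1.1 y hy), ?_⟩⟩
  obtain ⟨σ₀, hσ₀⟩ := exists_sig hX hf.1
  obtain ⟨-, hf2, m₀, hm₀, hf3⟩ := hf
  obtain ⟨m, hm1, hm2⟩ := Nat.chineseRemainder hm₀ 1 0
  obtain ⟨d, hd⟩ := (Nat.modEq_zero_iff_dvd).1 hm2
  refine ⟨σ₀ ^ m, (hσ₀.pow hf2.1 (hQ.trans hTS) m).congr (fun y hy => iterate_modEq hf2.1 hf3 hm1 hy), ?_⟩
  rw [dt_pow hw hσ₀.1, hd, pow_mul, hexp, one_pow]

theorem rho_eq_one (hX : IsChar F p X) (hexp : ∀ a : A, a ^ p = 1) (hS : IsPGroup p S) (hw : RW ρ w)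
    (hwl : ∀ (g : S) (x : X), w (lS g x) = ρ g * w x) (hY : Y ≤ S)
    (hC : ∀ ψ ∈ F.Hom Y, ∀ y : S, (∀ a : Y, (y : Ω) * ψ a = ψ a * y) → ρ y = 1) (s : S) {σ : Equiv.Perm X}
    (hσ : IsSig S Y (fun y => (s : Ω) * y * (s : Ω)⁻¹) σ) (h1 : dt S w σ = 1) : ρ s = 1 := by
  have h2 := sig_unique hX hexp hS hw hwl hY hC
    (fun y hy => S.mul_mem (S.mul_mem s.2 (hY hy)) (S.inv_mem s.2)) hσ (isSig_lP hY s)
  rw [h1, dt_lP hwl] at h2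
  exact Cfsg.Agent.Lib.Fusion.TateHyp.eq_one_of_pow_of_pow (p := p) (k := 1) hX.count h2.symm
    (by rw [pow_one]; exact hexp _)

/-- Automorphisms in `F` covered by a permutation of determinant one. -/
def BB (F : FusionSystem S) (w : X → A) (hw : RW ρ w) (Y : Subgroup Ω) (hY : Y ≤ S) : Subgroup (MulAut Y) where
  carrier := {a | a ∈ F.autGroup Y ∧ ∃ σ : Equiv.Perm X, IsSig S Y (autFun a) σ ∧ dt S w σ = 1}
  mul_mem' := by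
    rintro a b ⟨ha, σ, h1, h2⟩ ⟨hb, τ, h3, h4⟩
    refine ⟨Subgroup.mul_mem _ ha hb, σ * τ, (h3.comp (img_autFun b).1 hY h1).congr (fun y hy => ?_), ?_⟩
    · rw [autFun_of_mem _ hy, autFun_of_mem _ (b ⟨y, hy⟩).2, autFun_of_mem _ hy]
      rfl
    · rw [dt_mul hw h1.1 h3.1, h2, h4, mul_one]
  one_mem' := by
    refine ⟨Subgroup.one_mem _, 1, ⟨RE.one, fun y hy h₁ h₂ x => ?_⟩, dt_one⟩
    have e : (⟨autFun (1 : MulAut Y) y, h₂⟩ : S) = ⟨y, h₁⟩ := Subtype.ext (by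
      show autFun (1 : MulAut Y) y = y
      rw [autFun_of_mem _ hy]
      rfl)
    rw [e]
    rfl
  inv_mem' := by
    rintro a ⟨ha, σ, h1, h2⟩
    refine ⟨Subgroup.inv_mem _ ha, σ⁻¹, h1.inv hY (fun z hz => ⟨(img_autFun a⁻¹).1 z hz, ?_⟩), ?_⟩
    · rw [autFun_of_mem _ hz, autFun_of_mem _ ((a⁻¹) ⟨z, hz⟩).2]
      simp
    · rw [dt_inv hw h1.1, h2, inv_one]

theorem BB_normal (hX : IsChar F p X) (hw : RW ρ w) (hY : Y ≤ S) {b d : MulAut Y} (hb : b ∈ F.autGroup Y)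
    (hd : d ∈ BB F w hw Y hY) : b * d * b⁻¹ ∈ BB F w hw Y hY := by
  obtain ⟨σ, hσ⟩ := exists_sig hX (mp_autFun hY hb)
  obtain ⟨hd1, τ, h1, h2⟩ := hd
  have hbinv : IsSig S Y (autFun b⁻¹) σ⁻¹ := hσ.inv hY (fun z hz => ⟨(img_autFun b⁻¹).1 z hz, by
    rw [autFun_of_mem _ hz, autFun_of_mem _ ((b⁻¹) ⟨z, hz⟩).2]
    simp⟩)
  refine ⟨Subgroup.mul_mem _ (Subgroup.mul_mem _ hb hd1) (Subgroup.inv_mem _ hb), σ * (τ * σ⁻¹), ?_, ?_⟩
  · refine ((hbinv.comp (img_autFun b⁻¹).1 hY h1).comp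
      (fun y hy => (img_autFun d).1 _ ((img_autFun b⁻¹).1 y hy)) hY hσ).congr (fun y hy => ?_)
    rw [autFun_of_mem _ hy, autFun_of_mem _ ((b⁻¹) ⟨y, hy⟩).2, autFun_of_mem _ (d _).2, autFun_of_mem _ hy]
    rfl
  · rw [dt_mul hw hσ.1 (h1.1.mul hσ.1.inv), dt_mul hw h1.1 hσ.1.inv, dt_inv hw hσ.1, h2, one_mul, mul_inv_cancel]

end d

section main

variable [Finite S] [Fact p.Prime] [Finite X]

theorem sc_inv (hsc : F.StronglyClosed T) (hf : Mp F Y f) {x : Ω} (hx : x ∈ Y) (hfx : f x ∈ T) : x ∈ T := by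
  obtain ⟨Z, hZ⟩ := hf.exists_img
  obtain ⟨k, hk, a1, -, -⟩ := hf.inverse hZ
  have h1 := sc_mp hsc (hk.restrict (inf_le_left : Z ⊓ T ≤ Z)) inf_le_right ⟨hZ.1 x hx, hfx⟩
  rwa [a1 x hx] at h1

theorem typeII_class (hρT : ∀ x : S, ρ x = 1 ↔ (x : Ω) ∈ T) (hr : F.IsReceptive R) (hsc : F.StronglyClosed T)
    (hcen : centralizerIn S R ≤ T) (Q' : Subgroup Ω) (hQ' : F.IsConj R Q') (y : S) (hy : (y : Ω) ∈ centralizerIn S Q') :
    ρ y = 1 := by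
  obtain ⟨φ, hφ, hrg⟩ := isConj_symm F hQ'
  have hi : Img Q' (extOf φ) R := by
    refine ⟨fun x hx => ?_, fun z hz => ?_⟩
    · rw [extOf_of_mem _ hx, ← hrg]
      exact ⟨_, rfl⟩
    · rw [← hrg] at hz
      obtain ⟨x, rfl⟩ := hz
      exact ⟨x, x.2, extOf_coe φ x⟩
  obtain ⟨g, hg, hge⟩ := exists_ext_sup hr (mp_of_hom hφ) hi (centralizerIn S Q') le_rfl
  have hyU : (y : Ω) ∈ Q' ⊔ centralizerIn S Q' := Subgroup.mem_sup_right hy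
  have h1 : g y ∈ centralizerIn S R := by
    refine ⟨hg.mem_S hyU, Subgroup.mem_centralizer_iff.2 fun z hz => ?_⟩
    obtain ⟨q, hq, rfl⟩ := hi.2 z hz
    have hqU : q ∈ Q' ⊔ centralizerIn S Q' := Subgroup.mem_sup_left hq
    rw [← hge q hq, ← hg.map_mul hqU hyU, ← hg.map_mul hyU hqU]
    congr 1
    exact (Subgroup.mem_centralizer_iff.1 hy.2) q hq
  exact (hρT y).2 (sc_inv hsc hg hyU (hcen h1))

theorem hC_of_class (hcl : ∀ Q', F.IsConj Y Q' → ∀ y : S, (y : Ω) ∈ centralizerIn S Q' → ρ y = 1) :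
    ∀ ψ ∈ F.Hom Y, ∀ y : S, (∀ a : Y, (y : Ω) * ψ a = ψ a * y) → ρ y = 1 := by
  intro ψ hψ y hy
  refine hcl ψ.range ⟨ψ, hψ, rfl⟩ y ⟨y.2, Subgroup.mem_centralizer_iff.2 ?_⟩
  rintro _ ⟨a, rfl⟩
  exact (hy a).symm

/-- Fully automized, the case `C_S(R) ≤ T`. -/
theorem fa_II (hX : IsChar F p X) (hexp : ∀ a : A, a ^ p = 1) (hS : IsPGroup p S) (hw : RW ρ w)
    (hwl : ∀ (g : S) (x : X), w (lS g x) = ρ g * w x) (hρT : ∀ x : S, ρ x = 1 ↔ (x : Ω) ∈ T) (hR : R ≤ T)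
    (hA : F.IsFullyAutomized p R) (hC : ∀ ψ ∈ F.Hom R, ∀ y : S, (∀ a : R, (y : Ω) * ψ a = ψ a * y) → ρ y = 1) :
    (eS hTS F p).IsFullyAutomized p R := by
  have hRS := hR.trans hTS
  haveI : Finite R := finite_of_le hRS
  haveI : Finite (MulAut R) := Cfsg.Agent.Lib.Fusion.Basic.finite_mulAut_of_finite (A := R)
  have hρT' : ∀ x : S, (x : Ω) ∈ T → ρ x = 1 := fun x hx => (hρT x).2 hx
  have hBA : BB F w hw R hRS ≤ F.autGroup R := fun a ha => ha.1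
  have hsyl : IsSylowIn p (autInducedBy S R) (F.autGroup R) := hA.2
  have h1 := hsyl.inf_normal (autInducedBy_le_autGroup F hRS) hBA (fun b hb d hd => BB_normal hX hw hRS hb hd)
  have hTB : autInducedBy T R ≤ BB F w hw R hRS := by
    intro a ha
    obtain ⟨t, ht, hta⟩ := (mem_autInducedBy_iff T R a).1 ha
    have haS : a ∈ autInducedBy S R := (mem_autInducedBy_iff S R a).2 ⟨t, hTS ht, hta⟩
    refine ⟨autInducedBy_le_autGroup F hRS haS, lP ⟨t, hTS ht⟩, (isSig_lP hRS ⟨t, hTS ht⟩).congr (fun y hy => ?_), ?_⟩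
    · rw [autFun_of_mem _ hy, hta ⟨y, hy⟩]
    · rw [dt_lP hwl, hρT' _ ht, one_pow]
  have e : autInducedBy S R ⊓ BB F w hw R hRS = autInducedBy T R := by
    apply le_antisymm
    · rintro a ⟨ha1, ha2, σ, h2, h3⟩
      obtain ⟨g, hg, hga⟩ := (mem_autInducedBy_iff S R a).1 ha1
      have h4 : IsSig S R (fun y => ((⟨g, hg⟩ : S) : Ω) * y * ((⟨g, hg⟩ : S) : Ω)⁻¹) σ := h2.congr (fun y hy => by
        rw [autFun_of_mem _ hy, hga ⟨y, hy⟩])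
      have h5 := rho_eq_one hX hexp hS hw hwl hRS hC ⟨g, hg⟩ h4 h3
      exact (mem_autInducedBy_iff T R a).2 ⟨g, (hρT _).1 h5, hga⟩
    · intro a ha
      refine ⟨?_, hTB ha⟩
      obtain ⟨t, ht, hta⟩ := (mem_autInducedBy_iff T R a).1 ha
      exact (mem_autInducedBy_iff S R a).2 ⟨t, hTS ht, hta⟩
  rw [e] at h1
  refine ⟨hR, h1.mono hTB (autInducedBy_le_autGroup _ hR) ?_⟩
  intro a ha
  have h2 := Cfsg.Agent.Lib.FusionExt.PIndex.autGroup_le_of_subsystem (eS_sub (hTS := hTS) (F := F) (p := p)) hR ha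
  have h3 := eS_min (d_inFam (hTS := hTS) hX hw hwl hρT' hexp) (mp_autFun hR ha)
  obtain ⟨-, -, -, σ, h4, h5⟩ := (mp_mkSys _).1 h3
  exact ⟨h2, σ, h4, h5⟩

/-- Fully automized, the case `C_S(R) ≰ T`. -/
theorem fa_I (hρT : ∀ x : S, ρ x = 1 ↔ (x : Ω) ∈ T) (hcyc : ∀ s y : S, ρ y ≠ 1 → ∃ k : ℕ, ρ s = ρ y ^ k) (hR : R ≤ T)
    (hA : F.IsFullyAutomized p R) (y : S) (hy : (y : Ω) ∈ centralizerIn S R) (hyρ : ρ y ≠ 1) :
    (eS hTS F p).IsFullyAutomized p R := by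
  have hRS := hR.trans hTS
  have e : autInducedBy T R = autInducedBy S R := by
    apply le_antisymm
    · intro a ha
      obtain ⟨t, ht, hta⟩ := (mem_autInducedBy_iff T R a).1 ha
      exact (mem_autInducedBy_iff S R a).2 ⟨t, hTS ht, hta⟩
    · intro a ha
      obtain ⟨g, hg, hga⟩ := (mem_autInducedBy_iff S R a).1 ha
      obtain ⟨k, hk⟩ := hcyc ⟨g, hg⟩ y hyρ
      have hc : ((y ^ k : S) : Ω) ∈ centralizerIn S R := by
        rw [Subgroup.coe_pow]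
        exact Subgroup.pow_mem _ hy k
      have ht : (((y ^ k)⁻¹ * ⟨g, hg⟩ : S) : Ω) ∈ T := by
        rw [← hρT, map_mul, map_inv, map_pow, hk, inv_mul_cancel]
      refine (mem_autInducedBy_iff T R a).2 ⟨_, ht, fun x => ?_⟩
      have h3 : (x : Ω) * ((y ^ k : S) : Ω) = ((y ^ k : S) : Ω) * x := (Subgroup.mem_centralizer_iff.1 hc.2) x x.2
      have h4 : ((a x : R) : Ω) * ((y ^ k : S) : Ω) = ((y ^ k : S) : Ω) * (a x : R) :=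
        (Subgroup.mem_centralizer_iff.1 hc.2) _ (a x).2
      rw [hga x] at h4 ⊢
      show g * (x : Ω) * g⁻¹ = (((y ^ k : S) : Ω)⁻¹ * g) * x * (((y ^ k : S) : Ω)⁻¹ * g)⁻¹
      rw [mul_inv_rev, inv_inv]
      have h5 : ((y ^ k : S) : Ω)⁻¹ * g * (x : Ω) * (g⁻¹ * ((y ^ k : S) : Ω)) =
          ((y ^ k : S) : Ω)⁻¹ * (g * (x : Ω) * g⁻¹ * ((y ^ k : S) : Ω)) := by group
      rw [h5, h4]
      group
  refine ⟨hR, ?_⟩
  rw [e]
  have hsyl : IsSylowIn p (autInducedBy S R) (F.autGroup R) := hA.2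
  refine hsyl.mono (autInducedBy_le_autGroup F hRS) ?_ (Cfsg.Agent.Lib.FusionExt.PIndex.autGroup_le_of_subsystem eS_sub hR)
  rw [← e]
  exact autInducedBy_le_autGroup _ hR

/-- The common beginning for receptivity. -/
theorem rec_setup (hS : IsPGroup p S) (hF : F.IsSaturated p) (hsc : F.StronglyClosed T)
    (hTn : ∀ g ∈ S, ∀ x ∈ T, g * x * g⁻¹ ∈ T) (hrF : F.IsReceptive R) {P : Subgroup Ω} {φ : P →* Ω}
    (hφ : φ ∈ (eS hTS F p).Hom P) (hrg : φ.range = R) :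
    ∃ s ∈ S, ∃ g, Mp (eS hTS F p) (extender T P φ) g ∧ ∀ x ∈ P, extOf φ x = s * g x * s⁻¹ := by
  have hPN : P ≤ extender T P φ := le_extender _ hφ
  have hNT : extender T P φ ≤ T := fun y hy => ((mem_extender_iff φ).1 hy).1
  have hf : Mp F P (extOf φ) := mp_sub eS_sub (mp_of_hom hφ)
  have hi : Img P (extOf φ) R := by
    refine ⟨fun x hx => ?_, fun z hz => ?_⟩
    · rw [extOf_of_mem _ hx, ← hrg]
      exact ⟨_, rfl⟩
    · rw [← hrg] at hz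
      obtain ⟨x, rfl⟩ := hz
      exact ⟨x, x.2, extOf_coe φ x⟩
  obtain ⟨g₀, hg₀, hge⟩ := hf.ext_rec hrF hi hPN (fun y hy => by
    obtain ⟨h1, h2, a, ha, h3⟩ := (mem_extender_iff φ).1 hy
    refine ⟨hTS h1, h2, a, hTS ha, fun x hx => ?_⟩
    have hx' : y * x * y⁻¹ ∈ P := (Subgroup.mem_normalizer_iff.1 h2 x).1 hx
    rw [extOf_of_mem _ hx', extOf_of_mem _ hx]
    exact h3 ⟨x, hx⟩ hx')
  obtain ⟨s, hs, g, hg, eg⟩ := frat' (hTS := hTS) hTn hS hF hsc hNT hg₀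
  exact ⟨s, hs, g, hg, fun x hx => by rw [← hge x hx, eg x (hPN hx)]⟩

theorem to_rec {P : Subgroup Ω} {φ : P →* Ω} {N : Subgroup Ω} {D : FusionSystem T} {ψ' : Ω → Ω} (h1 : Mp D N ψ')
    (h2 : ∀ x ∈ P, ψ' x = extOf φ x) : ∃ ψ ∈ D.Hom N, ∀ (x : Ω) (hP : x ∈ P) (hN : x ∈ N), ψ ⟨x, hN⟩ = φ ⟨x, hP⟩ := by
  obtain ⟨ψ, hψ, e⟩ := h1
  refine ⟨ψ, hψ, fun x hP hN => ?_⟩
  rw [e ⟨x, hN⟩]
  have := h2 x hP
  rwa [extOf_of_mem _ hP] at this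

theorem rec_I (hS : IsPGroup p S) (hF : F.IsSaturated p) (hsc : F.StronglyClosed T)
    (hTn : ∀ g ∈ S, ∀ x ∈ T, g * x * g⁻¹ ∈ T) (hρT : ∀ x : S, ρ x = 1 ↔ (x : Ω) ∈ T)
    (hcyc : ∀ s y : S, ρ y ≠ 1 → ∃ k : ℕ, ρ s = ρ y ^ k) (hR : R ≤ T) (hrF : F.IsReceptive R)
    (y : S) (hy : (y : Ω) ∈ centralizerIn S R) (hyρ : ρ y ≠ 1) : (eS hTS F p).IsReceptive R := by
  refine ⟨hR, fun P φ hφ hrg => ?_⟩
  obtain ⟨s, hs, g, hg, eg⟩ := rec_setup (hTS := hTS) hS hF hsc hTn hrF hφ hrg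
  obtain ⟨k, hk⟩ := hcyc ⟨s, hs⟩ y hyρ
  have hc : ((y ^ k : S) : Ω) ∈ centralizerIn S R := by
    rw [Subgroup.coe_pow]
    exact Subgroup.pow_mem _ hy k
  have ht : (((y ^ k)⁻¹ * ⟨s, hs⟩ : S) : Ω) ∈ T := by
    rw [← hρT, map_mul, map_inv, map_pow, hk, inv_mul_cancel]
  set t : Ω := (((y ^ k)⁻¹ * ⟨s, hs⟩ : S) : Ω) with htdef
  have ht' : t = ((y ^ k : S) : Ω)⁻¹ * s := rfl
  have h1 : Mp (eS hTS F p) (extender T P φ) (fun x => t * g x * t⁻¹) :=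
    hg.comp (Y := T) (fun x hx => hg.mem_S hx) (Mp.conj le_rfl ht)
  refine to_rec h1 (fun x hx => ?_)
  have h2 := eg x hx
  have h3 : extOf φ x ∈ R := by
    rw [extOf_of_mem _ hx, ← hrg]
    exact ⟨_, rfl⟩
  have h4 : extOf φ x * ((y ^ k : S) : Ω) = ((y ^ k : S) : Ω) * extOf φ x :=
    (Subgroup.mem_centralizer_iff.1 hc.2) _ h3
  show t * g x * t⁻¹ = extOf φ x
  rw [ht', mul_inv_rev, inv_inv]
  have h5 : ((y ^ k : S) : Ω)⁻¹ * s * g x * (s⁻¹ * ((y ^ k : S) : Ω)) =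
      ((y ^ k : S) : Ω)⁻¹ * ((s * g x * s⁻¹) * ((y ^ k : S) : Ω)) := by group
  rw [h5, ← h2, h4]
  group

theorem rec_II (hX : IsChar F p X) (hexp : ∀ a : A, a ^ p = 1) (hS : IsPGroup p S) (hw : RW ρ w)
    (hwl : ∀ (g : S) (x : X), w (lS g x) = ρ g * w x) (hF : F.IsSaturated p) (hsc : F.StronglyClosed T)
    (hTn : ∀ g ∈ S, ∀ x ∈ T, g * x * g⁻¹ ∈ T) (hρT : ∀ x : S, ρ x = 1 ↔ (x : Ω) ∈ T) (hR : R ≤ T)
    (hrF : F.IsReceptive R) (hcl : ∀ Q', F.IsConj R Q' → ∀ y : S, (y : Ω) ∈ centralizerIn S Q' → ρ y = 1) :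
    (eS hTS F p).IsReceptive R := by
  refine ⟨hR, fun P φ hφ hrg => ?_⟩
  obtain ⟨s, hs, g, hg, eg⟩ := rec_setup (hTS := hTS) hS hF hsc hTn hrF hφ hrg
  have hPN : P ≤ extender T P φ := le_extender _ hφ
  have hgP := hg.restrict hPN
  obtain ⟨Q₂, hQ₂⟩ := hgP.exists_img
  obtain ⟨g', hg', b1, b2, b3⟩ := hgP.inverse hQ₂
  have h1 : Mp (eS hTS F p) Q₂ (fun y => extOf φ (g' y)) := hg'.comp b3.1 (mp_of_hom hφ)
  have hagree : ∀ y ∈ Q₂, extOf φ (g' y) = s * y * s⁻¹ := by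
    intro y hy
    rw [eg _ (b3.1 y hy), b2 y hy]
  have h2 : Mp (eS hTS F p) Q₂ (fun y => s * y * s⁻¹) := h1.congr hagree
  have hρT' : ∀ x : S, (x : Ω) ∈ T → ρ x = 1 := fun x hx => (hρT x).2 hx
  have h3 := eS_min (d_inFam (hTS := hTS) hX hw hwl hρT' hexp) h2
  obtain ⟨-, -, -, σ, h4, h5⟩ := (mp_mkSys _).1 h3
  have hQ₂S : Q₂ ≤ S := (mp_sub eS_sub h2).le
  have hiR : Img Q₂ (fun y => s * y * s⁻¹) R := by
    refine ⟨fun y hy => ?_, fun z hz => ?_⟩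
    · show s * y * s⁻¹ ∈ R
      rw [← hagree y hy, extOf_of_mem _ (b3.1 y hy), ← hrg]
      exact ⟨_, rfl⟩
    · rw [← hrg] at hz
      obtain ⟨x, rfl⟩ := hz
      refine ⟨g x, hQ₂.1 _ x.2, ?_⟩
      show s * g x * s⁻¹ = φ x
      rw [← eg x x.2, extOf_coe]
  have hconj : F.IsConj R Q₂ := isConj_symm F ((mp_sub eS_sub h2).isConj hiR)
  have hC := hC_of_class (ρ := ρ) (Y := Q₂) (fun Q' hQ' => hcl Q' (isConj_trans F hconj hQ'))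
  have h6 := rho_eq_one hX hexp hS hw hwl hQ₂S hC ⟨s, hs⟩ h4 h5
  have hsT : s ∈ T := (hρT _).1 h6
  have h7 : Mp (eS hTS F p) (extender T P φ) (fun x => s * g x * s⁻¹) :=
    hg.comp (Y := T) (fun x hx => hg.mem_S hx) (Mp.conj le_rfl hsT)
  exact to_rec h7 (fun x hx => (eg x hx).symm)

/-- Saturation at the subgroups in `CC F T`. -/
theorem sat_CC (hX : IsChar F p X) (hexp : ∀ a : A, a ^ p = 1) (hS : IsPGroup p S) (hw : RW ρ w)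
    (hwl : ∀ (g : S) (x : X), w (lS g x) = ρ g * w x) (hF : F.IsSaturated p) (hsc : F.StronglyClosed T)
    (hTn : ∀ g ∈ S, ∀ x ∈ T, g * x * g⁻¹ ∈ T) (hρT : ∀ x : S, ρ x = 1 ↔ (x : Ω) ∈ T)
    (hcyc : ∀ s y : S, ρ y ≠ 1 → ∃ k : ℕ, ρ s = ρ y ^ k) (P : Subgroup Ω) (hP : P ≤ T) :
    ∃ Q, (eS hTS F p).IsConj P Q ∧ (eS hTS F p).IsFullyAutomized p Q ∧ (eS hTS F p).IsReceptive Q := by
  obtain ⟨R₀, hPR₀, hfn⟩ := exists_isFullyNormalized F (hP.trans hTS)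
  obtain ⟨φ, hφ, hrg⟩ := hPR₀
  have hi₀ : Img P (extOf φ) R₀ := by
    refine ⟨fun x hx => ?_, fun z hz => ?_⟩
    · rw [extOf_of_mem _ hx, ← hrg]
      exact ⟨_, rfl⟩
    · rw [← hrg] at hz
      obtain ⟨x, rfl⟩ := hz
      exact ⟨x, x.2, extOf_coe φ x⟩
  obtain ⟨s, hs, g, hg, eg⟩ := frat' (hTS := hTS) hTn hS hF hsc hP (mp_of_hom hφ)
  have hi : Img P g (cj s R₀) := by
    refine ⟨fun x hx => ?_, fun y hy => ?_⟩
    · rw [mem_cj, ← eg x hx]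
      exact hi₀.1 x hx
    · obtain ⟨x, hx, e⟩ := hi₀.2 _ (mem_cj.1 hy)
      refine ⟨x, hx, ?_⟩
      rw [eg x hx] at e
      exact mul_left_cancel (mul_right_cancel e)
  refine ⟨cj s R₀, hg.isConj hi, ?_⟩
  have hfnR : F.IsFullyNormalized (cj s R₀) := isFN_cj hs hfn
  have hA := isFullyAutomized_of_isFullyNormalized F hS hF hfnR
  have hrF := isReceptive_of_isFullyNormalized F hS hF hfnR
  have hR : cj s R₀ ≤ T := by
    intro y hy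
    obtain ⟨x, hx, rfl⟩ := hi.2 y hy
    exact hg.mem_S hx
  by_cases hcen : centralizerIn S (cj s R₀) ≤ T
  · have hcl := typeII_class (ρ := ρ) hρT hrF hsc hcen
    exact ⟨fa_II hX hexp hS hw hwl hρT hR hA (hC_of_class hcl), rec_II hX hexp hS hw hwl hF hsc hTn hρT hR hrF hcl⟩
  · rw [SetLike.not_le_iff_exists] at hcen
    obtain ⟨y, hy, hyT⟩ := hcen
    have hyρ : ρ ⟨y, hy.1⟩ ≠ 1 := fun h => hyT ((hρT _).1 h)
    exact ⟨fa_I hρT hcyc hR hA ⟨y, hy.1⟩ hy hyρ, rec_I hS hF hsc hTn hρT hcyc hR hrF ⟨y, hy.1⟩ hy hyρ⟩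

/-- `E`-centric subgroups lie in `CC F T`. -/
theorem centric_mem_CC (hS : IsPGroup p S) (hF : F.IsSaturated p) (hsc : F.StronglyClosed T)
    (hTn : ∀ g ∈ S, ∀ x ∈ T, g * x * g⁻¹ ∈ T) {P : Subgroup Ω} (hP : (eS hTS F p).IsCentric P) : P ∈ CC F T := by
  refine ⟨hP.1, fun Q hQ c hc => ?_⟩
  obtain ⟨φ, hφ, hrg⟩ := hQ
  have hi₀ : Img P (extOf φ) Q := by
    refine ⟨fun x hx => ?_, fun z hz => ?_⟩
    · rw [extOf_of_mem _ hx, ← hrg]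
      exact ⟨_, rfl⟩
    · rw [← hrg] at hz
      obtain ⟨x, rfl⟩ := hz
      exact ⟨x, x.2, extOf_coe φ x⟩
  obtain ⟨s, hs, g, hg, eg⟩ := frat' (hTS := hTS) hTn hS hF hsc hP.1 (mp_of_hom hφ)
  have hi : Img P g (cj s Q) := by
    refine ⟨fun x hx => ?_, fun y hy => ?_⟩
    · rw [mem_cj, ← eg x hx]
      exact hi₀.1 x hx
    · obtain ⟨x, hx, e⟩ := hi₀.2 _ (mem_cj.1 hy)
      refine ⟨x, hx, ?_⟩
      rw [eg x hx] at e
      exact mul_left_cancel (mul_right_cancel e)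
  have hcent := hP.2 _ (hg.isConj hi)
  have h1 : s⁻¹ * c * s ∈ centralizerIn T (cj s Q) := by
    have hinvs : s⁻¹ ∈ S := S.inv_mem hs
    have h2 := hTn _ hinvs c hc.1
    rw [inv_inv] at h2
    refine ⟨h2, Subgroup.mem_centralizer_iff.2 fun z hz => ?_⟩
    have hz' : s * z * s⁻¹ ∈ Q := hz
    have h3 : (s * z * s⁻¹) * c = c * (s * z * s⁻¹) := (Subgroup.mem_centralizer_iff.1 hc.2) _ hz'
    have h4 : s⁻¹ * ((s * z * s⁻¹) * c) * s = s⁻¹ * (c * (s * z * s⁻¹)) * s := by rw [h3]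
    calc z * (s⁻¹ * c * s) = s⁻¹ * ((s * z * s⁻¹) * c) * s := by group
      _ = s⁻¹ * (c * (s * z * s⁻¹)) * s := h4
      _ = s⁻¹ * c * s * z := by group
  have h5 := hcent h1
  have h6 : s * (s⁻¹ * c * s) * s⁻¹ ∈ Q := h5
  have e : s * (s⁻¹ * c * s) * s⁻¹ = c := by group
  rwa [e] at h6

/-- **Part A.** -/
theorem partA (hS : IsPGroup p S) (hF : F.IsSaturated p) (hTS : T ≤ S) (hTn : ∀ g ∈ S, ∀ x ∈ T, g * x * g⁻¹ ∈ T)
    (hT : F.hyperfocalSubgroup p ≤ T) (ρ : S →* A) (hρT : ∀ x : S, ρ x = 1 ↔ (x : Ω) ∈ T)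
    (hexp : ∀ a : A, a ^ p = 1) (hcyc : ∀ s y : S, ρ y ≠ 1 → ∃ k : ℕ, ρ s = ρ y ^ k)
    (hst : ∀ (P : Subgroup Ω) (φ : P →* Ω) (hφ : φ ∈ F.Hom P) (x : P),
      ρ ⟨φ x, val_mem F hφ x⟩ = ρ ⟨x, le_of_mem F hφ x.2⟩) :
    ∃ E : FusionSystem T, E.IsSaturated p ∧ E.HasPPowerIndexIn F p := by
  obtain ⟨X', iX, fX, hX⟩ := exists_charBiset F hS hF
  obtain ⟨w, hw, hwl⟩ := exists_w hX ρ hst
  have hsc : F.StronglyClosed T :=
    Cfsg.Agent.Lib.FusionExt.Hyperfocal.stronglyClosed_of_hyperfocal_le F hS hF hTS hTn hT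
  haveI : Finite T := finite_of_le hTS
  have hSn : IsPGroup p T := hS.to_le hTS
  refine ⟨eS hTS F p, ?_, eS_sub, hT, fun P hP => ?_⟩
  · refine Cfsg.Agent.Lib.FusionExt.SatCrit4.main hSn (eS hTS F p) (CC F T) (fun P hP => hP.1) ?_ ?_ ?_ ?_
    · rintro P ⟨h1, h2⟩ Q hQ
      have hQF : F.IsConj P Q := by
        obtain ⟨φ, hφ, hr⟩ := hQ
        exact ⟨φ, eS_sub P hφ, hr⟩
      exact ⟨isConj_right_le _ hQ, fun Q' hQ' => h2 Q' (isConj_trans F hQF hQ')⟩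
    · intro P hP
      exact sat_CC hX hexp hS hw hwl hF hsc hTn hρT hcyc P hP.1
    · intro E' h
      exact gen_E hS hF hsc hTn E' h
    · intro P hP hPC
      exact absurd (centric_mem_CC hS hF hsc hTn hP) hPC
  · rw [Subgroup.map_le_iff_le_comap]
    apply (Subgroup.closure_le _).2
    intro β hβ
    have hβ' : (orderOf (β : MulAut P)).Coprime p := by
      rwa [Subgroup.orderOf_coe]
    have h1 : Pp F p P (autFun (β : MulAut P)) := Pp.of_aut (hP.trans hTS) β.2 hβ'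
    have h2 : Mp (eS hTS F p) P (autFun (β : MulAut P)) := eS_inFam.2 P hP _ h1
    exact (mem_autGroup_iff _ hP _).2 (hom_of_mp h2)

end main

end Cfsg.Agent.Lib.FusionExt.PowerSat
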