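import Cfsg.Agent.Lib.FusionExt.PowerDet
import Cfsg.Agent.Lib.FusionExt.SatCrit4

/-!
# Building fusion systems from predicates on total functions; conjugates of a system; `p'`-automorphisms (helper92)
-/

set_option autoImplicit false

namespace Cfsg.Agent.Lib.FusionExt.PowerSys

open Cfsg Cfsg.FusionSystem Cfsg.Agent.Lib.Fusion.Basic Cfsg.Agent.Lib.FusionExt.MapApi

variable {Ω : Type*} [Group Ω] {S T : Subgroup Ω}

/-- The axioms of a fusion system, for a predicate on total functions. -/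
structure SysAx (T : Subgroup Ω) (G : Subgroup Ω → (Ω → Ω) → Prop) : Prop where
  congr : ∀ {X f g}, G X f → (∀ x ∈ X, f x = g x) → G X g
  le : ∀ {X f}, G X f → X ≤ T
  mem : ∀ {X f x}, G X f → x ∈ X → f x ∈ T
  mul : ∀ {X f x y}, G X f → x ∈ X → y ∈ X → f (x * y) = f x * f y
  inj : ∀ {X f x y}, G X f → x ∈ X → y ∈ X → f x = f y → x = y
  conj : ∀ {X a}, X ≤ T → a ∈ T → G X (fun x => a * x * a⁻¹)
  comp : ∀ {X Y f g}, G X f → (∀ x ∈ X, f x ∈ Y) → G Y g → G X (fun x => g (f x))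
  inv : ∀ {X Y f}, G X f → Img X f Y → ∃ k, G Y k ∧ ∀ x ∈ X, k (f x) = x

/-- The fusion system of a predicate. -/
noncomputable def mkSys {G : Subgroup Ω → (Ω → Ω) → Prop} (h : SysAx T G) : FusionSystem T where
  Hom X := {φ | G X (extOf φ)}
  le_of_mem := by
    intro P φ hφ
    refine ⟨h.le hφ, fun x => ?_⟩
    rw [← extOf_coe]
    exact h.mem hφ x.2
  injective_of_mem := by
    intro P φ hφ a b e
    apply Subtype.ext
    refine h.inj hφ a.2 b.2 ?_
    rw [extOf_coe, extOf_coe, e]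
  conj_mem := by
    intro P g hP hg
    refine h.congr (h.conj hP hg) (fun x hx => ?_)
    rw [extOf_of_mem _ hx]
    rfl
  comp_mem := by
    intro P Q φ ψ hφ hψ hv
    refine h.congr (h.comp (Y := Q) hφ (fun x hx => ?_) hψ) (fun x hx => ?_)
    · rw [extOf_of_mem _ hx]
      exact hv _
    · rw [extOf_of_mem _ hx, extOf_of_mem _ hx, extOf_of_mem _ (hv ⟨x, hx⟩)]
      rfl
  inv_mem := by
    intro P φ hφ
    have hi : Img P (extOf φ) φ.range := by
      refine ⟨fun x hx => ?_, ?_⟩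
      · rw [extOf_of_mem _ hx]
        exact ⟨_, rfl⟩
      · rintro _ ⟨x, rfl⟩
        exact ⟨x, x.2, extOf_coe φ x⟩
    obtain ⟨k, hk, hk2⟩ := h.inv hφ hi
    refine ⟨homOf φ.range k (fun a ha b hb => h.mul hk ha hb), ?_, fun x => ?_⟩
    · refine h.congr hk (fun x hx => ?_)
      rw [extOf_of_mem _ hx]
      rfl
    · have := hk2 x x.2
      rwa [extOf_coe] at this

theorem mp_mkSys {G : Subgroup Ω → (Ω → Ω) → Prop} (h : SysAx T G) {X : Subgroup Ω} {f : Ω → Ω} :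
    Mp (mkSys h) X f ↔ G X f := by
  constructor
  · rintro ⟨φ, hφ, e⟩
    refine h.congr hφ (fun x hx => ?_)
    rw [extOf_of_mem _ hx, e]
  · intro hG
    refine ⟨homOf X f (fun a ha b hb => h.mul hG ha hb), ?_, fun x => rfl⟩
    refine h.congr hG (fun x hx => ?_)
    rw [extOf_of_mem _ hx]
    rfl

/-! ### Conjugates -/

/-- `s⁻¹ X s`. -/
def cj (s : Ω) (X : Subgroup Ω) : Subgroup Ω := X.comap (MulAut.conj s).toMonoidHom

theorem mem_cj {s y : Ω} {X : Subgroup Ω} : y ∈ cj s X ↔ s * y * s⁻¹ ∈ X := Iff.rfl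

/-- The transport of a function by conjugation. -/
def tw (s : Ω) (f : Ω → Ω) : Ω → Ω := fun y => s⁻¹ * f (s * y * s⁻¹) * s

theorem tw_conj (s : Ω) (f : Ω → Ω) (x : Ω) : tw s f (s⁻¹ * x * s) = s⁻¹ * f x * s := by
  unfold tw
  congr 2
  group

theorem conj_tw (s : Ω) (f : Ω → Ω) (x : Ω) : s * tw s f (s⁻¹ * x * s) * s⁻¹ = f x := by
  rw [tw_conj]
  group

theorem mem_cj_inv {s x : Ω} {X : Subgroup Ω} (hx : x ∈ X) : s⁻¹ * x * s ∈ cj s X := by
  rw [mem_cj]
  have : s * (s⁻¹ * x * s) * s⁻¹ = x := by group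
  rwa [this]

section transport

variable {F : FusionSystem S} {X Y : Subgroup Ω} {f g : Ω → Ω} {s : Ω}

/-- A map of the system, conjugated by an element of `S`. -/
theorem mp_tw (hf : Mp F X f) (hs : s ∈ S) : Mp F (cj s X) (tw s f) := by
  have hX : X ≤ S := hf.le
  have hY : cj s X ≤ S := by
    intro y hy
    have h1 : s * y * s⁻¹ ∈ S := hX hy
    have e : y = s⁻¹ * (s * y * s⁻¹) * s := by group
    rw [e]
    exact S.mul_mem (S.mul_mem (S.inv_mem hs) h1) hs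
  have h1 : Mp F (cj s X) (fun y => s * y * s⁻¹) := Mp.conj hY hs
  have h2 := h1.comp (Y := X) (fun y hy => hy) hf
  have h3 := h2.comp (Y := S) (fun y hy => hf.mem_S hy) (Mp.conj le_rfl (S.inv_mem hs))
  refine h3.congr (fun y _ => ?_)
  show s⁻¹ * f (s * y * s⁻¹) * s⁻¹⁻¹ = _
  rw [inv_inv]
  rfl

/-- Undoing the conjugation. -/
theorem mp_of_tw (hf : Mp F (cj s X) (tw s f)) (hs : s ∈ S) : Mp F X f := by
  have hX : X ≤ S := by
    intro x hx
    have h1 := hf.le (mem_cj_inv (s := s) hx)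
    have e : x = s * (s⁻¹ * x * s) * s⁻¹ := by group
    rw [e]
    exact S.mul_mem (S.mul_mem hs h1) (S.inv_mem hs)
  have h1 : Mp F X (fun y => s⁻¹ * y * s) := by
    have := Mp.conj (F := F) hX (S.inv_mem hs)
    refine this.congr (fun y _ => ?_)
    simp
  have h2 := h1.comp (Y := cj s X) (fun y hy => mem_cj_inv hy) hf
  have h3 := h2.comp (Y := S) (fun y hy => hf.mem_S (mem_cj_inv hy)) (Mp.conj le_rfl hs)
  refine h3.congr (fun y _ => ?_)
  exact conj_tw s f y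

end transport

/-- The conjugate of a system over `T` by an element normalizing `T`. -/
theorem conjAx (D : FusionSystem T) {s : Ω} (hs : ∀ t, s * t * s⁻¹ ∈ T ↔ t ∈ T) :
    SysAx T (fun X f => Mp D (cj s X) (tw s f)) := by
  have hs' : ∀ t, t ∈ T → s⁻¹ * t * s ∈ T := by
    intro t ht
    rw [← hs]
    have : s * (s⁻¹ * t * s) * s⁻¹ = t := by group
    rwa [this]
  refine ⟨?_, ?_, ?_, ?_, ?_, ?_, ?_, ?_⟩
  · intro X f g h e
    refine h.congr (fun y hy => ?_)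
    show s⁻¹ * f (s * y * s⁻¹) * s = s⁻¹ * g (s * y * s⁻¹) * s
    have hy' : s * y * s⁻¹ ∈ X := hy
    rw [e _ hy']
  · intro X f h x hx
    have h1 := h.le (mem_cj_inv (s := s) hx)
    rw [← hs] at h1
    have : s * (s⁻¹ * x * s) * s⁻¹ = x := by group
    rwa [this] at h1
  · intro X f x h hx
    have h1 := h.mem_S (mem_cj_inv (s := s) hx)
    rw [tw_conj, ← hs] at h1
    have : s * (s⁻¹ * f x * s) * s⁻¹ = f x := by group
    rwa [this] at h1
  · intro X f x y h hx hy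
    have h1 := h.map_mul (mem_cj_inv (s := s) hx) (mem_cj_inv (s := s) hy)
    have e : s⁻¹ * x * s * (s⁻¹ * y * s) = s⁻¹ * (x * y) * s := by group
    rw [e, tw_conj, tw_conj, tw_conj] at h1
    have h2 := congrArg (fun z => s * z * s⁻¹) h1
    have e2 : ∀ z, s * (s⁻¹ * z * s) * s⁻¹ = z := fun z => by group
    have e3 : s * (s⁻¹ * f x * s * (s⁻¹ * f y * s)) * s⁻¹ = f x * f y := by group
    rwa [e3, e2] at h2
  · intro X f x y h hx hy e
    have h1 := h.inj (mem_cj_inv (s := s) hx) (mem_cj_inv (s := s) hy) (by rw [tw_conj, tw_conj, e])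
    have h2 := congrArg (fun z => s * z * s⁻¹) h1
    have e2 : ∀ z, s * (s⁻¹ * z * s) * s⁻¹ = z := fun z => by group
    rwa [e2, e2] at h2
  · intro X a hX ha
    have hY : cj s X ≤ T := by
      intro y hy
      rw [← hs]
      exact hX hy
    have h1 := Mp.conj (F := D) hY (hs' a ha)
    refine h1.congr (fun y _ => ?_)
    show s⁻¹ * a * s * y * (s⁻¹ * a * s)⁻¹ = s⁻¹ * (a * (s * y * s⁻¹) * a⁻¹) * s
    group
  · intro X Y f g hf hm hg
    have h1 := hf.comp (Y := cj s Y) (fun y hy => ?_) hg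
    · refine h1.congr (fun y _ => ?_)
      show s⁻¹ * g (s * (s⁻¹ * f (s * y * s⁻¹) * s) * s⁻¹) * s = s⁻¹ * g (f (s * y * s⁻¹)) * s
      congr 3
      group
    · rw [mem_cj]
      have e : s * tw s f y * s⁻¹ = f (s * y * s⁻¹) := by
        show s * (s⁻¹ * f (s * y * s⁻¹) * s) * s⁻¹ = _
        group
      rw [e]
      exact hm _ hy
  · intro X Y f hf hi
    have hi' : Img (cj s X) (tw s f) (cj s Y) := by
      refine ⟨fun y hy => ?_, fun z hz => ?_⟩
      · rw [mem_cj]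
        have e : s * tw s f y * s⁻¹ = f (s * y * s⁻¹) := by
          show s * (s⁻¹ * f (s * y * s⁻¹) * s) * s⁻¹ = _
          group
        rw [e]
        exact hi.1 _ hy
      · obtain ⟨x, hx, e⟩ := hi.2 _ (mem_cj.1 hz)
        refine ⟨s⁻¹ * x * s, mem_cj_inv hx, ?_⟩
        rw [tw_conj, e]
        group
    obtain ⟨k', hk', h1, -, -⟩ := hf.inverse hi'
    refine ⟨fun y => s * k' (s⁻¹ * y * s) * s⁻¹, hk'.congr (fun y _ => ?_), fun x hx => ?_⟩
    · show k' y = s⁻¹ * (s * k' (s⁻¹ * (s * y * s⁻¹) * s) * s⁻¹) * s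
      have e : s⁻¹ * (s * y * s⁻¹) * s = y := by group
      rw [e]
      group
    · have h2 := h1 _ (mem_cj_inv (s := s) hx)
      rw [tw_conj] at h2
      show s * k' (s⁻¹ * f x * s) * s⁻¹ = x
      rw [h2]
      group

/-- The conjugate of a system. -/
noncomputable def conjSys (D : FusionSystem T) {s : Ω} (hs : ∀ t, s * t * s⁻¹ ∈ T ↔ t ∈ T) : FusionSystem T :=
  mkSys (conjAx D hs)

theorem mp_conjSys {D : FusionSystem T} {s : Ω} (hs : ∀ t, s * t * s⁻¹ ∈ T ↔ t ∈ T) {X : Subgroup Ω} {f : Ω → Ω} :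
    Mp (conjSys D hs) X f ↔ Mp D (cj s X) (tw s f) :=
  mp_mkSys (conjAx D hs)

/-! ### `p'`-automorphisms -/

section pp

variable {p : ℕ} {F : FusionSystem S} {X Y Q R : Subgroup Ω} {f g μ ν : Ω → Ω} {s : Ω}

/-- `f` is an automorphism of `Q` of order prime to `p` in `F`. -/
def Pp (F : FusionSystem S) (p : ℕ) (Q : Subgroup Ω) (f : Ω → Ω) : Prop :=
  Mp F Q f ∧ Img Q f Q ∧ ∃ m : ℕ, m.Coprime p ∧ ∀ x ∈ Q, f^[m] x = x

theorem iterate_mem (h : ∀ x ∈ Q, f x ∈ Q) (m : ℕ) {x : Ω} (hx : x ∈ Q) : f^[m] x ∈ Q := by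
  induction m with
  | zero => exact hx
  | succ m ih =>
    rw [Function.iterate_succ_apply']
    exact h _ ih

theorem iterate_congr (h : ∀ x ∈ Q, f x ∈ Q) (e : ∀ x ∈ Q, f x = g x) (m : ℕ) {x : Ω} (hx : x ∈ Q) :
    f^[m] x = g^[m] x := by
  induction m with
  | zero => rfl
  | succ m ih =>
    rw [Function.iterate_succ_apply', Function.iterate_succ_apply', ← ih, e _ (iterate_mem h m hx)]

theorem Pp.congr (h : Pp F p Q f) (e : ∀ x ∈ Q, f x = g x) : Pp F p Q g := by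
  obtain ⟨h1, h2, m, hm, h3⟩ := h
  exact ⟨h1.congr e, h2.congr e, m, hm, fun x hx => by
    rw [← iterate_congr h2.1 e m hx]
    exact h3 x hx⟩

theorem iterate_tw (s : Ω) (f : Ω → Ω) (m : ℕ) (y : Ω) : (tw s f)^[m] y = s⁻¹ * f^[m] (s * y * s⁻¹) * s := by
  induction m with
  | zero =>
    show y = s⁻¹ * (s * y * s⁻¹) * s
    group
  | succ m ih =>
    rw [Function.iterate_succ_apply', Function.iterate_succ_apply', ih]
    show s⁻¹ * f (s * (s⁻¹ * f^[m] (s * y * s⁻¹) * s) * s⁻¹) * s = _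
    congr 3
    group

theorem pp_tw (h : Pp F p Q f) (hs : s ∈ S) : Pp F p (cj s Q) (tw s f) := by
  obtain ⟨h1, h2, m, hm, h3⟩ := h
  refine ⟨mp_tw h1 hs, ⟨fun y hy => ?_, fun z hz => ?_⟩, m, hm, fun y hy => ?_⟩
  · rw [mem_cj]
    have e : s * tw s f y * s⁻¹ = f (s * y * s⁻¹) := by
      show s * (s⁻¹ * f (s * y * s⁻¹) * s) * s⁻¹ = _
      group
    rw [e]
    exact h2.1 _ hy
  · obtain ⟨x, hx, e⟩ := h2.2 _ (mem_cj.1 hz)
    refine ⟨s⁻¹ * x * s, mem_cj_inv hx, ?_⟩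
    rw [tw_conj, e]
    group
  · have hy' : s * y * s⁻¹ ∈ Q := hy
    rw [iterate_tw, h3 _ hy']
    group

/-- Powers of the function of an automorphism. -/
theorem iterate_autFun {a : MulAut Q} (m : ℕ) (x : Q) : (autFun a)^[m] (x : Ω) = (((a ^ m) x : Q) : Ω) := by
  induction m with
  | zero => rfl
  | succ m ih =>
    rw [Function.iterate_succ_apply', ih, autFun_coe, pow_succ']
    rfl

theorem Pp.of_aut {a : MulAut Q} (hQ : Q ≤ S) (ha : a ∈ F.autGroup Q) (hc : (orderOf a).Coprime p) :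
    Pp F p Q (autFun a) := by
  refine ⟨mp_autFun hQ ha, img_autFun a, orderOf a, hc, fun x hx => ?_⟩
  rw [show x = ((⟨x, hx⟩ : Q) : Ω) from rfl, iterate_autFun, pow_orderOf_eq_one]
  rfl

/-- Conjugating by an isomorphism of the system. -/
theorem Pp.conj_iso (h : Pp F p Q f) (hν : Mp F Q ν) (hi : Img Q ν R) (hμ : Mp F R μ) (h1 : ∀ x ∈ Q, μ (ν x) = x)
    (h2 : ∀ y ∈ R, ν (μ y) = y) (hμQ : ∀ y ∈ R, μ y ∈ Q) :
    Pp F p R (fun y => ν (f (μ y))) := by
  obtain ⟨a1, a2, m, hm, a3⟩ := h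
  refine ⟨?_, ⟨fun y hy => ?_, fun z hz => ?_⟩, m, hm, fun y hy => ?_⟩
  · exact (hμ.comp hμQ a1).comp (fun y hy => a2.1 _ (hμQ y hy)) hν
  · exact hi.1 _ (a2.1 _ (hμQ y hy))
  · obtain ⟨x, hx, e⟩ := a2.2 _ (hμQ z hz)
    refine ⟨ν x, hi.1 x hx, ?_⟩
    show ν (f (μ (ν x))) = z
    rw [h1 x hx, e, h2 z hz]
  · have key : ∀ n : ℕ, (fun y => ν (f (μ y)))^[n] y = ν (f^[n] (μ y)) := by
      intro n
      induction n with
      | zero => exact (h2 y hy).symm
      | succ n ih =>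
        rw [Function.iterate_succ_apply', ih, Function.iterate_succ_apply']
        show ν (f (μ (ν (f^[n] (μ y))))) = _
        rw [h1 _ (iterate_mem a2.1 n (hμQ y hy))]
    rw [key, a3 _ (hμQ y hy), h2 y hy]

end pp

end Cfsg.Agent.Lib.FusionExt.PowerSys
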