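import Cfsg.Agent.Lib.FusionExt.PowerGen
import Cfsg.Agent.Lib.FusionTheory.Centric
import Cfsg.Agent.Lib.Fusion.GroupSystem

/-!
# The subsystem generated by `p`-automorphisms; the Frattini argument with `Aut_F(S)` (helper92)
-/

set_option autoImplicit false

namespace Cfsg.Agent.Lib.FusionExt.PrimeRes1

open Cfsg Cfsg.FusionSystem Cfsg.Agent.Lib.Fusion.Basic Cfsg.Agent.Lib.FusionExt.MapApi
open Cfsg.Agent.Lib.FusionExt.PowerSys Cfsg.Agent.Lib.Fusion.Saturation Cfsg.Agent.Lib.Fusion.Saturation2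
open Cfsg.Agent.Lib.FusionExt.SatCrit1 Cfsg.Agent.Lib.FusionExt.PowerE Cfsg.Agent.Lib.FusionExt.PowerGen
open Cfsg.Agent.Lib.Fusion.GroupSystem

variable {Ω : Type*} [Group Ω] {S : Subgroup Ω} {F : FusionSystem S} {p : ℕ}
variable {X Y Q R : Subgroup Ω} {f g h k : Ω → Ω}

/-! ### Automorphisms of `S` as bijections of `Ω` -/

theorem autFun_of_not_mem (a : MulAut S) {x : Ω} (h : x ∉ S) : autFun a x = x := by
  unfold autFun extOf
  rw [dif_neg h]

theorem autFun_mem (a : MulAut S) {x : Ω} (h : x ∈ S) : autFun a x ∈ S := (img_autFun a).1 x h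

theorem autFun_inv_apply (a : MulAut S) (x : Ω) : autFun a⁻¹ (autFun a x) = x := by
  by_cases h : x ∈ S
  · rw [autFun_of_mem a h, autFun_of_mem _ (a ⟨x, h⟩).2]
    simp
  · rw [autFun_of_not_mem a h, autFun_of_not_mem _ h]

theorem autFun_apply_inv (a : MulAut S) (x : Ω) : autFun a (autFun a⁻¹ x) = x := by
  have := autFun_inv_apply a⁻¹ x
  rwa [inv_inv] at this

theorem autFun_mem_iff (a : MulAut S) (x : Ω) : autFun a x ∈ S ↔ x ∈ S := by
  constructor
  · intro h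
    have := autFun_mem a⁻¹ h
    rwa [autFun_inv_apply] at this
  · exact autFun_mem a

theorem autFun_inj (a : MulAut S) {x y : Ω} (e : autFun a x = autFun a y) : x = y := by
  have := congrArg (autFun a⁻¹) e
  rwa [autFun_inv_apply, autFun_inv_apply] at this

theorem autFun_mul (a : MulAut S) {x y : Ω} (hx : x ∈ S) (hy : y ∈ S) : autFun a (x * y) = autFun a x * autFun a y := by
  rw [autFun_of_mem a hx, autFun_of_mem a hy, autFun_of_mem a (S.mul_mem hx hy)]
  have : (⟨x * y, S.mul_mem hx hy⟩ : S) = ⟨x, hx⟩ * ⟨y, hy⟩ := rfl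
  rw [this, map_mul]
  rfl

theorem autFun_one (a : MulAut S) : autFun a 1 = 1 := by
  rw [autFun_of_mem a S.one_mem]
  have : (⟨1, S.one_mem⟩ : S) = 1 := rfl
  rw [this, map_one]
  rfl

theorem autFun_inv' (a : MulAut S) {x : Ω} (hx : x ∈ S) : autFun a x⁻¹ = (autFun a x)⁻¹ := by
  have h := autFun_mul a hx (S.inv_mem hx)
  rw [mul_inv_cancel, autFun_one] at h
  exact eq_inv_of_mul_eq_one_right h.symm

theorem autFun_mul_apply (a b : MulAut S) (x : Ω) : autFun (a * b) x = autFun a (autFun b x) := by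
  by_cases h : x ∈ S
  · rw [autFun_of_mem _ h, autFun_of_mem b h, autFun_of_mem a (b ⟨x, h⟩).2]
    rfl
  · rw [autFun_of_not_mem _ h, autFun_of_not_mem b h, autFun_of_not_mem a h]

theorem autFun_one_apply (x : Ω) : autFun (1 : MulAut S) x = x := by
  by_cases h : x ∈ S
  · rw [autFun_of_mem _ h]
    rfl
  · rw [autFun_of_not_mem _ h]

/-- The preimage of `X` under an automorphism of `S`. -/
def cjB (a : MulAut S) (X : Subgroup Ω) : Subgroup Ω where
  carrier := {y | y ∈ S ∧ autFun a y ∈ X}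
  mul_mem' := by
    rintro x y ⟨h1, h2⟩ ⟨h3, h4⟩
    refine ⟨S.mul_mem h1 h3, ?_⟩
    rw [autFun_mul a h1 h3]
    exact X.mul_mem h2 h4
  one_mem' := ⟨S.one_mem, by rw [autFun_one]; exact X.one_mem⟩
  inv_mem' := by
    rintro x ⟨h1, h2⟩
    refine ⟨S.inv_mem h1, ?_⟩
    rw [autFun_inv' a h1]
    exact X.inv_mem h2

theorem mem_cjB {a : MulAut S} {y : Ω} : y ∈ cjB a X ↔ y ∈ S ∧ autFun a y ∈ X := Iff.rfl

theorem mem_cjB_of (a : MulAut S) (hX : X ≤ S) {x : Ω} (hx : x ∈ X) : autFun a⁻¹ x ∈ cjB a X :=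
  ⟨autFun_mem _ (hX hx), by rwa [autFun_apply_inv]⟩

/-- Transport of a function by an automorphism of `S`. -/
noncomputable def twB (a : MulAut S) (f : Ω → Ω) : Ω → Ω := fun y => autFun a⁻¹ (f (autFun a y))

theorem twB_inv (a : MulAut S) (f : Ω → Ω) (x : Ω) : twB a f (autFun a⁻¹ x) = autFun a⁻¹ (f x) := by
  unfold twB
  rw [autFun_apply_inv]

theorem apply_twB (a : MulAut S) (f : Ω → Ω) (y : Ω) : autFun a (twB a f y) = f (autFun a y) := by
  unfold twB
  rw [autFun_apply_inv]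

theorem card_cjB (a : MulAut S) (hX : X ≤ S) : Nat.card (cjB a X) = Nat.card X := by
  refine Nat.card_congr ⟨fun y => ⟨autFun a y, y.2.2⟩, fun x => ⟨autFun a⁻¹ x, mem_cjB_of a hX x.2⟩, fun y => ?_, fun x => ?_⟩
  · apply Subtype.ext
    exact autFun_inv_apply a y
  · apply Subtype.ext
    exact autFun_apply_inv a x

section transport

variable {a : MulAut S}

theorem mp_autFun_inv (ha : a ∈ F.autGroup S) : Mp F S (autFun a⁻¹) :=
  mp_autFun le_rfl (Subgroup.inv_mem _ ha)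

theorem mp_twB (ha : a ∈ F.autGroup S) (hf : Mp F X f) : Mp F (cjB a X) (twB a f) := by
  have h1 : Mp F (cjB a X) (autFun a) := (mp_autFun le_rfl ha).restrict (fun y hy => hy.1)
  have h2 := h1.comp (Y := X) (fun y hy => hy.2) hf
  exact h2.comp (Y := S) (fun y hy => hf.mem_S hy.2) (mp_autFun_inv ha)

theorem mp_of_twB (ha : a ∈ F.autGroup S) (hX : X ≤ S) (hf : Mp F (cjB a X) (twB a f)) : Mp F X f := by
  have h1 : Mp F X (autFun a⁻¹) := (mp_autFun_inv ha).restrict hX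
  have h2 := h1.comp (Y := cjB a X) (fun y hy => mem_cjB_of a hX hy) hf
  have h3 := h2.comp (Y := S) (fun y hy => hf.mem_S (mem_cjB_of a hX hy)) (mp_autFun le_rfl ha)
  refine h3.congr (fun y _ => ?_)
  show autFun a (twB a f (autFun a⁻¹ y)) = f y
  rw [apply_twB, autFun_apply_inv]

theorem img_cjB (hX : X ≤ S) : Img (cjB a X) (autFun a) X :=
  ⟨fun y hy => hy.2, fun x hx => ⟨_, mem_cjB_of a hX hx, autFun_apply_inv a x⟩⟩

end transport

/-- The conjugate of a system by an automorphism of `S`. -/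
theorem conjAxB (D : FusionSystem S) (a : MulAut S) :
    SysAx S (fun X f => X ≤ S ∧ Mp D (cjB a X) (twB a f)) := by
  refine ⟨?_, ?_, ?_, ?_, ?_, ?_, ?_, ?_⟩
  · rintro X f g ⟨h0, h⟩ e
    refine ⟨h0, h.congr (fun y hy => ?_)⟩
    show autFun a⁻¹ (f (autFun a y)) = autFun a⁻¹ (g (autFun a y))
    rw [e _ hy.2]
  · rintro X f ⟨h0, -⟩
    exact h0
  · rintro X f x ⟨h0, h⟩ hx
    have h1 := h.mem_S (mem_cjB_of a h0 hx)
    rw [twB_inv] at h1
    exact (autFun_mem_iff _ _).1 h1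
  · rintro X f x y ⟨h0, h⟩ hx hy
    have hx' := mem_cjB_of a h0 hx
    have hy' := mem_cjB_of a h0 hy
    have h1 := h.map_mul hx' hy'
    have hfx : f x ∈ S := by
      have := h.mem_S hx'
      rw [twB_inv] at this
      exact (autFun_mem_iff _ _).1 this
    have hfy : f y ∈ S := by
      have := h.mem_S hy'
      rw [twB_inv] at this
      exact (autFun_mem_iff _ _).1 this
    rw [twB_inv, twB_inv, ← autFun_mul _ (h0 hx) (h0 hy), twB_inv, ← autFun_mul _ hfx hfy] at h1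
    exact autFun_inj _ h1
  · rintro X f x y ⟨h0, h⟩ hx hy e
    have h1 := h.inj (mem_cjB_of a h0 hx) (mem_cjB_of a h0 hy) (by rw [twB_inv, twB_inv, e])
    exact autFun_inj _ h1
  · intro X c hX hc
    refine ⟨hX, ?_⟩
    have hY : cjB a X ≤ S := fun y hy => hy.1
    have h1 := Mp.conj (F := D) hY (autFun_mem a⁻¹ hc)
    refine h1.congr (fun y hy => ?_)
    show autFun a⁻¹ c * y * (autFun a⁻¹ c)⁻¹ = autFun a⁻¹ (c * autFun a y * c⁻¹)
    have hay := autFun_mem a hy.1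
    rw [autFun_mul _ (S.mul_mem hc hay) (S.inv_mem hc), autFun_mul _ hc hay, autFun_inv_apply, autFun_inv' _ hc]
  · rintro X Y f g ⟨h0, hf⟩ hm ⟨h0', hg⟩
    refine ⟨h0, ?_⟩
    have h1 := hf.comp (Y := cjB a Y) (fun y hy => ?_) hg
    · refine h1.congr (fun y _ => ?_)
      show twB a g (twB a f y) = autFun a⁻¹ (g (f (autFun a y)))
      unfold twB
      rw [autFun_apply_inv]
    · refine ⟨hf.mem_S hy, ?_⟩
      rw [apply_twB]
      exact hm _ hy.2
  · rintro X Y f ⟨h0, hf⟩ hi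
    have hfmem : ∀ x ∈ X, f x ∈ S := by
      intro x hx
      have := hf.mem_S (mem_cjB_of a h0 hx)
      rw [twB_inv] at this
      exact (autFun_mem_iff _ _).1 this
    have hY : Y ≤ S := by
      intro y hy
      obtain ⟨x, hx, rfl⟩ := hi.2 y hy
      exact hfmem x hx
    have hi' : Img (cjB a X) (twB a f) (cjB a Y) := by
      refine ⟨fun y hy => ⟨hf.mem_S hy, ?_⟩, fun z hz => ?_⟩
      · rw [apply_twB]
        exact hi.1 _ hy.2
      · obtain ⟨x, hx, e⟩ := hi.2 _ hz.2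
        refine ⟨_, mem_cjB_of a h0 hx, ?_⟩
        rw [twB_inv, e, autFun_inv_apply]
    obtain ⟨k', hk', h1, -, -⟩ := hf.inverse hi'
    refine ⟨fun y => autFun a (k' (autFun a⁻¹ y)), ⟨hY, hk'.congr (fun y _ => ?_)⟩, fun x hx => ?_⟩
    · show k' y = autFun a⁻¹ (autFun a (k' (autFun a⁻¹ (autFun a y))))
      rw [autFun_inv_apply, autFun_inv_apply]
    · have h2 := h1 _ (mem_cjB_of a h0 hx)
      rw [twB_inv] at h2
      show autFun a (k' (autFun a⁻¹ (f x))) = x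
      rw [h2, autFun_apply_inv]

/-- The conjugate of a system. -/
noncomputable def conjSysB (D : FusionSystem S) (a : MulAut S) : FusionSystem S := mkSys (conjAxB D a)

theorem mp_conjSysB {D : FusionSystem S} {a : MulAut S} :
    Mp (conjSysB D a) X f ↔ X ≤ S ∧ Mp D (cjB a X) (twB a f) := mp_mkSys (conjAxB D a)

/-! ### `p`-automorphisms -/

/-- `f` is an automorphism of `Q` of `p`-power order in `F`. -/
def Pq (F : FusionSystem S) (p : ℕ) (Q : Subgroup Ω) (f : Ω → Ω) : Prop :=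
  Mp F Q f ∧ Img Q f Q ∧ ∃ m : ℕ, ∀ x ∈ Q, f^[p ^ m] x = x

theorem iterate_twB (a : MulAut S) (f : Ω → Ω) (m : ℕ) (y : Ω) :
    (twB a f)^[m] y = autFun a⁻¹ (f^[m] (autFun a y)) := by
  induction m with
  | zero =>
    show y = autFun a⁻¹ (autFun a y)
    rw [autFun_inv_apply]
  | succ m ih =>
    rw [Function.iterate_succ_apply', Function.iterate_succ_apply', ih]
    show autFun a⁻¹ (f (autFun a (autFun a⁻¹ _))) = _
    rw [autFun_apply_inv]

theorem pq_twB {a : MulAut S} (hQ : Q ≤ S) (h : Pq F p Q f) (ha : a ∈ F.autGroup S) : Pq F p (cjB a Q) (twB a f) := by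
  obtain ⟨h1, h2, m, h3⟩ := h
  refine ⟨mp_twB ha h1, ⟨fun y hy => ⟨(mp_twB ha h1).mem_S hy, ?_⟩, fun z hz => ?_⟩, m, fun y hy => ?_⟩
  · rw [apply_twB]
    exact h2.1 _ hy.2
  · obtain ⟨x, hx, e⟩ := h2.2 _ hz.2
    refine ⟨_, mem_cjB_of a hQ hx, ?_⟩
    rw [twB_inv, e, autFun_inv_apply]
  · rw [iterate_twB, h3 _ hy.2, autFun_inv_apply]

theorem Pq.of_aut {Q : Subgroup Ω} {c : MulAut Q} {m : ℕ} (hQ : Q ≤ S) (hc : c ∈ F.autGroup Q) (ho : c ^ (p ^ m) = 1) :
    Pq F p Q (autFun c) := by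
  refine ⟨mp_autFun hQ hc, img_autFun c, m, fun x hx => ?_⟩
  rw [show x = ((⟨x, hx⟩ : Q) : Ω) from rfl, iterate_autFun, ho]
  rfl

theorem Pq.conj_iso {μ ν : Ω → Ω} (h : Pq F p Q f) (hν : Mp F Q ν) (hi : Img Q ν R) (hμ : Mp F R μ) (h1 : ∀ x ∈ Q, μ (ν x) = x)
    (h2 : ∀ y ∈ R, ν (μ y) = y) (hμQ : ∀ y ∈ R, μ y ∈ Q) :
    Pq F p R (fun y => ν (f (μ y))) := by
  obtain ⟨a1, a2, m, a3⟩ := h
  refine ⟨?_, ⟨fun y hy => ?_, fun z hz => ?_⟩, m, fun y hy => ?_⟩
  · exact (hμ.comp hμQ a1).comp (fun y hy => a2.1 _ (hμQ y hy)) hν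
  · exact hi.1 _ (a2.1 _ (hμQ y hy))
  · obtain ⟨x, hx, e⟩ := a2.2 _ (hμQ z hz)
    refine ⟨ν x, hi.1 x hx, ?_⟩
    show ν (f (μ (ν x))) = z
    rw [h1 x hx, e, h2 z hz]
  · have key : ∀ n : ℕ, (fun y => ν (f (μ y)))^[n] y = ν (f^[n] (μ y)) := by
      intro n
      induction n with
      | zero => exact (h2 y hy).symm
      | succ n ih =>
        rw [Function.iterate_succ_apply', ih, Function.iterate_succ_apply']
        show ν (f (μ (ν (f^[n] (μ y))))) = _
        rw [h1 _ (iterate_mem a2.1 n (hμQ y hy))]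
    rw [key, a3 _ (hμQ y hy), h2 y hy]

/-! ### The subsystem generated by `p`-automorphisms -/

/-- Subsystems over `S` containing all `p`-automorphisms. -/
def InFamQ (F : FusionSystem S) (p : ℕ) (D : FusionSystem S) : Prop :=
  D.IsSubsystemOf F ∧ ∀ Q : Subgroup Ω, Q ≤ S → ∀ f, Pq F p Q f → Mp D Q f

theorem e0Ax : SysAx S (fun X f => X ≤ S ∧ Mp F X f ∧ (∀ x ∈ X, f x ∈ S) ∧
    ∀ D : FusionSystem S, InFamQ F p D → Mp D X f) := by
  refine ⟨?_, ?_, ?_, ?_, ?_, ?_, ?_, ?_⟩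
  · rintro X f g ⟨h1, h2, h3, h4⟩ e
    exact ⟨h1, h2.congr e, fun x hx => e x hx ▸ h3 x hx, fun D hD => (h4 D hD).congr e⟩
  · rintro X f ⟨h1, -⟩
    exact h1
  · rintro X f x ⟨-, -, h3, -⟩ hx
    exact h3 x hx
  · rintro X f x y ⟨-, h2, -⟩ hx hy
    exact h2.map_mul hx hy
  · rintro X f x y ⟨-, h2, -⟩ hx hy e
    exact h2.inj hx hy e
  · intro X c hX hc
    exact ⟨hX, Mp.conj hX hc, fun x hx => S.mul_mem (S.mul_mem hc (hX hx)) (S.inv_mem hc), fun D _ => Mp.conj hX hc⟩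
  · rintro X Y f g ⟨h1, h2, -, h4⟩ hm ⟨-, g2, g3, g4⟩
    exact ⟨h1, h2.comp hm g2, fun x hx => g3 _ (hm x hx), fun D hD => (h4 D hD).comp hm (g4 D hD)⟩
  · rintro X Y f ⟨h1, h2, h3, h4⟩ hi
    obtain ⟨k, hk, a1, -, a3⟩ := h2.inverse hi
    refine ⟨k, ⟨fun y hy => ?_, hk, fun y hy => h1 (a3.1 y hy), fun D hD => ?_⟩, a1⟩
    · obtain ⟨x, hx, rfl⟩ := hi.2 y hy
      exact h3 x hx
    · obtain ⟨k', hk', b1, -, -⟩ := (h4 D hD).inverse hi
      refine hk'.congr (fun y hy => ?_)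
      obtain ⟨x, hx, rfl⟩ := hi.2 y hy
      rw [b1 x hx, a1 x hx]

/-- The smallest subsystem over `S` containing all `p`-automorphisms. -/
noncomputable def e0 (F : FusionSystem S) (p : ℕ) : FusionSystem S := mkSys (e0Ax (F := F) (p := p))

theorem mp_e0 : Mp (e0 F p) X f ↔ X ≤ S ∧ Mp F X f ∧ (∀ x ∈ X, f x ∈ S) ∧
    ∀ D : FusionSystem S, InFamQ F p D → Mp D X f := mp_mkSys _

theorem e0_min {D : FusionSystem S} (hD : InFamQ F p D) (h : Mp (e0 F p) X f) : Mp D X f :=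
  (mp_e0.1 h).2.2.2 D hD

theorem e0_sub : (e0 F p).IsSubsystemOf F := by
  intro P φ hφ
  exact hom_of_mp (mp_e0.1 (mp_of_hom hφ)).2.1

theorem e0_inFam : InFamQ F p (e0 F p) := by
  refine ⟨e0_sub, fun Q hQ f hf => mp_e0.2 ⟨hQ, hf.1, fun x hx => hQ (hf.2.1.1 x hx), fun D hD => hD.2 Q hQ f hf⟩⟩

theorem inFam_conjB {D : FusionSystem S} (hD : InFamQ F p D) {a : MulAut S} (ha : a ∈ F.autGroup S) :
    InFamQ F p (conjSysB D a) := by
  refine ⟨fun P φ hφ => ?_, fun Q hQ f hf => ?_⟩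
  · obtain ⟨h0, h1⟩ := mp_conjSysB.1 (mp_of_hom hφ)
    exact hom_of_mp (mp_of_twB ha h0 (mp_sub hD.1 h1))
  · exact mp_conjSysB.2 ⟨hQ, hD.2 (cjB a Q) (fun y hy => hy.1) _ (pq_twB hQ hf ha)⟩

/-- The subsystem is invariant under `Aut_F(S)`. -/
theorem e0_twB {a : MulAut S} (ha : a ∈ F.autGroup S) (h : Mp (e0 F p) X f) : Mp (e0 F p) (cjB a X) (twB a f) :=
  (mp_conjSysB.1 (e0_min (inFam_conjB e0_inFam ha) h)).2

/-- A function that is an automorphism of `S` following a map of the subsystem. -/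
def FQ (F : FusionSystem S) (p : ℕ) (P : Subgroup Ω) (f : Ω → Ω) : Prop :=
  ∃ a ∈ F.autGroup S, ∃ g, Mp (e0 F p) P g ∧ ∀ x ∈ P, f x = autFun a (g x)

theorem FQ.congr (h1 : FQ F p X f) (e : ∀ x ∈ X, f x = g x) : FQ F p X g := by
  obtain ⟨a, ha, k, hk, h⟩ := h1
  exact ⟨a, ha, k, hk, fun x hx => by rw [← e x hx, h x hx]⟩

theorem FQ.restrict (h1 : FQ F p X f) (hQ : Q ≤ X) : FQ F p Q f := by
  obtain ⟨a, ha, k, hk, h⟩ := h1
  exact ⟨a, ha, k, hk.restrict hQ, fun x hx => h x (hQ hx)⟩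

theorem FQ.comp (h1 : FQ F p X f) (hm : ∀ x ∈ X, f x ∈ Y) (h2 : FQ F p Y g) : FQ F p X (fun x => g (f x)) := by
  obtain ⟨a, ha, u, hu, eu⟩ := h1
  obtain ⟨b, hb, v, hv, ev⟩ := h2
  refine ⟨b * a, Subgroup.mul_mem _ hb ha, fun x => twB a v (u x),
    hu.comp (Y := cjB a Y) (fun x hx => ⟨hu.mem_S hx, ?_⟩) (e0_twB ha hv), fun x hx => ?_⟩
  · rw [← eu x hx]
    exact hm x hx
  · show g (f x) = autFun (b * a) (autFun a⁻¹ (v (autFun a (u x))))
    rw [autFun_mul_apply, autFun_apply_inv, ev _ (hm x hx), eu x hx]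

theorem FQ.inv (hk : Mp F Y k) (hi : Img X f Y) (hkm : ∀ y ∈ Y, k y ∈ X) (h2 : ∀ y ∈ Y, f (k y) = y) (h1 : FQ F p X f) :
    FQ F p Y k := by
  obtain ⟨a, ha, u, hu, eu⟩ := h1
  obtain ⟨Y₀, hY₀⟩ := hu.exists_img
  obtain ⟨u', hu', b1, -, -⟩ := hu.inverse hY₀
  have hinv : a⁻¹ ∈ F.autGroup S := Subgroup.inv_mem _ ha
  have hval : ∀ y ∈ Y, autFun a⁻¹ y = u (k y) := by
    intro y hy
    have h3 := eu _ (hkm y hy)
    rw [h2 y hy] at h3
    calc autFun a⁻¹ y = autFun a⁻¹ (autFun a (u (k y))) := by rw [← h3]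
      _ = u (k y) := autFun_inv_apply _ _
  have hYS : Y ≤ S := hk.le
  have hle : Y ≤ cjB a⁻¹ Y₀ := by
    intro y hy
    refine ⟨hYS hy, ?_⟩
    rw [hval y hy]
    exact hY₀.1 _ (hkm y hy)
  refine ⟨a⁻¹, hinv, twB a⁻¹ u', (e0_twB hinv hu').restrict hle, fun y hy => ?_⟩
  show k y = autFun a⁻¹ (autFun a⁻¹⁻¹ (u' (autFun a⁻¹ y)))
  rw [inv_inv, autFun_inv_apply, hval y hy, b1 _ (hkm y hy)]

section frat

variable [Finite S] [Fact p.Prime]

/-- The step for an automorphism of a fully normalized subgroup. -/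
theorem aut_step (hS : IsPGroup p S) (hF : F.IsSaturated p) (hfn : F.IsFullyNormalized R) (hRS : R ≠ S)
    (hH : ∀ (X : Subgroup Ω) (f : Ω → Ω), Mp F X f → Nat.card R < Nat.card X → FQ F p X f)
    (α : MulAut R) (hα : α ∈ F.autGroup R) : FQ F p R (autFun α) := by
  have hR := hfn.1
  haveI : Finite R := finite_of_le hR
  haveI : Finite (MulAut R) := Cfsg.Agent.Lib.Fusion.Basic.finite_mulAut_of_finite (A := R)
  have hA := isFullyAutomized_of_isFullyNormalized F hS hF hfn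
  have hrc := isReceptive_of_isFullyNormalized F hS hF hfn
  let K : Subgroup (MulAut R) :=
    { carrier := {β | β ∈ F.autGroup R ∧ FQ F p R (autFun β)}
      mul_mem' := by
        rintro a b ⟨ha, ha'⟩ ⟨hb, hb'⟩
        refine ⟨Subgroup.mul_mem _ ha hb, ?_⟩
        refine (FQ.comp (Y := R) hb' (img_autFun b).1 ha').congr (fun x hx => ?_)
        rw [autFun_of_mem _ hx, autFun_of_mem _ (b ⟨x, hx⟩).2, autFun_of_mem _ hx]
        rfl
      one_mem' := by
        refine ⟨Subgroup.one_mem _, 1, Subgroup.one_mem _, fun x => x, Mp.refl hR, fun x hx => ?_⟩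
        rw [autFun_of_mem _ hx, autFun_one_apply]
        rfl
      inv_mem' := by
        rintro a ⟨ha, ha'⟩
        have hinv : a⁻¹ ∈ F.autGroup R := Subgroup.inv_mem _ ha
        refine ⟨hinv, FQ.inv (mp_autFun hR hinv) (img_autFun a) (img_autFun a⁻¹).1 (fun y hy => ?_) ha'⟩
        rw [autFun_of_mem _ hy, autFun_of_mem _ ((a⁻¹) ⟨y, hy⟩).2]
        simp }
  -- the subgroup generated by the `p`-elements
  let W : Subgroup (MulAut R) := Subgroup.closure {β | β ∈ F.autGroup R ∧ ∃ m : ℕ, β ^ (p ^ m) = 1}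
  have hWK : W ≤ K := by
    apply (Subgroup.closure_le _).2
    rintro β ⟨hβ, m, hm⟩
    refine ⟨hβ, 1, Subgroup.one_mem _, autFun β, e0_inFam.2 _ hR _ (Pq.of_aut hR hβ hm), fun x _ => ?_⟩
    rw [autFun_one_apply]
  have hWA : W ≤ F.autGroup R := (Subgroup.closure_le _).2 (fun β h => h.1)
  have hIW : autInducedBy S R ≤ W := by
    intro c hc
    have hcp : IsPGroup p (autInducedBy S R) := isPGroup_autInducedBy R hS
    obtain ⟨m, hm⟩ := hcp ⟨c, hc⟩
    apply Subgroup.subset_closure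
    exact ⟨autInducedBy_le_autGroup F hR hc, m, congrArg Subtype.val hm⟩
  have hsyl : IsSylowIn p (autInducedBy S R) (F.autGroup R) := hA.2
  have hsylW : IsSylowIn p (autInducedBy S R) W := hsyl.mono (autInducedBy_le_autGroup F hR) hIW hWA
  let C : Subgroup (MulAut R) := (autInducedBy S R).map (MulAut.conj α).toMonoidHom
  have hCW : C ≤ W := by
    rintro _ ⟨c, hc, rfl⟩
    have hcp : IsPGroup p (autInducedBy S R) := isPGroup_autInducedBy R hS
    obtain ⟨m, hm⟩ := hcp ⟨c, hc⟩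
    have hm' : c ^ (p ^ m) = 1 := congrArg Subtype.val hm
    apply Subgroup.subset_closure
    refine ⟨Subgroup.mul_mem _ (Subgroup.mul_mem _ hα (autInducedBy_le_autGroup F hR hc)) (Subgroup.inv_mem _ hα), m, ?_⟩
    show (α * c * α⁻¹) ^ (p ^ m) = 1
    rw [conj_pow, hm']
    group
  have hCp : IsPGroup p C := (isPGroup_autInducedBy R hS).map _
  obtain ⟨w, hw, hwc⟩ := hsylW.exists_conj hCW hCp
  have hwK := hWK hw
  -- `w α` normalizes `Aut_S(R)`
  let β : MulAut R := w * α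
  have hβF : β ∈ F.autGroup R := Subgroup.mul_mem _ (hWA hw) hα
  have hβn : ∀ c ∈ autInducedBy S R, β * c * β⁻¹ ∈ autInducedBy S R := by
    intro c hc
    have := hwc _ ⟨c, hc, rfl⟩
    have e : w * (MulAut.conj α).toMonoidHom c * w⁻¹ = β * c * β⁻¹ := by
      show w * (α * c * α⁻¹) * w⁻¹ = (w * α) * c * (w * α)⁻¹
      group
    rwa [e] at this
  have hN : R ≤ normalizerIn S R := fun x hx => ⟨hR hx, Subgroup.le_normalizer hx⟩
  obtain ⟨g₀, hg₀, hge⟩ := (mp_autFun hR hβF).ext_rec hrc (img_autFun β) hN (fun y hy => by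
    have h1 : y ∈ S := hy.1
    have h2 : y ∈ Subgroup.normalizer (R : Set Ω) := hy.2
    refine ⟨h1, h2, ?_⟩
    -- the conjugation by `y` on `R`
    let c : MulAut R :=
      { toFun := fun x => ⟨y * x * y⁻¹, (Subgroup.mem_normalizer_iff.1 h2 x).1 x.2⟩
        invFun := fun x => ⟨y⁻¹ * x * y, by
          have := (Subgroup.mem_normalizer_iff.1 h2 (y⁻¹ * x * y)).2
          apply this
          have e : y * (y⁻¹ * x * y) * y⁻¹ = x := by group
          rw [e]
          exact x.2⟩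
        left_inv := fun x => Subtype.ext (by
          show y⁻¹ * (y * x * y⁻¹) * y = x
          group)
        right_inv := fun x => Subtype.ext (by
          show y * (y⁻¹ * x * y) * y⁻¹ = x
          group)
        map_mul' := fun u v => Subtype.ext (by
          show y * (u * v : Ω) * y⁻¹ = (y * u * y⁻¹) * (y * v * y⁻¹)
          group) }
    have hc : c ∈ autInducedBy S R := (mem_autInducedBy_iff S R c).2 ⟨y, h1, fun x => rfl⟩
    obtain ⟨a, ha, hae⟩ := (mem_autInducedBy_iff S R _).1 (hβn c hc)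
    refine ⟨a, ha, fun x hx => ?_⟩
    have hx' : y * x * y⁻¹ ∈ R := (Subgroup.mem_normalizer_iff.1 h2 x).1 hx
    have h3 := hae (β ⟨x, hx⟩)
    have e1 : (β * c * β⁻¹) (β ⟨x, hx⟩) = β (c ⟨x, hx⟩) := by
      show β (c (β⁻¹ (β ⟨x, hx⟩))) = _
      simp
    rw [e1] at h3
    rw [autFun_of_mem _ hx', autFun_of_mem _ hx]
    exact h3)
  have hcardlt : Nat.card R < Nat.card (normalizerIn S R) := by
    obtain ⟨y, hyS, hyR, hyN⟩ := exists_normalizing hS hR hRS le_rfl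
    refine card_lt_of_lt hN (fun e => hyR ?_) inf_le_left
    rw [e]
    exact ⟨hyS, hyN⟩
  have h4 := (hH _ _ hg₀ hcardlt).restrict hN
  have hβK : β ∈ K := ⟨hβF, h4.congr hge⟩
  have hαe : α = w⁻¹ * β := by
    show α = w⁻¹ * (w * α)
    group
  rw [hαe]
  exact (K.mul_mem (K.inv_mem hwK) hβK).2

/-- **The Frattini argument.** Every map of `F` is an automorphism of `S` following a map of the subsystem. -/
theorem frat (hS : IsPGroup p S) (hF : F.IsSaturated p) : ∀ (P : Subgroup Ω) (f : Ω → Ω), Mp F P f → FQ F p P f := by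
  have key : ∀ (d : ℕ) (P : Subgroup Ω) (f : Ω → Ω), Nat.card S - Nat.card P = d → Mp F P f → FQ F p P f := by
    intro d
    induction d using Nat.strong_induction_on with
    | _ d ih =>
    intro P f hd hf
    have hH : ∀ (X : Subgroup Ω) (f : Ω → Ω), Mp F X f → Nat.card P < Nat.card X → FQ F p X f := by
      intro X f' hf' hlt
      have h1 : Nat.card X ≤ Nat.card S := card_le_S hf'.le
      exact ih (Nat.card S - Nat.card X) (by omega) X f' rfl hf'
    have hPS : P ≤ S := hf.le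
    by_cases hPe : P = S
    · subst hPe
      obtain ⟨Y₀, hY₀⟩ := hf.exists_img
      have hY₀S : Y₀ ≤ P := hf.img_le hY₀
      have e : Y₀ = P := eq_of_le_of_card hY₀S (hf.card_img hY₀).ge le_rfl
      rw [e] at hY₀
      obtain ⟨a, ha, hae⟩ := hf.toAut hY₀
      refine ⟨a, ha, fun x => x, Mp.refl le_rfl, fun x hx => ?_⟩
      rw [autFun_of_mem a hx, hae ⟨x, hx⟩]
    obtain ⟨Q', hQ'⟩ := hf.exists_img
    have hcQ : Nat.card Q' = Nat.card P := hf.card_img hQ'
    obtain ⟨R', hPR', hfn⟩ := exists_isFullyNormalized F hPS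
    have hA := isFullyAutomized_of_isFullyNormalized F hS hF hfn
    have hrc := isReceptive_of_isFullyNormalized F hS hF hfn
    have hPQ' : F.IsConj P Q' := hf.isConj hQ'
    have hQ'R' : F.IsConj Q' R' := isConj_trans F (isConj_symm F hPQ') hPR'
    obtain ⟨μ, hμ, -, hμr⟩ := exists_normalizer_map F hS hA hrc hPR'
    obtain ⟨ν, hν, -, hνr⟩ := exists_normalizer_map F hS hA hrc hQ'R'
    have hQ'S : Q' ≤ S := hf.img_le hQ'
    have hcR : Nat.card R' = Nat.card P := (isConj_card_eq F hPR').symm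
    have hPne : P ≠ S := hPe
    have hQ'ne : Q' ≠ S := by
      intro e
      apply hPe
      refine eq_of_le_of_card hPS ?_ le_rfl
      rw [← hcQ, e]
    have hRne : R' ≠ S := by
      intro e
      apply hPe
      refine eq_of_le_of_card hPS ?_ le_rfl
      rw [← hcR, e]
    have hgrow : ∀ {A : Subgroup Ω}, A ≤ S → A ≠ S → Nat.card A < Nat.card (normalizerIn S A) := by
      intro A hAS hAne
      obtain ⟨y, hyS, hyA, hyN⟩ := exists_normalizing hS hAS hAne le_rfl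
      refine card_lt_of_lt (fun x hx => ⟨hAS hx, Subgroup.le_normalizer hx⟩) (fun e => hyA ?_) inf_le_left
      rw [e]
      exact ⟨hyS, hyN⟩
    have hPN : P ≤ normalizerIn S P := fun x hx => ⟨hPS hx, Subgroup.le_normalizer hx⟩
    have hQN : Q' ≤ normalizerIn S Q' := fun x hx => ⟨hQ'S hx, Subgroup.le_normalizer hx⟩
    have hμF : FQ F p P (extOf μ) := (hH _ _ (mp_of_hom hμ) (hgrow hPS hPe)).restrict hPN
    have hνF : FQ F p Q' (extOf ν) := (hH _ _ (mp_of_hom hν) (by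
      have := hgrow hQ'S hQ'ne
      omega)).restrict hQN
    have imgOf : ∀ {A B : Subgroup Ω} (hAB : A ≤ normalizerIn S A) (φ : normalizerIn S A →* Ω),
        (A.subgroupOf (normalizerIn S A)).map φ = B → Img A (extOf φ) B := by
      intro A B hAB φ hφ
      refine ⟨fun x hx => ?_, fun y hy => ?_⟩
      · rw [extOf_of_mem _ (hAB hx), ← hφ]
        exact ⟨⟨x, hAB hx⟩, hx, rfl⟩
      · rw [← hφ] at hy
        obtain ⟨x, hx, rfl⟩ := hy
        exact ⟨x, hx, extOf_coe φ x⟩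
    have hiμ := imgOf hPN μ hμr
    have hiν := imgOf hQN ν hνr
    have hμP : Mp F P (extOf μ) := (mp_of_hom hμ).restrict hPN
    have hνQ : Mp F Q' (extOf ν) := (mp_of_hom hν).restrict hQN
    obtain ⟨μ', hμ', a1, a2, a3⟩ := hμP.inverse hiμ
    obtain ⟨ν', hν', c1, c2, c3⟩ := hνQ.inverse hiν
    -- the automorphism of `R'`
    have hαM : Mp F R' (fun y => extOf ν (f (μ' y))) :=
      (hμ'.comp a3.1 hf).comp (fun y hy => hQ'.1 _ (a3.1 y hy)) hνQ
    have hαI : Img R' (fun y => extOf ν (f (μ' y))) R' :=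
      (a3.comp hQ').comp hiν
    obtain ⟨α, hα, hαe⟩ := hαM.toAut hαI
    have hαF : FQ F p R' (fun y => extOf ν (f (μ' y))) :=
      (aut_step hS hF hfn hRne (by rwa [hcR]) α hα).congr (fun y hy => by
        rw [autFun_of_mem _ hy, hαe ⟨y, hy⟩])
    -- assembling
    have h1 : FQ F p P (fun x => (fun y => extOf ν (f (μ' y))) (extOf μ x)) := hμF.comp hiμ.1 hαF
    have hμ'F : FQ F p R' μ' := FQ.inv hμ' hiμ a3.1 a2 hμF
    have hν'F : FQ F p R' ν' := FQ.inv hν' hiν c3.1 c2 hνF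
    have h2 := h1.comp (Y := R') (fun x hx => hαI.1 _ (hiμ.1 x hx)) hν'F
    refine h2.congr (fun x hx => ?_)
    show ν' (extOf ν (f (μ' (extOf μ x)))) = f x
    rw [a1 x hx, c1 _ (hQ'.1 x hx)]
  exact fun P f hf => key _ P f rfl hf

end frat

end Cfsg.Agent.Lib.FusionExt.PrimeRes1
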