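import Cfsg.Agent.Lib.FusionExt.PrimeRes1
import Cfsg.Agent.Lib.FusionExt.PIndex

/-!
# The `p'`-residual subsystem (helper92)
-/

set_option autoImplicit false

namespace Cfsg.Agent.Lib.FusionExt.PrimeRes2

open Cfsg Cfsg.FusionSystem Cfsg.Agent.Lib.Fusion.Basic Cfsg.Agent.Lib.FusionExt.MapApi
open Cfsg.Agent.Lib.FusionExt.PowerSys Cfsg.Agent.Lib.Fusion.Saturation Cfsg.Agent.Lib.Fusion.Saturation2
open Cfsg.Agent.Lib.FusionExt.SatCrit1 Cfsg.Agent.Lib.FusionExt.PowerE Cfsg.Agent.Lib.FusionExt.PowerGen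
open Cfsg.Agent.Lib.Fusion.GroupSystem Cfsg.Agent.Lib.FusionExt.PrimeRes1

universe u

variable {Ω : Type u} [Group Ω] {S : Subgroup Ω} {F : FusionSystem S} {p : ℕ}
variable {X Y Q R U : Subgroup Ω} {f g h k b : Ω → Ω}

/-- The subgroup of `Aut_F(S)` generated by the automorphisms restricting on some centric subgroup to a map of the subsystem. -/
def HH (F : FusionSystem S) (p : ℕ) : Subgroup (MulAut S) :=
  Subgroup.closure {a | a ∈ F.autGroup S ∧ ∃ Q, F.IsCentric Q ∧ Mp (e0 F p) Q (autFun a)}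

theorem HH_le : HH F p ≤ F.autGroup S := (Subgroup.closure_le _).2 (fun _ h => h.1)

theorem e1Ax : SysAx S (fun X f => ∃ c ∈ HH F p, ∃ g, Mp (e0 F p) X g ∧ ∀ x ∈ X, f x = autFun c (g x)) := by
  refine ⟨?_, ?_, ?_, ?_, ?_, ?_, ?_, ?_⟩
  · rintro X f g ⟨c, hc, u, hu, e1⟩ e
    exact ⟨c, hc, u, hu, fun x hx => by rw [← e x hx, e1 x hx]⟩
  · rintro X f ⟨c, hc, u, hu, e1⟩
    exact hu.le
  · rintro X f x ⟨c, hc, u, hu, e1⟩ hx
    rw [e1 x hx]
    exact autFun_mem c (hu.mem_S hx)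
  · rintro X f x y ⟨c, hc, u, hu, e1⟩ hx hy
    rw [e1 _ (X.mul_mem hx hy), e1 x hx, e1 y hy, hu.map_mul hx hy, autFun_mul c (hu.mem_S hx) (hu.mem_S hy)]
  · rintro X f x y ⟨c, hc, u, hu, e1⟩ hx hy e
    rw [e1 x hx, e1 y hy] at e
    exact hu.inj hx hy (autFun_inj c e)
  · intro X s hX hs
    exact ⟨1, Subgroup.one_mem _, _, Mp.conj hX hs, fun x _ => (autFun_one_apply _).symm⟩
  · rintro X Y f g ⟨c, hc, u, hu, eu⟩ hm ⟨d, hd, v, hv, ev⟩
    refine ⟨d * c, Subgroup.mul_mem _ hd hc, fun x => twB c v (u x),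
      hu.comp (Y := cjB c Y) (fun x hx => ⟨hu.mem_S hx, ?_⟩) (e0_twB (HH_le hc) hv), fun x hx => ?_⟩
    · rw [← eu x hx]
      exact hm x hx
    · show g (f x) = autFun (d * c) (autFun c⁻¹ (v (autFun c (u x))))
      rw [autFun_mul_apply, autFun_apply_inv, ev _ (hm x hx), eu x hx]
  · rintro X Y f ⟨c, hc, u, hu, eu⟩ hi
    obtain ⟨Y₀, hY₀⟩ := hu.exists_img
    obtain ⟨u', hu', b1, -, -⟩ := hu.inverse hY₀
    have hinv : c⁻¹ ∈ HH F p := Subgroup.inv_mem _ hc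
    have hle : Y ≤ cjB c⁻¹ Y₀ := by
      intro y hy
      obtain ⟨x, hx, rfl⟩ := hi.2 y hy
      rw [eu x hx]
      refine ⟨autFun_mem c (hu.mem_S hx), ?_⟩
      rw [autFun_inv_apply]
      exact hY₀.1 x hx
    refine ⟨fun y => u' (autFun c⁻¹ y), ⟨c⁻¹, hinv, twB c⁻¹ u', (e0_twB (HH_le hinv) hu').restrict hle, fun y hy => ?_⟩,
      fun x hx => ?_⟩
    · show u' (autFun c⁻¹ y) = autFun c⁻¹ (autFun c⁻¹⁻¹ (u' (autFun c⁻¹ y)))
      rw [inv_inv, autFun_inv_apply]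
    · show u' (autFun c⁻¹ (f x)) = x
      rw [eu x hx, autFun_inv_apply, b1 x hx]

/-- The `p'`-residual subsystem. -/
noncomputable def e1 (F : FusionSystem S) (p : ℕ) : FusionSystem S := mkSys (e1Ax (F := F) (p := p))

theorem mp_e1 : Mp (e1 F p) X f ↔ ∃ c ∈ HH F p, ∃ g, Mp (e0 F p) X g ∧ ∀ x ∈ X, f x = autFun c (g x) := mp_mkSys _

theorem e0_mp_e1 (h : Mp (e0 F p) X f) : Mp (e1 F p) X f :=
  mp_e1.2 ⟨1, Subgroup.one_mem _, f, h, fun x _ => (autFun_one_apply _).symm⟩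

theorem mp_e1_top {c : MulAut S} (hc : c ∈ HH F p) : Mp (e1 F p) S (autFun c) :=
  mp_e1.2 ⟨c, hc, fun x => x, Mp.refl le_rfl, fun x _ => rfl⟩

theorem mp_e1_F (h : Mp (e1 F p) X f) : Mp F X f := by
  obtain ⟨c, hc, u, hu, eu⟩ := mp_e1.1 h
  exact ((mp_sub e0_sub hu).comp (Y := S) (fun x hx => hu.mem_S hx) (mp_autFun le_rfl (HH_le hc))).congr
    (fun x hx => (eu x hx).symm)

theorem e1_sub : (e1 F p).IsSubsystemOf F := fun P φ hφ => hom_of_mp (mp_e1_F (mp_of_hom hφ))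

theorem isConj_e1 (h : (e1 F p).IsConj X Y) : F.IsConj X Y := by
  obtain ⟨φ, hφ, hr⟩ := h
  exact ⟨φ, e1_sub X hφ, hr⟩

/-! ### Full normalization transports along `Aut_F(S)` -/

theorem normalizerIn_cjB (a : MulAut S) (hR : R ≤ S) : normalizerIn S (cjB a R) = cjB a (normalizerIn S R) := by
  have key : ∀ (y w : Ω), y ∈ S → w ∈ S → (autFun a (y * w * y⁻¹) = autFun a y * autFun a w * (autFun a y)⁻¹) := by
    intro y w hy hw
    rw [autFun_mul a (S.mul_mem hy hw) (S.inv_mem hy), autFun_mul a hy hw, autFun_inv' a hy]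
  ext y
  constructor
  · rintro ⟨h1, h2⟩
    refine ⟨h1, autFun_mem a h1, (?_ : autFun a y ∈ Subgroup.normalizer (R : Set Ω))⟩
    have h2' : y ∈ Subgroup.normalizer ((cjB a R : Subgroup Ω) : Set Ω) := h2
    rw [Subgroup.mem_normalizer_iff] at h2' ⊢
    intro z
    have hay := autFun_mem a h1
    by_cases hz : z ∈ S
    · have h3 := h2' (autFun a⁻¹ z)
      have hw := autFun_mem a⁻¹ hz
      constructor
      · intro hzR
        have h4 := (h3.1 ⟨hw, by rwa [autFun_apply_inv]⟩).2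
        rwa [key y _ h1 hw, autFun_apply_inv] at h4
      · intro hzR
        have h4 := (h3.2 ⟨S.mul_mem (S.mul_mem h1 hw) (S.inv_mem h1), by
          rwa [key y _ h1 hw, autFun_apply_inv]⟩).2
        rwa [autFun_apply_inv] at h4
    · constructor
      · intro hzR
        exact absurd (hR hzR) hz
      · intro hzR
        have h5 := hR hzR
        exfalso
        apply hz
        have e : z = (autFun a y)⁻¹ * (autFun a y * z * (autFun a y)⁻¹) * autFun a y := by group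
        rw [e]
        exact S.mul_mem (S.mul_mem (S.inv_mem hay) h5) hay
  · rintro ⟨h1, -, h2⟩
    refine ⟨h1, (?_ : y ∈ Subgroup.normalizer ((cjB a R : Subgroup Ω) : Set Ω))⟩
    have h2' : autFun a y ∈ Subgroup.normalizer (R : Set Ω) := h2
    rw [Subgroup.mem_normalizer_iff] at h2' ⊢
    intro z
    by_cases hz : z ∈ S
    · have hw := autFun_mem a hz
      have h3 := h2' (autFun a z)
      constructor
      · rintro ⟨-, hzR⟩
        exact ⟨S.mul_mem (S.mul_mem h1 hz) (S.inv_mem h1), by rw [key y z h1 hz]; exact h3.1 hzR⟩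
      · rintro ⟨-, hzR⟩
        rw [key y z h1 hz] at hzR
        exact ⟨hz, h3.2 hzR⟩
    · constructor
      · rintro ⟨h4, -⟩
        exact absurd h4 hz
      · rintro ⟨h4, -⟩
        exfalso
        apply hz
        have e : z = y⁻¹ * (y * z * y⁻¹) * y := by group
        rw [e]
        exact S.mul_mem (S.mul_mem (S.inv_mem h1) h4) h1

theorem isFN_cjB {a : MulAut S} (ha : a ∈ F.autGroup S) (hfn : F.IsFullyNormalized R) : F.IsFullyNormalized (cjB a R) := by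
  have hR := hfn.1
  have hc : F.IsConj R (cjB a R) := by
    refine ((mp_autFun_inv ha).restrict hR).isConj ⟨fun x hx => mem_cjB_of a hR hx, fun y hy => ⟨autFun a y, hy.2, ?_⟩⟩
    exact autFun_inv_apply a y
  refine ⟨fun y hy => hy.1, fun Q hQ => ?_⟩
  rw [normalizerIn_cjB a hR, card_cjB a (normalizerIn_le_left S R)]
  exact hfn.2 Q (isConj_trans F hc hQ)

/-! ### Generation -/

section gen

variable [Finite S] [Fact p.Prime]

theorem pq_extend (hU : U ≤ S) (hb : Mp F U b) (hi : Img U b U) (hRU : R ≤ U) (hf : Pq F p R f) (he : ∀ x ∈ R, b x = f x) :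
    ∃ f', Pq F p U f' ∧ ∀ x ∈ R, f' x = f x := by
  obtain ⟨a, haF, ha⟩ := hb.toAut hi
  haveI : Finite U := finite_of_le hU
  haveI : Finite (MulAut U) := Cfsg.Agent.Lib.Fusion.Basic.finite_mulAut_of_finite (A := U)
  obtain ⟨-, hf2, j, hf3⟩ := id hf
  have hp : p.Prime := Fact.out
  obtain ⟨k, q, hq, hN⟩ := Nat.exists_eq_pow_mul_and_not_dvd (orderOf_pos a).ne' p hp.ne_one
  have hco : (p ^ j).Coprime q := Nat.Coprime.pow_left j (hp.coprime_iff_not_dvd.2 hq)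
  obtain ⟨m, hm1, hm2⟩ := Nat.chineseRemainder hco 1 0
  obtain ⟨d, hd⟩ := (Nat.modEq_zero_iff_dvd).1 hm2
  have ha' : a ^ m ∈ F.autGroup U := Subgroup.pow_mem _ haF m
  have h1 : (a ^ m) ^ (p ^ k) = 1 := by
    rw [← pow_mul, hd]
    have : q * d * p ^ k = orderOf a * d := by rw [hN]; ring
    rw [this, pow_mul, pow_orderOf_eq_one, one_pow]
  refine ⟨autFun (a ^ m), Pq.of_aut hU ha' h1, fun x hx => ?_⟩
  have hU' : x ∈ U := hRU hx
  rw [autFun_of_mem _ hU']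
  have h3 := iterate_autFun (a := a) m ⟨x, hU'⟩
  rw [← h3]
  have hagree : ∀ y ∈ R, autFun a y = f y := by
    intro y hy
    rw [autFun_of_mem a (hRU hy), ha ⟨y, hRU hy⟩, he y hy]
  have hfm : ∀ y ∈ R, autFun a y ∈ R := fun y hy => by
    rw [hagree y hy]
    exact hf2.1 y hy
  show (autFun a)^[m] x = f x
  rw [iterate_congr hfm hagree m hx, iterate_modEq hf2.1 hf3 hm1 hx]
  rfl

theorem exists_ext_centQ (hr : F.IsReceptive R) (hf : Pq F p R f) :
    ∃ f', Pq F p (R ⊔ centralizerIn S R) f' ∧ ∀ x ∈ R, f' x = f x := by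
  have hRS := hr.1
  set C := centralizerIn S R with hCdef
  have hCS : C ≤ S := inf_le_left
  have hUS : R ⊔ C ≤ S := sup_le hRS hCS
  obtain ⟨g, hg, hge⟩ := exists_ext_sup hr hf.1 hf.2.1 C le_rfl
  have hcomm : ∀ c ∈ C, ∀ y ∈ R, c * y = y * c := by
    intro c hc y hy
    exact ((Subgroup.mem_centralizer_iff.1 hc.2) y hy).symm
  have hgC : ∀ c ∈ C, g c ∈ C := by
    intro c hc
    refine ⟨hg.mem_S (Subgroup.mem_sup_right hc), Subgroup.mem_centralizer_iff.2 fun y hy => ?_⟩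
    obtain ⟨r, hr', rfl⟩ := hf.2.1.2 y hy
    have hrU : r ∈ R ⊔ C := Subgroup.mem_sup_left hr'
    have hcU : c ∈ R ⊔ C := Subgroup.mem_sup_right hc
    rw [← hge r hr', ← hg.map_mul hrU hcU, ← hg.map_mul hcU hrU, hcomm c hc r hr']
  have hnorm : R ≤ Subgroup.normalizer (C : Set Ω) := by
    intro r hr'
    rw [Subgroup.mem_normalizer_iff]
    intro c
    constructor
    · intro hc
      have : r * c * r⁻¹ = c := by rw [← hcomm c hc r hr']; group
      rwa [this]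
    · intro hc
      have h2 : c = r * c * r⁻¹ := by
        have := hcomm _ hc r hr'
        have h3 : r * c * r⁻¹ * r = r * (r * c * r⁻¹) := this
        have h4 : r * c = r * (r * c * r⁻¹) := by
          rw [← h3]
          group
        exact mul_left_cancel h4
      rw [h2]
      exact hc
  have hgU : ∀ x ∈ R ⊔ C, g x ∈ R ⊔ C := by
    intro x hx
    obtain ⟨r, hr', c, hc, rfl⟩ := Cfsg.Agent.Lib.FusionExt.Normal.exists_mul_of_mem_sup' hnorm hx
    rw [hg.map_mul (Subgroup.mem_sup_left hr') (Subgroup.mem_sup_right hc), hge r hr']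
    exact Subgroup.mul_mem _ (Subgroup.mem_sup_left (hf.2.1.1 r hr')) (Subgroup.mem_sup_right (hgC c hc))
  obtain ⟨Y₀, hY₀⟩ := hg.exists_img
  have hY₀U : Y₀ ≤ R ⊔ C := by
    intro y hy
    obtain ⟨x, hx, rfl⟩ := hY₀.2 y hy
    exact hgU x hx
  have hcard := hg.card_img hY₀
  have hY₀eq : Y₀ = R ⊔ C := eq_of_le_of_card hY₀U hcard.ge hUS
  rw [hY₀eq] at hY₀
  exact pq_extend hUS hg hY₀ le_sup_left hf hge

theorem sc_top : F.StronglyClosed S := ⟨le_rfl, fun _ _ φ hφ x => val_mem F hφ x⟩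

theorem img_of_normalizer_map {A B : Subgroup Ω} (hAB : A ≤ normalizerIn S A) (φ : normalizerIn S A →* Ω)
    (hφ : (A.subgroupOf (normalizerIn S A)).map φ = B) : Img A (extOf φ) B := by
  refine ⟨fun x hx => ?_, fun y hy => ?_⟩
  · rw [extOf_of_mem _ (hAB hx), ← hφ]
    exact ⟨⟨x, hAB hx⟩, hx, rfl⟩
  · rw [← hφ] at hy
    obtain ⟨x, hx, rfl⟩ := hy
    exact ⟨x, hx, extOf_coe φ x⟩

theorem step_genQ (hS : IsPGroup p S) (hF : F.IsSaturated p) (E' : FusionSystem S)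
    (hC : ∀ P, F.IsCentric P → ∀ f, Mp (e0 F p) P f → Mp E' P f) (hQ : Q ≤ S) (hf : Pq F p Q f)
    (hH : ∀ (X : Subgroup Ω) (f : Ω → Ω), Mp (e0 F p) X f → Nat.card Q < Nat.card X → Mp E' X f) : Mp E' Q f := by
  by_cases hQS : Q = S
  · subst hQS
    exact hC Q (Cfsg.Agent.Lib.FusionTheory.Centric.isCentric_top F) f (e0_inFam.2 _ le_rfl f hf)
  obtain ⟨R₀, hQR₀, hfn⟩ := exists_isFullyNormalized F hQ
  have hA := isFullyAutomized_of_isFullyNormalized F hS hF hfn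
  have hR₀r := isReceptive_of_isFullyNormalized F hS hF hfn
  obtain ⟨φ, hφ, hv, hr⟩ := exists_normalizer_map F hS hA hR₀r hQR₀
  have hQN : Q ≤ normalizerIn S Q := fun x hx => ⟨hQ hx, Subgroup.le_normalizer hx⟩
  have hi₀ := img_of_normalizer_map hQN φ hr
  obtain ⟨a, ha, g, hg, eg⟩ := frat hS hF _ _ (mp_of_hom hφ)
  have hi : Img Q g (cjB a R₀) := by
    refine ⟨fun x hx => ⟨hg.mem_S (hQN hx), ?_⟩, fun y hy => ?_⟩
    · rw [← eg x (hQN hx)]
      exact hi₀.1 x hx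
    · obtain ⟨x, hx, e⟩ := hi₀.2 _ hy.2
      refine ⟨x, hx, ?_⟩
      rw [eg x (hQN hx)] at e
      exact autFun_inj a e
  set R := cjB a R₀ with hR
  have hlt : Nat.card Q < Nat.card (normalizerIn S Q) := by
    obtain ⟨y, hyT, hyQ, hyN⟩ := exists_normalizing hS hQ hQS le_rfl
    refine card_lt_of_lt hQN (fun e => hyQ ?_) inf_le_left
    rw [e]
    exact ⟨hyT, hyN⟩
  have hg' := hH _ g hg hlt
  have hgQ := hg.restrict hQN
  obtain ⟨μ, hμ, a1, a2, a3⟩ := hgQ.inverse hi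
  obtain ⟨μ', hμ', b1, -, -⟩ := (hg'.restrict hQN).inverse hi
  have hμE' : Mp E' R μ := by
    refine hμ'.congr (fun y hy => ?_)
    obtain ⟨x, hx, rfl⟩ := hi.2 y hy
    rw [b1 x hx, a1 x hx]
  have hRS : R ≤ S := fun y hy => hy.1
  have hf' : Pq F p R (fun y => g (f (μ y))) :=
    Pq.conj_iso hf (mp_sub e0_sub hgQ) hi (mp_sub e0_sub hμ) a1 a2 a3.1
  have hfnR : F.IsFullyNormalized R := isFN_cjB ha hfn
  have hrR := isReceptive_of_isFullyNormalized F hS hF hfnR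
  have hf'E' : Mp E' R (fun y => g (f (μ y))) := by
    by_cases hCR : centralizerIn S R ≤ R
    · have hcen : F.IsCentric R := mem_CC_of_rec sc_top hrR hRS hCR
      exact hC R hcen _ (e0_inFam.2 R hRS _ hf')
    · obtain ⟨f', hf'', he⟩ := exists_ext_centQ hrR hf'
      have hUS : R ⊔ centralizerIn S R ≤ S := sup_le hRS inf_le_left
      have h1 := e0_inFam (F := F) (p := p).2 _ hUS _ hf''
      have hcardR : Nat.card Q = Nat.card R := (hgQ.card_img hi).symm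
      have hlt2 : Nat.card Q < Nat.card ↥(R ⊔ centralizerIn S R) := by
        rw [hcardR]
        refine card_lt_of_lt le_sup_left (fun e => hCR ?_) hUS
        intro c hc
        have h5 : c ∈ R ⊔ centralizerIn S R := Subgroup.mem_sup_right hc
        rwa [← e] at h5
      have h2 := hH _ _ h1 hlt2
      exact (h2.restrict le_sup_left).congr he
  have h3 : Mp E' Q (fun x => g (f (μ (g x)))) := (hg'.restrict hQN).comp hi.1 hf'E'
  have hm3 : ∀ x ∈ Q, g (f (μ (g x))) ∈ R := fun x hx => hf'.2.1.1 (g x) (hi.1 x hx)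
  have h4 : Mp E' Q (fun x => μ (g (f (μ (g x))))) := h3.comp hm3 hμE'
  refine h4.congr (fun x hx => ?_)
  show μ (g (f (μ (g x)))) = f x
  rw [a1 x hx, a1 _ (hf.2.1.1 x hx)]

theorem gen_e0 (hS : IsPGroup p S) (hF : F.IsSaturated p) (E' : FusionSystem S)
    (hC : ∀ P, F.IsCentric P → ∀ f, Mp (e0 F p) P f → Mp E' P f) (X : Subgroup Ω) (f : Ω → Ω) (hf : Mp (e0 F p) X f) :
    Mp E' X f := by
  have key : ∀ (d : ℕ) (X : Subgroup Ω) (f : Ω → Ω), Nat.card S - Nat.card X = d → Mp (e0 F p) X f → Mp E' X f := by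
    intro d
    induction d using Nat.strong_induction_on with
    | _ d ih =>
    intro X f hd hf
    have hH : ∀ (X' : Subgroup Ω) (f' : Ω → Ω), Mp (e0 F p) X' f' → Nat.card X < Nat.card X' → Mp E' X' f' := by
      intro X' f' hf' hlt
      have h1 : Nat.card X' ≤ Nat.card S := card_le_S hf'.le
      exact ih (Nat.card S - Nat.card X') (by omega) X' f' rfl hf'
    have hfam : InFamQ F p (mkSys (e3Ax (e0 F p) E' (Nat.card X))) := by
      refine ⟨fun P φ hφ => ?_, fun Q hQ f' hf' => ?_⟩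
      · have h1 := (mp_mkSys (e3Ax (e0 F p) E' (Nat.card X))).1 (mp_of_hom hφ)
        exact hom_of_mp (mp_sub e0_sub h1.1)
      · have h1 : Mp (e0 F p) Q f' := e0_inFam.2 Q hQ f' hf'
        refine (mp_mkSys (e3Ax (e0 F p) E' (Nat.card X))).2 ⟨h1, fun hn => ?_⟩
        rcases hn.lt_or_eq with hlt | heq
        · exact hH Q f' h1 hlt
        · exact step_genQ hS hF E' hC hQ hf' (by rwa [← heq])
    have h2 := e0_min hfam hf
    exact ((mp_mkSys (e3Ax (e0 F p) E' (Nat.card X))).1 h2).2 le_rfl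
  exact key _ X f rfl hf

/-- **Generation.** -/
theorem gen_e1 (hS : IsPGroup p S) (hF : F.IsSaturated p) (E' : FusionSystem S)
    (h : ∀ P, F.IsCentric P → (e1 F p).Hom P ⊆ E'.Hom P) : e1 F p ≤ E' := by
  have hC : ∀ P, F.IsCentric P → ∀ f, Mp (e1 F p) P f → Mp E' P f := by
    rintro P hP f ⟨φ, hφ, e⟩
    exact ⟨φ, h P hP hφ, e⟩
  have hC0 : ∀ P, F.IsCentric P → ∀ f, Mp (e0 F p) P f → Mp E' P f := fun P hP f hf => hC P hP f (e0_mp_e1 hf)
  intro P φ hφ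
  obtain ⟨c, hc, u, hu, eu⟩ := mp_e1.1 (mp_of_hom hφ)
  have h1 := gen_e0 hS hF E' hC0 P u hu
  have h2 := hC S (Cfsg.Agent.Lib.FusionTheory.Centric.isCentric_top F) _ (mp_e1_top hc)
  exact hom_of_mp ((h1.comp (Y := S) (fun x hx => h1.mem_S hx) h2).congr (fun x hx => (eu x hx).symm))

/-! ### Saturation -/

theorem fa_e1 (hA : F.IsFullyAutomized p R) : (e1 F p).IsFullyAutomized p R := by
  have hsyl : IsSylowIn p (autInducedBy S R) (F.autGroup R) := hA.2
  refine ⟨hA.1, hsyl.mono (autInducedBy_le_autGroup F hA.1) (autInducedBy_le_autGroup _ hA.1) ?_⟩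
  exact Cfsg.Agent.Lib.FusionExt.PIndex.autGroup_le_of_subsystem e1_sub hA.1

theorem rec_e1 (hS : IsPGroup p S) (hF : F.IsSaturated p) (hrF : F.IsReceptive R) (hcen : F.IsCentric R) :
    (e1 F p).IsReceptive R := by
  refine ⟨hrF.1, fun P φ hφ hrg => ?_⟩
  obtain ⟨c, hc, u, hu, eu⟩ := mp_e1.1 (mp_of_hom hφ)
  have hφF : φ ∈ F.Hom P := e1_sub P hφ
  obtain ⟨ψ, hψ, he⟩ := hrF.2 P φ hφF hrg
  have hPN : P ≤ extender S P φ := le_extender F hφF
  obtain ⟨a, ha, v, hv, ev⟩ := frat hS hF _ _ (mp_of_hom hψ)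
  have hPcen : F.IsCentric P :=
    Cfsg.Agent.Lib.FusionTheory.Centric.IsCentric.of_conj F hcen (isConj_symm F ⟨φ, hφF, hrg⟩)
  have hvP := hv.restrict hPN
  obtain ⟨Q₂, hQ₂⟩ := hvP.exists_img
  have hQ₂cen : F.IsCentric Q₂ :=
    Cfsg.Agent.Lib.FusionTheory.Centric.IsCentric.of_conj F hPcen ((mp_sub e0_sub hvP).isConj hQ₂)
  obtain ⟨v', hv', b1, b2, b3⟩ := hvP.inverse hQ₂
  have hgen : c⁻¹ * a ∈ HH F p := by
    apply Subgroup.subset_closure
    refine ⟨Subgroup.mul_mem _ (Subgroup.inv_mem _ (HH_le hc)) ha, Q₂, hQ₂cen, ?_⟩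
    refine (hv'.comp b3.1 hu).congr (fun y hy => ?_)
    have hx := b3.1 y hy
    have e1' : autFun a y = autFun c (u (v' y)) := by
      rw [← eu _ hx, extOf_of_mem _ hx, ← he _ hx (hPN hx), ← extOf_of_mem ψ (hPN hx), ev _ (hPN hx), b2 y hy]
    rw [autFun_mul_apply, e1', autFun_inv_apply]
  have haH : a ∈ HH F p := by
    have : a = c * (c⁻¹ * a) := by group
    rw [this]
    exact Subgroup.mul_mem _ hc hgen
  refine ⟨ψ, hom_of_mp (mp_e1.2 ⟨a, haH, v, hv, ev⟩), he⟩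

theorem sat_e1 (hS : IsPGroup p S) (hF : F.IsSaturated p) (P : Subgroup Ω) (hP : F.IsCentric P) :
    ∃ Q, (e1 F p).IsConj P Q ∧ (e1 F p).IsFullyAutomized p Q ∧ (e1 F p).IsReceptive Q := by
  obtain ⟨R₀, hPR₀, hfn⟩ := exists_isFullyNormalized F hP.1
  obtain ⟨φ, hφ, hrg⟩ := hPR₀
  have hi₀ : Img P (extOf φ) R₀ := by
    refine ⟨fun x hx => ?_, fun z hz => ?_⟩
    · rw [extOf_of_mem _ hx, ← hrg]
      exact ⟨_, rfl⟩
    · rw [← hrg] at hz
      obtain ⟨x, rfl⟩ := hz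
      exact ⟨x, x.2, extOf_coe φ x⟩
  obtain ⟨a, ha, g, hg, eg⟩ := frat hS hF _ _ (mp_of_hom hφ)
  have hi : Img P g (cjB a R₀) := by
    refine ⟨fun x hx => ⟨hg.mem_S hx, ?_⟩, fun y hy => ?_⟩
    · rw [← eg x hx]
      exact hi₀.1 x hx
    · obtain ⟨x, hx, e⟩ := hi₀.2 _ hy.2
      refine ⟨x, hx, ?_⟩
      rw [eg x hx] at e
      exact autFun_inj a e
  have hconj : (e1 F p).IsConj P (cjB a R₀) := (e0_mp_e1 hg).isConj hi
  have hfnR : F.IsFullyNormalized (cjB a R₀) := isFN_cjB ha hfn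
  have hA := isFullyAutomized_of_isFullyNormalized F hS hF hfnR
  have hrF := isReceptive_of_isFullyNormalized F hS hF hfnR
  have hcen : F.IsCentric (cjB a R₀) :=
    Cfsg.Agent.Lib.FusionTheory.Centric.IsCentric.of_conj F hP (isConj_e1 hconj)
  exact ⟨_, hconj, fa_e1 hA, rec_e1 hS hF hrF hcen⟩

theorem centric_of_e1 (hS : IsPGroup p S) (hF : F.IsSaturated p) {P : Subgroup Ω} (hP : (e1 F p).IsCentric P) :
    F.IsCentric P := by
  refine ⟨hP.1, fun Q hQ c hc => ?_⟩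
  obtain ⟨φ, hφ, hrg⟩ := hQ
  have hi₀ : Img P (extOf φ) Q := by
    refine ⟨fun x hx => ?_, fun z hz => ?_⟩
    · rw [extOf_of_mem _ hx, ← hrg]
      exact ⟨_, rfl⟩
    · rw [← hrg] at hz
      obtain ⟨x, rfl⟩ := hz
      exact ⟨x, x.2, extOf_coe φ x⟩
  obtain ⟨a, ha, g, hg, eg⟩ := frat hS hF _ _ (mp_of_hom hφ)
  have hi : Img P g (cjB a Q) := by
    refine ⟨fun x hx => ⟨hg.mem_S hx, ?_⟩, fun y hy => ?_⟩
    · rw [← eg x hx]
      exact hi₀.1 x hx
    · obtain ⟨x, hx, e⟩ := hi₀.2 _ hy.2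
      refine ⟨x, hx, ?_⟩
      rw [eg x hx] at e
      exact autFun_inj a e
  have hcent := hP.2 _ ((e0_mp_e1 hg).isConj hi)
  have hcS : c ∈ S := hc.1
  have h1 : autFun a⁻¹ c ∈ centralizerIn S (cjB a Q) := by
    refine ⟨autFun_mem _ hcS, Subgroup.mem_centralizer_iff.2 fun z hz => ?_⟩
    obtain ⟨hzS, hzQ⟩ := hz
    have h3 : autFun a z * c = c * autFun a z := (Subgroup.mem_centralizer_iff.1 hc.2) _ hzQ
    apply autFun_inj a
    rw [autFun_mul a hzS (autFun_mem _ hcS), autFun_mul a (autFun_mem _ hcS) hzS, autFun_apply_inv, h3]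
  have h5 := (hcent h1).2
  rwa [autFun_apply_inv] at h5

theorem e1_saturated (hS : IsPGroup p S) (hF : F.IsSaturated p) : (e1 F p).IsSaturated p := by
  refine Cfsg.Agent.Lib.FusionExt.SatCrit4.main hS (e1 F p) {P | F.IsCentric P} (fun P hP => hP.1) ?_ ?_ ?_ ?_
  · intro P hP Q hQ
    exact Cfsg.Agent.Lib.FusionTheory.Centric.IsCentric.of_conj F hP (isConj_e1 hQ)
  · intro P hP
    exact sat_e1 hS hF P hP
  · intro E' h
    exact gen_e1 hS hF E' h
  · intro P hP hPC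
    exact absurd (centric_of_e1 hS hF hP) hPC

theorem e1_index : (e1 F p).HasPrimeToPIndexIn F p := by
  refine ⟨e1_sub, fun P hP => ?_⟩
  rw [Subgroup.map_le_iff_le_comap]
  apply (Subgroup.closure_le _).2
  rintro β ⟨m, hm⟩
  have h1 : (β : MulAut P) ^ (p ^ m) = 1 := by
    have := pow_orderOf_eq_one β
    rw [hm] at this
    exact congrArg Subtype.val this
  have h2 : Mp (e0 F p) P (autFun (β : MulAut P)) := e0_inFam.2 P hP _ (Pq.of_aut hP β.2 h1)
  exact (mem_autGroup_iff _ hP _).2 (hom_of_mp (e0_mp_e1 h2))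

/-! ### Minimality -/

theorem inFamQ_of_index {D : FusionSystem S} (hD : D.HasPrimeToPIndexIn F p) : InFamQ F p D := by
  refine ⟨hD.1, fun Q hQ f hf => ?_⟩
  obtain ⟨h1, h2, m, h3⟩ := hf
  obtain ⟨c, hc, hce⟩ := h1.toAut h2
  have hagree : ∀ y ∈ Q, autFun c y = f y := by
    intro y hy
    rw [autFun_of_mem c hy, hce ⟨y, hy⟩]
  have hfm : ∀ y ∈ Q, autFun c y ∈ Q := fun y hy => (img_autFun c).1 y hy
  have hpow : c ^ (p ^ m) = 1 := by
    ext x
    have h4 := iterate_autFun (a := c) (p ^ m) x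
    rw [iterate_congr hfm hagree _ x.2, h3 _ x.2] at h4
    exact h4.symm
  have hord : ∃ k, orderOf (⟨c, hc⟩ : F.autGroup Q) = p ^ k := by
    have h5 : (⟨c, hc⟩ : F.autGroup Q) ^ (p ^ m) = 1 := Subtype.ext hpow
    obtain ⟨k, -, hk⟩ := (Nat.dvd_prime_pow (Fact.out : p.Prime)).1 (orderOf_dvd_of_pow_eq_one h5)
    exact ⟨k, hk⟩
  have h6 : c ∈ D.autGroup Q := hD.2 Q hQ ⟨⟨c, hc⟩, Subgroup.subset_closure hord, rfl⟩
  exact (mp_autFun hQ h6).congr hagree

/-- **Key lemma.** A saturated subsystem containing the `p`-automorphisms contains every automorphism of `S` that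
restricts to one of its maps on a centric subgroup. -/
theorem lemma_K (hS : IsPGroup p S) {D : FusionSystem S} (hD : D.IsSaturated p) (hfam : InFamQ F p D) :
    ∀ (d : ℕ) (Q : Subgroup Ω), Nat.card S - Nat.card Q = d → F.IsCentric Q → ∀ a ∈ F.autGroup S,
      Mp D Q (autFun a) → a ∈ D.autGroup S := by
  intro d
  induction d using Nat.strong_induction_on with
  | _ d ih =>
  intro Q hd hcen a ha hb
  have hQS : Q ≤ S := hcen.1
  by_cases hQe : Q = S
  · subst hQe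
    exact (mem_autGroup_iff D le_rfl a).2 (hom_of_mp hb)
  set N := normalizerIn S Q with hN
  have hQN : Q ≤ N := fun x hx => ⟨hQS hx, Subgroup.le_normalizer hx⟩
  have hNS : N ≤ S := inf_le_left
  have hlt : Nat.card Q < Nat.card N := by
    obtain ⟨y, hyS, hyQ, hyN⟩ := exists_normalizing hS hQS hQe le_rfl
    refine card_lt_of_lt hQN (fun e => hyQ ?_) hNS
    rw [e]
    exact ⟨hyS, hyN⟩
  -- it suffices to treat `N`
  suffices hbN : Mp D N (autFun a) by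
    have hNcen : F.IsCentric N := Cfsg.Agent.Lib.FusionTheory.Centric.IsCentric.of_le F hcen hQN hNS
    have h1 : Nat.card N ≤ Nat.card S := card_le_S hNS
    exact ih _ (by omega) N rfl hNcen a ha hbN
  -- the image of `Q`
  set Q' := cjB a⁻¹ Q with hQ'
  have hiQ' : Img Q (autFun a) Q' := by
    refine ⟨fun x hx => ⟨autFun_mem a (hQS hx), by rwa [autFun_inv_apply]⟩, fun y hy => ⟨_, hy.2, autFun_apply_inv a y⟩⟩
  have hQ'S : Q' ≤ S := fun y hy => hy.1
  have haN : ∀ y ∈ N, autFun a y ∈ normalizerIn S Q' := by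
    intro y hy
    rw [hQ', normalizerIn_cjB a⁻¹ hQS]
    refine ⟨autFun_mem a (hNS hy), ?_⟩
    rwa [autFun_inv_apply]
  obtain ⟨R₀, hQ'R₀, hfn⟩ := exists_isFullyNormalized D hQ'S
  have hAD := isFullyAutomized_of_isFullyNormalized D hS hD hfn
  have hrD := isReceptive_of_isFullyNormalized D hS hD hfn
  obtain ⟨μ, hμ, hμv, hμr⟩ := exists_normalizer_map D hS hAD hrD hQ'R₀
  have hQ'N : Q' ≤ normalizerIn S Q' := fun x hx => ⟨hQ'S hx, Subgroup.le_normalizer hx⟩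
  have him := img_of_normalizer_map hQ'N μ hμr
  have hm := mp_of_hom hμ
  set m := extOf μ with hmdef
  have hfQ : Mp D Q (fun x => m (autFun a x)) := hb.comp hiQ'.1 (hm.restrict hQ'N)
  have hiR : Img Q (fun x => m (autFun a x)) R₀ := hiQ'.comp him
  -- extension in `D`
  obtain ⟨g₀, hg₀, hge⟩ := hfQ.ext_rec hrD hiR hQN (fun y hy => by
    have h1 : y ∈ S := hy.1
    have h2 : y ∈ Subgroup.normalizer (Q : Set Ω) := hy.2
    refine ⟨h1, h2, m (autFun a y), hm.mem_S (haN y hy), fun x hx => ?_⟩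
    have hx' : y * x * y⁻¹ ∈ Q := (Subgroup.mem_normalizer_iff.1 h2 x).1 hx
    have hxS := hQS hx
    show m (autFun a (y * x * y⁻¹)) = m (autFun a y) * m (autFun a x) * (m (autFun a y))⁻¹
    rw [autFun_mul a (S.mul_mem h1 hxS) (S.inv_mem h1), autFun_mul a h1 hxS, autFun_inv' a h1]
    exact hm.map_conj (haN y hy) (hQ'N (hiQ'.1 x hx)))
  -- the comparison map
  have hbF : Mp F N (autFun a) := (mp_autFun le_rfl ha).restrict hNS
  have hmF : Mp F (normalizerIn S Q') m := mp_sub hfam.1 hm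
  have hhF : Mp F N (fun x => m (autFun a x)) := hbF.comp haN hmF
  obtain ⟨M, hM⟩ := hhF.exists_img
  obtain ⟨κ, hκ, k1, k2, k3⟩ := hhF.inverse hM
  have hg₀F := mp_sub hfam.1 hg₀
  have hψF : Mp F M (fun y => g₀ (κ y)) := hκ.comp k3.1 hg₀F
  have hRM : R₀ ≤ M := by
    intro r hr
    obtain ⟨x, hx, rfl⟩ := hiR.2 r hr
    exact hM.1 x (hQN hx)
  have hψR : ∀ r ∈ R₀, g₀ (κ r) = r := by
    intro r hr
    obtain ⟨x, hx, rfl⟩ := hiR.2 r hr
    show g₀ (κ (m (autFun a x))) = m (autFun a x)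
    have := k1 x (hQN hx)
    rw [this, hge x hx]
  -- `R₀` is centric in `F`
  have hR₀cen : F.IsCentric R₀ := by
    have h1 : F.IsConj Q R₀ := (mp_sub hfam.1 hfQ).isConj hiR
    exact Cfsg.Agent.Lib.FusionTheory.Centric.IsCentric.of_conj F hcen h1
  have hz : ∀ y ∈ M, y⁻¹ * g₀ (κ y) ∈ R₀ := by
    intro y hy
    obtain ⟨n, hn, rfl⟩ := hM.2 y hy
    have e1 := k1 n hn
    show (m (autFun a n))⁻¹ * g₀ (κ (m (autFun a n))) ∈ R₀
    rw [e1]
    apply hR₀cen.2 R₀ (isConj_refl F hR₀cen.1)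
    refine ⟨S.mul_mem (S.inv_mem (hhF.mem_S hn)) (hg₀F.mem_S hn), Subgroup.mem_centralizer_iff.2 fun r hr => ?_⟩
    obtain ⟨x, hx, rfl⟩ := hiR.2 r hr
    have hnN : n ∈ Subgroup.normalizer (Q : Set Ω) := hn.2
    have hx' : n * x * n⁻¹ ∈ Q := (Subgroup.mem_normalizer_iff.1 hnN x).1 hx
    have h1 := hge _ hx'
    rw [hg₀.map_conj hn (hQN hx), hge x hx] at h1
    have h2 := hhF.map_conj hn (hQN hx)
    have h3 : g₀ n * m (autFun a x) * (g₀ n)⁻¹ = m (autFun a n) * m (autFun a x) * (m (autFun a n))⁻¹ := h1.trans h2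
    set r₀ := m (autFun a x) with hr₀
    set h₁ := m (autFun a n) with hh₁
    set g₁ := g₀ n with hg₁
    show r₀ * (h₁⁻¹ * g₁) = h₁⁻¹ * g₁ * r₀
    have h4 : g₁ * r₀ = h₁ * r₀ * h₁⁻¹ * g₁ := by
      rw [← h3]
      group
    calc r₀ * (h₁⁻¹ * g₁) = h₁⁻¹ * (h₁ * r₀ * h₁⁻¹ * g₁) := by group
      _ = h₁⁻¹ * (g₁ * r₀) := by rw [h4]
      _ = h₁⁻¹ * g₁ * r₀ := by group
  -- it has `p`-power order
  haveI : Finite R₀ := finite_of_le hrD.1
  have hR₀p : IsPGroup p R₀ := hS.to_le hrD.1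
  obtain ⟨j, hj⟩ := IsPGroup.iff_card.1 hR₀p
  have hψmul : ∀ {y c : Ω}, y ∈ M → c ∈ R₀ → g₀ (κ (y * c)) = g₀ (κ y) * c := by
    intro y c hy hc
    rw [hψF.map_mul hy (hRM hc), hψR c hc]
  have hψM : ∀ y ∈ M, g₀ (κ y) ∈ M := by
    intro y hy
    have h1 := M.mul_mem hy (hRM (hz y hy))
    rwa [mul_inv_cancel_left] at h1
  have hIter : ∀ (n : ℕ) (y : Ω), y ∈ M → (fun y => g₀ (κ y))^[n] y = y * (y⁻¹ * g₀ (κ y)) ^ n := by
    intro n y hy
    induction n with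
    | zero => simp
    | succ n ih =>
      rw [Function.iterate_succ_apply', ih]
      show g₀ (κ (y * (y⁻¹ * g₀ (κ y)) ^ n)) = _
      rw [hψmul hy (Subgroup.pow_mem _ (hz y hy) n), pow_succ', ← mul_assoc, mul_inv_cancel_left]
  have hPq : Pq F p M (fun y => g₀ (κ y)) := by
    refine ⟨hψF, ⟨hψM, fun y hy => ?_⟩, j, fun y hy => ?_⟩
    · have hc := hz y hy
      refine ⟨y * (y⁻¹ * g₀ (κ y))⁻¹, M.mul_mem hy (hRM (R₀.inv_mem hc)), ?_⟩
      show g₀ (κ (y * (y⁻¹ * g₀ (κ y))⁻¹)) = y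
      rw [hψmul hy (R₀.inv_mem hc)]
      group
    · rw [hIter _ y hy]
      have h1 : (⟨y⁻¹ * g₀ (κ y), hz y hy⟩ : R₀) ^ (p ^ j) = 1 := by
        rw [← hj]
        exact pow_card_eq_one'
      have h2 : (y⁻¹ * g₀ (κ y)) ^ (p ^ j) = 1 := congrArg Subtype.val h1
      rw [h2, mul_one]
  have hψD : Mp D M (fun y => g₀ (κ y)) := hfam.2 M (hhF.img_le hM) _ hPq
  obtain ⟨ψ', hψ', c1, -, -⟩ := hψD.inverse hPq.2.1
  have hgM : ∀ n ∈ N, g₀ n ∈ M := by
    intro n hn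
    have h1 := hψM _ (hM.1 n hn)
    have h2 := k1 n hn
    rwa [show g₀ (κ ((fun x => m (autFun a x)) n)) = g₀ n from by
      show g₀ (κ (m (autFun a n))) = g₀ n
      rw [h2]] at h1
  have h5 : Mp D N (fun n => ψ' (g₀ n)) := hg₀.comp hgM hψ'
  have h6 : Mp D N (fun n => m (autFun a n)) := by
    refine h5.congr (fun n hn => ?_)
    have h1 := c1 _ (hM.1 n hn)
    show ψ' (g₀ n) = m (autFun a n)
    have h2 : g₀ (κ (m (autFun a n))) = g₀ n := by rw [k1 n hn]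
    rw [← h2]
    exact h1
  obtain ⟨W, hW⟩ := hm.exists_img
  obtain ⟨m', hm', d1, -, -⟩ := hm.inverse hW
  have h7 : Mp D N (fun n => m' (m (autFun a n))) := h6.comp (fun n hn => hW.1 _ (haN n hn)) hm'
  exact h7.congr (fun n hn => d1 _ (haN n hn))

theorem e1_min (hS : IsPGroup p S) {D : FusionSystem S} (hD : D.IsSaturated p) (hi : D.HasPrimeToPIndexIn F p) :
    (e1 F p).IsSubsystemOf D := by
  have hfam := inFamQ_of_index hi
  have hH : HH F p ≤ D.autGroup S := by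
    apply (Subgroup.closure_le _).2
    rintro a ⟨ha, Q, hQ, hm⟩
    exact lemma_K hS hD hfam _ Q rfl hQ a ha (e0_min hfam hm)
  intro P φ hφ
  obtain ⟨c, hc, u, hu, eu⟩ := mp_e1.1 (mp_of_hom hφ)
  have h1 := e0_min hfam hu
  have h2 : Mp D S (autFun c) := mp_autFun le_rfl (hH hc)
  exact hom_of_mp ((h1.comp (Y := S) (fun x hx => h1.mem_S hx) h2).congr (fun x hx => (eu x hx).symm))

/-- **The `p'`-residual subsystem exists.** -/
theorem main (hS : IsPGroup p S) (F : FusionSystem S) (hF : F.IsSaturated p) : F.IsPPrimeResidual p (e1 F p) :=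
  ⟨e1_saturated hS hF, e1_index, fun _ hD hi => e1_min hS hD hi⟩

end gen

end Cfsg.Agent.Lib.FusionExt.PrimeRes2
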