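import Cfsg.Agent.Lib.FusionExt.QS1
import Cfsg.Agent.Lib.FusionExt.CProd5
import Cfsg.Agent.Lib.Fusion.GenFit2
import Cfsg.Agent.S5145

/-!
# The generalized Fitting subsystem exists (helper92)
-/

set_option autoImplicit false
set_option linter.unusedSectionVars false

namespace Cfsg.Agent.Lib.FusionExt.QS2

open Cfsg Cfsg.FusionSystem Cfsg.Agent.Lib.Fusion.Basic Cfsg.Agent.Lib.Fusion.GroupSystem
open Cfsg.Agent.Lib.FusionExt.MapApi Cfsg.Agent.Lib.FusionExt.Basic Cfsg.Agent.Lib.FusionExt.Normal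
open Cfsg.Agent.Lib.FusionExt.PowerE Cfsg.Agent.Lib.FusionExt.Invariant
open Cfsg.Agent.Lib.FusionExt.CentSys Cfsg.Agent.Lib.FusionExt.Comp1 Cfsg.Agent.Lib.FusionExt.Comp2
open Cfsg.Agent.Lib.FusionExt.QS1

universe u

variable {Ω : Type u} [Group Ω] {p : ℕ} [Fact p.Prime] {S : Subgroup Ω} [Finite S] {F : FusionSystem S}

/-- The layer lies in the centralizer system of the core. -/
theorem layer_le_cent (hS : IsPGroup p S) (hF : F.IsSaturated p) {T : Subgroup Ω} {E : FusionSystem T} (hE : E.IsLayerOf F p) :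
    E.IsSubsystemOf (centralizerSystem F F.core (Cfsg.Agent.S5145.result F).1) := by
  have hcore : F.IsNormal F.core := Cfsg.Agent.S5145.result F
  have hD : (centralizerSystem F F.core hcore.1).IsNormalIn F p :=
    centSys_isNormal hS (isNormalIn_self hS hF) hcore hcore.1
  exact hE.2.2 _ _ hD (fun U C hC => comp_le_centSys hS hF hC hcore)

theorem exists_genFit (hS : IsPGroup p S) (hF : F.IsSaturated p) :
    ∃ (U : Subgroup Ω) (D : FusionSystem U), D.IsGeneralizedFittingOf F p := by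
  obtain ⟨T, E, hE⟩ := exists_layer hS hF
  have hcore : F.IsNormal F.core := Cfsg.Agent.S5145.result F
  have hle := layer_le_cent hS hF hE
  have hTc : T ≤ centralizerIn S F.core :=
    ((centralizerSystem F F.core hcore.1).le_of_mem (hle T (subtype_mem E le_rfl))).1
  have hc : ∀ a ∈ F.core, ∀ b ∈ T, a * b = b * a := by
    intro a ha b hb
    exact (LowPi.mem_cent.1 (hTc hb)).2 a ha
  have hTS : T ≤ S := hE.1.1.2.2.2.1.1
  have hZ₁ : F.core ⊓ T ≤ (innerFusionSystem F.core).center := by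
    refine le_sSup (a := F.core ⊓ T) ⟨inf_le_left, ?_⟩
    rintro P φ ⟨hP, g, hg, e⟩
    refine ⟨conjHom (P ⊔ (F.core ⊓ T)) g, ⟨sup_le hP inf_le_left, g, hg, fun x => rfl⟩, fun x => ?_, fun x => ?_⟩
    · exact (e x).symm
    · show g * (x : Ω) * g⁻¹ = x
      rw [hc g hg x (Subgroup.mem_inf.1 x.2).2]
      group
  have hZ₂ : F.core ⊓ T ≤ E.center := by
    refine le_sSup (a := F.core ⊓ T) ⟨inf_le_right, fun P φ hφ => ?_⟩
    have hQ : E.IsNormal (F.core ⊓ T) := inf_isNormal_sub hS hE.1.1.1 hE.1.1.2.2.1 hE.1.1.2.2.2.1 hcore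
    obtain ⟨ψ, hψ, h1, -⟩ := hQ.2 P φ hφ
    refine ⟨ψ, hψ, h1, fun x => ?_⟩
    obtain ⟨-, -, -, ψ', -, h2, h3⟩ := hle _ hψ
    have h4 := h2 (Subgroup.inclusion le_sup_right x)
    have h5 := h3 ⟨x, (Subgroup.mem_inf.1 x.2).1⟩
    rw [← h4]
    refine Eq.trans ?_ h5
    congr 1
  obtain ⟨D, -, hcp⟩ := Cfsg.Agent.Lib.FusionExt.CProd4.main_central hS hF (inner_isNormalIn hS hF hcore) hE.1 hc hZ₁ hZ₂
  exact ⟨_, D, T, E, hE, hcp⟩

end Cfsg.Agent.Lib.FusionExt.QS2
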