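import Cfsg.Agent.Lib.FusionExt.Mp
import Cfsg.Agent.Lib.FusionExt.Normal
import Cfsg.Agent.Lib.Core.Basic

/-!
# The saturation criterion, part 1: `O_p(Aut_F(R))`, position (helper92)
-/

set_option autoImplicit false

namespace Cfsg.Agent.Lib.FusionExt.SatCrit1

open Cfsg Cfsg.FusionSystem Cfsg.Agent.Lib.Fusion.Basic Cfsg.Agent.Lib.Fusion.GroupSystem
open Cfsg.Agent.Lib.FusionExt.MapApi Cfsg.Agent.Lib.Core.Basic

universe u

variable {Ω : Type u} [Group Ω] {S : Subgroup Ω} {F : FusionSystem S} {p : ℕ} {R R' : Subgroup Ω}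

/-- `O_p(Aut_F(R))` inside `Aut(R)`. -/
def opAut (F : FusionSystem S) (p : ℕ) (R : Subgroup Ω) : Subgroup (MulAut R) :=
  (pCore p (F.autGroup R)).map (F.autGroup R).subtype

theorem opAut_le : opAut F p R ≤ F.autGroup R := by
  rintro _ ⟨x, -, rfl⟩
  exact x.2

theorem opAut_isPGroup [Finite R] : IsPGroup p (opAut F p R) := pCore_isPGroup.map _

theorem opAut_normal [Finite R] {a o : MulAut R} (ha : a ∈ F.autGroup R) (ho : o ∈ opAut F p R) :
    a * o * a⁻¹ ∈ opAut F p R := by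
  obtain ⟨x, hx, rfl⟩ := ho
  haveI : Finite (F.autGroup R) := inferInstance
  have hN : (pCore p (F.autGroup R)).Normal := Subgroup.normal_of_characteristic _
  refine ⟨_, hN.conj_mem x hx ⟨a, ha⟩, ?_⟩
  simp only [map_mul, map_inv, Subgroup.subtype_apply]

theorem le_opAut {W : Subgroup (MulAut R)} (h1 : W ≤ F.autGroup R) (h2 : IsPGroup p W)
    (h3 : ∀ a ∈ F.autGroup R, ∀ w ∈ W, a * w * a⁻¹ ∈ W) : W ≤ opAut F p R := by
  have hN : (W.subgroupOf (F.autGroup R)).Normal := ⟨fun n hn g => h3 g g.2 n hn⟩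
  have := le_pCore hN (isPGroup_subgroupOf _ h2)
  intro w hw
  exact ⟨⟨w, h1 hw⟩, this hw, rfl⟩

theorem opAut_le_autInducedBy [Finite R] (h : F.IsFullyAutomized p R) : opAut F p R ≤ autInducedBy S R := by
  rintro _ ⟨x, hx, rfl⟩
  obtain ⟨hR, T, hT⟩ := h
  have := pCore_le_sylow T hx
  rw [hT] at this
  exact this

theorem inn_le_opAut (hS : IsPGroup p S) (hR : R ≤ S) : Inn R ≤ opAut F p R := by
  refine le_opAut (inn_le_autGroup F hR) ?_ ?_
  · exact (isPGroup_autInducedBy R hS).to_le (inn_le_autInducedBy S hR)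
  · rintro a - _ ⟨x, rfl⟩
    refine ⟨a x, ?_⟩
    ext y
    show ((a x * y * (a x)⁻¹ : R) : Ω) = ((a (x * (a⁻¹ y) * x⁻¹) : R) : Ω)
    rw [map_mul, map_mul, map_inv, MulAut.apply_inv_self]

/-- `f` agrees on `R` with an element of `O_p(Aut_F(R))`. -/
def IsOp (F : FusionSystem S) (p : ℕ) (R : Subgroup Ω) (f : Ω → Ω) : Prop :=
  ∃ a ∈ opAut F p R, ∀ x : R, ((a x : R) : Ω) = f x

namespace IsOp

variable {f g k : Ω → Ω}

theorem congr (h : IsOp F p R f) (e : ∀ x ∈ R, f x = g x) : IsOp F p R g := by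
  obtain ⟨a, ha, h⟩ := h
  exact ⟨a, ha, fun x => (h x).trans (e x x.2)⟩

theorem comp (h : IsOp F p R f) (h' : IsOp F p R g) : IsOp F p R (fun x => f (g x)) := by
  obtain ⟨a, ha, h⟩ := h
  obtain ⟨b, hb, h'⟩ := h'
  refine ⟨a * b, (opAut F p R).mul_mem ha hb, fun x => ?_⟩
  show ((a (b x) : R) : Ω) = _
  rw [h (b x), h' x]

theorem refl : IsOp F p R (fun x => x) := ⟨1, (opAut F p R).one_mem, fun _ => rfl⟩

theorem inv (h : IsOp F p R f) (hg : ∀ y ∈ R, g y ∈ R ∧ f (g y) = y) : IsOp F p R g := by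
  obtain ⟨a, ha, h⟩ := h
  refine ⟨a⁻¹, (opAut F p R).inv_mem ha, fun y => ?_⟩
  obtain ⟨h1, h2⟩ := hg y y.2
  have e : a ⟨g y, h1⟩ = y := Subtype.ext ((h _).trans h2)
  have e2 : a⁻¹ y = ⟨g y, h1⟩ := by
    calc a⁻¹ y = a⁻¹ (a ⟨g y, h1⟩) := by rw [e]
      _ = ⟨g y, h1⟩ := MulAut.inv_apply_self _ _ _
  rw [e2]

theorem mem (h : IsOp F p R f) {x : Ω} (hx : x ∈ R) : f x ∈ R := by
  obtain ⟨a, ha, h⟩ := h
  rw [← h ⟨x, hx⟩]
  exact (a _).2

theorem img (h : IsOp F p R f) : Img R f R := by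
  obtain ⟨a, ha, h⟩ := h
  refine ⟨fun x hx => ?_, fun y hy => ?_⟩
  · rw [← h ⟨x, hx⟩]
    exact (a _).2
  · refine ⟨_, (a⁻¹ ⟨y, hy⟩).2, ?_⟩
    rw [← h, MulAut.apply_inv_self]

theorem mp (h : IsOp F p R f) (hR : R ≤ S) : Mp F R f := by
  obtain ⟨a, ha, h⟩ := h
  exact (mp_autFun hR (opAut_le ha)).congr (fun x hx => by rw [autFun_of_mem a hx, h ⟨x, hx⟩])

/-- Conjugation by an automorphism of the system. -/
theorem conj_aut [Finite R] (h : IsOp F p R f) {a : MulAut R} (ha : a ∈ F.autGroup R) :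
    IsOp F p R (fun x => autFun a (f (autFun a⁻¹ x))) := by
  obtain ⟨o, ho, h⟩ := h
  refine ⟨a * o * a⁻¹, opAut_normal ha ho, fun x => ?_⟩
  show ((a (o (a⁻¹ x)) : R) : Ω) = autFun a (f (autFun a⁻¹ x))
  rw [autFun_coe a⁻¹ x, ← h, autFun_coe]

/-- Transport along an isomorphism of the system. -/
theorem transport [Finite R] {e e' : Ω → Ω} (h : IsOp F p R f) (he : Mp F R e) (hi : Img R e R')
    (h1 : ∀ x ∈ R, e' (e x) = x) (h2 : ∀ y ∈ R', e (e' y) = y) :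
    IsOp F p R' (fun y => e (f (e' y))) := by
  obtain ⟨φ, hφ, eφ⟩ := he
  have hr : φ.range = R' := Mp.range_eq eφ hi
  let E : R ≃* R' := isoOf φ (F.injective_of_mem hφ) hr
  have hE : ∀ x : R, ((E x : R') : Ω) = e x := fun x => eφ x
  have hE' : ∀ y : R', ((E.symm y : R) : Ω) = e' y := by
    intro y
    have := h1 _ (E.symm y).2
    rw [← hE, MulEquiv.apply_symm_apply] at this
    exact this.symm
  have hEm : isoHom E ∈ F.Hom R := isoHom_isoOf_mem F hφ hr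
  have hR'fin : Finite R' := Finite.of_equiv _ E.toEquiv
  have hW : (opAut F p R).map (MulAut.congr E).toMonoidHom ≤ opAut F p R' := by
    refine le_opAut ?_ (opAut_isPGroup.map _) ?_
    · rintro _ ⟨o, ho, rfl⟩
      exact congr_mem_autGroup F hEm (opAut_le ho)
    · rintro a ha _ ⟨o, ho, rfl⟩
      rw [← map_congr_autGroup F hEm] at ha
      obtain ⟨a₀, ha₀, rfl⟩ := ha
      refine ⟨a₀ * o * a₀⁻¹, opAut_normal ha₀ ho, ?_⟩
      simp only [map_mul, map_inv]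
  obtain ⟨o, ho, h⟩ := h
  refine ⟨MulAut.congr E o, hW ⟨o, ho, rfl⟩, fun y => ?_⟩
  show ((E (o (E.symm y)) : R') : Ω) = e (f (e' y))
  rw [hE, h, hE']

end IsOp

/-! ### Normalizers and images -/

section images

variable {Y T H Q Q' : Subgroup Ω} {θ : Ω → Ω}

theorem normalizes_image (hθ : Mp F Y θ) (hT : T ≤ Y) (hi : Img T θ H) {y : Ω} (hy : y ∈ Y)
    (hn : y ∈ Subgroup.normalizer (T : Set Ω)) : θ y ∈ Subgroup.normalizer (H : Set Ω) := by
  rw [Subgroup.mem_normalizer_iff]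
  intro z
  constructor
  · intro hz
    obtain ⟨t, ht, rfl⟩ := hi.2 z hz
    rw [← hθ.map_conj hy (hT ht)]
    exact hi.1 _ ((Subgroup.mem_normalizer_iff.1 hn t).1 ht)
  · intro hz
    obtain ⟨t, ht, e⟩ := hi.2 _ hz
    have ht' : y⁻¹ * t * y ∈ T := (Subgroup.mem_normalizer_iff.1 hn _).2 (by
      have e1 : y * (y⁻¹ * t * y) * y⁻¹ = t := by group
      rwa [e1])
    have e2 : z = θ (y⁻¹ * t * y) := by
      have h3 := hθ.map_conj (x := y⁻¹) (y := t) (Y.inv_mem hy) (hT ht)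
      rw [inv_inv] at h3
      rw [h3, e, hθ.map_inv hy]
      group
    rw [e2]
    exact hi.1 _ ht'

theorem Mp.mem_iff (hθ : Mp F Y θ) (hQ : Q ≤ Y) (hi : Img Q θ H) {x : Ω} (hx : x ∈ Y) :
    θ x ∈ H ↔ x ∈ Q := by
  constructor
  · intro h
    obtain ⟨t, ht, e⟩ := hi.2 _ h
    rw [← hθ.inj (hQ ht) hx e]
    exact ht
  · exact fun h => hi.1 x h

variable [Finite S]

theorem card_lt_of_lt {A B : Subgroup Ω} (hAB : A ≤ B) (hne : A ≠ B) (hB : B ≤ S) :
    Nat.card A < Nat.card B := by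
  haveI : Finite B := finite_of_le hB
  refine lt_of_le_of_ne (Subgroup.card_le_of_le hAB) (fun h => hne ?_)
  exact Subgroup.eq_of_le_of_card_ge hAB h.ge

theorem eq_of_le_of_card {A B : Subgroup Ω} (hAB : A ≤ B) (h : Nat.card B ≤ Nat.card A) (hB : B ≤ S) :
    A = B := by
  haveI : Finite B := finite_of_le hB
  exact Subgroup.eq_of_le_of_card_ge hAB h

theorem card_le_S {A : Subgroup Ω} (hA : A ≤ S) : Nat.card A ≤ Nat.card S :=
  card_le_of_le_finite hA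

/-- Normalizer growth. -/
theorem exists_normalizing (hS : IsPGroup p S) [Fact p.Prime] {A B : Subgroup Ω} (hAB : A ≤ B) (hne : A ≠ B)
    (hB : B ≤ S) : ∃ y ∈ B, y ∉ A ∧ y ∈ Subgroup.normalizer (A : Set Ω) := by
  haveI : Finite B := finite_of_le hB
  have hBp : IsPGroup p B := hS.to_le hB
  haveI : Group.IsNilpotent B := hBp.isNilpotent
  have hlt : A.subgroupOf B < ⊤ := by
    rw [lt_top_iff_ne_top]
    intro h
    apply hne
    apply le_antisymm hAB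
    intro x hx
    have : (⟨x, hx⟩ : B) ∈ A.subgroupOf B := by rw [h]; trivial
    exact this
  have h2 := Group.normalizerCondition_of_isNilpotent (G := B) (A.subgroupOf B) hlt
  obtain ⟨⟨y, hyB⟩, hy1, hy2⟩ := SetLike.exists_of_lt h2
  refine ⟨y, hyB, hy2, ?_⟩
  rw [Subgroup.mem_normalizer_iff]
  intro z
  constructor
  · intro hz
    have hzB : z ∈ B := hAB hz
    have := (Subgroup.mem_normalizer_iff.1 hy1 ⟨z, hzB⟩).1 hz
    exact this
  · intro hz
    have hzB' : y * z * y⁻¹ ∈ B := hAB hz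
    have hzB : z ∈ B := by
      have e : z = y⁻¹ * (y * z * y⁻¹) * y := by group
      rw [e]
      exact B.mul_mem (B.mul_mem (B.inv_mem hyB) hzB') hyB
    have := (Subgroup.mem_normalizer_iff.1 hy1 ⟨z, hzB⟩).2 hz
    exact this

/-- An injective self-map is onto. -/
theorem img_self {g : Ω → Ω} {H : Subgroup Ω} (hg : Mp F H g) (hm : ∀ x ∈ H, g x ∈ H) : Img H g H := by
  obtain ⟨Y', hY'⟩ := hg.exists_img
  have hle : Y' ≤ H := by
    intro y hy
    obtain ⟨x, hx, rfl⟩ := hY'.2 y hy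
    exact hm x hx
  have hc := hg.card_img hY'
  have : Y' = H := eq_of_le_of_card hle hc.ge hg.le
  rwa [this] at hY'

end images

/-! ### Position -/

section position

variable [Finite S] [Fact p.Prime] {H P₀ : Subgroup Ω}

/-- The Sylow property of the stabilizer of `R` in `Aut_F(H)`. -/
def Sy (F : FusionSystem S) (p : ℕ) (H R : Subgroup Ω) : Prop :=
  IsSylowIn p (autInducedBy S H ⊓ stabSub H R) (F.autGroup H ⊓ stabSub H R)

theorem img_stab {R₀ : Subgroup Ω} {b : MulAut H} (hb : b ∈ stabSub H R₀) (hR : R₀ ≤ H) :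
    Img R₀ (autFun b) R₀ := by
  refine ⟨fun x hx => ?_, fun y hy => ?_⟩
  · rw [autFun_of_mem b (hR hx)]
    exact (hb ⟨x, hR hx⟩).2 hx
  · have h1 : ((b⁻¹ ⟨y, hR hy⟩ : H) : Ω) ∈ R₀ := by
      refine (hb _).1 ?_
      rwa [MulAut.apply_inv_self]
    refine ⟨_, h1, ?_⟩
    rw [autFun_coe, MulAut.apply_inv_self]

/-- Moving a subgroup of a fully automized subgroup into position. -/
theorem exists_pos (hQ : F.IsFullyAutomized p H) (hP₀ : P₀ ≤ H) :
    ∃ a ∈ F.autGroup H, ∃ P₁, Img P₀ (autFun a) P₁ ∧ P₁ ≤ H ∧ Sy F p H P₁ := by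
  have hHS : H ≤ S := hQ.1
  haveI : Finite H := finite_of_le hHS
  have hUA := autInducedBy_le_autGroup F hHS
  obtain ⟨a, haA, hpos⟩ := exists_position (p := p) (A := F.autGroup H) (U := autInducedBy S H)
    (L := F.autGroup H ⊓ stabSub H P₀) hQ.2 hUA inf_le_left
  have hfa : Mp F H (autFun a) := mp_autFun hHS haA
  obtain ⟨P₁, hP₁⟩ := (hfa.restrict hP₀).exists_img
  have hP₁Q : P₁ ≤ H := by
    intro y hy
    obtain ⟨x, hx, rfl⟩ := hP₁.2 y hy
    exact (img_autFun a).1 x (hP₀ hx)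
  have hmemP₁ : ∀ x : H, ((a x : H) : Ω) ∈ P₁ ↔ (x : Ω) ∈ P₀ := by
    intro x
    constructor
    · intro h
      obtain ⟨y, hy, e⟩ := hP₁.2 _ h
      rw [autFun_of_mem a (hP₀ hy)] at e
      have e' : a ⟨y, hP₀ hy⟩ = a x := Subtype.ext e
      have e'' := a.injective e'
      rw [← e'']
      exact hy
    · intro h
      have := hP₁.1 x h
      rwa [autFun_coe] at this
  have hLa : (F.autGroup H ⊓ stabSub H P₀).map (MulAut.conj a).toMonoidHom =
      F.autGroup H ⊓ stabSub H P₁ := by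
    ext c
    constructor
    · rintro ⟨b, ⟨hb1, hb2⟩, rfl⟩
      refine ⟨?_, fun x => ?_⟩
      · exact (F.autGroup H).mul_mem ((F.autGroup H).mul_mem haA hb1) ((F.autGroup H).inv_mem haA)
      · have e : ((MulAut.conj a).toMonoidHom b) x = a (b (a⁻¹ x)) := rfl
        rw [e, hmemP₁, hb2]
        have := hmemP₁ (a⁻¹ x)
        rw [MulAut.apply_inv_self] at this
        exact this.symm
    · rintro ⟨hc1, hc2⟩
      refine ⟨a⁻¹ * c * a, ⟨?_, fun x => ?_⟩, ?_⟩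
      · exact (F.autGroup H).mul_mem ((F.autGroup H).mul_mem ((F.autGroup H).inv_mem haA) hc1) haA
      · have e : (a⁻¹ * c * a) x = a⁻¹ (c (a x)) := rfl
        rw [e]
        have h1 := hmemP₁ (a⁻¹ (c (a x)))
        rw [MulAut.apply_inv_self] at h1
        rw [← h1, hc2, hmemP₁]
      · show a * (a⁻¹ * c * a) * a⁻¹ = c
        group
  rw [hLa] at hpos
  have hsyl : Sy F p H P₁ := by
    have e : autInducedBy S H ⊓ (F.autGroup H ⊓ stabSub H P₁) = autInducedBy S H ⊓ stabSub H P₁ := by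
      rw [← inf_assoc, inf_eq_left.2 hUA]
    unfold Sy
    rwa [e] at hpos
  exact ⟨a, haA, P₁, hP₁, hP₁Q, hsyl⟩

/-- Saturated hull of `T` with `Q ≤ T` in position. -/
theorem exists_hull_pos {T Q : Subgroup Ω} (hT : ∃ H, F.IsConj T H ∧ F.IsFullyAutomized p H ∧ F.IsReceptive H)
    (hQT : Q ≤ T) :
    ∃ H g R₀, Mp F T g ∧ Img T g H ∧ Img Q g R₀ ∧ R₀ ≤ H ∧ F.IsFullyAutomized p H ∧ F.IsReceptive H ∧
      Sy F p H R₀ := by
  obtain ⟨H, ⟨ψ, hψ, hr⟩, hFA, hRec⟩ := hT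
  have hf : Mp F T (extOf ψ) := mp_of_hom hψ
  have hi : Img T (extOf ψ) H := by
    refine ⟨fun x hx => ?_, fun y hy => ?_⟩
    · rw [extOf_of_mem ψ hx, ← hr]
      exact ⟨_, rfl⟩
    · rw [← hr] at hy
      obtain ⟨x, rfl⟩ := hy
      exact ⟨x, x.2, extOf_coe ψ x⟩
  obtain ⟨P₀, hP₀⟩ := (hf.restrict hQT).exists_img
  have hP₀H : P₀ ≤ H := by
    intro y hy
    obtain ⟨x, hx, rfl⟩ := hP₀.2 y hy
    exact hi.1 x (hQT hx)
  obtain ⟨a, ha, P₁, hP₁, hP₁H, hSy⟩ := exists_pos hFA hP₀H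
  have hfa := mp_autFun hFA.1 ha
  exact ⟨H, fun x => autFun a (extOf ψ x), P₁, hf.comp hi.1 hfa, hi.comp (img_autFun a),
    hP₀.comp hP₁, hP₁H, hFA, hRec, hSy⟩

/-- Extension from a subgroup in position. -/
theorem pos_ext (hS : IsPGroup p S) {T Q Y R₀ : Subgroup Ω} {g : Ω → Ω} (hSy : Sy F p H R₀) (hrec : F.IsReceptive H)
    (hR₀ : R₀ ≤ H) (hg : Mp F T g) (hi : Img T g H) (hQ : Img Q g R₀) (hQT : Q ≤ T) (hTY : T ≤ Y)
    (hY : ∀ y ∈ Y, y ∈ S ∧ y ∈ Subgroup.normalizer (T : Set Ω) ∧ y ∈ Subgroup.normalizer (Q : Set Ω)) :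
    ∃ b ∈ F.autGroup H ⊓ stabSub H R₀, ∃ θ, Mp F Y θ ∧ (∀ x ∈ T, θ x = autFun b (g x)) ∧
      ∀ y ∈ Y, θ y ∈ Subgroup.normalizer (H : Set Ω) ∧ θ y ∈ Subgroup.normalizer (R₀ : Set Ω) ∧ θ y ∈ S := by
  have hHS : H ≤ S := hrec.1
  haveI : Finite H := finite_of_le hHS
  obtain ⟨g', hg', h1, h2, h3⟩ := hg.inverse hi
  have hUA := autInducedBy_le_autGroup F hHS
  -- the group of automorphisms induced by `Y` through `g`
  have hact : ∀ y ∈ Y, ∃ a ∈ F.autGroup H, ∀ x ∈ T, autFun a (g x) = g (y * x * y⁻¹) := by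
    intro y hy
    obtain ⟨hyS, hyT, hyQ⟩ := hY y hy
    have hm : ∀ x ∈ T, y * x * y⁻¹ ∈ T := fun x hx => (Subgroup.mem_normalizer_iff.1 hyT x).1 hx
    have hcy : Mp F T (fun x => y * x * y⁻¹) := Mp.conj hg.le hyS
    have hc : Mp F H (fun z => g (y * g' z * y⁻¹)) :=
      (hg'.comp h3.1 hcy).comp (fun z hz => hm _ (h3.1 z hz)) hg
    have hc' : Img H (fun z => g (y * g' z * y⁻¹)) H := by
      refine ⟨fun z hz => hi.1 _ (hm _ (h3.1 z hz)), fun z hz => ?_⟩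
      obtain ⟨x, hx, rfl⟩ := hi.2 z hz
      have hm' : y⁻¹ * x * y ∈ T := (Subgroup.mem_normalizer_iff.1 hyT _).2 (by
        have e1 : y * (y⁻¹ * x * y) * y⁻¹ = x := by group
        rwa [e1])
      refine ⟨g (y⁻¹ * x * y), hi.1 _ hm', ?_⟩
      show g (y * g' (g (y⁻¹ * x * y)) * y⁻¹) = g x
      rw [h1 _ hm']
      congr 1
      group
    obtain ⟨a, ha, e⟩ := hc.toAut hc'
    refine ⟨a, ha, fun x hx => ?_⟩
    rw [autFun_of_mem a (hi.1 x hx), e ⟨g x, hi.1 x hx⟩]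
    show g (y * g' (g x) * y⁻¹) = _
    rw [h1 x hx]
  let W : Subgroup (MulAut H) :=
    { carrier := {a | ∃ y ∈ Y, ∀ x ∈ T, autFun a (g x) = g (y * x * y⁻¹)}
      mul_mem' := by
        rintro a b ⟨y, hy, ha⟩ ⟨z, hz, hb⟩
        refine ⟨y * z, Y.mul_mem hy hz, fun x hx => ?_⟩
        have hb' := hb x hx
        have hmz : z * x * z⁻¹ ∈ T := (Subgroup.mem_normalizer_iff.1 (hY z hz).2.1 x).1 hx
        rw [autFun_of_mem _ (hi.1 x hx)]
        show ((a (b ⟨g x, hi.1 x hx⟩) : H) : Ω) = _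
        have hb'' : b ⟨g x, hi.1 x hx⟩ = ⟨g (z * x * z⁻¹), hi.1 _ hmz⟩ := by
          apply Subtype.ext
          rw [← autFun_coe, hb']
        rw [hb'', ← autFun_coe, ha _ hmz]
        congr 1
        group
      one_mem' := by
        refine ⟨1, Y.one_mem, fun x hx => ?_⟩
        rw [autFun_of_mem _ (hi.1 x hx)]
        simp
      inv_mem' := by
        rintro a ⟨y, hy, ha⟩
        refine ⟨y⁻¹, Y.inv_mem hy, fun x hx => ?_⟩
        have hm' : y⁻¹ * x * y⁻¹⁻¹ ∈ T := (Subgroup.mem_normalizer_iff.1 (hY y⁻¹ (Y.inv_mem hy)).2.1 x).1 hx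
        have e := ha _ hm'
        have e1 : y * (y⁻¹ * x * y⁻¹⁻¹) * y⁻¹ = x := by group
        rw [e1, autFun_of_mem _ (hi.1 _ hm')] at e
        rw [autFun_of_mem _ (hi.1 x hx)]
        have e2 : a ⟨g (y⁻¹ * x * y⁻¹⁻¹), hi.1 _ hm'⟩ = ⟨g x, hi.1 x hx⟩ := Subtype.ext e
        rw [← e2, MulAut.inv_apply_self] }
  have hWA : W ≤ F.autGroup H ⊓ stabSub H R₀ := by
    rintro a ⟨y, hy, ha⟩
    obtain ⟨a', ha', e'⟩ := hact y hy
    have hyT := (hY y hy).2.1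
    have hyQ := (hY y hy).2.2
    have heq : a = a' := by
      ext z
      obtain ⟨x, hx, hxz⟩ := hi.2 z z.2
      have hzz : z = ⟨g x, hi.1 x hx⟩ := Subtype.ext hxz.symm
      have e1 := ha x hx
      have e2 := e' x hx
      rw [autFun_of_mem _ (hi.1 x hx)] at e1 e2
      rw [hzz]
      exact e1.trans e2.symm
    refine ⟨heq ▸ ha', fun z => ?_⟩
    obtain ⟨x, hx, hxz⟩ := hi.2 z z.2
    have hzz : z = ⟨g x, hi.1 x hx⟩ := Subtype.ext hxz.symm
    have hm : y * x * y⁻¹ ∈ T := (Subgroup.mem_normalizer_iff.1 hyT x).1 hx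
    have e1 := ha x hx
    rw [autFun_of_mem _ (hi.1 x hx)] at e1
    rw [hzz, e1]
    show g (y * x * y⁻¹) ∈ R₀ ↔ g x ∈ R₀
    rw [Mp.mem_iff hg hQT hQ hm, Mp.mem_iff hg hQT hQ hx]
    exact (Subgroup.mem_normalizer_iff.1 hyQ x).symm
  have hWp : IsPGroup p W := by
    rintro ⟨a, y, hy, ha⟩
    obtain ⟨k, hk⟩ := (hS.to_le (fun y hy => (hY y hy).1 : Y ≤ S)) ⟨y, hy⟩
    have hk' : y ^ p ^ k = 1 := congrArg Subtype.val hk
    refine ⟨k, Subtype.ext ?_⟩
    show a ^ p ^ k = 1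
    have hpow : ∀ n : ℕ, ∀ x ∈ T, y ^ n * x * (y ^ n)⁻¹ ∈ T ∧ autFun (a ^ n) (g x) = g (y ^ n * x * (y ^ n)⁻¹) := by
      intro n
      induction n with
      | zero =>
        intro x hx
        simp only [pow_zero, one_mul, inv_one, mul_one]
        refine ⟨hx, ?_⟩
        rw [autFun_of_mem _ (hi.1 x hx)]
        simp
      | succ n ih =>
        intro x hx
        have hm := (Subgroup.mem_normalizer_iff.1 (hY y hy).2.1 x).1 hx
        obtain ⟨h4, h5⟩ := ih _ hm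
        have e0 : y ^ (n + 1) * x * (y ^ (n + 1))⁻¹ = y ^ n * (y * x * y⁻¹) * (y ^ n)⁻¹ := by
          rw [pow_succ]
          group
        rw [e0]
        refine ⟨h4, ?_⟩
        rw [← h5, autFun_of_mem _ (hi.1 x hx)]
        rw [autFun_of_mem _ (hi.1 _ hm)]
        have e1 := ha x hx
        rw [autFun_of_mem _ (hi.1 x hx)] at e1
        have e2 : a ⟨g x, hi.1 x hx⟩ = ⟨g (y * x * y⁻¹), hi.1 _ hm⟩ := Subtype.ext e1
        rw [pow_succ]
        show (((a ^ n) (a ⟨g x, hi.1 x hx⟩) : H) : Ω) = _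
        rw [e2]
    ext z
    obtain ⟨x, hx, hxz⟩ := hi.2 z z.2
    have e := (hpow (p ^ k) x hx).2
    rw [hk', autFun_of_mem _ (hi.1 x hx)] at e
    have hzz : z = ⟨g x, hi.1 x hx⟩ := Subtype.ext hxz.symm
    rw [hzz, e]
    simp
  obtain ⟨b, hb, hbc⟩ := IsSylowIn.exists_conj hSy hWA hWp
  have hbF : Mp F H (autFun b) := mp_autFun hHS hb.1
  have hf : Mp F T (fun x => autFun b (g x)) := hg.comp hi.1 hbF
  have hif : Img T (fun x => autFun b (g x)) H := hi.comp (img_autFun b)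
  obtain ⟨θ, hθ, hθe⟩ := Mp.ext_rec (Y := Y) hrec hf hif hTY (by
    intro y hy
    obtain ⟨hyS, hyT, hyQ⟩ := hY y hy
    refine ⟨hyS, hyT, ?_⟩
    obtain ⟨a, ha, ea⟩ := hact y hy
    have haW : a ∈ W := ⟨y, hy, ea⟩
    obtain ⟨h5, -⟩ := hbc a haW
    obtain ⟨s, hs, es⟩ := (mem_autInducedBy_iff S H _).1 h5
    refine ⟨s, hs, fun x hx => ?_⟩
    show autFun b (g (y * x * y⁻¹)) = s * autFun b (g x) * s⁻¹
    rw [← ea x hx]
    rw [autFun_of_mem b (hi.1 x hx), autFun_of_mem a (hi.1 x hx), ← es]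
    have hm' : autFun a (g x) ∈ H := (img_autFun a).1 _ (hi.1 x hx)
    rw [autFun_of_mem a (hi.1 x hx)] at hm'
    rw [autFun_of_mem b hm']
    show _ = ((b (a (b⁻¹ (b ⟨g x, hi.1 x hx⟩))) : H) : Ω)
    rw [MulAut.inv_apply_self])
  refine ⟨b, hb, θ, hθ, hθe, fun y hy => ?_⟩
  obtain ⟨hyS, hyT, hyQ⟩ := hY y hy
  have hiT : Img T θ H := hif.congr (fun x hx => (hθe x hx).symm)
  have hiQ : Img Q θ R₀ := ((hQ.comp (img_stab hb.2 hR₀)).congr
    (fun x hx => (hθe x (hQT hx)).symm))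
  exact ⟨normalizes_image hθ hTY hiT hy hyT, normalizes_image hθ (hQT.trans hTY) hiQ hy hyQ, hθ.mem_S hy⟩

end position

end Cfsg.Agent.Lib.FusionExt.SatCrit1
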