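import Cfsg.Agent.Lib.FusionExt.SatCrit1

/-!
# The saturation criterion, part 2: confluence of the normalizer maps (helper92)
-/

set_option autoImplicit false

namespace Cfsg.Agent.Lib.FusionExt.SatCrit2

open Cfsg Cfsg.FusionSystem Cfsg.Agent.Lib.Fusion.Basic Cfsg.Agent.Lib.Fusion.GroupSystem
open Cfsg.Agent.Lib.FusionExt.MapApi Cfsg.Agent.Lib.FusionExt.SatCrit1

universe u

variable {Ω : Type u} [Group Ω] {S : Subgroup Ω} {F : FusionSystem S} {p : ℕ}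

/-- `θ` is a map on `N_S(Q)` carrying `Q` onto `C`. -/
def Arrow (F : FusionSystem S) (Q C : Subgroup Ω) : Prop :=
  ∃ θ, Mp F (normalizerIn S Q) θ ∧ Img Q θ C

section arrow

variable {Q C D : Subgroup Ω} {θ : Ω → Ω}

theorem mem_nm_of_arrow (hQS : Q ≤ S) (hθ : Mp F (normalizerIn S Q) θ) (hi : Img Q θ C) {y : Ω}
    (hy : y ∈ normalizerIn S Q) : θ y ∈ normalizerIn S C :=
  ⟨hθ.mem_S hy, normalizes_image hθ (le_normalizerIn hQS) hi hy hy.2⟩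

theorem Arrow.refl (hQ : Q ≤ S) : Arrow F Q Q := ⟨fun x => x, Mp.refl inf_le_left, img_refl Q⟩

theorem Arrow.trans (hQ : Q ≤ S) (h : Arrow F Q C) (h' : Arrow F C D) : Arrow F Q D := by
  obtain ⟨θ, hθ, hi⟩ := h
  obtain ⟨θ', hθ', hi'⟩ := h'
  exact ⟨fun x => θ' (θ x), hθ.comp (fun y hy => mem_nm_of_arrow hQ hθ hi hy) hθ', hi.comp hi'⟩

theorem Arrow.isConj (hQ : Q ≤ S) (h : Arrow F Q C) : F.IsConj Q C := by
  obtain ⟨θ, hθ, hi⟩ := h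
  exact (hθ.restrict (le_normalizerIn hQ)).isConj hi

theorem img_of_inverse {T Q' R' : Subgroup Ω} {ψ χ : Ω → Ω} (hχ : ∀ x ∈ T, χ (ψ x) = x) (hQT : Q' ≤ T)
    (hi : Img Q' ψ R') : Img R' χ Q' := by
  refine ⟨fun y hy => ?_, fun x hx => ⟨ψ x, hi.1 x hx, hχ x (hQT hx)⟩⟩
  obtain ⟨x, hx, rfl⟩ := hi.2 y hy
  rw [hχ x (hQT hx)]
  exact hx

end arrow

/-- Confluence. -/
def Conf (F : FusionSystem S) (Q Q' : Subgroup Ω) : Prop := ∃ C, Arrow F Q C ∧ Arrow F Q' C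

theorem Conf.symm {Q Q' : Subgroup Ω} (h : Conf F Q Q') : Conf F Q' Q := by
  obtain ⟨C, h1, h2⟩ := h
  exact ⟨C, h2, h1⟩

/-- The standing hypotheses on a conjugacy class of subgroups. -/
structure Ctx (F : FusionSystem S) (p : ℕ) (P₀ : Subgroup Ω) : Prop where
  hS : IsPGroup p S
  hP₀ : P₀ ≤ S
  hlt : Nat.card P₀ < Nat.card S
  hbig : ∀ X, X ≤ S → Nat.card P₀ < Nat.card X →
    ∃ Q, F.IsConj X Q ∧ F.IsFullyAutomized p Q ∧ F.IsReceptive Q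
  hgen : ∀ E : FusionSystem S, (∀ X, ¬ F.IsConj P₀ X → F.Hom X ⊆ E.Hom X) → F ≤ E
  star : ∃ Q, F.IsConj P₀ Q ∧ ∃ x ∈ normalizerIn S Q, x ∉ Q ∧ IsOp F p Q (fun y => x * y * x⁻¹)

variable [Finite S] [Fact p.Prime] {P₀ : Subgroup Ω}

theorem conj_le {Q : Subgroup Ω} (hQ : F.IsConj P₀ Q) : Q ≤ S := isConj_right_le F hQ

theorem card_conj {Q : Subgroup Ω} (hQ : F.IsConj P₀ Q) : Nat.card Q = Nat.card P₀ :=
  (isConj_card_eq F hQ).symm

theorem Ctx.ne_normalizer (hc : Ctx F p P₀) {Q : Subgroup Ω} (hQ : F.IsConj P₀ Q) :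
    Q ≠ normalizerIn S Q := by
  intro h
  have hne : Q ≠ S := by
    intro e
    have := card_conj hQ
    rw [e] at this
    exact absurd this hc.hlt.ne'
  obtain ⟨y, hy, hyQ, hyN⟩ := exists_normalizing hc.hS (conj_le hQ) hne le_rfl
  apply hyQ
  rw [h]
  exact ⟨hy, hyN⟩

/-- **The confluence lemma.** -/
theorem L1 (hc : Ctx F p P₀) : ∀ (m : ℕ) (T Q R' : Subgroup Ω) (ψ : Ω → Ω), Nat.card S - Nat.card T = m →
    F.IsConj P₀ Q → Q ≤ T → Q ≠ T → T ≤ normalizerIn S Q → Mp F T ψ → Img Q ψ R' → Conf F Q R' := by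
  intro m
  induction m using Nat.strong_induction_on with
  | _ m ih =>
  intro T Q R' ψ hm hQ hQT hne hTN hψ hi
  have hTS : T ≤ S := hψ.le
  have hQS : Q ≤ S := hQT.trans hTS
  have hcQ : Nat.card Q = Nat.card P₀ := card_conj hQ
  have hcT : Nat.card P₀ < Nat.card T := hcQ ▸ card_lt_of_lt hQT hne hTS
  have hind : ∀ (T₂ Q₂ R₂ : Subgroup Ω) (ψ₂ : Ω → Ω), Nat.card T < Nat.card T₂ → T₂ ≤ S → F.IsConj P₀ Q₂ →
      Q₂ ≤ T₂ → Q₂ ≠ T₂ → T₂ ≤ normalizerIn S Q₂ → Mp F T₂ ψ₂ → Img Q₂ ψ₂ R₂ → Conf F Q₂ R₂ := by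
    intro T₂ Q₂ R₂ ψ₂ hlt hT₂S h1 h2 h3 h4 h5 h6
    refine ih (Nat.card S - Nat.card T₂) ?_ T₂ Q₂ R₂ ψ₂ rfl h1 h2 h3 h4 h5 h6
    have := card_le_S hT₂S
    omega
  obtain ⟨H, ρ, R₀, hρ, hρi, hρQ, hR₀H, hFA, hRec, hSy⟩ := exists_hull_pos (hc.hbig T hTS hcT) hQT
  have hHS : H ≤ S := hFA.1
  have hR₀S : R₀ ≤ S := hR₀H.trans hHS
  have hcH : Nat.card H = Nat.card T := hρ.card_img hρi
  obtain ⟨T', hT'⟩ := hψ.exists_img
  obtain ⟨χ, hχ, hχ1, hχ2, hχi⟩ := hψ.inverse hT'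
  have hR'T' : R' ≤ T' := by
    intro y hy
    obtain ⟨x, hx, rfl⟩ := hi.2 y hy
    exact hT'.1 x (hQT hx)
  have hχR' : Img R' χ Q := img_of_inverse hχ1 hQT hi
  have hρ' : Mp F T' (fun y => ρ (χ y)) := hχ.comp hχi.1 hρ
  have hρ'i : Img T' (fun y => ρ (χ y)) H := hχi.comp hρi
  have hρ'R : Img R' (fun y => ρ (χ y)) R₀ := hχR'.comp hρQ
  have hT'S : T' ≤ S := hψ.img_le hT'
  have hR'conj : F.IsConj P₀ R' := isConj_trans F hQ ((hψ.restrict hQT).isConj hi)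
  have hT'N : T' ≤ normalizerIn S R' := by
    intro y hy
    obtain ⟨x, hx, rfl⟩ := hT'.2 y hy
    exact ⟨hT'S (hT'.1 x hx), normalizes_image hψ hQT hi hx (hTN hx).2⟩
  have hcT' : Nat.card T' = Nat.card T := hψ.card_img hT'
  have hne' : R' ≠ T' := by
    intro e
    have h1 : Nat.card R' = Nat.card P₀ := card_conj hR'conj
    rw [e, hcT'] at h1
    omega
  -- the common construction
  have key : ∀ (T₀ Q₀ : Subgroup Ω) (g₀ : Ω → Ω), Nat.card T₀ = Nat.card T → T₀ ≤ S → F.IsConj P₀ Q₀ →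
      Q₀ ≤ T₀ → Q₀ ≠ T₀ → T₀ ≤ normalizerIn S Q₀ → Mp F T₀ g₀ → Img T₀ g₀ H → Img Q₀ g₀ R₀ →
      ∃ (Y : Subgroup Ω) (θ : Ω → Ω), T₀ ≤ Y ∧ Mp F Y θ ∧ Img Q₀ θ R₀ ∧ Img T₀ θ H ∧
        (∀ y ∈ Y, θ y ∈ normalizerIn S R₀) ∧ Conf F Q₀ R₀ ∧ (Y = T₀ → Arrow F Q₀ R₀) := by
    intro T₀ Q₀ g₀ hc₀ hT₀S hQ₀ hQ₀T₀ hne₀ hT₀N hg₀ hg₀i hg₀Q
    set Y := normalizerIn S T₀ ⊓ normalizerIn S Q₀ with hYdef
    have hQ₀S : Q₀ ≤ S := hQ₀T₀.trans hT₀S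
    have hT₀Y : T₀ ≤ Y := le_inf (le_normalizerIn hT₀S) hT₀N
    obtain ⟨b, hb, θ, hθ, hθe, hθm⟩ := pos_ext hc.hS hSy hRec hR₀H hg₀ hg₀i hg₀Q hQ₀T₀ hT₀Y
      (fun y hy => ⟨hy.1.1, hy.1.2, hy.2.2⟩)
    have hiQ : Img Q₀ θ R₀ := (hg₀Q.comp (img_stab hb.2 hR₀H)).congr
      (fun x hx => (hθe x (hQ₀T₀ hx)).symm)
    have hiT : Img T₀ θ H := (hg₀i.comp (img_autFun b)).congr (fun x hx => (hθe x hx).symm)
    have hYN : Y ≤ normalizerIn S Q₀ := inf_le_right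
    have hgrow : T₀ ≠ normalizerIn S Q₀ → ∃ y ∈ Y, y ∉ T₀ := by
      intro h
      obtain ⟨y, hy, hyT, hyN⟩ := exists_normalizing hc.hS hT₀N h inf_le_left
      exact ⟨y, ⟨⟨hy.1, hyN⟩, hy⟩, hyT⟩
    have hArrow : T₀ = normalizerIn S Q₀ → Arrow F Q₀ R₀ := by
      intro h
      have hYe : Y = normalizerIn S Q₀ := by
        refine le_antisymm hYN (le_inf ?_ le_rfl)
        rw [← h]
        exact le_normalizerIn hT₀S
      exact ⟨θ, hYe ▸ hθ, hiQ⟩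
    refine ⟨Y, θ, hT₀Y, hθ, hiQ, hiT, fun y hy => ⟨(hθm y hy).2.2, (hθm y hy).2.1⟩, ?_, ?_⟩
    · by_cases h : T₀ = normalizerIn S Q₀
      · exact ⟨R₀, hArrow h, Arrow.refl hR₀S⟩
      · obtain ⟨y, hy, hyT⟩ := hgrow h
        have hYne : T₀ ≠ Y := fun e => hyT (e ▸ hy)
        have hlt : Nat.card T < Nat.card Y := by
          rw [← hc₀]
          exact card_lt_of_lt hT₀Y hYne (hYN.trans inf_le_left)
        refine hind Y Q₀ R₀ θ hlt (hYN.trans inf_le_left) hQ₀ (hQ₀T₀.trans hT₀Y) ?_ hYN hθ hiQ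
        intro e
        apply hne₀
        apply le_antisymm hQ₀T₀
        rw [e]
        exact hT₀Y
    · intro e
      by_cases h : T₀ = normalizerIn S Q₀
      · exact hArrow h
      · obtain ⟨y, hy, hyT⟩ := hgrow h
        exact absurd (e ▸ hy) hyT
  obtain ⟨Y, θ₁, hTY, hθ₁, hθ₁Q, hθ₁T, hθ₁m, hC1, hA1⟩ :=
    key T Q ρ rfl hTS hQ hQT hne hTN hρ hρi hρQ
  obtain ⟨Y', θ₁', hTY', hθ₁', hθ₁'Q, hθ₁'T, hθ₁'m, hC2, hA2⟩ :=
    key T' R' _ hcT' hT'S hR'conj hR'T' hne' hT'N hρ' hρ'i hρ'R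
  have hHM : H ≤ normalizerIn S R₀ := by
    intro y hy
    obtain ⟨t, ht, rfl⟩ := hθ₁T.2 y hy
    refine ⟨hθ₁.mem_S (hTY ht), normalizes_image hθ₁ (hQT.trans hTY) hθ₁Q (hTY ht) (hTN ht).2⟩
  by_cases hM : Nat.card T < Nat.card (normalizerIn S R₀ : Subgroup Ω)
  · obtain ⟨C₁, hQC₁, hRC₁⟩ := hC1
    obtain ⟨C₂, hR'C₂, hRC₂⟩ := hC2
    obtain ⟨θ₂, hθ₂, hθ₂i⟩ := hRC₁
    obtain ⟨θ₃, hθ₃, hθ₃i⟩ := hRC₂
    obtain ⟨T₂, hT₂⟩ := hθ₂.exists_img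
    obtain ⟨χ₂, hχ₂, hχ₂1, hχ₂2, hχ₂i⟩ := hθ₂.inverse hT₂
    have hRN : R₀ ≤ normalizerIn S R₀ := le_normalizerIn hR₀S
    have hC₁T₂ : C₁ ≤ T₂ := by
      intro y hy
      obtain ⟨x, hx, rfl⟩ := hθ₂i.2 y hy
      exact hT₂.1 x (hRN hx)
    have hC₁R : Img C₁ χ₂ R₀ := img_of_inverse hχ₂1 hRN hθ₂i
    have hT₂S : T₂ ≤ S := hθ₂.img_le hT₂
    have hcT₂ : Nat.card T₂ = Nat.card (normalizerIn S R₀ : Subgroup Ω) := hθ₂.card_img hT₂
    have hC₁conj : F.IsConj P₀ C₁ := isConj_trans F hQ (Arrow.isConj hQS hQC₁)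
    have hT₂N : T₂ ≤ normalizerIn S C₁ := by
      intro y hy
      obtain ⟨x, hx, rfl⟩ := hT₂.2 y hy
      exact mem_nm_of_arrow hR₀S hθ₂ hθ₂i hx
    have hne₂ : C₁ ≠ T₂ := by
      intro e
      have h1 : Nat.card C₁ = Nat.card P₀ := card_conj hC₁conj
      rw [e, hcT₂] at h1
      omega
    obtain ⟨D, hC₁D, hC₂D⟩ := hind T₂ C₁ C₂ (fun y => θ₃ (χ₂ y)) (hcT₂ ▸ hM) hT₂S hC₁conj hC₁T₂ hne₂ hT₂N
      (hχ₂.comp hχ₂i.1 hθ₃) (hC₁R.comp hθ₃i)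
    exact ⟨D, Arrow.trans hQS hQC₁ hC₁D, Arrow.trans (hR'T'.trans hT'S) hR'C₂ hC₂D⟩
  · have hMS : (normalizerIn S R₀ : Subgroup Ω) ≤ S := inf_le_left
    have hHe : H = normalizerIn S R₀ := eq_of_le_of_card hHM (by omega) hMS
    have hY_eq : ∀ (T₀ Y₀ : Subgroup Ω) (θ : Ω → Ω), Nat.card T₀ = Nat.card T → T₀ ≤ Y₀ → Mp F Y₀ θ →
        (∀ y ∈ Y₀, θ y ∈ normalizerIn S R₀) → Y₀ = T₀ := by
      intro T₀ Y₀ θ hc₀ hle hθ hm
      obtain ⟨Z, hZ⟩ := hθ.exists_img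
      have hZle : Z ≤ H := by
        rw [hHe]
        intro y hy
        obtain ⟨x, hx, rfl⟩ := hZ.2 y hy
        exact hm x hx
      have hcZ : Nat.card Z = Nat.card Y₀ := hθ.card_img hZ
      haveI : Finite H := finite_of_le hHS
      have h1 : Nat.card Z ≤ Nat.card H := Subgroup.card_le_of_le hZle
      refine (eq_of_le_of_card hle ?_ hθ.le).symm
      rw [← hcZ, hc₀, ← hcH]
      exact h1
    exact ⟨R₀, hA1 (hY_eq T Y θ₁ rfl hTY hθ₁ hθ₁m), hA2 (hY_eq T' Y' θ₁' hcT' hTY' hθ₁' hθ₁'m)⟩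

theorem Ctx.conf_of_ext (hc : Ctx F p P₀) {T Q R' : Subgroup Ω} {ψ : Ω → Ω} (hQ : F.IsConj P₀ Q) (hQT : Q ≤ T)
    (hne : Q ≠ T) (hTN : T ≤ normalizerIn S Q) (hψ : Mp F T ψ) (hi : Img Q ψ R') : Conf F Q R' :=
  L1 hc _ T Q R' ψ rfl hQ hQT hne hTN hψ hi

/-- Two arrows out of a subgroup are confluent. -/
theorem Ctx.conf_of_arrows (hc : Ctx F p P₀) {B D E : Subgroup Ω} (hB : F.IsConj P₀ B) (h1 : Arrow F B D)
    (h2 : Arrow F B E) : Conf F D E := by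
  have hBS := conj_le hB
  have hBN : B ≤ normalizerIn S B := le_normalizerIn hBS
  obtain ⟨θ, hθ, hi⟩ := id h1
  obtain ⟨θ', hθ', hi'⟩ := id h2
  obtain ⟨T, hT⟩ := hθ.exists_img
  obtain ⟨χ, hχ, hχ1, hχ2, hχi⟩ := hθ.inverse hT
  have hDT : D ≤ T := by
    intro y hy
    obtain ⟨x, hx, rfl⟩ := hi.2 y hy
    exact hT.1 x (hBN hx)
  have hDconj : F.IsConj P₀ D := isConj_trans F hB (Arrow.isConj hBS h1)
  have hcT : Nat.card T = Nat.card (normalizerIn S B : Subgroup Ω) := hθ.card_img hT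
  have hne : D ≠ T := by
    intro e
    have hlt : Nat.card B < Nat.card (normalizerIn S B : Subgroup Ω) :=
      card_lt_of_lt hBN (hc.ne_normalizer hB) inf_le_left
    have h3 : Nat.card D = Nat.card P₀ := card_conj hDconj
    have h4 : Nat.card B = Nat.card P₀ := card_conj hB
    rw [e, hcT] at h3
    omega
  have hTN : T ≤ normalizerIn S D := by
    intro y hy
    obtain ⟨x, hx, rfl⟩ := hT.2 y hy
    exact mem_nm_of_arrow hBS hθ hi hx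
  exact hc.conf_of_ext hDconj hDT hne hTN (hχ.comp hχi.1 hθ') ((img_of_inverse hχ1 hBN hi).comp hi')

theorem Ctx.conf_trans (hc : Ctx F p P₀) {A B C : Subgroup Ω} (hA : F.IsConj P₀ A) (hB : F.IsConj P₀ B)
    (hC : F.IsConj P₀ C) (h1 : Conf F A B) (h2 : Conf F B C) : Conf F A C := by
  obtain ⟨D, hAD, hBD⟩ := h1
  obtain ⟨E, hBE, hCE⟩ := h2
  obtain ⟨G', hDG, hEG⟩ := hc.conf_of_arrows hB hBD hBE
  exact ⟨G', Arrow.trans (conj_le hA) hAD hDG, Arrow.trans (conj_le hC) hCE hEG⟩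

/-- Properties of maps on the conjugacy class that are generated from the maps on bigger subgroups. -/
theorem Ctx.all_good (hc : Ctx F p P₀) (Good : Subgroup Ω → (Ω → Ω) → Subgroup Ω → Prop)
    (hcongr : ∀ Q f g Q', (∀ x ∈ Q, f x = g x) → Good Q f Q' → Good Q g Q')
    (hconj : ∀ Q a Q', F.IsConj P₀ Q → a ∈ S → Img Q (fun x => a * x * a⁻¹) Q' →
      Good Q (fun x => a * x * a⁻¹) Q')
    (hcomp : ∀ Q Q' Q'' f g, F.IsConj P₀ Q → Mp F Q f → Img Q f Q' → Mp F Q' g → Img Q' g Q'' →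
      Good Q f Q' → Good Q' g Q'' → Good Q (fun x => g (f x)) Q'')
    (hinv : ∀ Q Q' f f', F.IsConj P₀ Q → Mp F Q f → Img Q f Q' → Mp F Q' f' → Img Q' f' Q →
      (∀ x ∈ Q, f' (f x) = x) → (∀ y ∈ Q', f (f' y) = y) → Good Q f Q' → Good Q' f' Q)
    (hbigg : ∀ X Q Q' f, ¬ F.IsConj P₀ X → F.IsConj P₀ Q → Q ≤ X → Mp F X f → Img Q f Q' → Good Q f Q') :
    ∀ Q Q' f, F.IsConj P₀ Q → Mp F Q f → Img Q f Q' → Good Q f Q' := by
  let E : FusionSystem S :=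
    { Hom := fun X => {φ | φ ∈ F.Hom X ∧ ∀ Q Q', Q ≤ X → F.IsConj P₀ Q → Img Q (extOf φ) Q' → Good Q (extOf φ) Q'}
      le_of_mem := fun h => F.le_of_mem h.1
      injective_of_mem := fun h => F.injective_of_mem h.1
      conj_mem := by
        intro X a hX ha
        refine ⟨F.conj_mem hX ha, fun Q Q' hQX hcQ hi => ?_⟩
        have e : ∀ x ∈ Q, extOf (conjHom X a) x = a * x * a⁻¹ := fun x hx => extOf_of_mem _ (hQX hx)
        exact hcongr _ _ _ _ (fun x hx => (e x hx).symm) (hconj Q a Q' hcQ ha (hi.congr e))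
      comp_mem := by
        intro P Q₁ φ ψ hφ hψ h
        refine ⟨F.comp_mem hφ.1 hψ.1 h, fun Q Q'' hQP hcQ hi => ?_⟩
        have hmφ : Mp F Q (extOf φ) := (mp_of_hom hφ.1).restrict hQP
        obtain ⟨Q', hQ'⟩ := hmφ.exists_img
        have hmem : ∀ x ∈ Q, extOf φ x ∈ Q₁ := by
          intro x hx
          rw [extOf_of_mem φ (hQP hx)]
          exact h _
        have hQ'Q₁ : Q' ≤ Q₁ := by
          intro y hy
          obtain ⟨x, hx, rfl⟩ := hQ'.2 y hy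
          exact hmem x hx
        have e : ∀ x ∈ Q, extOf (ψ.comp (φ.codRestrict Q₁ h)) x = extOf ψ (extOf φ x) := by
          intro x hx
          rw [extOf_of_mem _ (hQP hx)]
          have h1 : extOf φ x = φ ⟨x, hQP hx⟩ := extOf_of_mem φ (hQP hx)
          rw [h1, extOf_of_mem ψ (h _)]
          rfl
        have hi' : Img Q (fun x => extOf ψ (extOf φ x)) Q'' := hi.congr e
        have hQ'' : Img Q' (extOf ψ) Q'' := by
          refine ⟨fun y hy => ?_, fun z hz => ?_⟩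
          · obtain ⟨x, hx, rfl⟩ := hQ'.2 y hy
            exact hi'.1 x hx
          · obtain ⟨x, hx, rfl⟩ := hi'.2 z hz
            exact ⟨_, hQ'.1 x hx, rfl⟩
        have hcQ' : F.IsConj P₀ Q' := isConj_trans F hcQ (hmφ.isConj hQ')
        have hmψ : Mp F Q' (extOf ψ) := (mp_of_hom hψ.1).restrict hQ'Q₁
        have := hcomp Q Q' Q'' _ _ hcQ hmφ hQ' hmψ hQ'' (hφ.2 Q Q' hQP hcQ hQ') (hψ.2 Q' Q'' hQ'Q₁ hcQ' hQ'')
        exact hcongr _ _ _ _ (fun x hx => (e x hx).symm) this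
      inv_mem := by
        intro P φ hφ
        obtain ⟨ψ, hψ, hψe⟩ := F.inv_mem hφ.1
        refine ⟨ψ, ⟨hψ, fun Q Q' hQr hcQ hi => ?_⟩, hψe⟩
        -- `Q' = ψ(Q) ≤ P`
        have hval : ∀ y ∈ φ.range, extOf ψ y ∈ P ∧ extOf φ (extOf ψ y) = y := by
          rintro _ ⟨x, rfl⟩
          have h1 : extOf ψ (φ x) = x := by
            rw [extOf_of_mem ψ ⟨x, rfl⟩]
            exact hψe x
          rw [h1]
          exact ⟨x.2, extOf_coe φ x⟩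
        have hQ'P : Q' ≤ P := by
          intro x hx
          obtain ⟨y, hy, rfl⟩ := hi.2 x hx
          exact (hval y (hQr hy)).1
        have hmψ : Mp F Q (extOf ψ) := (mp_of_hom hψ).restrict hQr
        have hcQ' : F.IsConj P₀ Q' := isConj_trans F hcQ (hmψ.isConj hi)
        have hmφ : Mp F Q' (extOf φ) := (mp_of_hom hφ.1).restrict hQ'P
        have hφψ : ∀ y ∈ Q, extOf φ (extOf ψ y) = y := fun y hy => (hval y (hQr hy)).2
        have hψφ : ∀ x ∈ Q', extOf ψ (extOf φ x) = x := by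
          intro x hx
          obtain ⟨y, hy, rfl⟩ := hi.2 x hx
          rw [hφψ y hy]
        have hiφ : Img Q' (extOf φ) Q := by
          refine ⟨fun x hx => ?_, fun y hy => ⟨extOf ψ y, hi.1 y hy, hφψ y hy⟩⟩
          obtain ⟨y, hy, rfl⟩ := hi.2 x hx
          rw [hφψ y hy]
          exact hy
        exact hinv Q' Q _ _ hcQ' hmφ hiφ hmψ hi hψφ hφψ (hφ.2 Q' Q hQ'P hcQ' hiφ) }
  have hle : F ≤ E := hc.hgen E (fun X hX φ hφ =>
    ⟨hφ, fun Q Q' hQX hcQ hi => hbigg X Q Q' _ hX hcQ hQX (mp_of_hom hφ) hi⟩)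
  intro Q Q' f hcQ hf hi
  obtain ⟨φ, hφ, e⟩ := hf
  have e' : ∀ x ∈ Q, f x = extOf φ x := fun x hx => by
    rw [extOf_of_mem φ hx, e ⟨x, hx⟩]
  have := (hle Q hφ).2 Q Q' le_rfl hcQ (hi.congr e')
  exact hcongr _ _ _ _ (fun x hx => (e' x hx).symm) this

/-- A subgroup of the class properly contained in `X` (not in the class) is properly contained in
its normalizer in `X`. -/
theorem Ctx.exists_T (hc : Ctx F p P₀) {X Q : Subgroup Ω} (hX : ¬ F.IsConj P₀ X) (hQ : F.IsConj P₀ Q) (hQX : Q ≤ X)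
    (hXS : X ≤ S) : Q ≤ X ⊓ normalizerIn S Q ∧ Q ≠ X ⊓ normalizerIn S Q := by
  have hne : Q ≠ X := fun e => hX (e ▸ hQ)
  obtain ⟨y, hy, hyQ, hyN⟩ := exists_normalizing hc.hS hQX hne hXS
  refine ⟨le_inf hQX (le_normalizerIn (conj_le hQ)), fun e => hyQ ?_⟩
  rw [e]
  exact ⟨hy, hXS hy, hyN⟩

/-- All the maps of the class are confluent. -/
theorem Ctx.conf_all (hc : Ctx F p P₀) : ∀ Q Q' f, F.IsConj P₀ Q → Mp F Q f → Img Q f Q' → Conf F Q Q' := by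
  refine hc.all_good (fun Q _ Q' => Conf F Q Q') (fun _ _ _ _ _ h => h) ?_ ?_ ?_ ?_
  · intro Q a Q' hQ ha hi
    have hQS := conj_le hQ
    refine ⟨Q', ⟨fun x => a * x * a⁻¹, Mp.conj inf_le_left ha, hi⟩, Arrow.refl ?_⟩
    intro y hy
    obtain ⟨x, hx, rfl⟩ := hi.2 y hy
    exact S.mul_mem (S.mul_mem ha (hQS hx)) (S.inv_mem ha)
  · intro Q Q' Q'' f g hQ hf hi hg hi' h1 h2
    have hQ' := isConj_trans F hQ (hf.isConj hi)
    exact hc.conf_trans hQ hQ' (isConj_trans F hQ' (hg.isConj hi')) h1 h2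
  · intro Q Q' f f' _ _ _ _ _ _ _ h
    exact h.symm
  · intro X Q Q' f hX hQ hQX hf hi
    have hXS : X ≤ S := hf.le
    obtain ⟨h1, h2⟩ := hc.exists_T hX hQ hQX hXS
    exact hc.conf_of_ext hQ h1 h2 inf_le_right (hf.restrict inf_le_left) hi

/-- Reversing an arrow when the normalizer of the target is not bigger. -/
theorem arrow_inv {Q C : Subgroup Ω} (hQ : Q ≤ S) (h : Arrow F Q C)
    (hle : Nat.card (normalizerIn S C : Subgroup Ω) ≤ Nat.card (normalizerIn S Q : Subgroup Ω)) :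
    Arrow F C Q := by
  obtain ⟨θ, hθ, hi⟩ := h
  obtain ⟨Z, hZ⟩ := hθ.exists_img
  have hZle : Z ≤ normalizerIn S C := by
    intro y hy
    obtain ⟨x, hx, rfl⟩ := hZ.2 y hy
    exact mem_nm_of_arrow hQ hθ hi hx
  have hZe : Z = normalizerIn S C := eq_of_le_of_card hZle (by
    rw [hθ.card_img hZ]
    exact hle) inf_le_left
  subst hZe
  obtain ⟨χ, hχ, hχ1, hχ2, hχi⟩ := hθ.inverse hZ
  exact ⟨χ, hχ, img_of_inverse hχ1 (le_normalizerIn hQ) hi⟩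

theorem Ctx.arrow_of_max (hc : Ctx F p P₀) {R₁ Q : Subgroup Ω} (hR₁ : F.IsConj P₀ R₁)
    (hmax : ∀ R', F.IsConj P₀ R' → Nat.card (normalizerIn S R' : Subgroup Ω) ≤ Nat.card (normalizerIn S R₁ : Subgroup Ω))
    (hQ : F.IsConj P₀ Q) : Arrow F Q R₁ := by
  obtain ⟨φ, hφ, hr⟩ := isConj_trans F (isConj_symm F hQ) hR₁
  have hf : Mp F Q (extOf φ) := mp_of_hom hφ
  have hi : Img Q (extOf φ) R₁ := by
    refine ⟨fun x hx => ?_, fun y hy => ?_⟩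
    · rw [extOf_of_mem φ hx, ← hr]
      exact ⟨_, rfl⟩
    · rw [← hr] at hy
      obtain ⟨x, rfl⟩ := hy
      exact ⟨x, x.2, extOf_coe φ x⟩
  obtain ⟨C, hQC, hRC⟩ := hc.conf_all Q R₁ _ hQ hf hi
  have hC : F.IsConj P₀ C := isConj_trans F hQ (Arrow.isConj (conj_le hQ) hQC)
  exact Arrow.trans (conj_le hQ) hQC (arrow_inv (conj_le hR₁) hRC (hmax C hC))

end Cfsg.Agent.Lib.FusionExt.SatCrit2
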