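import Cfsg.Agent.Lib.FusionExt.SatCrit2

/-!
# The saturation criterion, part 3: the subgroup `R*` and extension to it (helper92)
-/

set_option autoImplicit false

namespace Cfsg.Agent.Lib.FusionExt.SatCrit3

open Cfsg Cfsg.FusionSystem Cfsg.Agent.Lib.Fusion.Basic Cfsg.Agent.Lib.Fusion.GroupSystem
open Cfsg.Agent.Lib.FusionExt.MapApi Cfsg.Agent.Lib.FusionExt.SatCrit1
open Cfsg.Agent.Lib.FusionExt.SatCrit2 Cfsg.Agent.Lib.FusionExt.Normal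

universe u

variable {Ω : Type u} [Group Ω] {S : Subgroup Ω} {F : FusionSystem S} {p : ℕ}

/-! ### Total functions of automorphisms -/

section autfun

variable {H : Subgroup Ω}

theorem autFun_mem (a : MulAut H) {x : Ω} (hx : x ∈ H) : autFun a x ∈ H := (img_autFun a).1 x hx

theorem autFun_mul (a b : MulAut H) {x : Ω} (hx : x ∈ H) : autFun (a * b) x = autFun a (autFun b x) := by
  rw [autFun_of_mem _ hx, autFun_of_mem b hx, autFun_of_mem a (b ⟨x, hx⟩).2]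
  rfl

theorem autFun_one {x : Ω} (hx : x ∈ H) : autFun (1 : MulAut H) x = x := by
  rw [autFun_of_mem _ hx]
  rfl

theorem autFun_inv_self (a : MulAut H) {x : Ω} (hx : x ∈ H) : autFun a⁻¹ (autFun a x) = x := by
  rw [← autFun_mul _ _ hx, inv_mul_cancel, autFun_one hx]

theorem autFun_self_inv (a : MulAut H) {x : Ω} (hx : x ∈ H) : autFun a (autFun a⁻¹ x) = x := by
  rw [← autFun_mul _ _ hx, mul_inv_cancel, autFun_one hx]

theorem autFun_normAct {g : Ω} (hg : g ∈ Subgroup.normalizer (H : Set Ω)) {x : Ω} (hx : x ∈ H) :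
    autFun (normAct H hg) x = g * x * g⁻¹ := by
  rw [autFun_of_mem _ hx]
  rfl

end autfun

theorem mem_normalizer_of_conj_one {U : Subgroup Ω} [Finite U] {g : Ω} (h : ∀ x ∈ U, g * x * g⁻¹ ∈ U) :
    g ∈ Subgroup.normalizer (U : Set Ω) := by
  let c : U → U := fun x => ⟨g * x * g⁻¹, h x x.2⟩
  have hinj : Function.Injective c := by
    intro x y e
    have : g * (x : Ω) * g⁻¹ = g * y * g⁻¹ := congrArg Subtype.val e
    exact Subtype.ext (mul_left_cancel (mul_right_cancel this))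
  have hsurj := Finite.surjective_of_injective hinj
  rw [Subgroup.mem_normalizer_iff]
  intro x
  refine ⟨fun hx => h x hx, fun hx => ?_⟩
  obtain ⟨y, hy⟩ := hsurj ⟨_, hx⟩
  have e : g * (y : Ω) * g⁻¹ = g * x * g⁻¹ := congrArg Subtype.val hy
  have e' : (y : Ω) = x := mul_left_cancel (mul_right_cancel e)
  rw [← e']
  exact y.2

/-! ### The subgroup `R*` -/

/-- The elements of `N_S(R)` inducing elements of `O_p(Aut_F(R))`. -/
def starSub (F : FusionSystem S) (p : ℕ) (R : Subgroup Ω) : Subgroup Ω where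
  carrier := {x | x ∈ S ∧ x ∈ Subgroup.normalizer (R : Set Ω) ∧ IsOp F p R (fun y => x * y * x⁻¹)}
  mul_mem' := by
    rintro a b ⟨ha1, ha2, ha3⟩ ⟨hb1, hb2, hb3⟩
    exact ⟨S.mul_mem ha1 hb1, Subgroup.mul_mem _ ha2 hb2, (ha3.comp hb3).congr (fun x _ => by group)⟩
  one_mem' := ⟨S.one_mem, Subgroup.one_mem _, IsOp.refl.congr (fun x _ => by group)⟩
  inv_mem' := by
    rintro a ⟨ha1, ha2, ha3⟩
    refine ⟨S.inv_mem ha1, Subgroup.inv_mem _ ha2, ha3.inv (fun y hy => ⟨?_, by group⟩)⟩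
    exact (Subgroup.mem_normalizer_iff.1 (Subgroup.inv_mem _ ha2) y).1 hy

variable {R : Subgroup Ω}

theorem starSub_le : starSub F p R ≤ normalizerIn S R := fun _ h => ⟨h.1, h.2.1⟩

theorem starSub_le_S : starSub F p R ≤ S := fun _ h => h.1

theorem le_starSub (hS : IsPGroup p S) (hR : R ≤ S) : R ≤ starSub F p R := by
  intro x hx
  refine ⟨hR hx, Subgroup.le_normalizer hx, MulAut.conj (⟨x, hx⟩ : R), inn_le_opAut hS hR ⟨⟨x, hx⟩, rfl⟩,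
    fun y => rfl⟩

theorem star_normal [Finite R] (hR : R ≤ S) {z y : Ω} (hz : z ∈ normalizerIn S R) (hy : y ∈ starSub F p R) :
    z * y * z⁻¹ ∈ starSub F p R := by
  have hy1 := hy.1
  have hy2 := hy.2.1
  have hy3 := hy.2.2
  have hzS := hz.1
  have hzN := hz.2
  have hc : Mp F R (fun x => z * x * z⁻¹) := Mp.conj hR hzS
  have hi : Img R (fun x => z * x * z⁻¹) R := by
    refine ⟨fun x hx => (Subgroup.mem_normalizer_iff.1 hzN x).1 hx, fun x hx => ⟨z⁻¹ * x * z, ?_, by group⟩⟩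
    exact (Subgroup.mem_normalizer_iff.1 hzN _).2 (by
      have e : z * (z⁻¹ * x * z) * z⁻¹ = x := by group
      rwa [e])
  have h := hy3.transport (e' := fun x => z⁻¹ * x * z) hc hi (fun x _ => by group) (fun x _ => by group)
  refine ⟨S.mul_mem (S.mul_mem hzS hy1) (S.inv_mem hzS), ?_, h.congr (fun x _ => by group)⟩
  exact Subgroup.mul_mem _ (Subgroup.mul_mem _ hzN hy2) (Subgroup.inv_mem _ hzN)

theorem star_normalizer [Finite R] (hR : R ≤ S) {z : Ω} (hz : z ∈ normalizerIn S R) :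
    z ∈ Subgroup.normalizer ((starSub F p R : Subgroup Ω) : Set Ω) := by
  rw [Subgroup.mem_normalizer_iff]
  intro x
  refine ⟨fun hx => star_normal hR hz hx, fun hx => ?_⟩
  have hz' : z⁻¹ ∈ normalizerIn S R := Subgroup.inv_mem _ hz
  have := star_normal hR hz' hx
  have e : z⁻¹ * (z * x * z⁻¹) * z⁻¹⁻¹ = x := by group
  rwa [e] at this

theorem star_transport [Finite S] {Y Q C : Subgroup Ω} {θ : Ω → Ω} (hθ : Mp F Y θ) (hQY : Q ≤ Y) (hi : Img Q θ C)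
    {x : Ω} (hx : x ∈ Y) (hxs : x ∈ starSub F p Q) : θ x ∈ starSub F p C := by
  haveI : Finite Q := finite_of_le (hQY.trans hθ.le)
  obtain ⟨g, hg, h1, h2, h3⟩ := (hθ.restrict hQY).inverse hi
  have h := hxs.2.2.transport (hθ.restrict hQY) hi h1 h2
  refine ⟨hθ.mem_S hx, normalizes_image hθ hQY hi hx hxs.2.1, h.congr (fun y hy => ?_)⟩
  show θ (x * g y * x⁻¹) = θ x * y * (θ x)⁻¹
  rw [hθ.map_conj hx (hQY (h3.1 y hy)), h2 y hy]

/-! ### Extension to `R*` -/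

/-- The map `e` on `R` extends to an automorphism of `R*`. -/
def Ex (F : FusionSystem S) (p : ℕ) (R : Subgroup Ω) (e : Ω → Ω) : Prop :=
  Mp F R e ∧ Img R e R ∧ ∃ g, Mp F (starSub F p R) g ∧ Img (starSub F p R) g (starSub F p R) ∧ ∀ x ∈ R, g x = e x

namespace Ex

variable {e e₁ e₂ ψ : Ω → Ω}

theorem congr (h : Ex F p R e) (he : ∀ x ∈ R, e x = e₁ x) : Ex F p R e₁ := by
  obtain ⟨h1, h2, g, h3, h4, h5⟩ := h
  exact ⟨h1.congr he, h2.congr he, g, h3, h4, fun x hx => (h5 x hx).trans (he x hx)⟩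

theorem comp (h₁ : Ex F p R e₁) (h₂ : Ex F p R e₂) (hle : R ≤ starSub F p R) :
    Ex F p R (fun x => e₁ (e₂ x)) := by
  obtain ⟨a1, a2, g₁, a3, a4, a5⟩ := h₁
  obtain ⟨b1, b2, g₂, b3, b4, b5⟩ := h₂
  refine ⟨b1.comp b2.1 a1, b2.comp a2, fun x => g₁ (g₂ x), b3.comp b4.1 a3, b4.comp a4, fun x hx => ?_⟩
  show g₁ (g₂ x) = e₁ (e₂ x)
  rw [b5 x hx, a5 _ (b2.1 x hx)]

theorem inverse (h : Ex F p R e) (hle : R ≤ starSub F p R) : ∃ e', Ex F p R e' ∧ ∀ x ∈ R, e' (e x) = x := by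
  obtain ⟨a1, a2, g, a3, a4, a5⟩ := h
  obtain ⟨e', h1, h2, h3, h4⟩ := a1.inverse a2
  obtain ⟨g', k1, k2, k3, k4⟩ := a3.inverse a4
  refine ⟨e', ⟨h1, h4, g', k1, k4, fun r hr => ?_⟩, h2⟩
  have hm := h4.1 r hr
  have : g (e' r) = r := by rw [a5 _ hm, h3 r hr]
  rw [← this, k2 _ (hle hm), this]

theorem of_comp (h₁ : Ex F p R e₁) (hψ : Mp F R ψ) (hi : Img R ψ R) (h : Ex F p R (fun x => e₁ (ψ x)))
    (hle : R ≤ starSub F p R) : Ex F p R ψ := by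
  obtain ⟨a1, a2, g₁, a3, a4, a5⟩ := h₁
  obtain ⟨-, -, g, b3, b4, b5⟩ := h
  obtain ⟨k, k1, k2, k3, k4⟩ := a3.inverse a4
  refine ⟨hψ, hi, fun x => k (g x), b3.comp b4.1 k1, b4.comp k4, fun x hx => ?_⟩
  show k (g x) = ψ x
  rw [b5 x hx]
  show k (e₁ (ψ x)) = ψ x
  rw [← a5 _ (hi.1 x hx), k2 _ (hle (hi.1 x hx))]

end Ex

theorem ex_of_star [Finite S] (hR : R ≤ S) {z : Ω} (hz : z ∈ starSub F p R) :
    Ex F p R (fun x => z * x * z⁻¹) := by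
  haveI : Finite R := finite_of_le hR
  have hzN := starSub_le hz
  have hzH : z ∈ Subgroup.normalizer ((starSub F p R : Subgroup Ω) : Set Ω) := star_normalizer hR hzN
  have himg : ∀ U : Subgroup Ω, z ∈ Subgroup.normalizer (U : Set Ω) → Img U (fun x => z * x * z⁻¹) U := by
    intro U hU
    refine ⟨fun x hx => (Subgroup.mem_normalizer_iff.1 hU x).1 hx, fun x hx => ⟨z⁻¹ * x * z, ?_, by group⟩⟩
    exact (Subgroup.mem_normalizer_iff.1 hU _).2 (by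
      have e : z * (z⁻¹ * x * z) * z⁻¹ = x := by group
      rwa [e])
  exact ⟨Mp.conj hR hz.1, himg R hzN.2, _, Mp.conj starSub_le_S hz.1, himg _ hzH, fun _ _ => rfl⟩

/-! ### Stabilizers and Sylow subgroups -/

section cover

variable {H₁ R₀ : Subgroup Ω}

theorem isSylowIn_subgroupOf {G : Type*} [Group G] {Ξ D st : Subgroup G} (hΞD : Ξ ≤ D) (hD : D ≤ st)
    (hsyl : IsSylowIn p Ξ D) : IsSylowIn p (Ξ.subgroupOf st) (D.subgroupOf st) := by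
  have hle : Ξ.subgroupOf st ≤ D.subgroupOf st := fun x hx => hΞD hx
  rw [isSylowIn_iff_maximal hle]
  obtain ⟨h1, h2⟩ := (isSylowIn_iff_maximal hΞD).1 hsyl
  refine ⟨isPGroup_subgroupOf st h1, fun C hCB hC hAC => ?_⟩
  have e := h2 (C.map st.subtype) ?_ (hC.map _) ?_
  · apply le_antisymm _ hAC
    intro x hx
    have h3 : (x : G) ∈ C.map st.subtype := ⟨x, hx, rfl⟩
    rw [e] at h3
    exact h3
  · rintro _ ⟨x, hx, rfl⟩
    exact hCB hx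
  · intro x hx
    exact ⟨⟨x, hD (hΞD hx)⟩, hAC hx, rfl⟩

/-- A Sylow subgroup of a group acting on `R₀` through a `p`-group covers the action. -/
theorem res_cover [Fact p.Prime] [Finite H₁] (hR₀ : R₀ ≤ H₁) {Ξ D : Subgroup (MulAut H₁)} (hΞD : Ξ ≤ D)
    (hD : D ≤ stabSub H₁ R₀) (hsyl : IsSylowIn p Ξ D) (hp : ∀ d ∈ D, IsOp F p R₀ (autFun d)) :
    ∀ d ∈ D, ∃ u ∈ Ξ, ∀ r ∈ R₀, autFun d r = autFun u r := by
  intro d hd
  haveI : Finite R₀ := Finite.of_injective (Subgroup.inclusion hR₀) (Subgroup.inclusion_injective hR₀)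
  set st := stabSub H₁ R₀ with hst
  let f : st →* MulAut R₀ := stabRes hR₀
  have hsyl' := isSylowIn_subgroupOf hΞD hD hsyl
  have hle : Ξ.subgroupOf st ≤ D.subgroupOf st := fun x hx => hΞD hx
  have h1 := image_sylow f hsyl' hle
  have hval : ∀ (c : st) (r : Ω) (hr : r ∈ R₀), autFun c.1 r = ((f c ⟨r, hr⟩ : R₀) : Ω) := by
    intro c r hr
    rw [autFun_of_mem c.1 (hR₀ hr)]
    rfl
  have hDp : (D.subgroupOf st).map f ≤ opAut F p R₀ := by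
    rintro _ ⟨c, hc, rfl⟩
    obtain ⟨o, ho, e⟩ := hp c.1 hc
    have : f c = o := by
      ext r
      rw [← hval c r r.2, e]
    rw [this]
    exact ho
  have hpD : IsPGroup p ((D.subgroupOf st).map f : Subgroup (MulAut R₀)) := opAut_isPGroup.to_le hDp
  have e := ((isSylowIn_iff_maximal (Subgroup.map_mono hle)).1 h1).2 _ le_rfl hpD (Subgroup.map_mono hle)
  have hm : f ⟨d, hD hd⟩ ∈ (D.subgroupOf st).map f := ⟨⟨d, hD hd⟩, hd, rfl⟩
  rw [e] at hm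
  obtain ⟨u, hu, eu⟩ := hm
  refine ⟨u.1, hu, fun r hr => ?_⟩
  rw [hval ⟨d, hD hd⟩ r hr, hval u r hr, eu]

end cover

/-! ### Choice of `R` -/

section main

variable [Finite S] [Fact p.Prime] {P₀ : Subgroup Ω}

/-- The choice of a good subgroup `R` of the class with `R*` fully automized and receptive. -/
theorem exists_R (hc : Ctx F p P₀) : ∃ R, F.IsConj P₀ R ∧ (∀ Q, F.IsConj P₀ Q → Arrow F Q R) ∧
    F.IsFullyAutomized p (starSub F p R) ∧ F.IsReceptive (starSub F p R) ∧ Sy F p (starSub F p R) R := by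
  obtain ⟨R₁, hR₁, hmax⟩ := exists_max_conj F hc.hP₀ (fun Q => Nat.card (normalizerIn S Q : Subgroup Ω)) (Nat.card S)
    (fun Q _ => card_le_S inf_le_left)
  have hgood₁ : ∀ Q, F.IsConj P₀ Q → Arrow F Q R₁ := fun Q hQ => hc.arrow_of_max hR₁ hmax hQ
  have hR₁S := conj_le hR₁
  haveI : Finite R₁ := finite_of_le hR₁S
  have hle₁ : R₁ ≤ starSub F p R₁ := le_starSub hc.hS hR₁S
  -- `R₁ ≠ R₁*`
  have hne : R₁ ≠ starSub F p R₁ := by
    obtain ⟨Q₀, hQ₀, x₀, hx₀N, hx₀Q, hx₀op⟩ := hc.star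
    obtain ⟨θ, hθ, hθi⟩ := hgood₁ Q₀ hQ₀
    have hQ₀N : Q₀ ≤ normalizerIn S Q₀ := le_normalizerIn (conj_le hQ₀)
    have h1 : θ x₀ ∈ starSub F p R₁ := star_transport hθ hQ₀N hθi hx₀N ⟨hx₀N.1, hx₀N.2, hx₀op⟩
    intro e
    rw [← e] at h1
    exact hx₀Q ((Mp.mem_iff hθ hQ₀N hθi hx₀N).1 h1)
  have hTS : starSub F p R₁ ≤ S := starSub_le_S
  have hcT : Nat.card P₀ < Nat.card (starSub F p R₁ : Subgroup Ω) := by
    rw [← card_conj hR₁]
    exact card_lt_of_lt hle₁ hne hTS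
  obtain ⟨H, ρ, R₀, hρ, hρi, hρQ, hR₀H, hFA, hRec, hSy⟩ := exists_hull_pos (hc.hbig _ hTS hcT) hle₁
  have hHS := hFA.1
  have hR₀S : R₀ ≤ S := hR₀H.trans hHS
  obtain ⟨b, hb, θ, hθ, hθe, hθm⟩ := pos_ext hc.hS hSy hRec hR₀H hρ hρi hρQ hle₁ (starSub_le (F := F) (p := p) (R := R₁))
    (fun y hy => ⟨hy.1, star_normalizer hR₁S hy, hy.2⟩)
  have hiQ : Img R₁ θ R₀ := (hρQ.comp (img_stab hb.2 hR₀H)).congr (fun x hx => (hθe x (hle₁ hx)).symm)
  have hiT : Img (starSub F p R₁) θ H := (hρi.comp (img_autFun b)).congr (fun x hx => (hθe x hx).symm)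
  have hR₀c : F.IsConj P₀ R₀ := isConj_trans F hR₁ ((hθ.restrict (le_normalizerIn hR₁S)).isConj hiQ)
  obtain ⟨Z, hZ⟩ := hθ.exists_img
  have hZle : Z ≤ normalizerIn S R₀ := by
    intro y hy
    obtain ⟨x, hx, rfl⟩ := hZ.2 y hy
    exact ⟨(hθm x hx).2.2, (hθm x hx).2.1⟩
  have hZe : Z = normalizerIn S R₀ := eq_of_le_of_card hZle (by
    rw [hθ.card_img hZ]
    exact hmax R₀ hR₀c) inf_le_left
  subst hZe
  obtain ⟨χ, hχ, hχ1, hχ2, hχi⟩ := hθ.inverse hZ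
  have hR₁N : R₁ ≤ normalizerIn S R₁ := le_normalizerIn hR₁S
  have hR₀N : R₀ ≤ normalizerIn S R₀ := le_normalizerIn hR₀S
  have hχQ : Img R₀ χ R₁ := img_of_inverse hχ1 hR₁N hiQ
  have hHe : H = starSub F p R₀ := by
    refine hiT.unique ⟨fun x hx => star_transport hθ hR₁N hiQ (starSub_le hx) hx, fun y hy => ?_⟩
    have hyN := starSub_le hy
    exact ⟨χ y, star_transport hχ hR₀N hχQ hyN hy, hχ2 y hyN⟩
  subst hHe
  refine ⟨R₀, hR₀c, fun Q hQ => Arrow.trans (conj_le hQ) (hgood₁ Q hQ) ⟨θ, hθ, hiQ⟩, hFA, hRec, hSy⟩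

/-! ### Extension: the downward induction -/

/-- The core inductive step. -/
theorem E3 (hc : Ctx F p P₀) {R : Subgroup Ω} (hR : F.IsConj P₀ R) (hgood : ∀ Q, F.IsConj P₀ Q → Arrow F Q R) :
    ∀ (m : ℕ) (W : Subgroup Ω) (ψ : Ω → Ω), Nat.card S - Nat.card W = m → R ≤ W → R ≠ W →
      W ≤ normalizerIn S R → Mp F W ψ → (∀ x ∈ W, ψ x ∈ normalizerIn S R) → Img R ψ R → Ex F p R ψ := by
  have hRS : R ≤ S := conj_le hR
  haveI : Finite R := finite_of_le hRS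
  have hRN : R ≤ normalizerIn S R := le_normalizerIn hRS
  have hRH : R ≤ starSub F p R := le_starSub hc.hS hRS
  have hNH : normalizerIn S R ≤ Subgroup.normalizer ((starSub F p R : Subgroup Ω) : Set Ω) :=
    fun z hz => star_normalizer hRS hz
  intro m
  induction m using Nat.strong_induction_on with
  | _ m ih =>
  intro W ψ hm hRW hne hWN hψ hψN hi
  have hWS : W ≤ S := hψ.le
  have hcW : Nat.card P₀ < Nat.card W := by
    rw [← card_conj hR]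
    exact card_lt_of_lt hRW hne hWS
  have ind : ∀ (W₂ : Subgroup Ω) (ψ₂ : Ω → Ω), Nat.card W < Nat.card W₂ → R ≤ W₂ → R ≠ W₂ →
      W₂ ≤ normalizerIn S R → Mp F W₂ ψ₂ → (∀ x ∈ W₂, ψ₂ x ∈ normalizerIn S R) → Img R ψ₂ R → Ex F p R ψ₂ := by
    intro W₂ ψ₂ hlt h1 h2 h3 h4 h5 h6
    refine ih (Nat.card S - Nat.card W₂) ?_ W₂ ψ₂ rfl h1 h2 h3 h4 h5 h6
    have := card_le_S h4.le
    omega
  obtain ⟨W', hW'⟩ := hψ.exists_img
  obtain ⟨χ, hχ, hχ1, hχ2, hχi⟩ := hψ.inverse hW'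
  have hW'N : W' ≤ normalizerIn S R := by
    intro y hy
    obtain ⟨x, hx, rfl⟩ := hW'.2 y hy
    exact hψN x hx
  have hW'S : W' ≤ S := hW'N.trans inf_le_left
  have hRW' : R ≤ W' := by
    intro y hy
    obtain ⟨x, hx, rfl⟩ := hi.2 y hy
    exact hW'.1 x (hRW hx)
  have hχR : Img R χ R := img_of_inverse hχ1 hRW hi
  have hself : ∀ (W₀ : Subgroup Ω) (ψ₀ : Ω → Ω), R ≤ W₀ → Mp F W₀ ψ₀ → Img R ψ₀ R → starSub F p R ≤ W₀ →
      ∀ x ∈ starSub F p R, ψ₀ x ∈ starSub F p R := by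
    intro W₀ ψ₀ h1 h2 h3 h4 x hx
    exact star_transport h2 h1 h3 (h4 hx) hx
  by_cases hHW : starSub F p R ≤ W
  · exact ⟨hψ.restrict hRW, hi, ψ, hψ.restrict hHW, img_self (hψ.restrict hHW) (hself W ψ hRW hψ hi hHW),
      fun _ _ => rfl⟩
  have hHW' : ¬ starSub F p R ≤ W' := by
    intro h
    apply hHW
    have hs := img_self (hχ.restrict h) (hself W' χ hRW' hχ hχR h)
    intro z hz
    obtain ⟨y, hy, rfl⟩ := hs.2 z hz
    exact hχi.1 y (h hy)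
  have hexx : ∀ W₀ : Subgroup Ω, W₀ ≤ normalizerIn S R → ¬ starSub F p R ≤ W₀ →
      ∃ x ∈ starSub F p R, x ∉ W₀ ∧ x ∈ Subgroup.normalizer (W₀ : Set Ω) := by
    intro W₀ h1 h2
    have hne₀ : W₀ ≠ W₀ ⊔ starSub F p R := by
      intro e
      apply h2
      rw [e]
      exact le_sup_right
    have hsupS : W₀ ⊔ starSub F p R ≤ S := sup_le (h1.trans inf_le_left) starSub_le_S
    obtain ⟨y, hy, hyW, hyN⟩ := exists_normalizing hc.hS (le_sup_left : W₀ ≤ _) hne₀ hsupS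
    obtain ⟨w, hw, h', hh', rfl⟩ := exists_mul_of_mem_sup' (h1.trans hNH) hy
    refine ⟨h', hh', fun hh => hyW (W₀.mul_mem hw hh), ?_⟩
    have e : h' = w⁻¹ * (w * h') := by group
    rw [e]
    exact Subgroup.mul_mem _ (Subgroup.inv_mem _ (Subgroup.le_normalizer hw)) hyN
  obtain ⟨x, hxH, hxW, hxN⟩ := hexx W hWN hHW
  obtain ⟨x', hxH', hxW', hxN'⟩ := hexx W' hW'N hHW'
  have hcW' : Nat.card W' = Nat.card W := hψ.card_img hW'
  -- the two enlarged domains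
  set Y := normalizerIn S W ⊓ normalizerIn S R with hYdef
  set Y' := normalizerIn S W' ⊓ normalizerIn S R with hY'def
  have hWY : W ≤ Y := le_inf (le_normalizerIn hWS) hWN
  have hW'Y' : W' ≤ Y' := le_inf (le_normalizerIn hW'S) hW'N
  have hxY : x ∈ Y := ⟨⟨starSub_le_S hxH, hxN⟩, starSub_le hxH⟩
  have hxY' : x' ∈ Y' := ⟨⟨starSub_le_S hxH', hxN'⟩, starSub_le hxH'⟩
  have hYN : Y ≤ normalizerIn S R := inf_le_right
  have hY'N : Y' ≤ normalizerIn S R := inf_le_right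
  have hYS : Y ≤ S := hYN.trans inf_le_left
  have hY'S : Y' ≤ S := hY'N.trans inf_le_left
  have hltY : Nat.card W < Nat.card Y := card_lt_of_lt hWY (fun e => hxW (e ▸ hxY)) hYS
  have hltY' : Nat.card W < Nat.card Y' := by
    rw [← hcW']
    exact card_lt_of_lt hW'Y' (fun e => hxW' (e ▸ hxY')) hY'S
  have hcR : Nat.card R = Nat.card P₀ := card_conj hR
  have hneY : ∀ Y₀ : Subgroup Ω, Nat.card W < Nat.card Y₀ → R ≠ Y₀ := by
    intro Y₀ h e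
    rw [← e] at h
    omega
  -- position for `W`
  obtain ⟨H₁, ρ₁, R₀, hρ₁, hρ₁i, hρ₁R, hR₀H₁, hFA₁, hRec₁, hSy₁⟩ := exists_hull_pos (hc.hbig W hWS hcW) hRW
  have hH₁S : H₁ ≤ S := hFA₁.1
  have hR₀S : R₀ ≤ S := hR₀H₁.trans hH₁S
  haveI : Finite H₁ := finite_of_le hH₁S
  haveI : Finite R₀ := finite_of_le hR₀S
  have hR₀N : R₀ ≤ normalizerIn S R₀ := le_normalizerIn hR₀S
  have hR₀c : F.IsConj P₀ R₀ := isConj_trans F hR ((hρ₁.restrict hRW).isConj hρ₁R)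
  have hcH₁ : Nat.card H₁ = Nat.card W := hρ₁.card_img hρ₁i
  have hρ₂ : Mp F W' (fun y => ρ₁ (χ y)) := hχ.comp hχi.1 hρ₁
  have hρ₂i : Img W' (fun y => ρ₁ (χ y)) H₁ := hχi.comp hρ₁i
  have hρ₂R : Img R (fun y => ρ₁ (χ y)) R₀ := hχR.comp hρ₁R
  obtain ⟨b₁, hb₁, ρh, hρh, hρhe, hρhm⟩ := pos_ext hc.hS hSy₁ hRec₁ hR₀H₁ hρ₁ hρ₁i hρ₁R hRW hWY
    (fun y hy => ⟨hy.1.1, hy.1.2, hy.2.2⟩)
  obtain ⟨b₂, hb₂, ρk, hρk, hρke, hρkm⟩ := pos_ext hc.hS hSy₁ hRec₁ hR₀H₁ hρ₂ hρ₂i hρ₂R hRW' hW'Y'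
    (fun y hy => ⟨hy.1.1, hy.1.2, hy.2.2⟩)
  have hρhR : Img R ρh R₀ := (hρ₁R.comp (img_stab hb₁.2 hR₀H₁)).congr (fun z hz => (hρhe z (hRW hz)).symm)
  have hρkR : Img R ρk R₀ := (hρ₂R.comp (img_stab hb₂.2 hR₀H₁)).congr (fun z hz => (hρke z (hRW' hz)).symm)
  have hρhW : Img W ρh H₁ := (hρ₁i.comp (img_autFun b₁)).congr (fun z hz => (hρhe z hz).symm)
  obtain ⟨θ₀, hθ₀, hθ₀i⟩ := hgood R₀ hR₀c
  obtain ⟨κ, hκ, hκ1, hκ2, hκi⟩ := (hθ₀.restrict hR₀N).inverse hθ₀i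
  -- the two maps
  have hρhN : ∀ y ∈ Y, ρh y ∈ normalizerIn S R₀ := fun y hy => ⟨(hρhm y hy).2.2, (hρhm y hy).2.1⟩
  have hρkN : ∀ y ∈ Y', ρk y ∈ normalizerIn S R₀ := fun y hy => ⟨(hρkm y hy).2.2, (hρkm y hy).2.1⟩
  have hEx₁ : Ex F p R (fun y => θ₀ (ρh y)) :=
    ind Y _ hltY (hRW.trans hWY) (hneY Y hltY) hYN (hρh.comp hρhN hθ₀)
      (fun y hy => mem_nm_of_arrow hR₀S hθ₀ hθ₀i (hρhN y hy)) (hρhR.comp hθ₀i)
  have hEx₂ : Ex F p R (fun y => θ₀ (ρk y)) :=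
    ind Y' _ hltY' (hRW'.trans hW'Y') (hneY Y' hltY') hY'N (hρk.comp hρkN hθ₀)
      (fun y hy => mem_nm_of_arrow hR₀S hθ₀ hθ₀i (hρkN y hy)) (hρkR.comp hθ₀i)
  -- the crucial claim
  have hclaim : ∀ a₀ ∈ F.autGroup H₁ ⊓ stabSub H₁ R₀, Ex F p R (fun r => θ₀ (autFun a₀ (κ r))) := by
    intro a₀ ha₀
    have hUA : autInducedBy S H₁ ⊓ stabSub H₁ R₀ ≤ F.autGroup H₁ ⊓ stabSub H₁ R₀ :=
      inf_le_inf_right _ (autInducedBy_le_autGroup F hH₁S)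
    let D₀ : Subgroup (MulAut H₁) :=
      { carrier := {d | d ∈ F.autGroup H₁ ⊓ stabSub H₁ R₀ ∧ IsOp F p R₀ (autFun d)}
        mul_mem' := by
          rintro a b ⟨h1, h2⟩ ⟨h3, h4⟩
          exact ⟨Subgroup.mul_mem _ h1 h3, (h2.comp h4).congr
            (fun r hr => (autFun_mul a b (hR₀H₁ hr)).symm)⟩
        one_mem' := ⟨Subgroup.one_mem _, IsOp.refl.congr (fun r hr => (autFun_one (hR₀H₁ hr)).symm)⟩
        inv_mem' := by
          rintro a ⟨h1, h2⟩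
          have ha' := Subgroup.inv_mem _ h1
          refine ⟨ha', h2.inv (fun r hr => ⟨(img_stab ha'.2 hR₀H₁).1 r hr, autFun_self_inv a (hR₀H₁ hr)⟩)⟩ }
    have hD₀A : D₀ ≤ F.autGroup H₁ ⊓ stabSub H₁ R₀ := fun d hd => hd.1
    have hDn : ∀ b ∈ F.autGroup H₁ ⊓ stabSub H₁ R₀, ∀ d ∈ D₀, b * d * b⁻¹ ∈ D₀ := by
      intro b hb d hd
      have hbi' := Subgroup.inv_mem _ hb
      refine ⟨Subgroup.mul_mem _ (Subgroup.mul_mem _ hb (hD₀A hd)) hbi', ?_⟩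
      have h1 := hd.2.transport (e := autFun b) (e' := autFun b⁻¹)
        ((mp_autFun hH₁S hb.1).restrict hR₀H₁) (img_stab hb.2 hR₀H₁)
        (fun r hr => autFun_inv_self b (hR₀H₁ hr)) (fun r hr => autFun_self_inv b (hR₀H₁ hr))
      refine h1.congr (fun r hr => ?_)
      rw [autFun_mul _ _ (hR₀H₁ hr), autFun_mul _ _ (autFun_mem _ (hR₀H₁ hr))]
    have hΞ₁ : IsSylowIn p ((autInducedBy S H₁ ⊓ stabSub H₁ R₀) ⊓ D₀) D₀ := hSy₁.inf_normal hUA hD₀A hDn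
    have hΞ₁p : IsPGroup p (((autInducedBy S H₁ ⊓ stabSub H₁ R₀) ⊓ D₀ : Subgroup (MulAut H₁))) :=
      hΞ₁.isPGroup inf_le_right
    -- Frattini
    obtain ⟨d, hdD, hdc⟩ := IsSylowIn.exists_conj hΞ₁
      (C := ((autInducedBy S H₁ ⊓ stabSub H₁ R₀) ⊓ D₀).map (MulAut.conj a₀).toMonoidHom) (by
        rintro _ ⟨z, hz, rfl⟩
        exact hDn a₀ ha₀ z hz.2) (hΞ₁p.map _)
    set n := d * a₀ with hn
    have hnA : n ∈ F.autGroup H₁ ⊓ stabSub H₁ R₀ := Subgroup.mul_mem _ (hD₀A hdD) ha₀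
    have hnN : ∀ z ∈ (autInducedBy S H₁ ⊓ stabSub H₁ R₀) ⊓ D₀, n * z * n⁻¹ ∈ (autInducedBy S H₁ ⊓ stabSub H₁ R₀) ⊓ D₀ := by
      intro z hz
      have := hdc _ ⟨z, hz, rfl⟩
      have e : n * z * n⁻¹ = d * ((MulAut.conj a₀).toMonoidHom z) * d⁻¹ := by
        show d * a₀ * z * (d * a₀)⁻¹ = d * (a₀ * z * a₀⁻¹) * d⁻¹
        group
      rw [e]
      exact this
    -- part (i)
    have hpart1 : ∀ d₁ ∈ D₀, Ex F p R (fun r => θ₀ (autFun d₁ (κ r))) := by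
      intro d₁ hd₁
      obtain ⟨u, hu, eu⟩ := res_cover hR₀H₁ inf_le_right (hD₀A.trans inf_le_right) hΞ₁ (fun d hd => hd.2) d₁ hd₁
      obtain ⟨⟨hu1, hu2⟩, hu3⟩ := hu
      obtain ⟨z, hzS, hzu⟩ := (mem_autInducedBy_iff S H₁ u).1 hu1
      have hzH : z ∈ Subgroup.normalizer (H₁ : Set Ω) := mem_normalizer_of_conj H₁ u z hzu
      have hzval : ∀ x ∈ H₁, autFun u x = z * x * z⁻¹ := by
        intro x hx
        rw [autFun_of_mem u hx, hzu]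
      have hzR : z ∈ Subgroup.normalizer (R₀ : Set Ω) := by
        rw [Subgroup.mem_normalizer_iff]
        intro r
        constructor
        · intro hr
          rw [← hzval r (hR₀H₁ hr)]
          exact (img_stab hu2 hR₀H₁).1 r hr
        · intro hr
          have hrH : r ∈ H₁ := (Subgroup.mem_normalizer_iff.1 hzH r).2 (hR₀H₁ hr)
          rw [← hzval r hrH] at hr
          rw [autFun_of_mem u hrH] at hr
          exact (hu2 ⟨r, hrH⟩).1 hr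
      have hzs : z ∈ starSub F p R₀ :=
        ⟨hzS, hzR, hu3.2.congr (fun r hr => hzval r (hR₀H₁ hr))⟩
      have hθz := star_transport hθ₀ hR₀N hθ₀i ⟨hzS, hzR⟩ hzs
      refine (ex_of_star hRS hθz).congr (fun r hr => ?_)
      have hκr : κ r ∈ R₀ := hκi.1 r hr
      show θ₀ z * r * (θ₀ z)⁻¹ = θ₀ (autFun d₁ (κ r))
      rw [eu _ hκr, hzval _ (hR₀H₁ hκr), hθ₀.map_conj ⟨hzS, hzR⟩ (hR₀N hκr), hκ2 r hr]
    -- part (ii)
    have hpart2 : Ex F p R (fun r => θ₀ (autFun n (κ r))) := by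
      have hxs : ρh x ∈ starSub F p R₀ := star_transport hρh (hRW.trans hWY) hρhR hxY hxH
      have hxH₁N : ρh x ∈ Subgroup.normalizer (H₁ : Set Ω) := (hρhm x hxY).1
      have hxH₁ : ρh x ∉ H₁ := fun h => hxW ((Mp.mem_iff hρh hWY hρhW hxY).1 h)
      set Y₀ := starSub F p R₀ ⊓ Subgroup.normalizer (H₁ : Set Ω) with hY₀
      have hY₀H : Y₀ ≤ Subgroup.normalizer (H₁ : Set Ω) := inf_le_right
      set Y₁ := Y₀ ⊔ H₁ with hY₁
      have hH₁Y₁ : H₁ ≤ Y₁ := le_sup_right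
      have hxY₁ : ρh x ∈ Y₁ := (le_sup_left : Y₀ ≤ Y₁) ⟨hxs, hxH₁N⟩
      have hH₁N : H₁ ≤ normalizerIn S R₀ := by
        intro y hy
        obtain ⟨w, hw, rfl⟩ := hρhW.2 y hy
        exact hρhN w (hWY hw)
      have hY₁N : Y₁ ≤ normalizerIn S R₀ := sup_le (inf_le_left.trans starSub_le) hH₁N
      have hY₁H : Y₁ ≤ Subgroup.normalizer (H₁ : Set Ω) := sup_le hY₀H Subgroup.le_normalizer
      have hnF : Mp F H₁ (autFun n) := mp_autFun hH₁S hnA.1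
      obtain ⟨nh, hnh, hnhe⟩ := Mp.ext_rec hRec₁ hnF (img_autFun n) hH₁Y₁ (by
        intro y hy
        refine ⟨(hY₁N hy).1, hY₁H hy, ?_⟩
        obtain ⟨a, ha, c, hc', rfl⟩ := exists_mul_of_mem_sup' hY₀H hy
        have haS : a ∈ S := starSub_le_S ha.1
        have haR : a ∈ Subgroup.normalizer (R₀ : Set Ω) := (starSub_le ha.1).2
        have hAΞ : normAct H₁ ha.2 ∈ (autInducedBy S H₁ ⊓ stabSub H₁ R₀) ⊓ D₀ := by
          have h1 : normAct H₁ ha.2 ∈ autInducedBy S H₁ := normAct_mem_autInducedBy (K := S) H₁ ha.2 haS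
          have h2 : normAct H₁ ha.2 ∈ stabSub H₁ R₀ := fun z => (Subgroup.mem_normalizer_iff.1 haR z).symm
          refine ⟨⟨h1, h2⟩, hUA ⟨h1, h2⟩, ?_⟩
          exact ha.1.2.2.congr (fun r hr => (autFun_normAct ha.2 (hR₀H₁ hr)).symm)
        obtain ⟨⟨h5, -⟩, -⟩ := hnN _ hAΞ
        obtain ⟨s₀, hs₀, es₀⟩ := (mem_autInducedBy_iff S H₁ _).1 h5
        have hs₀val : ∀ z ∈ H₁, autFun n (a * z * a⁻¹) = s₀ * autFun n z * s₀⁻¹ := by
          intro z hz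
          have hz' : a * z * a⁻¹ ∈ H₁ := (Subgroup.mem_normalizer_iff.1 ha.2 z).1 hz
          have e1 := es₀ ⟨autFun n z, autFun_mem n hz⟩
          have e2 : ((n * normAct H₁ ha.2 * n⁻¹) ⟨autFun n z, autFun_mem n hz⟩ : H₁) =
              n (normAct H₁ ha.2 (n⁻¹ ⟨autFun n z, autFun_mem n hz⟩)) := rfl
          have e3 : n⁻¹ ⟨autFun n z, autFun_mem n hz⟩ = ⟨z, hz⟩ := by
            apply Subtype.ext
            rw [← autFun_coe, autFun_inv_self n hz]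
          rw [e2, e3] at e1
          rw [← e1]
          rw [autFun_of_mem n hz']
          rfl
        refine ⟨s₀ * autFun n c, S.mul_mem hs₀ (hnF.mem_S hc'), fun z hz => ?_⟩
        have hcz : c * z * c⁻¹ ∈ H₁ := H₁.mul_mem (H₁.mul_mem hc' hz) (H₁.inv_mem hc')
        have e0 : a * c * z * (a * c)⁻¹ = a * (c * z * c⁻¹) * a⁻¹ := by group
        rw [e0, hs₀val _ hcz, hnF.map_conj hc' hz]
        group)
      have hnhR₀ : Img R₀ nh R₀ := (img_stab hnA.2 hR₀H₁).congr (fun r hr => (hnhe r (hR₀H₁ hr)).symm)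
      have hR₀Y₁ : R₀ ≤ Y₁ := hR₀H₁.trans hH₁Y₁
      have hnhN : ∀ y ∈ Y₁, nh y ∈ normalizerIn S R₀ := fun y hy =>
        ⟨hnh.mem_S hy, normalizes_image hnh hR₀Y₁ hnhR₀ hy (hY₁N hy).2⟩
      obtain ⟨T₃, hT₃⟩ := (hθ₀.restrict hY₁N).exists_img
      obtain ⟨κ₃, hκ₃, h31, h32, hκ₃i⟩ := (hθ₀.restrict hY₁N).inverse hT₃
      have hT₃N : T₃ ≤ normalizerIn S R := by
        intro y hy
        obtain ⟨z, hz, rfl⟩ := hT₃.2 y hy
        exact mem_nm_of_arrow hR₀S hθ₀ hθ₀i (hY₁N hz)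
      have hRT₃ : R ≤ T₃ := by
        intro r hr
        obtain ⟨z, hz, rfl⟩ := hθ₀i.2 r hr
        exact hT₃.1 z (hR₀Y₁ hz)
      have hκ₃R : Img R κ₃ R₀ := img_of_inverse h31 hR₀Y₁ hθ₀i
      have hcT₃ : Nat.card T₃ = Nat.card Y₁ := (hθ₀.restrict hY₁N).card_img hT₃
      have hltY₁ : Nat.card W < Nat.card T₃ := by
        rw [hcT₃, ← hcH₁]
        exact card_lt_of_lt hH₁Y₁ (fun e => hxH₁ (e ▸ hxY₁)) (hY₁N.trans inf_le_left)
      have hEx₃ : Ex F p R (fun t => θ₀ (nh (κ₃ t))) :=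
        ind T₃ _ hltY₁ hRT₃ (hneY T₃ hltY₁) hT₃N
          ((hκ₃.comp hκ₃i.1 hnh).comp (fun t ht => hnhN _ (hκ₃i.1 t ht)) hθ₀)
          (fun t ht => mem_nm_of_arrow hR₀S hθ₀ hθ₀i (hnhN _ (hκ₃i.1 t ht)))
          ((hκ₃R.comp hnhR₀).comp hθ₀i)
      refine hEx₃.congr (fun r hr => ?_)
      have e1 : κ₃ r = κ r := by
        obtain ⟨z, hz, rfl⟩ := hθ₀i.2 r hr
        rw [h31 z (hR₀Y₁ hz), hκ1 z hz]
      show θ₀ (nh (κ₃ r)) = θ₀ (autFun n (κ r))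
      rw [e1, hnhe _ (hR₀H₁ (hκi.1 r hr))]
    -- conclusion of the claim
    have hd₁ : d⁻¹ ∈ D₀ := Subgroup.inv_mem _ hdD
    refine ((hpart1 d⁻¹ hd₁).comp hpart2 hRH).congr (fun r hr => ?_)
    have hκr := hκi.1 r hr
    have hnr : autFun n (κ r) ∈ R₀ := (img_stab hnA.2 hR₀H₁).1 _ hκr
    show θ₀ (autFun d⁻¹ (κ (θ₀ (autFun n (κ r))))) = θ₀ (autFun a₀ (κ r))
    rw [hκ1 _ hnr, ← autFun_mul _ _ (hR₀H₁ hκr), hn, inv_mul_cancel_left]
  -- conclusion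
  have hfinal : Ex F p R (fun x => θ₀ (ρk (ψ x))) := by
    have h1 := (hclaim (b₂ * b₁⁻¹) (Subgroup.mul_mem _ hb₂ (Subgroup.inv_mem _ hb₁))).comp hEx₁ hRH
    refine h1.congr (fun z hz => ?_)
    show θ₀ (autFun (b₂ * b₁⁻¹) (κ (θ₀ (ρh z)))) = θ₀ (ρk (ψ z))
    have h2 := hρhR.1 z hz
    have hψz : ψ z ∈ R := hi.1 z hz
    have hρz : ρ₁ z ∈ H₁ := hρ₁i.1 z (hRW hz)
    rw [hκ1 _ h2, hρke _ (hRW' hψz), hχ1 _ (hRW hz), hρhe _ (hRW hz),
      autFun_mul _ _ (autFun_mem _ hρz), autFun_inv_self _ hρz]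
  exact Ex.of_comp hEx₂ (hψ.restrict hRW) hi hfinal hRH

end main

end Cfsg.Agent.Lib.FusionExt.SatCrit3
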